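import Mathlib.CategoryTheory.Abelian.Exact
import Mathlib.CategoryTheory.Preadditive.AdditiveFunctor
import Mathlib.CategoryTheory.Limits.Preserves.Shapes.Kernels
import Mathlib.CategoryTheory.Generator.Basic

/-!
# Comparing colimit preserving functors on a generating family
-/

universe w

open CategoryTheory Limits

set_option linter.style.haveILetI false

namespace Groth.Agent.Lib.DerivedOX.GenIso

variable {C D : Type*} [Category C] [Category D] [Abelian C] [Abelian D] {F G : C ⥤ D}
  [F.Additive] [G.Additive] {ι : Type w} {g : ι → C}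

omit [Abelian D] [F.Additive] [G.Additive] [Abelian C] in
lemma isIso_app_sigma {J : Type w} (M : J → C) [HasCoproduct M]
    [PreservesColimit (Discrete.functor M) F] [PreservesColimit (Discrete.functor M) G] (τ : F ⟶ G)
    (h : ∀ j, IsIso (τ.app (M j))) : IsIso (τ.app (∐ M)) := by
  let cF := isColimitCofanMkObjOfIsColimit F M _ (coproductIsCoproduct M)
  let cG := isColimitCofanMkObjOfIsColimit G M _ (coproductIsCoproduct M)
  refine ⟨Cofan.IsColimit.desc cG fun j => inv (τ.app (M j)) ≫ F.map (Sigma.ι M j), ?_, ?_⟩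
  · refine Cofan.IsColimit.hom_ext cF _ _ fun j => ?_
    simp only [cofan_mk_inj, NatTrans.naturality_assoc]
    refine (congrArg (τ.app (M j) ≫ ·) (Cofan.IsColimit.fac cG _ j)).trans ?_
    simp
  · refine Cofan.IsColimit.hom_ext cG _ _ fun j => ?_
    simp only [cofan_mk_inj]
    refine ((Category.assoc _ _ _).symm.trans (congrArg (· ≫ τ.app (∐ M))
      (Cofan.IsColimit.fac cG _ j))).trans ?_
    simp

/-- A natural transformation between colimit preserving functors that is an isomorphism on a
separating family is an isomorphism. -/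
theorem isIso_of_isSeparating (hg : ObjectProperty.IsSeparating (ObjectProperty.ofObj g))
    [∀ M : C, HasCoproductsOfShape (Σ i, g i ⟶ M) C]
    [∀ M : C, PreservesColimitsOfShape (Discrete (Σ i, g i ⟶ M)) F]
    [∀ M : C, PreservesColimitsOfShape (Discrete (Σ i, g i ⟶ M)) G]
    [PreservesFiniteColimits F] [PreservesFiniteColimits G]
    (τ : F ⟶ G) (h : ∀ i, IsIso (τ.app (g i))) : IsIso τ := by
  have hepi : ∀ M : C, Epi (Sigma.desc (f := fun a : (Σ i, g i ⟶ M) => g a.1) fun a => a.2) :=
    fun M => by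
      refine Preadditive.epi_of_cancel_zero _ fun {Z} k hk => hg _ _ ?_
      rintro _ ⟨i⟩ l
      have := congrArg (Sigma.ι (fun a : (Σ i, g i ⟶ M) => g a.1) ⟨i, l⟩ ≫ ·) hk
      simpa using this
  haveI : ∀ M, IsIso (τ.app M) := fun M => by
    let p : (∐ fun a : (Σ i, g i ⟶ M) => g a.1) ⟶ M := Sigma.desc fun a => a.2
    let q : (∐ fun a : (Σ i, g i ⟶ kernel p) => g a.1) ⟶ kernel p := Sigma.desc fun a => a.2
    haveI : Epi p := hepi M
    haveI : Epi q := hepi (kernel p)
    haveI hP : IsIso (τ.app (∐ fun a : (Σ i, g i ⟶ M) => g a.1)) :=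
      isIso_app_sigma _ τ fun a => h a.1
    haveI hR : IsIso (τ.app (∐ fun a : (Σ i, g i ⟶ kernel p) => g a.1)) :=
      isIso_app_sigma _ τ fun a => h a.1
    let S : ShortComplex C := ShortComplex.mk (q ≫ kernel.ι p) p (by simp)
    have hS : S.Exact := by
      let φ : S ⟶ ShortComplex.mk (kernel.ι p) p (kernel.condition p) :=
        { τ₁ := q, τ₂ := 𝟙 _, τ₃ := 𝟙 _ }
      haveI : Epi φ.τ₁ := inferInstanceAs (Epi q)
      haveI : IsIso φ.τ₂ := inferInstanceAs (IsIso (𝟙 _))
      haveI : Mono φ.τ₃ := inferInstanceAs (Mono (𝟙 _))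
      exact (ShortComplex.exact_iff_of_epi_of_isIso_of_mono φ).2 (ShortComplex.exact_kernel p)
    haveI : Epi S.g := inferInstanceAs (Epi p)
    let cF : IsColimit (CokernelCofork.ofπ (F.map p)
        (by rw [← F.map_comp, S.zero, F.map_zero] : F.map S.f ≫ F.map p = 0)) :=
      CokernelCofork.mapIsColimit _ hS.gIsCokernel F
    let cG : IsColimit (CokernelCofork.ofπ (G.map p)
        (by rw [← G.map_comp, S.zero, G.map_zero] : G.map S.f ≫ G.map p = 0)) :=
      CokernelCofork.mapIsColimit _ hS.gIsCokernel G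
    haveI : Epi (F.map p) := Cofork.IsColimit.epi cF
    haveI : Epi (G.map p) := Cofork.IsColimit.epi cG
    have hz : G.map S.f ≫ inv (τ.app _) ≫ F.map p = 0 := by
      rw [← cancel_epi (τ.app _), comp_zero, ← τ.naturality_assoc, IsIso.hom_inv_id_assoc,
        ← F.map_comp, S.zero, F.map_zero]
    obtain ⟨s, hs⟩ : ∃ s, G.map p ≫ s = inv (τ.app _) ≫ F.map p :=
      ⟨cG.desc (CokernelCofork.ofπ _ hz), cG.fac _ WalkingParallelPair.one⟩
    refine ⟨s, ?_, ?_⟩
    · rw [← cancel_epi (F.map p), τ.naturality_assoc, hs, IsIso.hom_inv_id_assoc, Category.comp_id]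
    · rw [← cancel_epi (G.map p), ← Category.assoc, hs, Category.assoc, τ.naturality,
        IsIso.inv_hom_id_assoc, Category.comp_id]
  exact NatIso.isIso_of_isIso_app τ

end Groth.Agent.Lib.DerivedOX.GenIso
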