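import Groth.Agent.Lib.DerivedOX.FlatGen

/-!
# The stalks of the generators `gen U = j_! O_U`
-/

universe u

open CategoryTheory Limits AlgebraicGeometry Opposite TopologicalSpace

set_option linter.style.haveILetI false

namespace Groth.Agent.Lib.DerivedOX.GenStalk

open TensorStalk TensorSheaf FlatGen
open Groth.Agent.Lib.TensorMod.Whisker (res)

variable {X : Scheme.{u}}

/-- The presheaf generator. -/
noncomputable abbrev preGen (U : X.Opens) : CohB1.PMod X :=
  (PresheafOfModules.free (X.sheaf.obj ⋙ forget₂ CommRingCat RingCat.{u})).obj (yoneda.obj U)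

/-- The tautological section of the presheaf generator. -/
noncomputable def preSec (U : X.Opens) : (preGen U).obj (op U) :=
  ModuleCat.freeMk (R := (X.sheaf.obj ⋙ forget₂ CommRingCat RingCat.{u}).obj (op U)) (𝟙 U)

lemma res_preSec {U V : X.Opens} (i : V ⟶ U) :
    res (preGen U) i.op (preSec U) =
      ModuleCat.freeMk (R := (X.sheaf.obj ⋙ forget₂ CommRingCat RingCat.{u}).obj (op V)) i := by
  refine (ModuleCat.freeDesc_apply _ _).trans ?_
  exact congrArg ModuleCat.freeMk (Category.comp_id i)

variable {x : X} {U : X.Opens}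

lemma germ_mem_span (hxU : x ∈ U) (a : st x (preGen U)) :
    ∃ c : Ox x, a = c • germ hxU (preSec U) := by
  obtain ⟨V, hV, p, rfl⟩ := exists_germ a
  revert p
  refine fun p => Finsupp.induction_linear (motive := fun p : (V ⟶ U) →₀ RU V =>
    ∃ c : Ox x, germ hV (show (preGen U).obj (op V) from p) = c • germ hxU (preSec U)) p
    ⟨0, (map_zero (TopCat.Presheaf.germ (preGen U).presheaf V x hV).hom).trans
      (zero_smul _ _).symm⟩ ?_ ?_
  · rintro a b ⟨c, hc⟩ ⟨d, hd⟩
    exact ⟨c + d, (germ_add hV _ _).trans ((congrArg₂ (· + ·) hc hd).trans (add_smul _ _ _).symm)⟩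
  · intro i r
    refine ⟨rgerm hV r, ?_⟩
    have h : (show (preGen U).obj (op V) from Finsupp.single i r) =
        r • res (preGen U) (homOfLE (leOfHom i)).op (preSec U) := by
      rw [res_preSec]
      exact ((Finsupp.smul_single' r i 1).trans (by rw [mul_one])).symm
    exact (congrArg (germ hV) h).trans ((germ_smul hV r _).trans
      (congrArg (rgerm hV r • ·) (germ_res (leOfHom i) hV _)))

lemma smul_preSec_injective (hxU : x ∈ U) (c : Ox x) (h : c • germ hxU (preSec U) = 0) : c = 0 := by
  obtain ⟨V₀, hV₀, r₀, rfl⟩ := TopCat.Presheaf.exists_germ_eq X.presheaf c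
  let V := V₀ ⊓ U
  have hV : x ∈ V := ⟨hV₀, hxU⟩
  let r : RU V := resR inf_le_left r₀
  let p : (preGen U).obj (op V) := res (preGen U) (homOfLE inf_le_right).op (preSec U)
  have hr : rgerm hV r = rgerm hV₀ r₀ := rgerm_res inf_le_left hV r₀
  have h0 : germ hV (r • p) = germ hV (0 : (preGen U).obj (op V)) :=
    ((germ_smul hV r p).trans ((congrArg₂ (· • ·) hr (germ_res inf_le_right hV _)).trans h)).trans
      (map_zero (TopCat.Presheaf.germ (preGen U).presheaf V x hV).hom).symm
  obtain ⟨W, hW, i, j, e⟩ := TopCat.Presheaf.germ_eq (preGen U).presheaf x hV hV _ _ h0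
  have e₁ : res (preGen U) (homOfLE (leOfHom i)).op (r • p) = 0 :=
    e.trans (map_zero ((preGen U).presheaf.map j.op).hom)
  rw [TensorMod.Whisker.res_smul] at e₁
  have e₂ : res (preGen U) (homOfLE (leOfHom i)).op p =
      ModuleCat.freeMk (R := (X.sheaf.obj ⋙ forget₂ CommRingCat RingCat.{u}).obj (op W))
        (homOfLE ((leOfHom i).trans inf_le_right)) := by
    refine (congrArg (res (preGen U) (homOfLE (leOfHom i)).op) (res_preSec _)).trans ?_
    refine (ModuleCat.freeDesc_apply _ _).trans ?_
    exact congrArg ModuleCat.freeMk (Subsingleton.elim (α := W ⟶ U) _ _)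
  rw [e₂] at e₁
  have e₃ : resR (leOfHom i) r = 0 := Finsupp.single_eq_zero.1
    (((Finsupp.smul_single' (resR (leOfHom i) r) (homOfLE ((leOfHom i).trans inf_le_right : W ≤ U))
      1).trans (by rw [mul_one])).symm.trans e₁)
  exact hr.symm.trans ((rgerm_res (leOfHom i) hW r).symm.trans
    ((congrArg (rgerm hW) e₃).trans (map_zero (X.presheaf.germ W x hW).hom)))

lemma subsingleton_st_preGen (hxU : x ∉ U) : Subsingleton (st x (preGen U)) :=
  ⟨fun a b => by
    have key : ∀ a : st x (preGen U), a = 0 := fun a => by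
      obtain ⟨V, hV, p, rfl⟩ := exists_germ a
      haveI : IsEmpty (V ⟶ U) := ⟨fun i => hxU (leOfHom i hV)⟩
      rw [show p = 0 from Subsingleton.elim (α := (V ⟶ U) →₀ RU V) _ _]
      exact map_zero (TopCat.Presheaf.germ (preGen U).presheaf V x hV).hom
    rw [key a, key b]⟩

/-- The germ of the tautological section. -/
noncomputable def genGerm (hxU : x ∈ U) : (gen U).presheaf.stalk x :=
  shStalkEquiv x (preGen U) (germ hxU (preSec U))

/-- The stalk of `gen U` at a point of `U` is free of rank one. -/
theorem bijective_smul_genGerm (hxU : x ∈ U) :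
    Function.Bijective fun c : Ox x => c • genGerm hxU := by
  refine ⟨fun c d h => sub_eq_zero.1 (smul_preSec_injective hxU (c - d) ?_), fun a => ?_⟩
  · apply (shStalkEquiv x (preGen U)).injective
    rw [map_smul, sub_smul, map_zero]
    exact sub_eq_zero.2 h
  · obtain ⟨b, rfl⟩ := (shStalkEquiv x (preGen U)).surjective a
    obtain ⟨c, rfl⟩ := germ_mem_span hxU b
    exact ⟨c, (map_smul (shStalkEquiv x (preGen U)) c _).symm⟩

/-- The stalk of `gen U` outside `U` vanishes. -/
theorem subsingleton_stalk_gen (hxU : x ∉ U) : Subsingleton ((gen U).presheaf.stalk x) :=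
  haveI := subsingleton_st_preGen hxU
  (shStalkEquiv x (preGen U)).symm.injective.subsingleton

end Groth.Agent.Lib.DerivedOX.GenStalk
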