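import Mathlib.Algebra.Category.ModuleCat.Sheaf.Abelian
import Mathlib.Algebra.Category.ModuleCat.Sheaf.Colimits
import Mathlib.Algebra.Category.ModuleCat.Presheaf.Colimits
import Mathlib.Algebra.Category.ModuleCat.Presheaf.Generator
import Mathlib.CategoryTheory.Abelian.GrothendieckAxioms.Sheaf
import Mathlib.CategoryTheory.Abelian.GrothendieckCategory.EnoughInjectives
import Mathlib.CategoryTheory.Generator.Abelian
import Mathlib.Algebra.Category.Grp.AB
import Mathlib.AlgebraicGeometry.Modules.Sheaf
import Groth.Agent.Lib.Modules.ToSheaf

/-!
# Sheaves of modules on a small site, and O_X-modules, form a Grothendieck abelian category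
-/

universe u

open CategoryTheory Limits Opposite

namespace Groth.Agent.Lib.DerivedOX.Grothendieck

section Site

variable {C : Type u} [SmallCategory C] {J : GrothendieckTopology C} (R : Sheaf J RingCat.{u})

theorem hasSeparator_sheafOfModules : HasSeparator (SheafOfModules.{u} R) := by
  let adj := PresheafOfModules.sheafificationAdjunction.{u} (𝟙 R.obj)
  let S : C → SheafOfModules.{u} R := fun X =>
    (PresheafOfModules.sheafification (𝟙 R.obj)).obj ((PresheafOfModules.free R.obj).obj (yoneda.obj X))
  refine ⟨⟨∐ S, ?_⟩⟩
  rw [isSeparator_sigma]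
  intro M N f g h
  apply (SheafOfModules.forget R).map_injective
  refine PresheafOfModules.freeYoneda.isSeparating R.obj _ _ ?_
  rintro _ ⟨X⟩ k
  have := h (S X) ⟨X⟩ ((adj.homEquiv _ _).symm k)
  have := congr_arg (adj.homEquiv _ _) this
  rw [adj.homEquiv_naturality_right, adj.homEquiv_naturality_right, Equiv.apply_symm_apply] at this
  exact this

theorem isGrothendieckAbelian_sheafOfModules :
    IsGrothendieckAbelian.{u} (SheafOfModules.{u} R) where
  hasSeparator := hasSeparator_sheafOfModules R
  hasFilteredColimitsOfSize := ⟨fun K _ _ => inferInstance⟩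
  ab5OfSize :=
    { ofShape := fun K _ _ =>
        HasExactColimitsOfShape.domain_of_functor K (SheafOfModules.toSheaf.{u} R) }

end Site

open AlgebraicGeometry

/-- O_X-modules form a Grothendieck abelian category. -/
instance isGrothendieckAbelian_modules (X : Scheme.{u}) :
    IsGrothendieckAbelian.{u} X.Modules :=
  isGrothendieckAbelian_sheafOfModules X.ringCatSheaf

/-- O_X-modules have enough injectives. -/
instance enoughInjectives_modules (X : Scheme.{u}) : EnoughInjectives X.Modules :=
  inferInstance

end Groth.Agent.Lib.DerivedOX.Grothendieck
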