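import Mathlib.Algebra.Category.ModuleCat.ChangeOfRings
import Mathlib.Topology.Sheaves.Stalks
import Groth.Prelude.Def_DDual2
import Groth.Agent.Lib.DerivedOX.GenIso
import Groth.Agent.Lib.DerivedOX.GenStalk
import Groth.Agent.Lib.DerivedOX.Grothendieck

/-!
# `(f^* M)_x = O_x ⊗_{O_{f x}} M_{f x}`
-/

universe u

open CategoryTheory Limits AlgebraicGeometry Opposite TopologicalSpace
open scoped TensorProduct

set_option linter.style.haveILetI false

namespace Groth.Agent.Lib.DerivedOX.PullbackStalk

open Groth.Agent.Lib.Modules StalkModule TensorSheaf FlatGen GenStalk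

variable {X Y : Scheme.{u}} (f : X ⟶ Y) (x : X)

local notation "pb" => Scheme.Modules.pullback f
local notation "pf" => Scheme.Modules.pushforward f

/-- The stalk map of a pushforward. -/
noncomputable def pushStalkMap (N : X.Modules) :
    ((pf).obj N).presheaf.stalk (f.base x) ⟶ N.presheaf.stalk x :=
  TopCat.Presheaf.stalkPushforward AddCommGrpCat.{u} f.base N.presheaf x

lemma pushStalkMap_germ (N : X.Modules) {U : Y.Opens} (hx : f.base x ∈ U) (n : Γ((pf).obj N, U)) :
    pushStalkMap f x N (((pf).obj N).presheaf.germ U (f.base x) hx n) =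
      N.presheaf.germ (f ⁻¹ᵁ U) x hx n :=
  TopCat.Presheaf.stalkPushforward_germ_apply AddCommGrpCat.{u} f.base N.presheaf U x hx n

lemma pushStalkMap_natural {N N' : X.Modules} (φ : N ⟶ N')
    (a : ((pf).obj N).presheaf.stalk (f.base x)) :
    pushStalkMap f x N' (stalkMapₗ ((pf).map φ) (f.base x) a) =
      stalkMapₗ φ x (pushStalkMap f x N a) := by
  obtain ⟨U, hU, s, rfl⟩ := TopCat.Presheaf.exists_germ_eq ((pf).obj N).presheaf a
  rw [stalkMapₗ_germ, pushStalkMap_germ, pushStalkMap_germ]
  exact (stalkMapₗ_germ φ hU s).symm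

lemma pushStalkMap_smul (N : X.Modules) (c : Y.presheaf.stalk (f.base x))
    (a : ((pf).obj N).presheaf.stalk (f.base x)) :
    pushStalkMap f x N (c • a) = (f.stalkMap x).hom c • pushStalkMap f x N a := by
  obtain ⟨U, hU, r, s, -, hr, hs, -⟩ := TensorStalk.exists_rgerm₂ (x := f.base x)
    (P := DCoh.toP.obj ((pf).obj N)) (Q := DCoh.toP.obj ((pf).obj N)) c a a
  have hsm : TensorStalk.germ hU (r • s) = c • a :=
    (TensorStalk.germ_smul hU r s).trans (congrArg₂ (· • ·) hr hs)
  rw [← hsm, ← hs, ← hr]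
  refine (pushStalkMap_germ f x N hU _).trans ?_
  refine Eq.trans ?_ (congrArg ((f.stalkMap x).hom (TensorStalk.rgerm hU r) • ·)
    (pushStalkMap_germ f x N hU s).symm)
  refine Eq.trans ?_ (congrArg (· • _) (Scheme.Hom.germ_stalkMap_apply f U x hU r).symm)
  exact TensorStalk.germ_smul (P := DCoh.toP.obj N) (x := x) (U := f ⁻¹ᵁ U) hU (f.app U r) _

/-- The semilinear map `M_{f x} → (f^* M)_x`. -/
noncomputable def unitStalk (M : Y.Modules) :
    (stalkModFunctor Y (f.base x)).obj M ⟶
      (ModuleCat.restrictScalars (f.stalkMap x).hom).obj ((stalkModFunctor X x).obj ((pb).obj M)) :=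
  ModuleCat.ofHom (Y := (ModuleCat.restrictScalars (f.stalkMap x).hom).obj
      ((stalkModFunctor X x).obj ((pb).obj M)))
    { toFun := fun a => pushStalkMap f x _
        (stalkMapₗ ((Scheme.Modules.pullbackPushforwardAdjunction f).unit.app M) (f.base x) a)
      map_add' := fun a b =>
        (congrArg (pushStalkMap f x _) (map_add _ a b)).trans (map_add _ _ _)
      map_smul' := fun c a => by
        rw [map_smul]
        exact pushStalkMap_smul f x _ c _ }

lemma unitStalk_natural {M M' : Y.Modules} (φ : M ⟶ M') :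
    (stalkModFunctor Y (f.base x)).map φ ≫ unitStalk f x M' =
      unitStalk f x M ≫ (ModuleCat.restrictScalars (f.stalkMap x).hom).map
        ((stalkModFunctor X x).map ((pb).map φ)) := by
  ext a
  change pushStalkMap f x _ (stalkMapₗ _ _ (stalkMapₗ φ (f.base x) a)) =
    stalkMapₗ ((pb).map φ) x (pushStalkMap f x _ (stalkMapₗ _ _ a))
  rw [← pushStalkMap_natural]
  refine congrArg (pushStalkMap f x _) ?_
  have h := congrArg (fun ψ => stalkMapₗ ψ (f.base x) a)
    ((Scheme.Modules.pullbackPushforwardAdjunction f).unit.naturality φ)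
  simp only [stalkMapₗ_comp] at h
  exact h

/-- The comparison `O_x ⊗ M_{f x} → (f^* M)_x`. -/
noncomputable def comparison :
    stalkModFunctor Y (f.base x) ⋙ ModuleCat.extendScalars.{u, u, u} (f.stalkMap x).hom ⟶
      pb ⋙ stalkModFunctor X x where
  app M := ((ModuleCat.extendRestrictScalarsAdj.{u} (f.stalkMap x).hom).homEquiv _ _).symm
    (unitStalk f x M)
  naturality M M' φ := by
    refine ((ModuleCat.extendRestrictScalarsAdj.{u} (f.stalkMap x).hom).homEquiv_naturality_left_symm
      _ _).symm.trans (Eq.trans ?_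
      ((ModuleCat.extendRestrictScalarsAdj.{u} (f.stalkMap x).hom).homEquiv_naturality_right_symm _ _))
    exact congrArg _ (unitStalk_natural f x φ)

lemma comparison_one_tmul (M : Y.Modules) (a : M.presheaf.stalk (f.base x)) :
    letI : Algebra (Y.presheaf.stalk (f.base x)) (X.presheaf.stalk x) := (f.stalkMap x).hom.toAlgebra
    (comparison f x).app M ((1 : X.presheaf.stalk x) ⊗ₜ[Y.presheaf.stalk (f.base x)] a) =
      pushStalkMap f x _
        (stalkMapₗ ((Scheme.Modules.pullbackPushforwardAdjunction f).unit.app M) (f.base x) a) := by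
  refine (ModuleCat.extendRestrictScalarsAdj_homEquiv_apply.{u} ((comparison f x).app M) a).symm.trans ?_
  exact congrArg (fun ψ : (stalkModFunctor Y (f.base x)).obj M ⟶ _ => ψ a)
    (Equiv.apply_symm_apply _ (unitStalk f x M))

/-! ### Sections and germs of generators -/

lemma genHomEquiv_comp (U : X.Opens) {M N : X.Modules} (φ : gen U ⟶ M) (ψ : M ⟶ N) :
    genHomEquiv U N (φ ≫ ψ) = ψ.app U (genHomEquiv U M φ) :=
  (congrArg PresheafOfModules.freeYonedaEquiv
    ((TensorMod.Basic.adj X).homEquiv_naturality_right φ ψ)).trans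
    (PresheafOfModules.freeYonedaEquiv_comp _ _)

lemma genHomEquiv_eq (U : X.Opens) {M : X.Modules} (φ : gen U ⟶ M) :
    genHomEquiv U M φ = (unitSh (preGen U) ≫ DCoh.toP.map φ).app (op U) (preSec U) := rfl

lemma stalkMapₗ_genGerm {U : X.Opens} {M : X.Modules} (φ : gen U ⟶ M) {x : X} (hx : x ∈ U) :
    stalkMapₗ φ x (genGerm hx) = M.presheaf.germ U x hx (genHomEquiv U M φ) := by
  have h : genGerm hx =
      (gen U).presheaf.germ U x hx ((unitSh (preGen U)).app (op U) (preSec U)) := by
    refine Eq.trans ?_ (TensorStalk.stMap_germ (unitSh (preGen U)) hx (preSec U))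
    rfl
  exact (congrArg (stalkMapₗ φ x) h).trans ((stalkMapₗ_germ φ hx _).trans rfl)

/-- `Hom(f^* gen U, N) = Hom(gen f⁻¹U, N)`. -/
noncomputable def pbGenEquiv (U : Y.Opens) (N : X.Modules) :
    ((pb).obj (gen U) ⟶ N) ≃ (gen (f ⁻¹ᵁ U) ⟶ N) :=
  (((Scheme.Modules.pullbackPushforwardAdjunction f).homEquiv (gen U) N).trans
    (genHomEquiv U ((pf).obj N))).trans (genHomEquiv (f ⁻¹ᵁ U) N).symm

lemma pbGenEquiv_comp (U : Y.Opens) {N N' : X.Modules} (φ : (pb).obj (gen U) ⟶ N) (ψ : N ⟶ N') :
    pbGenEquiv f U N' (φ ≫ ψ) = pbGenEquiv f U N φ ≫ ψ := by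
  refine (genHomEquiv (f ⁻¹ᵁ U) N').injective ?_
  refine ((genHomEquiv (f ⁻¹ᵁ U) N').apply_symm_apply _).trans (Eq.trans ?_
    (genHomEquiv_comp (f ⁻¹ᵁ U) _ ψ).symm)
  refine ((congrArg (genHomEquiv U ((pf).obj N'))
    ((Scheme.Modules.pullbackPushforwardAdjunction f).homEquiv_naturality_right φ ψ)).trans
    (genHomEquiv_comp U _ ((pf).map ψ))).trans ?_
  exact congrArg (ψ.app (f ⁻¹ᵁ U)) ((genHomEquiv (f ⁻¹ᵁ U) N).apply_symm_apply _).symm

/-- `gen f⁻¹U ⟶ f^* gen U`. -/
noncomputable def genToPb (U : Y.Opens) : gen (f ⁻¹ᵁ U) ⟶ (pb).obj (gen U) :=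
  pbGenEquiv f U _ (𝟙 _)

instance isIso_genToPb (U : Y.Opens) : IsIso (genToPb f U) := by
  have h1 : genToPb f U ≫ (pbGenEquiv f U _).symm (𝟙 _) = 𝟙 _ := by
    rw [genToPb, ← pbGenEquiv_comp, Category.id_comp, Equiv.apply_symm_apply]
  refine ⟨(pbGenEquiv f U _).symm (𝟙 _), h1, (pbGenEquiv f U _).injective ?_⟩
  rw [pbGenEquiv_comp, Equiv.apply_symm_apply, Category.id_comp]
  rfl

theorem isIso_comparison_gen (U : Y.Opens) : IsIso ((comparison f x).app (gen U)) := by
  letI : Algebra (Y.presheaf.stalk (f.base x)) (X.presheaf.stalk x) := (f.stalkMap x).hom.toAlgebra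
  rw [ConcreteCategory.isIso_iff_bijective]
  let e := stalkLinearEquiv (asIso (genToPb f U)) x
  by_cases hx : f.base x ∈ U
  · have hx' : x ∈ f ⁻¹ᵁ U := hx
    let w : X.presheaf.stalk x → X.presheaf.stalk x ⊗[Y.presheaf.stalk (f.base x)]
        (gen U).presheaf.stalk (f.base x) := fun c => c ⊗ₜ genGerm hx
    have hw : Function.Surjective w := by
      intro t
      induction t using TensorProduct.induction_on with
      | zero => exact ⟨0, TensorProduct.zero_tmul _ _⟩
      | tmul c a =>
        obtain ⟨r, rfl⟩ := (bijective_smul_genGerm hx).2 a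
        exact ⟨r • c, TensorProduct.smul_tmul r c (genGerm hx)⟩
      | add s t hs ht =>
        obtain ⟨a, rfl⟩ := hs
        obtain ⟨b, rfl⟩ := ht
        exact ⟨a + b, TensorProduct.add_tmul _ _ _⟩
    have key : ∀ c : X.presheaf.stalk x, (comparison f x).app (gen U) (w c) = e (c • genGerm hx') := by
      intro c
      have h1 : (comparison f x).app (gen U) (w 1) = e (genGerm hx') := by
        refine (comparison_one_tmul f x (gen U) (genGerm hx)).trans ?_
        refine (congrArg (pushStalkMap f x _) (stalkMapₗ_genGerm _ hx)).trans ?_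
        refine (pushStalkMap_germ f x _ hx _).trans ?_
        refine Eq.trans ?_ (stalkMapₗ_genGerm (genToPb f U) hx').symm
        refine congrArg _ ?_
        refine Eq.trans ?_ ((genHomEquiv (f ⁻¹ᵁ U) _).apply_symm_apply _).symm
        refine congrArg (genHomEquiv U _) ?_
        exact ((Scheme.Modules.pullbackPushforwardAdjunction f).homEquiv_id _).symm
      rw [map_smul, ← h1]
      have : w c = c • w 1 := by
        change c ⊗ₜ _ = c • ((1 : X.presheaf.stalk x) ⊗ₜ _)
        rw [TensorProduct.smul_tmul', smul_eq_mul, mul_one]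
      rw [this]
      exact map_smul ((comparison f x).app (gen U)).hom c (w 1)
    have hb : Function.Bijective fun c => (comparison f x).app (gen U) (w c) := by
      have hk := funext key
      exact hk ▸ e.bijective.comp (bijective_smul_genGerm hx')
    exact (Function.Bijective.of_comp_iff _ ⟨fun a b h => hb.1 (congrArg _ h), hw⟩).1 hb
  · have hx' : x ∉ f ⁻¹ᵁ U := hx
    haveI := subsingleton_stalk_gen hx
    haveI := subsingleton_stalk_gen hx'
    haveI : Subsingleton (((pb).obj (gen U)).presheaf.stalk x) := e.symm.injective.subsingleton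
    haveI : Subsingleton (X.presheaf.stalk x ⊗[Y.presheaf.stalk (f.base x)]
        (gen U).presheaf.stalk (f.base x)) := subsingleton_of_forall_eq 0 fun t => by
      induction t using TensorProduct.induction_on with
      | zero => rfl
      | tmul c a => rw [Subsingleton.elim a 0, TensorProduct.tmul_zero]
      | add s t hs ht => rw [hs, ht, add_zero]
    exact ⟨fun a b _ => Subsingleton.elim (α := X.presheaf.stalk x ⊗[Y.presheaf.stalk (f.base x)]
        (gen U).presheaf.stalk (f.base x)) a b, fun b => ⟨0,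
      Subsingleton.elim (α := ((pb).obj (gen U)).presheaf.stalk x) _ b⟩⟩

instance isIso_comparison : IsIso (comparison f x) := by
  haveI : (ModuleCat.extendScalars.{u, u, u} (f.stalkMap x).hom).IsLeftAdjoint :=
    (ModuleCat.extendRestrictScalarsAdj.{u} (f.stalkMap x).hom).isLeftAdjoint
  haveI : PreservesColimitsOfSize.{u, u} (ModuleCat.extendScalars.{u, u, u} (f.stalkMap x).hom) :=
    (ModuleCat.extendRestrictScalarsAdj.{u} (f.stalkMap x).hom).leftAdjoint_preservesColimits
  haveI : PreservesColimitsOfSize.{u, u} (pb) :=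
    (Scheme.Modules.pullbackPushforwardAdjunction f).leftAdjoint_preservesColimits
  haveI := PreservesColimitsOfSize.preservesFiniteColimits (pb ⋙ stalkModFunctor X x)
  haveI := PreservesColimitsOfSize.preservesFiniteColimits
    (stalkModFunctor Y (f.base x) ⋙ ModuleCat.extendScalars.{u, u, u} (f.stalkMap x).hom)
  exact GenIso.isIso_of_isSeparating isSeparating_gen _ (isIso_comparison_gen f x)

/-- `(f^* M)_x = O_x ⊗_{O_{f x}} M_{f x}`, natural in `M`. -/
noncomputable def pullbackStalkIso :
    stalkModFunctor Y (f.base x) ⋙ ModuleCat.extendScalars.{u, u, u} (f.stalkMap x).hom ≅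
      pb ⋙ stalkModFunctor X x :=
  asIso (comparison f x)

end Groth.Agent.Lib.DerivedOX.PullbackStalk
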