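import Groth.Prelude.Def_FlatMod2
import Groth.Prelude.Def_CohB1
import Mathlib.LinearAlgebra.TensorProduct.Basic
import Mathlib.Algebra.Category.ModuleCat.Stalk
import Groth.Agent.Lib.TensorMod.Whisker

/-!
# Stalks of tensor products of presheaves of O_X-modules

`tensorStalkEquiv : (P ⊗ Q)_x ≃ₗ P_x ⊗_{O_x} Q_x`, natural in `P` and `Q`.
-/

universe u

open CategoryTheory Limits AlgebraicGeometry Opposite TopologicalSpace MonoidalCategory
open scoped TensorProduct

namespace Groth.Agent.Lib.DerivedOX.TensorStalk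

open Groth.Agent.Lib.TensorMod.Whisker (res)

variable {X : Scheme.{u}} (x : X)

/-- The stalk of a presheaf of modules. -/
abbrev st (P : CohB1.PMod X) : Type u := ↑(TopCat.Presheaf.stalk P.presheaf x)

/-- The stalk of the structure sheaf. -/
abbrev Ox : Type u := ↑(X.presheaf.stalk x)

noncomputable instance moduleSt (P : CohB1.PMod X) : Module (Ox x) (st x P) :=
  inferInstanceAs (Module (X.presheaf.stalk x) ↑(TopCat.Presheaf.stalk
    (PresheafOfModules.presheaf (R := X.presheaf ⋙ forget₂ CommRingCat RingCat)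
      (show PresheafOfModules (X.presheaf ⋙ forget₂ CommRingCat RingCat) from P)) x))

variable {x}

/-- The germ of a section. -/
noncomputable abbrev germ {P : CohB1.PMod X} {U : X.Opens} (hx : x ∈ U) (p : P.obj (op U)) :
    st x P :=
  TopCat.Presheaf.germ P.presheaf U x hx p

/-- The sections of the structure sheaf, as scalars for presheaves of modules. -/
abbrev RU (U : X.Opens) : Type u := ↑((X.sheaf.obj ⋙ forget₂ CommRingCat RingCat.{u}).obj (op U))

/-- The germ of a scalar. -/
noncomputable abbrev rgerm {U : X.Opens} (hx : x ∈ U) (r : RU U) : Ox x :=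
  X.presheaf.germ U x hx (show Γ(X, U) from r)

variable {P Q P' Q' : CohB1.PMod X}

lemma germ_smul {U : X.Opens} (hx : x ∈ U) (r : RU U) (p : P.obj (op U)) :
    germ hx (r • p) = rgerm hx r • germ hx p :=
  PresheafOfModules.germ_smul (R := X.presheaf)
    (show PresheafOfModules (X.presheaf ⋙ forget₂ CommRingCat RingCat) from P) x U hx r p

lemma germ_res {U V : X.Opens} (h : V ≤ U) (hx : x ∈ V) (p : P.obj (op U)) :
    germ hx (res P (homOfLE h).op p) = germ (h hx) p :=
  TopCat.Presheaf.germ_res_apply P.presheaf (homOfLE h) x hx p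

lemma germ_add {U : X.Opens} (hx : x ∈ U) (p p' : P.obj (op U)) :
    germ hx (p + p') = germ hx p + germ hx p' :=
  map_add (TopCat.Presheaf.germ P.presheaf U x hx).hom p p'

lemma exists_germ (a : st x P) : ∃ (U : X.Opens) (hx : x ∈ U) (p : P.obj (op U)), germ hx p = a :=
  TopCat.Presheaf.exists_germ_eq P.presheaf a

lemma exists_rgerm₂ (c : Ox x) (a : st x P) (b : st x Q) :
    ∃ (U : X.Opens) (hx : x ∈ U) (r : RU U) (p : P.obj (op U)) (q : Q.obj (op U)),
      rgerm hx r = c ∧ germ hx p = a ∧ germ hx q = b := by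
  obtain ⟨U, hU, p, rfl⟩ := exists_germ a
  obtain ⟨V, hV, q, rfl⟩ := exists_germ b
  obtain ⟨W, hW, r, rfl⟩ := TopCat.Presheaf.exists_germ_eq X.presheaf c
  refine ⟨U ⊓ V ⊓ W, ⟨⟨hU, hV⟩, hW⟩,
    (X.presheaf.map (homOfLE (inf_le_right : U ⊓ V ⊓ W ≤ W)).op r :),
    res P (homOfLE (inf_le_left.trans inf_le_left)).op p,
    res Q (homOfLE (inf_le_left.trans inf_le_right)).op q, ?_, germ_res _ _ _, germ_res _ _ _⟩
  exact TopCat.Presheaf.germ_res_apply X.presheaf (homOfLE inf_le_right) x _ r

lemma exists_germ₂ (a : st x P) (b : st x Q) :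
    ∃ (U : X.Opens) (hx : x ∈ U) (p : P.obj (op U)) (q : Q.obj (op U)),
      germ hx p = a ∧ germ hx q = b := by
  obtain ⟨U, hU, p, rfl⟩ := exists_germ a
  obtain ⟨V, hV, q, rfl⟩ := exists_germ b
  exact ⟨U ⊓ V, ⟨hU, hV⟩, res P (homOfLE inf_le_left).op p, res Q (homOfLE inf_le_right).op q,
    germ_res _ _ _, germ_res _ _ _⟩

/-- The pure tensor of two sections. -/
noncomputable abbrev tm {U : X.Opens} (p : P.obj (op U)) (q : Q.obj (op U)) :
    (P ⊗ Q).obj (op U) :=
  (p ⊗ₜ[RU U] q : _)

lemma res_tm {U V : X.Opens} (h : V ≤ U) (p : P.obj (op U)) (q : Q.obj (op U)) :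
    res (P ⊗ Q) (homOfLE h).op (tm p q) =
      tm (res P (homOfLE h).op p) (res Q (homOfLE h).op q) := rfl

lemma germ_tm_congr {U U' : X.Opens} (hx : x ∈ U) (hx' : x ∈ U')
    (p : P.obj (op U)) (q : Q.obj (op U)) (p' : P.obj (op U')) (q' : Q.obj (op U'))
    (hp : germ hx p = germ hx' p') (hq : germ hx q = germ hx' q') :
    germ hx (tm p q) = germ hx' (tm p' q') := by
  obtain ⟨W₁, hW₁, i₁, j₁, e₁⟩ := TopCat.Presheaf.germ_eq P.presheaf x hx hx' p p' hp
  obtain ⟨W₂, hW₂, i₂, j₂, e₂⟩ := TopCat.Presheaf.germ_eq Q.presheaf x hx hx' q q' hq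
  have hW : x ∈ W₁ ⊓ W₂ := ⟨hW₁, hW₂⟩
  have h : W₁ ⊓ W₂ ≤ U := inf_le_left.trans (leOfHom i₁)
  have h' : W₁ ⊓ W₂ ≤ U' := inf_le_left.trans (leOfHom j₁)
  rw [← germ_res h hW (tm p q), ← germ_res h' hW (tm p' q'), res_tm, res_tm]
  have E₁ : res P (homOfLE h).op p = res P (homOfLE h').op p' := by
    have := congr(res P (homOfLE (inf_le_left : W₁ ⊓ W₂ ≤ W₁)).op $e₁)
    exact (TensorMod.Whisker.res_res P _ _ p).symm.trans
      (this.trans (TensorMod.Whisker.res_res P _ _ p'))
  have E₂ : res Q (homOfLE h).op q = res Q (homOfLE h').op q' := by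
    have := congr(res Q (homOfLE (inf_le_right : W₁ ⊓ W₂ ≤ W₂)).op $e₂)
    exact (TensorMod.Whisker.res_res Q _ _ q).symm.trans
      (this.trans (TensorMod.Whisker.res_res Q _ _ q'))
  rw [E₁, E₂]

/-- The pairing `P_x × Q_x → (P ⊗ Q)_x`. -/
noncomputable def pairing (a : st x P) (b : st x Q) : st x (P ⊗ Q) :=
  germ (exists_germ₂ a b).choose_spec.choose
    (tm (exists_germ₂ a b).choose_spec.choose_spec.choose
      (exists_germ₂ a b).choose_spec.choose_spec.choose_spec.choose)

lemma pairing_germ {U : X.Opens} (hx : x ∈ U) (p : P.obj (op U)) (q : Q.obj (op U)) :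
    pairing (germ hx p) (germ hx q) = germ hx (tm p q) :=
  germ_tm_congr _ _ _ _ _ _
    (exists_germ₂ (germ hx p) (germ hx q)).choose_spec.choose_spec.choose_spec.choose_spec.1
    (exists_germ₂ (germ hx p) (germ hx q)).choose_spec.choose_spec.choose_spec.choose_spec.2

variable (x P Q) in
/-- The pairing as a bilinear map. -/
noncomputable def pairingₗ : st x P →ₗ[Ox x] st x Q →ₗ[Ox x] st x (P ⊗ Q) :=
  LinearMap.mk₂ (Ox x) pairing
    (fun a a' b => by
      obtain ⟨U, hU, p, q, rfl, rfl⟩ := exists_germ₂ a b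
      obtain ⟨V, hV, p', rfl⟩ := exists_germ a'
      have hW : x ∈ U ⊓ V := ⟨hU, hV⟩
      rw [← germ_res inf_le_left hW p, ← germ_res inf_le_left hW q,
        ← germ_res inf_le_right hW p', ← germ_add, pairing_germ, pairing_germ, pairing_germ,
        ← germ_add]
      exact congrArg _ (TensorProduct.add_tmul _ _ _))
    (fun c a b => by
      obtain ⟨U, hU, r, p, q, rfl, rfl, rfl⟩ := exists_rgerm₂ c a b
      rw [← germ_smul, pairing_germ, pairing_germ, ← germ_smul]
      exact congrArg _ (TensorProduct.smul_tmul' (R := RU U) r p q).symm)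
    (fun a b b' => by
      obtain ⟨U, hU, p, q, rfl, rfl⟩ := exists_germ₂ a b
      obtain ⟨V, hV, q', rfl⟩ := exists_germ b'
      have hW : x ∈ U ⊓ V := ⟨hU, hV⟩
      rw [← germ_res inf_le_left hW p, ← germ_res inf_le_left hW q,
        ← germ_res inf_le_right hW q', ← germ_add, pairing_germ, pairing_germ, pairing_germ,
        ← germ_add]
      exact congrArg _ (TensorProduct.tmul_add _ _ _))
    (fun c a b => by
      obtain ⟨U, hU, r, p, q, rfl, rfl, rfl⟩ := exists_rgerm₂ c a b
      rw [← germ_smul, pairing_germ, pairing_germ, ← germ_smul]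
      exact congrArg _ (TensorProduct.tmul_smul (R := RU U) r p q))

variable (x P Q) in
/-- The germ of a tensor in `P_x ⊗ Q_x`. -/
noncomputable def toTensorAt (U : X.Opens) (hx : x ∈ U) :
    ↑((P ⊗ Q).obj (op U)) →+ st x P ⊗[Ox x] st x Q :=
  TensorProduct.liftAddHom
    (AddMonoidHom.mk' (fun p : P.obj (op U) => AddMonoidHom.mk'
      (fun q : Q.obj (op U) => germ hx p ⊗ₜ[Ox x] germ hx q)
      (fun q q' => by rw [germ_add, TensorProduct.tmul_add]))
      (fun p p' => by ext q; simp [germ_add, TensorProduct.add_tmul]))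
    (fun r p q => by
      change germ hx (r • p) ⊗ₜ[Ox x] germ hx q = germ hx p ⊗ₜ[Ox x] germ hx (r • q)
      rw [germ_smul (x := x) hx r p, germ_smul (x := x) hx r q, TensorProduct.smul_tmul])

lemma toTensorAt_tm {U : X.Opens} (hx : x ∈ U) (p : P.obj (op U)) (q : Q.obj (op U)) :
    toTensorAt x P Q U hx (tm p q) = germ hx p ⊗ₜ[Ox x] germ hx q := rfl

lemma toTensorAt_res {U V : X.Opens} (h : V ≤ U) (hx : x ∈ V) (z : (P ⊗ Q).obj (op U)) :
    toTensorAt x P Q V hx (res (P ⊗ Q) (homOfLE h).op z) = toTensorAt x P Q U (h hx) z := by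
  induction z using TensorProduct.induction_on with
  | zero =>
      refine ((congrArg _ (TensorMod.Whisker.res_zero (P ⊗ Q) (homOfLE h).op)).trans
        (map_zero (toTensorAt x P Q V hx))).trans (map_zero (toTensorAt x P Q U (h hx))).symm
  | tmul p q =>
      refine (toTensorAt_tm hx _ _).trans ?_
      exact congrArg₂ (fun (a : st x P) (b : st x Q) => a ⊗ₜ[Ox x] b) (germ_res h hx p)
        (germ_res h hx q)
  | add z z' h₁ h₂ =>
      refine ((congrArg _ (TensorMod.Whisker.res_add (P ⊗ Q) (homOfLE h).op z z')).trans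
        (map_add (toTensorAt x P Q V hx) _ _)).trans ?_
      exact (congrArg₂ (· + ·) h₁ h₂).trans (map_add (toTensorAt x P Q U (h hx)) z z').symm

variable (x P Q) in
/-- `(P ⊗ Q)_x → P_x ⊗ Q_x`, as an additive map. -/
noncomputable def toTensor : st x (P ⊗ Q) →+ st x P ⊗[Ox x] st x Q :=
  (colimit.desc ((OpenNhds.inclusion x).op ⋙ (P ⊗ Q).presheaf)
    { pt := AddCommGrpCat.of (st x P ⊗[Ox x] st x Q)
      ι :=
        { app := fun U => AddCommGrpCat.ofHom (toTensorAt x P Q U.unop.1 U.unop.2)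
          naturality := fun U V i => by
            ext z
            exact toTensorAt_res (x := x) (leOfHom ((OpenNhds.inclusion x).map i.unop)) V.unop.2 z } }).hom

lemma toTensor_germ {U : X.Opens} (hx : x ∈ U) (z : (P ⊗ Q).obj (op U)) :
    toTensor x P Q (germ hx z) = toTensorAt x P Q U hx z :=
  ConcreteCategory.congr_hom
    (colimit.ι_desc (F := (OpenNhds.inclusion x).op ⋙ (P ⊗ Q).presheaf)
      _ (op (⟨U, hx⟩ : OpenNhds x))) z

lemma toTensor_pairing (a : st x P) (b : st x Q) :
    toTensor x P Q (pairingₗ x P Q a b) = a ⊗ₜ[Ox x] b := by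
  obtain ⟨U, hU, p, q, rfl, rfl⟩ := exists_germ₂ a b
  exact (congrArg _ (pairing_germ hU p q)).trans ((toTensor_germ hU _).trans (toTensorAt_tm hU p q))

lemma lift_toTensor (z : st x (P ⊗ Q)) :
    TensorProduct.lift (pairingₗ x P Q) (toTensor x P Q z) = z := by
  obtain ⟨U, hU, z, rfl⟩ := exists_germ z
  rw [toTensor_germ]
  induction z using TensorProduct.induction_on with
  | zero =>
      refine ((congrArg _ (map_zero (toTensorAt x P Q U hU))).trans
        (map_zero (TensorProduct.lift (pairingₗ x P Q)))).trans ?_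
      exact (map_zero (TopCat.Presheaf.germ (P ⊗ Q).presheaf U x hU).hom).symm
  | tmul p q =>
      refine (congrArg _ (toTensorAt_tm hU p q)).trans ?_
      exact (TensorProduct.lift.tmul _ _).trans (pairing_germ hU p q)
  | add z z' h₁ h₂ =>
      refine ((congrArg _ (map_add (toTensorAt x P Q U hU) z z')).trans
        (map_add (TensorProduct.lift (pairingₗ x P Q)) _ _)).trans ?_
      exact (congrArg₂ (· + ·) h₁ h₂).trans
        (map_add (TopCat.Presheaf.germ (P ⊗ Q).presheaf U x hU).hom z z').symm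

variable (x P Q) in
/-- `(P ⊗ Q)_x ≅ P_x ⊗ Q_x`. -/
noncomputable def tensorStalkEquiv : st x (P ⊗ Q) ≃ₗ[Ox x] st x P ⊗[Ox x] st x Q :=
  LinearEquiv.symm
    { TensorProduct.lift (pairingₗ x P Q) with
      invFun := toTensor x P Q
      left_inv := fun t => by
        induction t using TensorProduct.induction_on with
        | zero => simp
        | tmul a b =>
          change toTensor x P Q (TensorProduct.lift (pairingₗ x P Q) (a ⊗ₜ b)) = _
          rw [TensorProduct.lift.tmul, toTensor_pairing]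
        | add t t' h₁ h₂ => simp only [AddHom.toFun_eq_coe, LinearMap.coe_toAddHom, map_add] at *; rw [h₁, h₂]
      right_inv := lift_toTensor }

@[simp]
lemma tensorStalkEquiv_germ_tm {U : X.Opens} (hx : x ∈ U) (p : P.obj (op U)) (q : Q.obj (op U)) :
    tensorStalkEquiv x P Q (germ hx (tm p q)) = germ hx p ⊗ₜ[Ox x] germ hx q :=
  (toTensor_germ hx _).trans (toTensorAt_tm hx p q)

/-- The map on stalks induced by a morphism of presheaves of modules. -/
noncomputable def stMap (f : P ⟶ P') : st x P →ₗ[Ox x] st x P' where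
  toFun := (TopCat.Presheaf.stalkFunctor AddCommGrpCat.{u} x).map
    ((PresheafOfModules.toPresheaf _).map f)
  map_add' := map_add _
  map_smul' c a := by
    obtain ⟨U, hU, r, p, p', rfl, rfl, -⟩ := exists_rgerm₂ c a a
    have e : ∀ q : P.obj (op U), (TopCat.Presheaf.stalkFunctor AddCommGrpCat.{u} x).map
        ((PresheafOfModules.toPresheaf _).map f) (germ hU q) = germ hU (f.app (op U) q) :=
      fun q => TopCat.Presheaf.stalkFunctor_map_germ_apply U x hU
        ((PresheafOfModules.toPresheaf _).map f) q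
    rw [RingHom.id_apply, ← germ_smul, e, e, map_smul, germ_smul]

@[simp]
lemma stMap_germ (f : P ⟶ P') {U : X.Opens} (hx : x ∈ U) (p : P.obj (op U)) :
    stMap f (germ hx p) = germ hx (f.app (op U) p) :=
  TopCat.Presheaf.stalkFunctor_map_germ_apply U x hx ((PresheafOfModules.toPresheaf _).map f) p

lemma tensorStalkEquiv_natural (f : P ⟶ P') (g : Q ⟶ Q') (z : st x (P ⊗ Q)) :
    tensorStalkEquiv x P' Q' (stMap (f ⊗ₘ g) z) =
      TensorProduct.map (stMap f) (stMap g) (tensorStalkEquiv x P Q z) := by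
  obtain ⟨t, rfl⟩ := (tensorStalkEquiv x P Q).symm.surjective z
  induction t using TensorProduct.induction_on with
  | zero => simp
  | tmul a b =>
    obtain ⟨U, hU, p, q, rfl, rfl⟩ := exists_germ₂ a b
    have e : (tensorStalkEquiv x P Q).symm (germ hU p ⊗ₜ[Ox x] germ hU q) = germ hU (tm p q) :=
      (LinearEquiv.symm_apply_eq _).2 (tensorStalkEquiv_germ_tm hU p q).symm
    rw [LinearEquiv.apply_symm_apply, e, stMap_germ, TensorProduct.map_tmul, stMap_germ, stMap_germ]
    exact tensorStalkEquiv_germ_tm hU (f.app (op U) p) (g.app (op U) q)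
  | add t t' h₁ h₂ => simp only [map_add, h₁, h₂]

end Groth.Agent.Lib.DerivedOX.TensorStalk
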