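import Groth.Prelude.Def_DCoh4
import Mathlib.Algebra.Category.ModuleCat.Monoidal.Basic
import Mathlib.Topology.Sheaves.Sheafify
import Groth.Agent.Lib.DerivedOX.TensorStalk
import Groth.Agent.Lib.Modules.StalkModule
import Groth.Agent.Lib.TensorMod.Basic

/-!
# Stalks of the tensor product of O_X-modules
-/

universe u

open CategoryTheory Limits AlgebraicGeometry Opposite TopologicalSpace MonoidalCategory
open scoped TensorProduct

namespace Groth.Agent.Lib.DerivedOX.TensorSheaf

open TensorStalk Groth.Agent.Lib.Modules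

variable {X : Scheme.{u}} (x : X)

/-- The stalk of a module agrees with the stalk of the underlying presheaf of modules. -/
noncomputable def fgtStalkEquiv (M : X.Modules) :
    st x (DCoh.toP.obj M) ≃ₗ[Ox x] M.presheaf.stalk x :=
  LinearEquiv.refl _ _

/-- The unit of sheafification, as a morphism of presheaves of modules. -/
noncomputable def unitSh (P : CohB1.PMod X) : P ⟶ DCoh.toP.obj (DCoh.shP.obj P) :=
  (TensorMod.Basic.adj X).unit.app P

lemma unitSh_natural {P Q : CohB1.PMod X} (f : P ⟶ Q) :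
    f ≫ unitSh Q = unitSh P ≫ DCoh.toP.map (DCoh.shP.map f) :=
  (TensorMod.Basic.adj X).unit.naturality f

lemma stMap_comp {P Q R : CohB1.PMod X} (f : P ⟶ Q) (g : Q ⟶ R) (z : st x P) :
    stMap (f ≫ g) z = stMap g (stMap f z) := by
  obtain ⟨U, hU, p, rfl⟩ := exists_germ z
  simp only [stMap_germ]
  rfl

lemma stMap_unitSh_bijective (P : CohB1.PMod X) :
    Function.Bijective (stMap (x := x) (unitSh P)) := by
  have := TopCat.Presheaf.stalkFunctor_map_unit_toSheafify_isIso (X := (X : TopCat.{u})) x AddCommGrpCat.{u} P.presheaf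
  exact (ConcreteCategory.isIso_iff_bijective _).1 this

/-- Sheafification preserves stalks. -/
noncomputable def shStalkEquiv (P : CohB1.PMod X) :
    st x P ≃ₗ[Ox x] (DCoh.shP.obj P).presheaf.stalk x :=
  (LinearEquiv.ofBijective (stMap (unitSh P)) (stMap_unitSh_bijective x P)).trans
    (fgtStalkEquiv x _)

lemma shStalkEquiv_natural {P Q : CohB1.PMod X} (f : P ⟶ Q) (z : st x P) :
    StalkModule.stalkMapₗ (DCoh.shP.map f) x (shStalkEquiv x P z) =
      shStalkEquiv x Q (stMap f z) := by
  change stMap (DCoh.toP.map (DCoh.shP.map f)) (stMap (unitSh P) z) = stMap (unitSh Q) (stMap f z)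
  rw [← stMap_comp, ← stMap_comp, unitSh_natural]

/-- `(M ⊗ N)_x ≅ M_x ⊗ N_x`. -/
noncomputable def tensorStalk (M N : X.Modules) :
    ((DCoh.tensorBi.obj M).obj N).presheaf.stalk x ≃ₗ[Ox x]
      M.presheaf.stalk x ⊗[Ox x] N.presheaf.stalk x :=
  (shStalkEquiv x (DCoh.toP.obj M ⊗ DCoh.toP.obj N)).symm.trans
    ((tensorStalkEquiv x _ _).trans
      (TensorProduct.congr (fgtStalkEquiv x M) (fgtStalkEquiv x N)))

lemma tensorStalk_shStalkEquiv (M N : X.Modules) (w : st x (DCoh.toP.obj M ⊗ DCoh.toP.obj N)) :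
    tensorStalk x M N (shStalkEquiv x (DCoh.toP.obj M ⊗ DCoh.toP.obj N) w) =
      TensorProduct.congr (fgtStalkEquiv x M) (fgtStalkEquiv x N)
        (tensorStalkEquiv x _ _ w) :=
  congrArg (fun v => TensorProduct.congr (fgtStalkEquiv x M) (fgtStalkEquiv x N)
    (tensorStalkEquiv x _ _ v))
    ((shStalkEquiv x (DCoh.toP.obj M ⊗ DCoh.toP.obj N)).symm_apply_apply w)

lemma tensorStalk_natural {M M' N N' : X.Modules} (f : M ⟶ M') (g : N ⟶ N')
    (z : ((DCoh.tensorBi.obj M).obj N).presheaf.stalk x) :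
    tensorStalk x M' N' (StalkModule.stalkMapₗ
        ((DCoh.tensorBi.map f).app N ≫ (DCoh.tensorBi.obj M').map g) x z) =
      TensorProduct.map (StalkModule.stalkMapₗ f x) (StalkModule.stalkMapₗ g x)
        (tensorStalk x M N z) := by
  obtain ⟨w, rfl⟩ := (shStalkEquiv x (DCoh.toP.obj M ⊗ DCoh.toP.obj N)).surjective z
  have e : (DCoh.tensorBi.map f).app N ≫ (DCoh.tensorBi.obj M').map g =
      DCoh.shP.map (DCoh.toP.map f ⊗ₘ DCoh.toP.map g) := by
    rw [MonoidalCategory.tensorHom_def, Functor.map_comp]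
    rfl
  have h1 := shStalkEquiv_natural x (DCoh.toP.map f ⊗ₘ DCoh.toP.map g) w
  refine (congrArg (fun φ => tensorStalk x M' N' (StalkModule.stalkMapₗ φ x
    (shStalkEquiv x (DCoh.toP.obj M ⊗ DCoh.toP.obj N) w))) e).trans ?_
  refine ((congrArg (tensorStalk x M' N') h1).trans (tensorStalk_shStalkEquiv x M' N' _)).trans ?_
  refine Eq.trans ?_ (congrArg (TensorProduct.map (StalkModule.stalkMapₗ f x)
    (StalkModule.stalkMapₗ g x)) (tensorStalk_shStalkEquiv x M N w).symm)
  refine (congrArg (TensorProduct.congr (fgtStalkEquiv x M') (fgtStalkEquiv x N'))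
    (tensorStalkEquiv_natural (DCoh.toP.map f) (DCoh.toP.map g) w)).trans ?_
  generalize tensorStalkEquiv x (DCoh.toP.obj M) (DCoh.toP.obj N) w = t
  induction t using TensorProduct.induction_on with
  | zero => simp
  | tmul a b => rfl
  | add t t' h₁ h₂ => simp only [map_add, h₁, h₂]

/-- `N ↦ (M ⊗ N)_x` is `N ↦ M_x ⊗ N_x`. -/
noncomputable def tensorLeftStalkIso (M : X.Modules) :
    DCoh.tensorBi.obj M ⋙ StalkModule.stalkModFunctor X x ≅
      StalkModule.stalkModFunctor X x ⋙
        MonoidalCategory.tensorLeft (ModuleCat.of (Ox x) (M.presheaf.stalk x)) :=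
  NatIso.ofComponents (fun N => (tensorStalk x M N).toModuleIso) (fun {N N'} g => by
    ext z
    have := tensorStalk_natural x (𝟙 M) g z
    rw [CategoryTheory.Functor.map_id, NatTrans.id_app, Category.id_comp,
      StalkModule.stalkMapₗ_id] at this
    exact this)

/-- `M ↦ (M ⊗ N)_x` is `M ↦ M_x ⊗ N_x`. -/
noncomputable def tensorRightStalkIso (N : X.Modules) :
    (DCoh.tensorBi (X := X)).flip.obj N ⋙ StalkModule.stalkModFunctor X x ≅
      StalkModule.stalkModFunctor X x ⋙
        MonoidalCategory.tensorRight (ModuleCat.of (Ox x) (N.presheaf.stalk x)) :=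
  NatIso.ofComponents (fun M => (tensorStalk x M N).toModuleIso) (fun {M M'} f => by
    ext z
    have := tensorStalk_natural x f (𝟙 N) z
    rw [CategoryTheory.Functor.map_id, Category.comp_id, StalkModule.stalkMapₗ_id] at this
    exact this)

end Groth.Agent.Lib.DerivedOX.TensorSheaf
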