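import Mathlib.Algebra.Category.ModuleCat.Monoidal.Closed
import Mathlib.RingTheory.Flat.Basic
import Mathlib.CategoryTheory.Limits.Preserves.Limits
import Mathlib.CategoryTheory.Abelian.GrothendieckCategory.Basic
import Groth.Agent.Lib.DerivedOX.TensorSheaf
import Groth.Agent.Lib.DerivedOX.Grothendieck

/-!
# Exactness of tensor products with flat O_X-modules
-/

set_option linter.style.haveILetI false

universe u

open CategoryTheory Limits AlgebraicGeometry Opposite TopologicalSpace MonoidalCategory
open scoped TensorProduct

namespace Groth.Agent.Lib.DerivedOX.FlatTensor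

open Groth.Agent.Lib.Modules TensorSheaf

variable {X : Scheme.{u}}

/-- A functor to O_X-modules preserves colimits if its composites with all stalk functors do. -/
theorem preservesColimitsOfShape_of_stalk {C : Type*} [Category C] (F : C ⥤ X.Modules)
    {J : Type u} [SmallCategory J] [HasColimitsOfShape J C]
    (h : ∀ x : X, PreservesColimitsOfShape J (F ⋙ StalkModule.stalkModFunctor X x)) :
    PreservesColimitsOfShape J F where
  preservesColimit {K} := by
    suffices IsIso (colimit.post K F) from preservesColimit_of_isIso_post F K
    rw [StalkModule.isIso_iff_stalkMapₗ_bijective]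
    intro x
    haveI := h x
    suffices IsIso ((StalkModule.stalkModFunctor X x).map (colimit.post K F)) from
      (ConcreteCategory.isIso_iff_bijective _).1 this
    have e := colimit.post_post K F (StalkModule.stalkModFunctor X x)
    have : IsIso (colimit.post (K ⋙ F) (StalkModule.stalkModFunctor X x)) := inferInstance
    exact IsIso.of_isIso_fac_left e

instance preservesColimits_tensorLeft_obj (M : X.Modules) :
    PreservesColimitsOfSize.{u, u} ((DCoh.tensorBi (X := X)).obj M) where
  preservesColimitsOfShape {J} _ := preservesColimitsOfShape_of_stalk _ fun x =>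
    preservesColimitsOfShape_of_natIso (tensorLeftStalkIso x M).symm

instance preservesColimits_tensorRight_obj (N : X.Modules) :
    PreservesColimitsOfSize.{u, u} ((DCoh.tensorBi (X := X)).flip.obj N) where
  preservesColimitsOfShape {J} _ := preservesColimitsOfShape_of_stalk _ fun x =>
    haveI : PreservesColimitsOfShape J
        (tensorRight (ModuleCat.of (TensorStalk.Ox x) ↑(N.presheaf.stalk x))) :=
      preservesColimitsOfShape_of_natIso (BraidedCategory.tensorLeftIsoTensorRight _)
    preservesColimitsOfShape_of_natIso (tensorRightStalkIso x N).symm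

instance additive_tensorRight_obj (N : X.Modules) :
    ((DCoh.tensorBi (X := X)).flip.obj N).Additive :=
  ⟨fun {_ _ f g} => congrArg (fun φ => φ.app N) ((DCoh.tensorBi (X := X)).map_add (f := f) (g := g))⟩

theorem mono_tensor_map_of_isFlat {M : X.Modules} (hM : FlatMod.IsFlat M) {N N' : X.Modules}
    (g : N ⟶ N') [Mono g] : Mono ((DCoh.tensorBi.obj M).map g) := by
  rw [StalkModule.mono_iff_stalkMapₗ_injective]
  intro x a b hab
  haveI : Module.Flat (X.presheaf.stalk x) (M.presheaf.stalk x) := hM x
  apply (tensorStalk x M N).injective
  apply Module.Flat.lTensor_preserves_injective_linearMap (StalkModule.stalkMapₗ g x)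
    ((StalkModule.mono_iff_stalkMapₗ_injective g).1 inferInstance x)
  have h : ∀ z, tensorStalk x M N' (StalkModule.stalkMapₗ ((DCoh.tensorBi.obj M).map g) x z) =
      LinearMap.lTensor _ (StalkModule.stalkMapₗ g x) (tensorStalk x M N z) := fun z => by
    have := tensorStalk_natural x (𝟙 M) g z
    rw [CategoryTheory.Functor.map_id, NatTrans.id_app, Category.id_comp,
      StalkModule.stalkMapₗ_id] at this
    exact this
  rw [← h a, ← h b, hab]

theorem mono_flip_map_of_isFlat {N : X.Modules} (hN : FlatMod.IsFlat N) {M M' : X.Modules}
    (f : M ⟶ M') [Mono f] : Mono ((DCoh.tensorBi.map f).app N) := by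
  rw [StalkModule.mono_iff_stalkMapₗ_injective]
  intro x a b hab
  haveI : Module.Flat (X.presheaf.stalk x) (N.presheaf.stalk x) := hN x
  apply (tensorStalk x M N).injective
  apply Module.Flat.rTensor_preserves_injective_linearMap (StalkModule.stalkMapₗ f x)
    ((StalkModule.mono_iff_stalkMapₗ_injective f).1 inferInstance x)
  have h : ∀ z, tensorStalk x M' N (StalkModule.stalkMapₗ ((DCoh.tensorBi.map f).app N) x z) =
      LinearMap.rTensor _ (StalkModule.stalkMapₗ f x) (tensorStalk x M N z) := fun z => by
    have := tensorStalk_natural x f (𝟙 N) z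
    rw [CategoryTheory.Functor.map_id, Category.comp_id, StalkModule.stalkMapₗ_id] at this
    exact this
  rw [← h a, ← h b, hab]

theorem preservesFiniteColimits_tensorLeft (M : X.Modules) :
    PreservesFiniteColimits ((DCoh.tensorBi (X := X)).obj M) :=
  PreservesColimitsOfSize.preservesFiniteColimits _

theorem preservesFiniteLimits_tensorLeft_of_isFlat {M : X.Modules} (hM : FlatMod.IsFlat M) :
    PreservesFiniteLimits ((DCoh.tensorBi (X := X)).obj M) := by
  haveI := preservesFiniteColimits_tensorLeft M
  haveI : ((DCoh.tensorBi (X := X)).obj M).PreservesMonomorphisms :=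
    ⟨fun g _ => mono_tensor_map_of_isFlat hM g⟩
  haveI : ((DCoh.tensorBi (X := X)).obj M).PreservesHomology :=
    Functor.preservesHomology_of_preservesMonos_and_cokernels _
  exact Functor.preservesFiniteLimits_of_preservesHomology _

theorem preservesFiniteLimits_tensorRight_of_isFlat {N : X.Modules} (hN : FlatMod.IsFlat N) :
    PreservesFiniteLimits ((DCoh.tensorBi (X := X)).flip.obj N) := by
  haveI : PreservesFiniteColimits ((DCoh.tensorBi (X := X)).flip.obj N) :=
    PreservesColimitsOfSize.preservesFiniteColimits _
  haveI : ((DCoh.tensorBi (X := X)).flip.obj N).PreservesMonomorphisms :=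
    ⟨fun f _ => mono_flip_map_of_isFlat hN f⟩
  haveI : ((DCoh.tensorBi (X := X)).flip.obj N).PreservesHomology :=
    Functor.preservesHomology_of_preservesMonos_and_cokernels _
  exact Functor.preservesFiniteLimits_of_preservesHomology _

end Groth.Agent.Lib.DerivedOX.FlatTensor
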