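import Mathlib.Algebra.Homology.Double
import Mathlib.Algebra.Homology.HomologicalComplexAbelian
import Mathlib.Algebra.Homology.HomologicalComplexLimits
import Mathlib.Algebra.Homology.QuasiIso
import Mathlib.Algebra.Homology.HomologySequenceLemmas
import Mathlib.CategoryTheory.Preadditive.Injective.Basic
import Mathlib.CategoryTheory.MorphismProperty.LiftingProperty

/-!
# Acyclic monomorphisms of cochain complexes as a left orthogonal class

With enough injectives, a map of complexes is a monomorphism with acyclic cokernel iff it has the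
left lifting property against `disk J n ⟶ 0` and `disk J n ⟶ single n J` for injective `J`.
-/

universe v u

open CategoryTheory Limits
open ZeroObject

set_option linter.style.haveILetI false

namespace Groth.Agent.Lib.DerivedOX.TrivCof

variable {C : Type u} [Category.{v} C] [Abelian C]

lemma rel01 (n : ℤ) : (ComplexShape.up ℤ).Rel n (n + 1) := rfl

/-- The complex `A ⟶ A` (identity) in degrees `n`, `n + 1`. -/
noncomputable abbrev disk (A : C) (n : ℤ) : CochainComplex C ℤ :=
  HomologicalComplex.double (𝟙 A) (rel01 n)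

lemma disk_isZero (A : C) (n k : ℤ) (h₀ : k ≠ n) (h₁ : k ≠ n + 1) : IsZero ((disk A n).X k) :=
  HomologicalComplex.isZero_double_X _ _ k h₀ h₁

/-- The lower end of the disk. -/
noncomputable abbrev diskIso₀ (A : C) (n : ℤ) : (disk A n).X n ≅ A :=
  HomologicalComplex.doubleXIso₀ _ _

/-- The upper end of the disk. -/
noncomputable abbrev diskIso₁ (A : C) (n : ℤ) : (disk A n).X (n + 1) ≅ A :=
  HomologicalComplex.doubleXIso₁ _ _ (by omega)

lemma disk_d (A : C) (n : ℤ) :
    (disk A n).d n (n + 1) = (diskIso₀ A n).hom ≫ (diskIso₁ A n).inv := by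
  rw [HomologicalComplex.double_d _ _ (by omega : n ≠ n + 1)]
  simp [diskIso₀, diskIso₁]

/-- Maps out of a disk are maps out of its lower object. -/
noncomputable def fromDiskEquiv (A : C) (n : ℤ) (K : CochainComplex C ℤ) :
    (disk A n ⟶ K) ≃ (A ⟶ K.X n) :=
  (HomologicalComplex.evalCompCoyonedaCorepresentableByDoubleId (rel01 n) (by omega) A).homEquiv

lemma fromDiskEquiv_apply (A : C) (n : ℤ) (K : CochainComplex C ℤ) (g : disk A n ⟶ K) :
    fromDiskEquiv A n K g = (diskIso₀ A n).inv ≫ g.f n := rfl

lemma fromDiskEquiv_naturality (A : C) (n : ℤ) {K L : CochainComplex C ℤ} (g : disk A n ⟶ K)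
    (φ : K ⟶ L) : fromDiskEquiv A n L (g ≫ φ) = fromDiskEquiv A n K g ≫ φ.f n :=
  (HomologicalComplex.evalCompCoyonedaCorepresentableByDoubleId (rel01 n) (by omega) A).homEquiv_comp φ g

variable (C) in
/-- The disk functor, left adjoint to evaluation. -/
noncomputable def diskFunctor (n : ℤ) : C ⥤ CochainComplex C ℤ :=
  Adjunction.leftAdjointOfEquiv (G := HomologicalComplex.eval C (.up ℤ) n)
    (F_obj := fun A => disk A n) (fun A K => fromDiskEquiv A n K)
    (fun A _ _ φ g => fromDiskEquiv_naturality A n g φ)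

variable (C) in
/-- The disk is left adjoint to evaluation. -/
noncomputable def diskAdj (n : ℤ) : diskFunctor C n ⊣ HomologicalComplex.eval C (.up ℤ) n :=
  Adjunction.adjunctionOfEquivLeft _ _

/-- A map to a disk from a map on the upper object. -/
noncomputable def toDisk {K : CochainComplex C ℤ} {A : C} (n : ℤ) (h : K.X (n + 1) ⟶ A) :
    K ⟶ disk A n where
  f k :=
    if h₀ : k = n then
      K.d k (n + 1) ≫ h ≫ (diskIso₀ A n).inv ≫ eqToHom (by rw [h₀])
    else if h₁ : k = n + 1 then
      eqToHom (by rw [h₁]) ≫ h ≫ (diskIso₁ A n).inv ≫ eqToHom (by rw [h₁])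
    else 0
  comm' k l (hkl : k + 1 = l) := by
    by_cases h₀ : k = n
    · subst h₀
      obtain rfl : l = k + 1 := hkl.symm
      rw [dif_pos rfl, dif_neg (by omega), dif_pos rfl, disk_d]
      simp
    · rw [dif_neg h₀]
      by_cases h₁ : l = n
      · subst h₁
        rw [dif_pos rfl]
        simp [HomologicalComplex.double_d_eq_zero₀ _ _ _ _ h₀]
      · rw [dif_neg h₁]
        by_cases h₂ : l = n + 1
        · omega
        · exact (disk_isZero A n l h₁ h₂).eq_of_tgt _ _

@[simp]
lemma toDisk_f_succ {K : CochainComplex C ℤ} {A : C} (n : ℤ) (h : K.X (n + 1) ⟶ A) :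
    (toDisk n h).f (n + 1) = h ≫ (diskIso₁ A n).inv := by
  simp [toDisk]

lemma toDisk_ext {K : CochainComplex C ℤ} {A : C} {n : ℤ} {φ φ' : K ⟶ disk A n}
    (h : φ.f (n + 1) = φ'.f (n + 1)) : φ = φ' := by
  ext
  · have e₁ := φ.comm n (n + 1)
    have e₂ := φ'.comm n (n + 1)
    haveI : IsIso ((disk A n).d n (n + 1)) := by rw [disk_d]; infer_instance
    rw [← cancel_mono ((disk A n).d n (n + 1)), e₁, e₂, h]
  · exact h

lemma disk_acyclic (A : C) (n : ℤ) : (disk A n).Acyclic := fun k => by
  haveI hd : IsIso ((disk A n).d n (n + 1)) := by rw [disk_d]; infer_instance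
  rw [HomologicalComplex.exactAt_iff' _ (k - 1) k (k + 1) (by simp) (by simp)]
  by_cases h₀ : k = n
  · subst h₀
    exact (ShortComplex.exact_iff_mono _ (HomologicalComplex.double_d_eq_zero₀ _ (rel01 _) _ _
      (by omega))).2 (show Mono ((disk A k).d k (k + 1)) from inferInstance)
  · by_cases h₁ : k = n + 1
    · subst h₁
      refine (ShortComplex.exact_iff_epi _ (HomologicalComplex.double_d_eq_zero₀ _ (rel01 _) _ _
        (by omega))).2 (show Epi ((disk A n).d (n + 1 - 1) (n + 1)) from ?_)
      rw [show n + 1 - 1 = n by omega]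
      infer_instance
    · exact ShortComplex.exact_of_isZero_X₂ _ (disk_isZero A n k h₀ h₁)

/-- The projection of a disk onto its lower object. -/
noncomputable def diskToSingle (A : C) (n : ℤ) :
    disk A n ⟶ (HomologicalComplex.single C (.up ℤ) n).obj A :=
  HomologicalComplex.mkHomToSingle (diskIso₀ A n).hom (fun i hi => by
    simp only [ComplexShape.up_Rel] at hi
    rw [HomologicalComplex.double_d_eq_zero₀ _ _ _ _ (by omega), zero_comp])

variable (C) in
/-- The test maps. -/
def testMaps : MorphismProperty (CochainComplex C ℤ) := fun X Y p =>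
  (∃ (J : C) (n : ℤ) (_ : Injective J) (e : Arrow.mk p ≅ Arrow.mk (0 : disk J n ⟶ 0)), e = e) ∨
  (∃ (J : C) (n : ℤ) (_ : Injective J) (e : Arrow.mk p ≅ Arrow.mk (diskToSingle J n)), e = e)

variable (C) in
/-- Monomorphisms of complexes with acyclic cokernel. -/
def acycMono : MorphismProperty (CochainComplex C ℤ) := fun _ _ i =>
  Mono i ∧ (cokernel i).Acyclic

lemma hasLiftingProperty_zero {A B : CochainComplex C ℤ} (i : A ⟶ B) [Mono i] (J : C) [Injective J]
    (n : ℤ) : HasLiftingProperty i (0 : disk J n ⟶ 0) :=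
  ⟨fun {f g} sq => by
    let h : B.X (n + 1) ⟶ J := Injective.factorThru (f.f (n + 1) ≫ (diskIso₁ J n).hom) (i.f (n + 1))
    exact ⟨⟨{ l := toDisk n h
              fac_left := toDisk_ext (by simp [h])
              fac_right := (isZero_zero _).eq_of_tgt _ _ }⟩⟩⟩

lemma hasLiftingProperty_diskToSingle {A B : CochainComplex C ℤ} (i : A ⟶ B) (hi : acycMono C i)
    (J : C) [Injective J] (n : ℤ) : HasLiftingProperty i (diskToSingle J n) :=
  ⟨fun {f g} sq => by
    haveI := hi.1
    let e := HomologicalComplex.singleObjXSelf (.up ℤ) n J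
    let h₀ : B.X (n + 1) ⟶ J := Injective.factorThru (f.f (n + 1) ≫ (diskIso₁ J n).hom) (i.f (n + 1))
    let u : B.X n ⟶ J := g.f n ≫ e.hom - B.d n (n + 1) ≫ h₀
    have hu : i.f n ≫ u = 0 := by
      have w := congrArg (fun φ => φ.f n ≫ e.hom) sq.w
      simp [diskToSingle, e] at w
      have fc := f.comm n (n + 1)
      rw [disk_d] at fc
      simp only [u, Preadditive.comp_sub, sub_eq_zero, ← i.comm_assoc, h₀, Injective.comp_factorThru,
        ← reassoc_of% fc]
      rw [← w, ← cancel_mono (diskIso₁ J n).inv]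
      simpa using fc
    let π := cokernel.π i
    have hc := isColimitOfPreserves (HomologicalComplex.eval C (.up ℤ) n) (cokernelIsCokernel i)
    haveI : Epi (π.f n) := inferInstance
    obtain ⟨q, hq⟩ : ∃ q : (cokernel i).X n ⟶ J, π.f n ≫ q = u := by
      have hE := (ShortComplex.exact_cokernel i).map (HomologicalComplex.eval C (.up ℤ) n)
      haveI : Epi ((ShortComplex.mk i (cokernel.π i) (cokernel.condition i)).map
          (HomologicalComplex.eval C (.up ℤ) n)).g := inferInstanceAs (Epi (π.f n))
      exact ⟨hE.desc u hu, hE.g_desc u hu⟩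
    have hex := hi.2 n
    rw [HomologicalComplex.exactAt_iff' _ (n - 1) n (n + 1) (by simp) (by simp)] at hex
    have hq0 : (cokernel i).d (n - 1) n ≫ q = 0 := by
      haveI : Epi (π.f (n - 1)) := inferInstance
      rw [← cancel_epi (π.f (n - 1)), π.comm_assoc, hq, comp_zero]
      simp only [u, Preadditive.comp_sub, HomologicalComplex.d_comp_d_assoc, zero_comp, sub_zero]
      rw [← g.comm_assoc]
      simp
    let k : (cokernel i).X (n + 1) ⟶ J := hex.descToInjective q hq0
    have hk : (cokernel i).d n (n + 1) ≫ k = q := hex.comp_descToInjective q hq0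
    refine ⟨⟨{ l := toDisk n (h₀ + π.f (n + 1) ≫ k), fac_left := ?_, fac_right := ?_ }⟩⟩
    · apply toDisk_ext
      have : i.f (n + 1) ≫ π.f (n + 1) = 0 := by
        rw [← HomologicalComplex.comp_f, cokernel.condition, HomologicalComplex.zero_f]
      simp [h₀, Preadditive.comp_add, reassoc_of% this]
    · apply HomologicalComplex.to_single_hom_ext
      rw [← cancel_mono e.hom]
      have e1 : B.d n (n + 1) ≫ π.f (n + 1) ≫ k = u := by
        rw [← π.comm_assoc, hk, hq]
      have e2 : (toDisk n (h₀ + π.f (n + 1) ≫ k)).f n ≫ (diskIso₀ J n).hom =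
          B.d n (n + 1) ≫ (h₀ + π.f (n + 1) ≫ k) := by simp [toDisk]
      simp only [HomologicalComplex.comp_f, Category.assoc, diskToSingle,
        HomologicalComplex.mkHomToSingle_f, Iso.inv_hom_id, Category.comp_id]
      simp only [e, Iso.inv_hom_id, Category.comp_id]
      refine e2.trans ?_
      rw [Preadditive.comp_add, e1]
      simp [u, e]⟩

lemma acycMono_le_llp : acycMono C ≤ (testMaps C).llp := by
  intro A B i hi X Y p hp
  obtain ⟨J, n, hJ, e, -⟩ | ⟨J, n, hJ, e, -⟩ := hp
  · haveI := hi.1
    haveI := hasLiftingProperty_zero i J n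
    exact HasLiftingProperty.of_arrow_iso_right i e.symm
  · haveI := hasLiftingProperty_diskToSingle i hi J n
    exact HasLiftingProperty.of_arrow_iso_right i e.symm

theorem acycMono_eq_llp [EnoughInjectives C] : acycMono C = (testMaps C).llp := by
  refine le_antisymm acycMono_le_llp ?_
  intro A B i hi
  have hdz : ∀ (J : C) [Injective J] (n : ℤ), HasLiftingProperty i (0 : disk J n ⟶ 0) :=
    fun J hJ n => hi _ (Or.inl ⟨J, n, hJ, Iso.refl _, rfl⟩)
  have hds : ∀ (J : C) [Injective J] (n : ℤ), HasLiftingProperty i (diskToSingle J n) :=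
    fun J hJ n => hi _ (Or.inr ⟨J, n, hJ, Iso.refl _, rfl⟩)
  constructor
  · have hf : ∀ m, Mono (i.f m) := by
      intro m
      obtain ⟨n, rfl⟩ : ∃ n, m = n + 1 := ⟨m - 1, by omega⟩
      haveI := hdz (Injective.under (A.X (n + 1))) n
      have sq : CommSq (toDisk n (Injective.ι (A.X (n + 1)))) i
          (0 : disk (Injective.under (A.X (n + 1))) n ⟶ 0) 0 := ⟨by simp⟩
      have h := congrArg (fun φ => φ.f (n + 1)) sq.fac_left
      simp only [HomologicalComplex.comp_f, toDisk_f_succ] at h
      haveI : Mono (Injective.ι (A.X (n + 1)) ≫ (diskIso₁ (Injective.under (A.X (n + 1))) n).inv) :=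
        mono_comp _ _
      exact mono_of_mono_fac h
    exact HomologicalComplex.mono_of_mono_f i hf
  · intro n
    rw [HomologicalComplex.exactAt_iff' _ (n - 1) n (n + 1) (by simp) (by simp)]
    rw [ShortComplex.exact_iff_mono_fromOpcycles]
    set S := (cokernel i).sc' (n - 1) n (n + 1)
    let J := Injective.under S.opcycles
    let g : cokernel i ⟶ (HomologicalComplex.single C (.up ℤ) n).obj J :=
      HomologicalComplex.mkHomToSingle (S.pOpcycles ≫ Injective.ι S.opcycles) (fun j hj => by
        obtain rfl : j = n - 1 := by simp only [ComplexShape.up_Rel] at hj; omega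
        exact S.f_pOpcycles_assoc _ |>.trans zero_comp)
    haveI := hds J n
    have sq : CommSq (0 : A ⟶ disk J n) i (diskToSingle J n) (cokernel.π i ≫ g) := ⟨by simp⟩
    let l : cokernel i ⟶ disk J n := cokernel.desc i sq.lift sq.fac_left
    have hl : l ≫ diskToSingle J n = g := by
      rw [← cancel_epi (cokernel.π i)]
      simp [l]
    have h1 := congrArg (fun φ => φ.f n ≫ (HomologicalComplex.singleObjXSelf (.up ℤ) n J).hom) hl
    simp [diskToSingle, g] at h1
    have h2 := l.comm n (n + 1)
    rw [disk_d] at h2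
    have key : S.fromOpcycles ≫ l.f (n + 1) ≫ (diskIso₁ J n).hom = Injective.ι S.opcycles := by
      rw [← cancel_epi S.pOpcycles, ShortComplex.p_fromOpcycles_assoc]
      refine Eq.trans ?_ h1
      change (cokernel i).d n (n + 1) ≫ _ = _
      have h3 := congrArg (fun φ => φ ≫ (diskIso₁ J n).hom) h2.symm
      simp only [Category.assoc, Iso.inv_hom_id, Category.comp_id] at h3
      exact h3
    exact mono_of_mono_fac key

lemma quasiIso_of_acycMono {A B : CochainComplex C ℤ} {i : A ⟶ B} (hi : acycMono C i) :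
    QuasiIso i := by
  haveI := hi.1
  have hS : (ShortComplex.mk _ _ (cokernel.condition i)).ShortExact :=
    { exact := ShortComplex.exact_cokernel i }
  refine ⟨fun n => ?_⟩
  rw [quasiIsoAt_iff_isIso_homologyMap]
  have h₀ := (hi.2 (n - 1)).isZero_homology
  have h₁ := (hi.2 n).isZero_homology
  haveI : Mono (HomologicalComplex.homologyMap i n) :=
    (hS.homology_exact₁ (n - 1) n (by simp)).mono_g (h₀.eq_of_src _ _)
  haveI : Epi (HomologicalComplex.homologyMap i n) :=
    (hS.homology_exact₂ n).epi_f (h₁.eq_of_tgt _ _)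
  exact isIso_of_mono_of_epi _

end Groth.Agent.Lib.DerivedOX.TrivCof
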