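import Mathlib.Algebra.Homology.GrothendieckAbelian
import Mathlib.CategoryTheory.Abelian.GrothendieckCategory.EnoughInjectives
import Mathlib.CategoryTheory.LiftingProperties.Adjunction
import Mathlib.CategoryTheory.Adjunction.AdjointFunctorTheorems
import Groth.Agent.Lib.DerivedOX.TrivCof

/-!
# Functorial left resolutions of complexes in a Grothendieck abelian category

Given a small separating family `G`, the small object argument on the maps `0 ⟶ disk (G i) n` and
`single (n+1) (G i) ⟶ disk (G i) n` gives a functorial epimorphic quasi-isomorphism `P K ⟶ K`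
with `0 ⟶ P K` in the class `cof G`.
-/

universe v u

open CategoryTheory Limits MorphismProperty
open IsGrothendieckAbelian
open ZeroObject

set_option linter.style.haveILetI false

namespace Groth.Agent.Lib.DerivedOX.LeftRes

open TrivCof

variable {C : Type u} [Category.{v} C] [Abelian C]

/-- The upper end of a disk, as a subcomplex. -/
noncomputable def singleToDisk (A : C) (n : ℤ) :
    (HomologicalComplex.single C (.up ℤ) (n + 1)).obj A ⟶ disk A n :=
  HomologicalComplex.mkHomFromSingle (diskIso₁ A n).inv (fun j hj => by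
    simp only [ComplexShape.up_Rel] at hj
    rw [HomologicalComplex.double_d_eq_zero₁ _ _ _ _ (by omega), comp_zero])

instance mono_singleToDisk (A : C) (n : ℤ) : Mono (singleToDisk A n) := by
  apply HomologicalComplex.mono_of_mono_f
  intro m
  by_cases h : m = n + 1
  · subst h
    simp [singleToDisk]
    infer_instance
  · exact ⟨fun _ _ _ => (HomologicalComplex.isZero_single_obj_X _ _ _ _ h).eq_of_tgt _ _⟩

variable {ι : Type v} (G : ι → C)

/-- The domain of a generating cofibration. -/
noncomputable def genDom : (ι × ℤ) ⊕ (ι × ℤ) → CochainComplex C ℤ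
  | Sum.inl _ => 0
  | Sum.inr a => (HomologicalComplex.single C (.up ℤ) (a.2 + 1)).obj (G a.1)

/-- The codomain of a generating cofibration. -/
noncomputable def genCod : (ι × ℤ) ⊕ (ι × ℤ) → CochainComplex C ℤ
  | Sum.inl a => disk (G a.1) a.2
  | Sum.inr a => disk (G a.1) a.2

/-- The generating cofibrations. -/
noncomputable def genMap : ∀ a, genDom G a ⟶ genCod G a
  | Sum.inl _ => 0
  | Sum.inr a => singleToDisk (G a.1) a.2

/-- The generating cofibrations. -/
noncomputable def genCof : MorphismProperty (CochainComplex C ℤ) := ofHoms (genMap G)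

lemma mono_genMap (a) : Mono (genMap G a) := by
  cases a with
  | inl a => exact ⟨fun _ _ _ => (isZero_zero _).eq_of_tgt _ _⟩
  | inr a => exact mono_singleToDisk _ _

lemma genCof_le_monomorphisms : genCof G ≤ monomorphisms _ := by
  rintro _ _ _ ⟨a⟩
  exact mono_genMap G a

instance isSmall_genCof : MorphismProperty.IsSmall.{v} (genCof G) := by
  dsimp [genCof]
  infer_instance

variable [IsGrothendieckAbelian.{v} C]

instance hasSmallObjectArgument_genCof : HasSmallObjectArgument.{v} (genCof G) := by
  obtain ⟨κ, hκ', hκ⟩ := HasCardinalLT.exists_regular_cardinal.{v}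
    (Σ a, Subobject (genDom G a))
  have : Fact κ.IsRegular := ⟨hκ'⟩
  have : Nonempty κ.ord.ToType := by simpa using hκ'.ne_zero
  have := WellFoundedLT.toOrderBot κ.ord.ToType
  exact ⟨κ, inferInstance, inferInstance,
    { preservesColimit {A B X Y} i hi f hf := by
        let hf' : (monomorphisms (CochainComplex C ℤ)).TransfiniteCompositionOfShape κ.ord.ToType f :=
          { toTransfiniteCompositionOfShape := hf.toTransfiniteCompositionOfShape
            map_mem j hj := by
              have := (hf.attachCells j hj).pushouts_coproducts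
              simp only [ofHoms_homFamily] at this
              refine (?_ : _ ≤ monomorphisms _) _ this
              simp only [pushouts_le_iff, coproducts_le_iff]
              exact genCof_le_monomorphisms G }
        have (j j' : κ.ord.ToType) (φ : j ⟶ j') : Mono (hf'.F.map φ) := hf'.mem_map φ
        apply preservesColimit_coyoneda_obj_of_mono (Y := hf'.F) (κ := κ)
        obtain ⟨a⟩ := hi
        exact hκ.of_injective (fun s => (⟨a, s⟩ : Σ a, Subobject (genDom G a)))
          (fun s t h => by simpa using h) }⟩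

/-- Colimit preserving functors out of a Grothendieck abelian category are left adjoints. -/
theorem isLeftAdjoint_of_preservesColimits {D : Type*} [Category.{v} D]
    {E : Type*} [Category.{v} E] [Abelian E] [IsGrothendieckAbelian.{v} E] (F : E ⥤ D)
    [PreservesColimits F] : F.IsLeftAdjoint :=
  isLeftAdjoint_of_preservesColimits_of_isSeparating (isSeparator_separator E) F

/-- The class of maps built from generating cofibrations. -/
noncomputable abbrev cof : MorphismProperty (CochainComplex C ℤ) := (genCof G).rlp.llp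

variable {G}

section

variable (hG : ObjectProperty.IsSeparating (ObjectProperty.ofObj G))
include hG

omit [IsGrothendieckAbelian.{v} C] in
lemma epi_of_forall_lift {A B : C} (p : A ⟶ B)
    (h : ∀ (i : ι) (g : G i ⟶ B), ∃ l : G i ⟶ A, l ≫ p = g) : Epi p := by
  refine Preadditive.epi_of_cancel_zero _ fun {Z} g hg => hG _ _ ?_
  rintro _ ⟨i⟩ k
  obtain ⟨l, rfl⟩ := h i k
  simp [hg]

omit [IsGrothendieckAbelian.{v} C] in
theorem epi_quasiIso_of_rlp {P K : CochainComplex C ℤ} (p : P ⟶ K) (hp : (genCof G).rlp p) :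
    (∀ n, Epi (p.f n)) ∧ QuasiIso p := by
  have hepi : ∀ n, Epi (p.f n) := fun n => epi_of_forall_lift hG _ fun i g => by
    haveI : HasLiftingProperty (0 : (0 : CochainComplex C ℤ) ⟶ disk (G i) n) p :=
      hp _ ⟨Sum.inl (i, n)⟩
    have sq : CommSq (0 : 0 ⟶ P) (0 : (0 : CochainComplex C ℤ) ⟶ disk (G i) n) p
        ((fromDiskEquiv (G i) n K).symm g) := ⟨by simp⟩
    refine ⟨fromDiskEquiv (G i) n P sq.lift, ?_⟩
    rw [← fromDiskEquiv_naturality, sq.fac_right, Equiv.apply_symm_apply]
  refine ⟨hepi, ?_⟩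
  haveI : Epi p := HomologicalComplex.epi_of_epi_f p hepi
  have hS : (ShortComplex.mk _ _ (kernel.condition p)).ShortExact :=
    { exact := ShortComplex.exact_kernel p }
  have hker : (kernel p).Acyclic := by
    intro m
    obtain ⟨n, rfl⟩ : ∃ n, m = n + 1 := ⟨m - 1, by omega⟩
    rw [HomologicalComplex.exactAt_iff' _ n (n + 1) (n + 1 + 1) (by simp) (by simp),
      ShortComplex.exact_iff_epi_toCycles]
    set S := (kernel p).sc' n (n + 1) (n + 1 + 1)
    refine epi_of_forall_lift hG _ fun i g => ?_
    have hz : (g ≫ S.iCycles) ≫ (kernel p).d (n + 1) (n + 1 + 1) = 0 :=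
      (Category.assoc _ _ _).trans ((congrArg (g ≫ ·) S.iCycles_g).trans comp_zero)
    let z : (HomologicalComplex.single C (.up ℤ) (n + 1)).obj (G i) ⟶ kernel p :=
      HomologicalComplex.mkHomFromSingle (g ≫ S.iCycles) (fun j hj => by
        obtain rfl : j = n + 1 + 1 := by simp only [ComplexShape.up_Rel] at hj; omega
        exact hz)
    haveI : HasLiftingProperty (singleToDisk (G i) n) p := hp _ ⟨Sum.inr (i, n)⟩
    have sq : CommSq (z ≫ kernel.ι p) (singleToDisk (G i) n) p (0 : disk (G i) n ⟶ K) :=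
      ⟨by simp⟩
    let l : disk (G i) n ⟶ kernel p := kernel.lift p sq.lift (by simp)
    have hl : singleToDisk (G i) n ≫ l = z := by
      rw [← cancel_mono (kernel.ι p)]
      simp [l]
    have h1 := congrArg (fun φ => (HomologicalComplex.singleObjXSelf (.up ℤ) (n + 1) (G i)).inv ≫
      φ.f (n + 1)) hl
    simp [singleToDisk, z] at h1
    have h2 := l.comm n (n + 1)
    rw [disk_d] at h2
    refine ⟨(diskIso₀ (G i) n).inv ≫ l.f n, ?_⟩
    rw [← cancel_mono S.iCycles, Category.assoc, ShortComplex.toCycles_i]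
    change ((diskIso₀ (G i) n).inv ≫ l.f n) ≫ (kernel p).d n (n + 1) = _
    rw [Category.assoc, h2]
    refine Eq.trans ?_ h1
    simp
  refine ⟨fun n => ?_⟩
  rw [quasiIsoAt_iff_isIso_homologyMap]
  haveI : Mono (HomologicalComplex.homologyMap p n) :=
    (hS.homology_exact₂ n).mono_g ((hker n).isZero_homology.eq_of_src _ _)
  haveI : Epi (HomologicalComplex.homologyMap p n) :=
    (hS.homology_exact₃ n (n + 1) rfl).epi_f ((hker (n + 1)).isZero_homology.eq_of_tgt _ _)
  exact isIso_of_mono_of_epi _

end

variable (G) in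
/-- The functorial factorization of `0 ⟶ K`. -/
noncomputable def factor : FunctorialFactorizationData (cof G) (genCof G).rlp :=
  functorialFactorizationData _ _

variable (C) in
/-- `K ↦ (0 ⟶ K)`. -/
@[simps]
noncomputable def zeroArrow : CochainComplex C ℤ ⥤ Arrow (CochainComplex C ℤ) where
  obj K := Arrow.mk (0 : 0 ⟶ K)
  map φ := Arrow.homMk (𝟙 _) φ (by simp)

variable (G) in
/-- The functorial resolution. -/
noncomputable def resolution : CochainComplex C ℤ ⥤ CochainComplex C ℤ :=
  zeroArrow C ⋙ (factor G).Z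

variable (G) in
/-- The augmentation of the functorial resolution. -/
noncomputable def augmentation : resolution G ⟶ 𝟭 (CochainComplex C ℤ) :=
  Functor.whiskerLeft (zeroArrow C) (factor G).p

theorem augmentation_rlp (K : CochainComplex C ℤ) :
    (genCof G).rlp ((augmentation G).app K) :=
  (factor G).hp (Arrow.mk (0 : 0 ⟶ K))

theorem cof_resolution (K : CochainComplex C ℤ) :
    cof G (0 : 0 ⟶ (resolution G).obj K) := by
  have h := (factor G).hi (Arrow.mk (0 : 0 ⟶ K))
  rwa [show (factor G).i.app (Arrow.mk (0 : 0 ⟶ K)) = 0 from (isZero_zero _).eq_of_src _ _] at h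

omit [IsGrothendieckAbelian.{v} C] in
/-- Left adjoints carry `cof G` into any left orthogonal class containing the generators' images. -/
theorem cof_le_inverseImage {D : Type*} [Category D] (F : CochainComplex C ℤ ⥤ D)
    (R : D ⥤ CochainComplex C ℤ) (adj : F ⊣ R) (T : MorphismProperty D)
    (h : ∀ a, T.llp (F.map (genMap G a))) : cof G ≤ T.llp.inverseImage F := by
  intro A B i hi X Y p hp
  rw [adj.hasLiftingProperty_iff]
  apply hi
  rintro _ _ _ ⟨a⟩
  rw [← adj.hasLiftingProperty_iff]
  exact h a p hp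

omit [IsGrothendieckAbelian.{v} C] in
lemma genMap_f_cases (a : (ι × ℤ) ⊕ (ι × ℤ)) (n : ℤ) :
    IsIso ((genMap G a).f n) ∨ IsZero ((genCod G a).X n) ∨
      (IsZero ((genDom G a).X n) ∧ ∃ i, Nonempty ((genCod G a).X n ≅ G i)) := by
  rcases a with ⟨i, m⟩ | ⟨i, m⟩
  · by_cases h₀ : n = m
    · subst h₀
      exact Or.inr (Or.inr ⟨(HomologicalComplex.eval C (.up ℤ) n).map_isZero (isZero_zero _),
        i, ⟨diskIso₀ _ _⟩⟩)
    · by_cases h₁ : n = m + 1
      · subst h₁
        exact Or.inr (Or.inr ⟨(HomologicalComplex.eval C (.up ℤ) _).map_isZero (isZero_zero _),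
          i, ⟨diskIso₁ _ _⟩⟩)
      · exact Or.inr (Or.inl (disk_isZero _ _ _ h₀ h₁))
  · by_cases h₁ : n = m + 1
    · subst h₁
      left
      simp [genMap, singleToDisk]
      exact (HomologicalComplex.singleObjXSelf (.up ℤ) (m + 1) (G i) ≪≫ (diskIso₁ (G i) m).symm).isIso_hom
    · by_cases h₀ : n = m
      · subst h₀
        exact Or.inr (Or.inr ⟨HomologicalComplex.isZero_single_obj_X _ _ _ _ h₁, i, ⟨diskIso₀ _ _⟩⟩)
      · exact Or.inr (Or.inl (disk_isZero _ _ _ h₀ h₁))

/-- Each term of a cofibrant complex is a retract of a coproduct of generators. -/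
theorem exists_retract_of_cof (hG : ObjectProperty.IsSeparating (ObjectProperty.ofObj G))
    (P : CochainComplex C ℤ) (hP : cof G (0 : 0 ⟶ P)) (n : ℤ) :
    Nonempty (Retract (P.X n) (∐ fun a : (Σ i, G i ⟶ P.X n) => G a.1)) := by
  let q : (∐ fun a : (Σ i, G i ⟶ P.X n) => G a.1) ⟶ P.X n := Sigma.desc fun a => a.2
  haveI : Epi q := epi_of_forall_lift hG q fun i g =>
    ⟨Sigma.ι (fun a : (Σ i, G i ⟶ P.X n) => G a.1) ⟨i, g⟩, by simp [q]⟩
  -- maps out of a generator lift through `q`
  let T : MorphismProperty C := fun _ _ p => ∀ (i : ι) (g : G i ⟶ _), ∃ l, l ≫ p = g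
  have key : cof G ≤ T.llp.inverseImage (HomologicalComplex.eval C (.up ℤ) n) := by
    haveI : PreservesColimitsOfSize.{v, v} (HomologicalComplex.eval C (.up ℤ) n) :=
      ⟨fun {J} _ => inferInstance⟩
    haveI : (HomologicalComplex.eval C (.up ℤ) n).IsLeftAdjoint :=
      isLeftAdjoint_of_preservesColimits (HomologicalComplex.eval C (.up ℤ) n)
    refine cof_le_inverseImage _ _ (Adjunction.ofIsLeftAdjoint _) T fun a X Y p hp => ?_
    rcases genMap_f_cases (G := G) a n with h | h | ⟨h, i, ⟨e⟩⟩
    · haveI : IsIso ((HomologicalComplex.eval C (.up ℤ) n).map (genMap G a)) := h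
      exact ⟨fun sq => inferInstance⟩
    · haveI : Mono ((genMap G a).f n) := by
        haveI := mono_genMap G a
        infer_instance
      haveI : IsIso ((HomologicalComplex.eval C (.up ℤ) n).map (genMap G a)) :=
        ⟨0, (IsZero.of_mono ((genMap G a).f n) h).eq_of_src _ _, h.eq_of_src _ _⟩
      exact ⟨fun sq => inferInstance⟩
    · refine ⟨fun {f g} sq => ?_⟩
      obtain ⟨l, hl⟩ := hp i (e.inv ≫ g)
      exact ⟨⟨{ l := e.hom ≫ l, fac_left := h.eq_of_src _ _, fac_right := (Category.assoc _ _ _).trans ((congrArg (e.hom ≫ ·) hl).trans (e.hom_inv_id_assoc g)) }⟩⟩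
  haveI : HasLiftingProperty ((0 : 0 ⟶ P).f n) q :=
    key _ hP q fun i g => ⟨Sigma.ι (fun a : (Σ i, G i ⟶ P.X n) => G a.1) ⟨i, g⟩, by simp [q]⟩
  have sq : CommSq (0 : (0 : CochainComplex C ℤ).X n ⟶ _) ((0 : 0 ⟶ P).f n) q (𝟙 (P.X n)) :=
    ⟨by simp⟩
  exact ⟨⟨sq.lift, q, sq.fac_right⟩⟩

end Groth.Agent.Lib.DerivedOX.LeftRes
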