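import Mathlib.Algebra.Homology.HomotopyCategory.KProjective
import Mathlib.Algebra.Homology.HomotopyCategory.Pretriangulated
import Mathlib.Algebra.Homology.DerivedCategory.Basic
import Mathlib.CategoryTheory.Adjunction.Additive
import Groth.Agent.Lib.DerivedOX.LeftRes

/-!
# Left adjoints with projective values on generators send cofibrant complexes to K-projectives
-/

universe v u u'

open CategoryTheory Limits HomologicalComplex
open ZeroObject

set_option linter.style.haveILetI false

namespace Groth.Agent.Lib.DerivedOX.CofProj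

open TrivCof LeftRes

variable {D : Type u'} [Category.{v} D] [Abelian D]

/-- Degreewise epimorphic quasi-isomorphisms. -/
def epiQis : MorphismProperty (CochainComplex D ℤ) := fun _ _ p => (∀ n, Epi (p.f n)) ∧ QuasiIso p

lemma acyclic_kernel {A B : CochainComplex D ℤ} {p : A ⟶ B} (hp : epiQis p) :
    (kernel p).Acyclic := by
  obtain ⟨hepi, hq⟩ := hp
  haveI : Epi p := HomologicalComplex.epi_of_epi_f p hepi
  have hS : (ShortComplex.mk _ _ (kernel.condition p)).ShortExact :=
    { exact := ShortComplex.exact_kernel p }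
  intro m
  rw [exactAt_iff_isZero_homology]
  have h1 : HomologicalComplex.homologyMap (kernel.ι p) m = 0 := by
    rw [← cancel_mono (HomologicalComplex.homologyMap p m), zero_comp,
      ← HomologicalComplex.homologyMap_comp, kernel.condition, HomologicalComplex.homologyMap_zero]
  have h2 : hS.δ (m - 1) m (by simp) = 0 := by
    rw [← cancel_epi (HomologicalComplex.homologyMap p (m - 1)), comp_zero]
    exact hS.comp_δ (m - 1) m (by simp)
  exact (hS.homology_exact₁ (m - 1) m (by simp)).isZero_X₂ h2 h1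

/-- Maps out of disks and spheres on projectives lift against degreewise epi quasi-isomorphisms. -/
theorem hasLiftingProperty_singleToDisk (P : D) [Projective P] (n : ℤ) {A B : CochainComplex D ℤ}
    (p : A ⟶ B) (hp : epiQis p) : HasLiftingProperty (singleToDisk P n) p :=
  ⟨fun {f g} sq => by
    haveI := hp.1 n
    let a : P ⟶ A.X (n + 1) := (singleObjXSelf (.up ℤ) (n + 1) P).inv ≫ f.f (n + 1)
    let b : P ⟶ B.X n := fromDiskEquiv P n B g
    let c₀ : P ⟶ A.X n := Projective.factorThru b (p.f n)
    have hda : a ≫ A.d (n + 1) (n + 1 + 1) = 0 := by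
      simp only [a, Category.assoc, f.comm]
      simp
    have hpa : a ≫ p.f (n + 1) = (diskIso₁ P n).inv ≫ g.f (n + 1) := by
      have w := congrArg (fun φ => φ.f (n + 1)) sq.w
      simp only [HomologicalComplex.comp_f] at w
      simp only [a, Category.assoc, w]
      simp [singleToDisk]
    have hdb : b ≫ B.d n (n + 1) = a ≫ p.f (n + 1) := by
      rw [hpa]
      simp only [b, fromDiskEquiv_apply, Category.assoc, g.comm, disk_d]
      simp
    let e : P ⟶ A.X (n + 1) := a - c₀ ≫ A.d n (n + 1)
    have hpe : e ≫ p.f (n + 1) = 0 := by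
      simp only [e, Preadditive.sub_comp, Category.assoc, ← p.comm]
      simp only [c₀, Projective.factorThru_comp_assoc, hdb, sub_self]
    have hker := (ShortComplex.exact_kernel p).map (eval D (.up ℤ) (n + 1))
    haveI hmono : Mono ((kernel.ι p).f (n + 1)) := inferInstance
    haveI : Mono ((ShortComplex.mk _ _ (kernel.condition p)).map (eval D (.up ℤ) (n + 1))).f := hmono
    let e' : P ⟶ (kernel p).X (n + 1) := hker.lift e hpe
    have he' : e' ≫ (kernel.ι p).f (n + 1) = e := hker.lift_f e hpe
    have hde' : e' ≫ (kernel p).d (n + 1) (n + 1 + 1) = 0 := by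
      haveI : Mono ((kernel.ι p).f (n + 1 + 1)) := inferInstance
      rw [← cancel_mono ((kernel.ι p).f (n + 1 + 1)), zero_comp, Category.assoc, ← Hom.comm,
        reassoc_of% he']
      simp only [e, Preadditive.sub_comp, Category.assoc, d_comp_d, comp_zero, hda, sub_zero]
    have hex := acyclic_kernel hp (n + 1)
    rw [exactAt_iff' _ n (n + 1) (n + 1 + 1) (by simp) (by simp)] at hex
    let k : P ⟶ (kernel p).X n := hex.liftFromProjective e' hde'
    have hk : k ≫ (kernel p).d n (n + 1) = e' := hex.liftFromProjective_comp e' hde'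
    let c : P ⟶ A.X n := c₀ + k ≫ (kernel.ι p).f n
    have hc₁ : c ≫ A.d n (n + 1) = a := by
      simp only [c, Preadditive.add_comp, Category.assoc, Hom.comm, reassoc_of% hk, he', e]
      abel
    have hc₀ : c ≫ p.f n = b := by
      have : (kernel.ι p).f n ≫ p.f n = 0 := by
        rw [← HomologicalComplex.comp_f, kernel.condition, zero_f]
      simp [c, c₀, this]
    refine ⟨⟨{ l := (fromDiskEquiv P n A).symm c, fac_left := ?_, fac_right := ?_ }⟩⟩
    · apply HomologicalComplex.from_single_hom_ext
      have h := ((fromDiskEquiv P n A).symm c).comm n (n + 1)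
      rw [disk_d] at h
      have hl : fromDiskEquiv P n A ((fromDiskEquiv P n A).symm c) = c := Equiv.apply_symm_apply _ _
      rw [fromDiskEquiv_apply] at hl
      rw [← cancel_epi (singleObjXSelf (.up ℤ) (n + 1) P).inv]
      have h' := congrArg ((diskIso₀ P n).inv ≫ ·) h
      simp only [reassoc_of% hl, hc₁, Category.assoc, Iso.inv_hom_id_assoc] at h'
      simp [singleToDisk, ← h', a]
    · apply (fromDiskEquiv P n B).injective
      rw [fromDiskEquiv_naturality, Equiv.apply_symm_apply]
      exact hc₀⟩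

theorem hasLiftingProperty_zero_disk (P : D) [Projective P] (n : ℤ) {A B : CochainComplex D ℤ}
    (p : A ⟶ B) (hp : epiQis p) :
    HasLiftingProperty (0 : (0 : CochainComplex D ℤ) ⟶ disk P n) p :=
  ⟨fun {f g} sq => by
    haveI := hp.1 n
    refine ⟨⟨{ l := (fromDiskEquiv P n A).symm (Projective.factorThru (fromDiskEquiv P n B g) (p.f n))
               fac_left := (isZero_zero _).eq_of_src _ _
               fac_right := ?_ }⟩⟩
    apply (fromDiskEquiv P n B).injective
    rw [fromDiskEquiv_naturality, Equiv.apply_symm_apply, Projective.factorThru_comp]⟩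

variable {C : Type u} [Category.{v} C] [Abelian C] (F : C ⥤ D) [F.Additive]

/-- The comparison of disks. -/
noncomputable def mapDiskHom (A : C) (n : ℤ) :
    disk (F.obj A) n ⟶ (F.mapHomologicalComplex (.up ℤ)).obj (disk A n) :=
  (fromDiskEquiv (F.obj A) n ((F.mapHomologicalComplex (.up ℤ)).obj (disk A n))).symm
    (show F.obj A ⟶ ((F.mapHomologicalComplex (.up ℤ)).obj (disk A n)).X n from
      F.map (diskIso₀ A n).inv)

lemma mapDiskHom_f (A : C) (n : ℤ) :
    (diskIso₀ (F.obj A) n).inv ≫ (mapDiskHom F A n).f n = F.map (diskIso₀ A n).inv :=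
  (fromDiskEquiv_apply _ _ _ _).symm.trans
    (Equiv.apply_symm_apply (fromDiskEquiv (F.obj A) n _) _)

lemma mapDiskHom_f_succ (A : C) (n : ℤ) :
    (diskIso₁ (F.obj A) n).inv ≫ (mapDiskHom F A n).f (n + 1) = F.map (diskIso₁ A n).inv := by
  have h := congrArg ((diskIso₀ (F.obj A) n).inv ≫ ·) ((mapDiskHom F A n).comm n (n + 1))
  rw [disk_d] at h
  have h2 : (diskIso₀ (F.obj A) n).inv ≫ (mapDiskHom F A n).f n ≫ F.map ((disk A n).d n (n + 1)) =
      F.map (diskIso₁ A n).inv := by
    refine ((Category.assoc _ _ _).symm.trans (congrArg (· ≫ F.map ((disk A n).d n (n + 1)))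
      (mapDiskHom_f F A n))).trans ?_
    rw [← F.map_comp, disk_d, Iso.inv_hom_id_assoc]
  refine Eq.trans ?_ h2
  refine Eq.trans ?_ h.symm
  simp

lemma isIso_mapDiskHom_f (A : C) (n m : ℤ) : IsIso ((mapDiskHom F A n).f m) := by
  by_cases h₀ : m = n
  · subst h₀
    exact @IsIso.of_isIso_fac_left _ _ _ _ _ _ _ _ (diskIso₀ (F.obj A) m).isIso_inv
      (F.mapIso (diskIso₀ A m).symm).isIso_hom (mapDiskHom_f F A m)
  · by_cases h₁ : m = n + 1
    · subst h₁
      exact @IsIso.of_isIso_fac_left _ _ _ _ _ _ _ _ (diskIso₁ (F.obj A) n).isIso_inv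
        (F.mapIso (diskIso₁ A n).symm).isIso_hom (mapDiskHom_f_succ F A n)
    · exact ⟨0, (disk_isZero _ _ _ h₀ h₁).eq_of_src _ _,
        (F.map_isZero (disk_isZero _ _ _ h₀ h₁)).eq_of_src _ _⟩

/-- An additive functor maps disks to disks. -/
noncomputable def mapDiskIso (A : C) (n : ℤ) :
    disk (F.obj A) n ≅ (F.mapHomologicalComplex (.up ℤ)).obj (disk A n) :=
  haveI : ∀ m, IsIso ((mapDiskHom F A n).f m) := isIso_mapDiskHom_f F A n
  haveI := HomologicalComplex.Hom.isIso_of_components (mapDiskHom F A n)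
  asIso (mapDiskHom F A n)

lemma mapDiskIso_hom_f_succ (A : C) (n : ℤ) :
    (diskIso₁ (F.obj A) n).inv ≫ (mapDiskIso F A n).hom.f (n + 1) = F.map (diskIso₁ A n).inv :=
  mapDiskHom_f_succ F A n

/-- Left adjoints with projective values on the generators send cofibrant complexes to K-projective
complexes. -/
theorem isKProjective_map_of_cof [IsGrothendieckAbelian.{v} C] {ι : Type v} (G : ι → C)
    [PreservesColimitsOfSize.{v, v} F] (hF : ∀ i, Projective (F.obj (G i)))
    {P : CochainComplex C ℤ} (hP : cof G (0 : 0 ⟶ P)) :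
    CochainComplex.IsKProjective ((F.mapHomologicalComplex (.up ℤ)).obj P) := by
  let Φ := F.mapHomologicalComplex (ComplexShape.up ℤ)
  haveI : PreservesColimitsOfSize.{v, v} Φ := ⟨fun {J} _ =>
    HomologicalComplex.preservesColimitsOfShape_of_eval _ fun i =>
      preservesColimitsOfShape_of_natIso
        (NatIso.ofComponents (fun _ => Iso.refl _) (fun _ => (Category.comp_id _).trans
          (Category.id_comp _).symm) : eval C (.up ℤ) i ⋙ F ≅ Φ ⋙ eval D (.up ℤ) i)⟩
  haveI := isLeftAdjoint_of_preservesColimits Φ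
  have hgen : ∀ a, (epiQis (D := D)).llp (Φ.map (genMap G a)) := by
    rintro (⟨i, n⟩ | ⟨i, n⟩) A B p hp <;> haveI := hF i
    · haveI := hasLiftingProperty_zero_disk (F.obj (G i)) n p hp
      exact HasLiftingProperty.of_arrow_iso_left
        (Arrow.isoMk ((Φ.map_isZero (isZero_zero _)).iso (isZero_zero _)).symm (mapDiskIso F (G i) n)
          ((isZero_zero _).eq_of_src _ _) :
          Arrow.mk (0 : (0 : CochainComplex D ℤ) ⟶ disk (F.obj (G i)) n) ≅
            Arrow.mk (Φ.map (genMap G (Sum.inl (i, n))))) p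
    · haveI := hasLiftingProperty_singleToDisk (F.obj (G i)) n p hp
      refine HasLiftingProperty.of_arrow_iso_left
        (Arrow.isoMk ((HomologicalComplex.singleMapHomologicalComplex F (.up ℤ) (n + 1)).app (G i)).symm
          (mapDiskIso F (G i) n) ?_ :
          Arrow.mk (singleToDisk (F.obj (G i)) n) ≅ Arrow.mk (Φ.map (genMap G (Sum.inr (i, n))))) p
      apply HomologicalComplex.from_single_hom_ext
      have hinv : ((HomologicalComplex.singleMapHomologicalComplex F (.up ℤ) (n + 1)).inv.app
          (G i)).f (n + 1) = (singleObjXSelf (.up ℤ) (n + 1) (F.obj (G i))).hom ≫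
            F.map (singleObjXSelf (.up ℤ) (n + 1) (G i)).inv := by
        simp <;> rfl
      refine (congrArg (· ≫ (Φ.map (genMap G (Sum.inr (i, n)))).f (n + 1)) hinv).trans ?_
      refine Eq.trans ?_ (Eq.trans
        (congrArg ((singleObjXSelf (.up ℤ) (n + 1) (F.obj (G i))).hom ≫ ·)
          (mapDiskIso_hom_f_succ F (G i) n)).symm ?_)
      · refine (Category.assoc _ _ _).trans (congrArg (_ ≫ ·) ?_)
        change F.map _ ≫ F.map ((singleToDisk (G i) n).f (n + 1)) = _
        rw [← F.map_comp]
        simp [singleToDisk]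
      · change _ = (singleToDisk (F.obj (G i)) n).f (n + 1) ≫ (mapDiskIso F (G i) n).hom.f (n + 1)
        simp [singleToDisk]
  have hP' := cof_le_inverseImage Φ Φ.rightAdjoint (Adjunction.ofIsLeftAdjoint Φ) epiQis hgen _ hP
  have null : ∀ (Z L : CochainComplex D ℤ) (π : Z ⟶ L), epiQis π → Nonempty (Homotopy (𝟙 Z) 0) →
      ∀ g : Φ.obj P ⟶ L, Nonempty (Homotopy g 0) := by
    intro Z L π hπ hZ g
    obtain ⟨h⟩ := hZ
    haveI : HasLiftingProperty (Φ.map (0 : 0 ⟶ P)) π := hP' π hπ
    have sq : CommSq (0 : Φ.obj (0 : CochainComplex C ℤ) ⟶ Z) (Φ.map (0 : 0 ⟶ P)) π g :=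
      ⟨(Φ.map_isZero (isZero_zero _)).eq_of_src _ _⟩
    refine ⟨(Homotopy.ofEq sq.fac_right.symm).trans (((Homotopy.ofEq (by simp)).trans
      ((h.compLeft sq.lift).compRight π)).trans (Homotopy.ofEq (by simp)))⟩
  refine ⟨fun {L} f hL => ?_⟩
  -- `L = A⟦1⟧` receives a degreewise epi quasi-isomorphism from a contractible complex
  let A := L⟦(-1 : ℤ)⟧
  let e : A⟦(1 : ℤ)⟧ ≅ L := (shiftEquiv (CochainComplex D ℤ) (1 : ℤ)).counitIso.app L
  let Z := CochainComplex.mappingCone (𝟙 A)
  let π : Z ⟶ L := (CochainComplex.mappingCone.triangle (𝟙 A)).mor₃ ≫ e.hom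
  have hZ : Homotopy (𝟙 Z) 0 := CochainComplex.mappingCone.homotopyToZeroOfId A
  have hZ' : Z.Acyclic := fun m => by
    rw [exactAt_iff_isZero_homology, IsZero.iff_id_eq_zero, ← homologyMap_id, hZ.homologyMap_eq,
      homologyMap_zero]
  refine null Z L π ⟨fun m => ?_, ⟨fun m => ?_⟩⟩ ⟨hZ⟩ f
  · have h₁ : Epi (((CochainComplex.mappingCone.triangle (𝟙 A)).mor₃).f m) := by
      have hs : IsSplitEpi (((CochainComplex.mappingCone.triangle (𝟙 A)).mor₃).f m) :=
        IsSplitEpi.mk' ⟨-(CochainComplex.mappingCone.inl (𝟙 A)).v (m + 1) m (by omega), by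
          simp [CochainComplex.mappingCone.triangle, CochainComplex.HomComplex.Cochain.rightShift_v]
          erw [Category.comp_id, Preadditive.neg_comp, Preadditive.comp_neg, neg_neg,
            CochainComplex.mappingCone.inl_v_fst_v]
          rfl⟩
      obtain ⟨⟨se⟩⟩ := hs
      exact ⟨fun g h e => by rw [← Category.id_comp g, ← Category.id_comp h, ← se.id, Category.assoc, Category.assoc, e]⟩
    have h₂ : Epi (e.hom.f m) := inferInstance
    exact @epi_comp _ _ _ _ _ _ h₁ _ h₂
  · rw [quasiIsoAt_iff_isIso_homologyMap]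
    exact ⟨0, (hZ' m).isZero_homology.eq_of_src _ _, (hL m).isZero_homology.eq_of_src _ _⟩

/-- Additive functors send quasi-isomorphisms between K-projective complexes to quasi-isomorphisms. -/
theorem quasiIso_map_of_isKProjective [HasDerivedCategory D] {E : Type*} [Category E] [Abelian E]
    (H : D ⥤ E) [H.Additive] {P Q : CochainComplex D ℤ} (f : P ⟶ Q) [QuasiIso f] [P.IsKProjective]
    [Q.IsKProjective] : QuasiIso ((H.mapHomologicalComplex (.up ℤ)).map f) := by
  let q := HomotopyCategory.quotient D (.up ℤ)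
  have hW : (HomotopyCategory.subcategoryAcyclic D).trW (q.map f) := by
    rw [← HomotopyCategory.quasiIso_eq_trW_subcategoryAcyclic,
      HomotopyCategory.quotient_map_mem_quasiIso_iff, HomologicalComplex.mem_quasiIso_iff]
    infer_instance
  obtain ⟨Z, g, h, hT, hZ⟩ := hW
  have hZ' := ObjectProperty.ext_of_isTriangulatedClosed₃
    (HomotopyCategory.subcategoryAcyclic D).leftOrthogonal _ hT
    (CochainComplex.IsKProjective.leftOrthogonal P) (CochainComplex.IsKProjective.leftOrthogonal Q)
  have : IsIso (q.map f) := (Pretriangulated.Triangle.isZero₃_iff_isIso₁ _ hT).1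
    ((IsZero.iff_id_eq_zero _).2 (hZ' _ hZ))
  let e := HomotopyCategory.homotopyEquivOfIso (asIso (q.map f))
  haveI hqe : QuasiIso (H.mapHomotopyEquiv e).hom := inferInstance
  refine ⟨fun m => ?_⟩
  rw [quasiIsoAt_iff_isIso_homologyMap,
    (H.mapHomotopy (HomotopyCategory.homotopyOfEq f e.hom
      (by simp [e, q, HomotopyCategory.homotopyEquivOfIso]
          exact (HomotopyCategory.quotient_map_out _).symm))).homologyMap_eq m]
  exact (quasiIsoAt_iff_isIso_homologyMap _ m).1 (hqe.quasiIsoAt m)

end Groth.Agent.Lib.DerivedOX.CofProj
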