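import Mathlib.Algebra.Homology.BifunctorFlip
import Mathlib.Algebra.Homology.BifunctorHomotopy
import Mathlib.Algebra.Homology.QuasiIso
import Mathlib.CategoryTheory.Abelian.GrothendieckAxioms.Colim
import Mathlib.CategoryTheory.Abelian.Basic
import Mathlib.CategoryTheory.Functor.Category
import Mathlib.Algebra.Homology.HomologicalComplexLimits
import Mathlib.CategoryTheory.Limits.Preserves.FunctorCategory
import Mathlib.CategoryTheory.Limits.Shapes.Countable

/-!
# The total complex bifunctor preserves colimits in each variable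
-/

universe w w'

open CategoryTheory Limits HomologicalComplex

set_option linter.style.haveILetI false

namespace Groth.Agent.Lib.DerivedOX.Bifunctor

section

variable {C₁ C₂ D : Type*} [Category C₁] [Category C₂] [Category D]
  [HasZeroMorphisms C₁] [HasZeroMorphisms C₂] [Preadditive D]
  (F : C₁ ⥤ C₂ ⥤ D) [F.PreservesZeroMorphisms] [∀ X₁, (F.obj X₁).PreservesZeroMorphisms]
  [∀ (K₁ : CochainComplex C₁ ℤ) (K₂ : CochainComplex C₂ ℤ), HasMapBifunctor K₁ K₂ F (.up ℤ)]

/-- The index set of the summands in degree `n`. -/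
abbrev Fib (n : ℤ) : Type :=
  (ComplexShape.π (ComplexShape.up ℤ) (ComplexShape.up ℤ) (ComplexShape.up ℤ)) ⁻¹' {n}

/-- The summands of the total complex, as a functor of the second variable. -/
noncomputable def summands₂ (K : CochainComplex C₁ ℤ) (n : ℤ) :
    CochainComplex C₂ ℤ ⥤ (Discrete (Fib n) ⥤ D) where
  obj L := Discrete.functor fun s => (F.obj (K.X s.1.1)).obj (L.X s.1.2)
  map φ := Discrete.natTrans fun s => (F.obj (K.X s.as.1.1)).map (φ.f s.as.1.2)

/-- The summands of the total complex, as a functor of the first variable. -/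
noncomputable def summands₁ (L : CochainComplex C₂ ℤ) (n : ℤ) :
    CochainComplex C₁ ℤ ⥤ (Discrete (Fib n) ⥤ D) where
  obj K := Discrete.functor fun s => (F.obj (K.X s.1.1)).obj (L.X s.1.2)
  map φ := Discrete.natTrans fun s => (F.map (φ.f s.as.1.1)).app (L.X s.as.1.2)

variable [∀ n : ℤ, HasColimitsOfShape (Discrete (Fib n)) D]

/-- Degree `n` of the total complex, as a functor of the second variable. -/
noncomputable def objCompEvalIso (K : CochainComplex C₁ ℤ) (n : ℤ) :
    F.map₂CochainComplex.obj K ⋙ eval D (.up ℤ) n ≅ summands₂ F K n ⋙ colim :=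
  NatIso.ofComponents (fun _ => Iso.refl _) (fun {L L'} φ => by
    refine (Category.comp_id _).trans (Eq.trans ?_ (Category.id_comp _).symm)
    apply mapBifunctor.hom_ext
    intro p q h
    refine (ι_mapBifunctorMap (𝟙 K) φ F (.up ℤ) p q n h).trans ?_
    refine Eq.trans ?_ (ι_colimMap ((summands₂ F K n).map φ) ⟨⟨(p, q), h⟩⟩).symm
    simp only [HomologicalComplex.id_f, F.map_id, NatTrans.id_app, Category.id_comp]
    rfl)

/-- Degree `n` of the total complex, as a functor of the first variable. -/
noncomputable def flipObjCompEvalIso (L : CochainComplex C₂ ℤ) (n : ℤ) :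
    F.map₂CochainComplex.flip.obj L ⋙ eval D (.up ℤ) n ≅ summands₁ F L n ⋙ colim :=
  NatIso.ofComponents (fun _ => Iso.refl _) (fun {K K'} φ => by
    refine (Category.comp_id _).trans (Eq.trans ?_ (Category.id_comp _).symm)
    apply mapBifunctor.hom_ext
    intro p q h
    refine (ι_mapBifunctorMap φ (𝟙 L) F (.up ℤ) p q n h).trans ?_
    refine Eq.trans ?_ (ι_colimMap ((summands₁ F L n).map φ) ⟨⟨(p, q), h⟩⟩).symm
    exact congrArg ((F.map (φ.f p)).app (L.X q) ≫ ·)
      ((congrArg (· ≫ _) ((F.obj (K'.X p)).map_id (L.X q))).trans (Category.id_comp _)))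

variable {J : Type w} [Category.{w'} J]

/-- The total complex preserves colimits in the second variable. -/
theorem preservesColimitsOfShape_obj [HasColimitsOfShape J C₂] [∀ X, PreservesColimitsOfShape J (F.obj X)]
    (K : CochainComplex C₁ ℤ) : PreservesColimitsOfShape J (F.map₂CochainComplex.obj K) := by
  refine preservesColimitsOfShape_of_eval _ fun n => ?_
  haveI : PreservesColimitsOfShape J (summands₂ F K n) :=
    preservesColimitsOfShape_of_evaluation _ _ fun s =>
      preservesColimitsOfShape_of_natIso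
        (NatIso.ofComponents (fun _ => Iso.refl _) : eval C₂ (.up ℤ) s.as.1.2 ⋙ F.obj (K.X s.as.1.1) ≅ _)
  exact preservesColimitsOfShape_of_natIso (objCompEvalIso F K n).symm

/-- The total complex preserves colimits in the first variable. -/
theorem preservesColimitsOfShape_flip_obj [HasColimitsOfShape J C₁] [∀ Y, PreservesColimitsOfShape J (F.flip.obj Y)]
    (L : CochainComplex C₂ ℤ) : PreservesColimitsOfShape J (F.map₂CochainComplex.flip.obj L) := by
  refine preservesColimitsOfShape_of_eval _ fun n => ?_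
  haveI : PreservesColimitsOfShape J (summands₁ F L n) :=
    preservesColimitsOfShape_of_evaluation _ _ fun s =>
      preservesColimitsOfShape_of_natIso
        (NatIso.ofComponents (fun _ => Iso.refl _) : eval C₁ (.up ℤ) s.as.1.1 ⋙ F.flip.obj (L.X s.as.1.2) ≅ _)
  exact preservesColimitsOfShape_of_natIso (flipObjCompEvalIso F L n).symm

omit [∀ n : ℤ, HasColimitsOfShape (Discrete (Fib n)) D] in
/-- The total complex is zero on the zero map in the second variable. -/
lemma obj_map_zero (K : CochainComplex C₁ ℤ) (L L' : CochainComplex C₂ ℤ) :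
    (F.map₂CochainComplex.obj K).map (0 : L ⟶ L') = 0 := by
  ext n
  apply mapBifunctor.hom_ext
  intro p q h
  refine (ι_mapBifunctorMap (𝟙 K) (0 : L ⟶ L') F (.up ℤ) p q n h).trans (Eq.trans ?_ comp_zero.symm)
  simp

omit [∀ n : ℤ, HasColimitsOfShape (Discrete (Fib n)) D] in
/-- The total complex is zero on the zero map in the first variable. -/
lemma map_zero_app (K K' : CochainComplex C₁ ℤ) (L : CochainComplex C₂ ℤ) :
    (F.map₂CochainComplex.map (0 : K ⟶ K')).app L = 0 := by
  ext n
  apply mapBifunctor.hom_ext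
  intro p q h
  refine (ι_mapBifunctorMap (0 : K ⟶ K') (𝟙 L) F (.up ℤ) p q n h).trans (Eq.trans ?_ comp_zero.symm)
  simp


end

section Abelian

variable {C₁ C₂ D : Type*} [Category C₁] [Category C₂] [Category D]
  [Abelian C₁] [Abelian C₂] [Abelian D]
  (F : C₁ ⥤ C₂ ⥤ D) [F.Additive] [∀ X₁, (F.obj X₁).Additive]
  [∀ (K₁ : CochainComplex C₁ ℤ) (K₂ : CochainComplex C₂ ℤ), HasMapBifunctor K₁ K₂ F (.up ℤ)]
  [∀ n : ℤ, HasColimitsOfShape (Discrete (Fib n)) D]

/-- Homotopic maps in the second variable give homotopic maps of total complexes. -/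
noncomputable def homotopy₂ (K : CochainComplex C₁ ℤ) {L L' : CochainComplex C₂ ℤ} {f g : L ⟶ L'}
    (h : Homotopy f g) :
    Homotopy ((F.map₂CochainComplex.obj K).map f) ((F.map₂CochainComplex.obj K).map g) :=
  mapBifunctorMapHomotopy₂ (𝟙 K) h F (.up ℤ)

/-- Homotopic maps in the first variable give homotopic maps of total complexes. -/
noncomputable def homotopy₁ {K K' : CochainComplex C₁ ℤ} {f g : K ⟶ K'} (h : Homotopy f g)
    (L : CochainComplex C₂ ℤ) :
    Homotopy ((F.map₂CochainComplex.map f).app L) ((F.map₂CochainComplex.map g).app L) :=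
  mapBifunctorMapHomotopy₁ h (𝟙 L) F (.up ℤ)

omit [∀ n : ℤ, HasColimitsOfShape (Discrete (Fib n)) D] in
/-- A complex whose identity is null-homotopic is acyclic. -/
lemma acyclic_of_homotopy_zero {E : CochainComplex D ℤ} (h : Homotopy (𝟙 E) 0) : E.Acyclic :=
  fun n => by
    rw [exactAt_iff_isZero_homology, IsZero.iff_id_eq_zero, ← homologyMap_id,
      h.homologyMap_eq, homologyMap_zero]

omit [∀ n : ℤ, HasColimitsOfShape (Discrete (Fib n)) D] in
/-- Tensoring with a contractible complex gives an acyclic complex. -/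
lemma acyclic_obj_of_homotopy_zero (K : CochainComplex C₁ ℤ) {L : CochainComplex C₂ ℤ}
    (h : Homotopy (𝟙 L) 0) : ((F.map₂CochainComplex.obj K).obj L).Acyclic :=
  acyclic_of_homotopy_zero (((Homotopy.ofEq ((F.map₂CochainComplex.obj K).map_id L).symm).trans
    (homotopy₂ F K h)).trans (Homotopy.ofEq (obj_map_zero F K L L)))

omit [∀ n : ℤ, HasColimitsOfShape (Discrete (Fib n)) D] in
/-- Tensoring with a contractible complex gives an acyclic complex. -/
lemma acyclic_flip_obj_of_homotopy_zero {K : CochainComplex C₁ ℤ} (h : Homotopy (𝟙 K) 0)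
    (L : CochainComplex C₂ ℤ) : ((F.map₂CochainComplex.obj K).obj L).Acyclic :=
  acyclic_of_homotopy_zero (((Homotopy.ofEq ((F.map₂CochainComplex.flip.obj L).map_id K).symm).trans
    (homotopy₁ F h L)).trans (Homotopy.ofEq (map_zero_app F K K L)))

variable [∀ n : ℤ, (colim : (Discrete (Fib n) ⥤ D) ⥤ D).PreservesMonomorphisms]

/-- The total complex of a map which is summandwise monic is monic. -/
theorem mono_obj_map (K : CochainComplex C₁ ℤ) {L L' : CochainComplex C₂ ℤ} (f : L ⟶ L')
    (h : ∀ p q, Mono ((F.obj (K.X p)).map (f.f q))) : Mono ((F.map₂CochainComplex.obj K).map f) := by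
  refine mono_of_mono_f _ fun n => ?_
  haveI : ∀ s, Mono (((summands₂ F K n).map f).app s) := fun s => h s.as.1.1 s.as.1.2
  haveI := NatTrans.mono_of_mono_app ((summands₂ F K n).map f)
  haveI : Mono (colim.map ((summands₂ F K n).map f)) := inferInstance
  have e := (objCompEvalIso F K n).hom.naturality f
  refine (MorphismProperty.arrow_mk_iso_iff (MorphismProperty.monomorphisms D)
    (Arrow.isoMk ((objCompEvalIso F K n).app _) ((objCompEvalIso F K n).app _) e.symm)).2 this

/-- The total complex of a map which is summandwise monic is monic. -/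
theorem mono_map_app {K K' : CochainComplex C₁ ℤ} (f : K ⟶ K') (L : CochainComplex C₂ ℤ)
    (h : ∀ p q, Mono ((F.map (f.f p)).app (L.X q))) : Mono ((F.map₂CochainComplex.map f).app L) := by
  refine mono_of_mono_f _ fun n => ?_
  haveI : ∀ s, Mono (((summands₁ F L n).map f).app s) := fun s => h s.as.1.1 s.as.1.2
  haveI := NatTrans.mono_of_mono_app ((summands₁ F L n).map f)
  haveI : Mono (colim.map ((summands₁ F L n).map f)) := inferInstance
  have e := (flipObjCompEvalIso F L n).hom.naturality f
  refine (MorphismProperty.arrow_mk_iso_iff (MorphismProperty.monomorphisms D)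
    (Arrow.isoMk ((flipObjCompEvalIso F L n).app _) ((flipObjCompEvalIso F L n).app _) e.symm)).2 this

omit [∀ n : ℤ, (colim : (Discrete (Fib n) ⥤ D) ⥤ D).PreservesMonomorphisms]

section Single

variable (K : CochainComplex C₁ ℤ) (n : ℤ) (B : C₂)

/-- The only nonzero summand of the total complex of `K` and `B` in degree `n`. -/
noncomputable def singleHom₂ (m p : ℤ) (h : p + n = m) :
    (F.obj (K.X p)).obj B ⟶ (mapBifunctor K ((single C₂ (.up ℤ) n).obj B) F (.up ℤ)).X m :=
  (F.obj (K.X p)).map (singleObjXSelf (.up ℤ) n B).inv ≫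
    ιMapBifunctor K ((single C₂ (.up ℤ) n).obj B) F (.up ℤ) p n m h

omit [∀ n : ℤ, HasColimitsOfShape (Discrete (Fib n)) D] in
lemma isIso_singleHom₂ (m p : ℤ) (h : p + n = m) : IsIso (singleHom₂ F K n B m p h) := by
  refine ⟨mapBifunctorDesc (fun a b hab => if hb : b = n then
      (F.obj (K.X a)).map (eqToHom (by rw [hb]) ≫ (singleObjXSelf (.up ℤ) n B).hom) ≫
        eqToHom (by rw [show a = p by change a + b = m at hab; omega]) else 0), ?_, ?_⟩
  · simp [singleHom₂, ← Functor.map_comp]
  · apply mapBifunctor.hom_ext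
    intro a b hab
    rw [ι_mapBifunctorDesc_assoc, Category.comp_id]
    by_cases hb : b = n
    · obtain rfl : a = p := by change a + b = m at hab; omega
      subst hb
      simp [singleHom₂, ← Functor.map_comp_assoc]
    · exact ((F.obj (K.X a)).map_isZero (isZero_single_obj_X (.up ℤ) n B b hb)).eq_of_src _ _

omit [∀ n : ℤ, HasColimitsOfShape (Discrete (Fib n)) D] in
lemma singleHom₂_d (m m' p p' : ℤ) (h : p + n = m) (h' : p' + n = m') (hm : m + 1 = m') :
    singleHom₂ F K n B m p h ≫ (mapBifunctor K ((single C₂ (.up ℤ) n).obj B) F (.up ℤ)).d m m' =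
      (F.map (K.d p p')).app B ≫ singleHom₂ F K n B m' p' h' := by
  have hp : (ComplexShape.up ℤ).Rel p p' := by simp; omega
  rw [singleHom₂, singleHom₂, mapBifunctor.d_eq, Category.assoc, Preadditive.comp_add,
    mapBifunctor.ι_D₁, mapBifunctor.ι_D₂, mapBifunctor.d₁_eq _ _ _ _ hp n m' h',
    mapBifunctor.d₂_eq' K ((single C₂ (.up ℤ) n).obj B) F (.up ℤ) p (rfl : (ComplexShape.up ℤ).Rel n (n + 1)) m']
  simp

omit [∀ n : ℤ, HasColimitsOfShape (Discrete (Fib n)) D] in
/-- Tensoring with a one-term complex: acyclicity. -/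
theorem acyclic_obj_single (hK : (((F.flip.obj B).mapHomologicalComplex (.up ℤ)).obj K).Acyclic) :
    ((F.map₂CochainComplex.obj K).obj ((single C₂ (.up ℤ) n).obj B)).Acyclic := fun m => by
  have hex := hK (m - n)
  rw [exactAt_iff' _ (m - n - 1) (m - n) (m - n + 1) (by simp) (by simp)] at hex
  rw [exactAt_iff' _ (m - 1) m (m + 1) (by simp) (by simp)]
  haveI := isIso_singleHom₂ F K n B (m - 1) (m - n - 1) (by omega)
  haveI := isIso_singleHom₂ F K n B m (m - n) (by omega)
  haveI := isIso_singleHom₂ F K n B (m + 1) (m - n + 1) (by omega)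
  refine ShortComplex.exact_of_iso ?_ hex
  have h₁ : m - n - 1 + n = m - 1 := by omega
  have h₂ : m - n + n = m := by omega
  have h₃ : m - n + 1 + n = m + 1 := by omega
  haveI e₁ := isIso_singleHom₂ F K n B (m - 1) (m - n - 1) h₁
  exact ShortComplex.isoMk (@asIso _ _ _ _ (singleHom₂ F K n B (m - 1) (m - n - 1) h₁) e₁)
    (@asIso _ _ _ _ (singleHom₂ F K n B m (m - n) h₂) (isIso_singleHom₂ F K n B m (m - n) h₂))
    (@asIso _ _ _ _ (singleHom₂ F K n B (m + 1) (m - n + 1) h₃)
      (isIso_singleHom₂ F K n B (m + 1) (m - n + 1) h₃))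
    (singleHom₂_d F K n B _ _ _ _ h₁ h₂ (by omega)) (singleHom₂_d F K n B _ _ _ _ h₂ h₃ (by omega))

end Single

section Single₁

variable (A : C₁) (n : ℤ) (L : CochainComplex C₂ ℤ)

/-- The only nonzero summand of the total complex of `A` in degree `n` and `L`. -/
noncomputable def singleHom₁ (m q : ℤ) (h : n + q = m) :
    (F.obj A).obj (L.X q) ⟶ (mapBifunctor ((single C₁ (.up ℤ) n).obj A) L F (.up ℤ)).X m :=
  (F.map (singleObjXSelf (.up ℤ) n A).inv).app (L.X q) ≫
    ιMapBifunctor ((single C₁ (.up ℤ) n).obj A) L F (.up ℤ) n q m h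

omit [∀ n : ℤ, HasColimitsOfShape (Discrete (Fib n)) D] in
lemma isIso_singleHom₁ (m q : ℤ) (h : n + q = m) : IsIso (singleHom₁ F A n L m q h) := by
  refine ⟨mapBifunctorDesc (fun a b hab => if ha : a = n then
      (F.map (eqToHom (by rw [ha]) ≫ (singleObjXSelf (.up ℤ) n A).hom)).app (L.X b) ≫
        eqToHom (by rw [show b = q by change a + b = m at hab; omega]) else 0), ?_, ?_⟩
  · simp [singleHom₁, ← NatTrans.comp_app, ← Functor.map_comp]
  · apply mapBifunctor.hom_ext
    intro a b hab
    rw [ι_mapBifunctorDesc_assoc, Category.comp_id]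
    by_cases ha : a = n
    · obtain rfl : b = q := by change a + b = m at hab; omega
      subst ha
      simp [singleHom₁, ← NatTrans.comp_app_assoc, ← Functor.map_comp]
    · exact ((F.map_isZero (isZero_single_obj_X (.up ℤ) n A a ha)).obj _).eq_of_src _ _

omit [∀ n : ℤ, HasColimitsOfShape (Discrete (Fib n)) D] in
lemma singleHom₁_d (m m' q q' : ℤ) (h : n + q = m) (h' : n + q' = m') (hm : m + 1 = m') :
    singleHom₁ F A n L m q h ≫ (mapBifunctor ((single C₁ (.up ℤ) n).obj A) L F (.up ℤ)).d m m' =
      n.negOnePow • ((F.obj A).map (L.d q q') ≫ singleHom₁ F A n L m' q' h') := by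
  have hq : (ComplexShape.up ℤ).Rel q q' := by simp; omega
  rw [singleHom₁, singleHom₁, mapBifunctor.d_eq, Category.assoc, Preadditive.comp_add,
    mapBifunctor.ι_D₁, mapBifunctor.ι_D₂, mapBifunctor.d₂_eq _ _ _ _ n hq m' h',
    mapBifunctor.d₁_eq' ((single C₁ (.up ℤ) n).obj A) L F (.up ℤ) (rfl : (ComplexShape.up ℤ).Rel n (n + 1)) q m']
  simp [ComplexShape.ε₂]

omit [∀ n : ℤ, HasColimitsOfShape (Discrete (Fib n)) D] in
/-- Tensoring a one-term complex with an acyclic complex. -/
theorem acyclic_single_obj (hL : (((F.obj A).mapHomologicalComplex (.up ℤ)).obj L).Acyclic) :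
    ((F.map₂CochainComplex.obj ((single C₁ (.up ℤ) n).obj A)).obj L).Acyclic := fun m => by
  have hex := hL (m - n)
  rw [exactAt_iff' _ (m - n - 1) (m - n) (m - n + 1) (by simp) (by simp)] at hex
  rw [exactAt_iff' _ (m - 1) m (m + 1) (by simp) (by simp)]
  haveI := isIso_singleHom₁ F A n L (m - 1) (m - n - 1) (by omega)
  haveI := isIso_singleHom₁ F A n L m (m - n) (by omega)
  haveI := isIso_singleHom₁ F A n L (m + 1) (m - n + 1) (by omega)
  refine ShortComplex.exact_of_iso ?_ hex
  have h₁ : n + (m - n - 1) = m - 1 := by omega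
  have h₂ : n + (m - n) = m := by omega
  have h₃ : n + (m - n + 1) = m + 1 := by omega
  refine ShortComplex.isoMk
    (n.negOnePow • (@asIso _ _ _ _ (singleHom₁ F A n L (m - 1) (m - n - 1) h₁)
      (isIso_singleHom₁ F A n L (m - 1) (m - n - 1) h₁)))
    (@asIso _ _ _ _ (singleHom₁ F A n L m (m - n) h₂) (isIso_singleHom₁ F A n L m (m - n) h₂))
    (n.negOnePow • (@asIso _ _ _ _ (singleHom₁ F A n L (m + 1) (m - n + 1) h₃)
      (isIso_singleHom₁ F A n L (m + 1) (m - n + 1) h₃))) ?_ ?_
  · refine (Linear.units_smul_comp ..).trans ((congrArg (n.negOnePow • ·)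
      (singleHom₁_d F A n L _ _ _ _ h₁ h₂ (by omega))).trans ?_)
    simp [smul_smul]
    rfl
  · refine (singleHom₁_d F A n L _ _ _ _ h₂ h₃ (by omega)).trans ?_
    exact (Linear.comp_units_smul ..).symm

end Single₁

end Abelian

end Groth.Agent.Lib.DerivedOX.Bifunctor
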