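import Mathlib.RingTheory.Flat.EquationalCriterion
import Mathlib.Algebra.Category.ModuleCat.Presheaf.Free
import Groth.Agent.Lib.DerivedOX.FlatTensor

/-!
# Flat generators of the category of O_X-modules

`gen U` is the sheafification of the free presheaf of modules on `yoneda U` (that is, `j_! O_U`).
-/

universe u

open CategoryTheory Limits AlgebraicGeometry Opposite TopologicalSpace MonoidalCategory

namespace Groth.Agent.Lib.DerivedOX.FlatGen

open TensorStalk TensorSheaf
open Groth.Agent.Lib.TensorMod.Whisker (res)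

variable {X : Scheme.{u}} {x : X}

lemma res_sum {P : CohB1.PMod X} {U V : X.Opens} (h : V ≤ U) {ι : Type*} (s : Finset ι)
    (p : ι → P.obj (op U)) :
    res P (homOfLE h).op (∑ i ∈ s, p i) = ∑ i ∈ s, res P (homOfLE h).op (p i) := by
  classical
  induction s using Finset.induction_on with
  | empty => simp [TensorMod.Whisker.res_zero]
  | insert a s ha ih =>
    rw [Finset.sum_insert ha, Finset.sum_insert ha, TensorMod.Whisker.res_add, ih]

lemma germ_sum {P : CohB1.PMod X} {U : X.Opens} (hx : x ∈ U) {ι : Type*} (s : Finset ι)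
    (p : ι → P.obj (op U)) : germ hx (∑ i ∈ s, p i) = ∑ i ∈ s, germ hx (p i) :=
  map_sum (TopCat.Presheaf.germ P.presheaf U x hx).hom p s

/-- Restriction of scalars. -/
noncomputable abbrev resR {U V : X.Opens} (h : V ≤ U) (r : RU U) : RU V :=
  (X.sheaf.obj.map (homOfLE h).op r :)

lemma rgerm_res {U V : X.Opens} (h : V ≤ U) (hx : x ∈ V) (r : RU U) :
    rgerm hx (resR h r) = rgerm (h hx) r :=
  TopCat.Presheaf.germ_res_apply X.presheaf (homOfLE h) x hx _

lemma exists_common {P : CohB1.PMod X} {l : ℕ} (f : Fin l → Ox x) (a : Fin l → st x P) :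
    ∃ (U : X.Opens) (hx : x ∈ U) (r : Fin l → RU U) (p : Fin l → P.obj (op U)),
      (∀ i, rgerm hx (r i) = f i) ∧ ∀ i, germ hx (p i) = a i := by
  choose U hU r p q hr hp hq using fun i => exists_rgerm₂ (f i) (a i) (a i)
  refine ⟨Finset.univ.inf U, ?_, fun i => resR (Finset.inf_le (Finset.mem_univ i)) (r i),
    fun i => res P (homOfLE (Finset.inf_le (Finset.mem_univ i))).op (p i), fun i => ?_, fun i => ?_⟩
  · exact Finset.inf_induction (p := fun V : X.Opens => x ∈ V) trivial (fun V hV W hW => ⟨hV, hW⟩)
      fun i _ => hU i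
  · rw [rgerm_res]; exact hr i
  · rw [germ_res]; exact hp i

/-- The stalk of a presheaf of modules with flat sections is flat. -/
theorem flat_st {P : CohB1.PMod X} (hP : ∀ U : X.Opens, Module.Flat (RU U) (P.obj (op U))) :
    Module.Flat (Ox x) (st x P) := by
  rw [Module.Flat.iff_forall_isTrivialRelation]
  intro l f a h
  obtain ⟨U, hx, r, p, hr, hp⟩ := exists_common f a
  have h0 : germ hx (∑ i, r i • p i) = germ hx (0 : P.obj (op U)) := by
    refine ((germ_sum hx _ _).trans ?_).trans
      (map_zero (TopCat.Presheaf.germ P.presheaf U x hx).hom).symm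
    refine Eq.trans (Finset.sum_congr rfl fun i _ => ?_) h
    exact (germ_smul hx (r i) (p i)).trans (congrArg₂ (· • ·) (hr i) (hp i))
  obtain ⟨W, hW, i, j, e⟩ := TopCat.Presheaf.germ_eq P.presheaf x hx hx _ _ h0
  have e' : res P (homOfLE (leOfHom i)).op (∑ k, r k • p k) = 0 :=
    e.trans (map_zero (P.presheaf.map j.op).hom)
  rw [res_sum] at e'
  have e'' : ∑ k, resR (leOfHom i) (r k) • res P (homOfLE (leOfHom i)).op (p k) = 0 := by
    rw [← e']
    exact Finset.sum_congr rfl fun k _ => (TensorMod.Whisker.res_smul P _ (r k) (p k)).symm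
  haveI := hP W
  obtain ⟨n, A, y, hy, hA⟩ :=
    (Module.Flat.iff_forall_isTrivialRelation.1 inferInstance) e''
  refine ⟨n, fun k m => rgerm hW (A k m), fun m => germ hW (y m), fun k => ?_, fun m => ?_⟩
  · refine (hp k).symm.trans ((germ_res (leOfHom i) hW (p k)).symm.trans
      ((congrArg (germ hW) (hy k)).trans ((germ_sum hW _ _).trans ?_)))
    exact Finset.sum_congr rfl fun m _ => germ_smul hW (A k m) (y m)
  · refine Eq.trans (Finset.sum_congr rfl fun k _ => ?_)
      ((map_sum (X.presheaf.germ W x hW).hom _ _).symm.trans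
        ((congrArg (rgerm hW) (hA m)).trans (map_zero (X.presheaf.germ W x hW).hom)))
    refine (congrArg (· * _) ((hr k).symm.trans (rgerm_res (leOfHom i) hW (r k)).symm)).trans ?_
    exact (map_mul (X.presheaf.germ W x hW).hom _ _).symm

/-- The generator attached to an open `U`. -/
noncomputable def gen (U : X.Opens) : X.Modules :=
  DCoh.shP.obj ((PresheafOfModules.free _).obj (yoneda.obj U))

theorem isFlat_gen (U : X.Opens) : FlatMod.IsFlat (gen U) := fun x => by
  have : Module.Flat (Ox x)
      (st x ((PresheafOfModules.free (X.sheaf.obj ⋙ forget₂ CommRingCat RingCat.{u})).obj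
        (yoneda.obj U))) :=
    flat_st fun V => inferInstanceAs (Module.Flat (RU V) ((yoneda.obj U).obj (op V) →₀ RU V))
  exact Module.Flat.of_linearEquiv (shStalkEquiv x _).symm

/-- `Hom(gen U, M) = Γ(U, M)`. -/
noncomputable def genHomEquiv (U : X.Opens) (M : X.Modules) :
    (gen U ⟶ M) ≃ (DCoh.toP.obj M).obj (op U) :=
  ((TensorMod.Basic.adj X).homEquiv _ M).trans PresheafOfModules.freeYonedaEquiv

theorem isSeparating_gen :
    ObjectProperty.IsSeparating (ObjectProperty.ofObj (fun U : X.Opens => gen U)) := by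
  intro M N f g h
  apply (Scheme.Modules.toPresheafOfModules X).map_injective
  refine PresheafOfModules.freeYoneda.isSeparating _ _ _ ?_
  rintro _ ⟨U⟩ k
  have := congrArg ((TensorMod.Basic.adj X).homEquiv _ _)
    (h (gen U) ⟨U⟩ (((TensorMod.Basic.adj X).homEquiv _ _).symm k))
  simp only [gen] at this
  exact ((congrArg (· ≫ _) (((TensorMod.Basic.adj X).homEquiv _ M).apply_symm_apply k)).symm.trans
    (((TensorMod.Basic.adj X).homEquiv_naturality_right _ f).symm.trans
    (this.trans ((TensorMod.Basic.adj X).homEquiv_naturality_right _ g)))).trans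
      (congrArg (· ≫ _) (((TensorMod.Basic.adj X).homEquiv _ M).apply_symm_apply k))

end Groth.Agent.Lib.DerivedOX.FlatGen
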