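import Mathlib.CategoryTheory.Functor.Derived.LeftDerived
import Mathlib.CategoryTheory.Localization.Predicate

/-!
# Left derived functors from functorial resolutions
-/

set_option linter.style.haveILetI false

open CategoryTheory

namespace Groth.Agent.Lib.DerivedOX.LeftDerived

variable {C D H : Type*} [Category C] [Category D] [Category H]

/-- A functorial resolution adapted to a functor `F`: after resolving, `F` inverts `W`. -/
structure IsAdapted (W : MorphismProperty C) (F : C ⥤ H) (P : C ⥤ C) (ψ : P ⟶ 𝟭 C) : Prop where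
  mem : ∀ X, W (ψ.app X)
  inverts : W.IsInvertedBy (P ⋙ F)
  isIso_resolved : ∀ X, IsIso (F.map (ψ.app (P.obj X)))

variable {W : MorphismProperty C} {F : C ⥤ H} {P : C ⥤ C} {ψ : P ⟶ 𝟭 C} (hψ : IsAdapted W F P ψ)
  (L : C ⥤ D) [L.IsLocalization W]

/-- The left derived functor computed by the resolution. -/
noncomputable def functor : D ⥤ H := Localization.lift (P ⋙ F) hψ.inverts L

/-- Its counit. -/
noncomputable def counit : L ⋙ functor hψ L ⟶ F :=
  (Localization.fac (P ⋙ F) hψ.inverts L).hom ≫ Functor.whiskerRight ψ F ≫ (Functor.leftUnitor F).hom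

lemma counit_app (X : C) : (counit hψ L).app X =
    (Localization.fac (P ⋙ F) hψ.inverts L).hom.app X ≫ F.map (ψ.app X) :=
  congrArg (_ ≫ ·) (Category.comp_id _)

/-- The comparison map into the resolved functor. -/
noncomputable def toResolved (G : D ⥤ H) (β : L ⋙ G ⟶ F) : L ⋙ G ⟶ P ⋙ F where
  app X :=
    haveI := Localization.inverts L W (ψ.app X) (hψ.mem X)
    G.map (inv (L.map (ψ.app X))) ≫ β.app (P.obj X)
  naturality X Y f := by
    haveI := Localization.inverts L W (ψ.app X) (hψ.mem X)
    haveI := Localization.inverts L W (ψ.app Y) (hψ.mem Y)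
    have h : L.map f ≫ inv (L.map (ψ.app Y)) = inv (L.map (ψ.app X)) ≫ L.map (P.map f) := by
      rw [IsIso.comp_inv_eq, Category.assoc, IsIso.eq_inv_comp, ← L.map_comp, ← L.map_comp,
        ψ.naturality, Functor.id_map]
    have hβ := β.naturality (P.map f)
    dsimp at hβ ⊢
    rw [← G.map_comp_assoc, h, G.map_comp_assoc, hβ, Category.assoc]

/-- The universal lift. -/
noncomputable def liftTrans (G : D ⥤ H) (β : L ⋙ G ⟶ F) : G ⟶ functor hψ L :=
  letI : Localization.Lifting L W (L ⋙ G) G := ⟨Iso.refl _⟩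
  letI : Localization.Lifting L W (P ⋙ F) (functor hψ L) := ⟨Localization.fac (P ⋙ F) hψ.inverts L⟩
  Localization.liftNatTrans L W (L ⋙ G) (P ⋙ F) G (functor hψ L) (toResolved hψ L G β)

lemma liftTrans_app (G : D ⥤ H) (β : L ⋙ G ⟶ F) (X : C) :
    (liftTrans hψ L G β).app (L.obj X) =
      (toResolved hψ L G β).app X ≫ (Localization.fac (P ⋙ F) hψ.inverts L).inv.app X := by
  simp [liftTrans, Localization.Lifting.iso]
  rfl

lemma whiskerLeft_liftTrans (G : D ⥤ H) (β : L ⋙ G ⟶ F) :
    Functor.whiskerLeft L (liftTrans hψ L G β) ≫ counit hψ L = β := by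
  ext X
  haveI := Localization.inverts L W (ψ.app X) (hψ.mem X)
  simp only [NatTrans.comp_app, Functor.whiskerLeft_app, liftTrans_app, counit_app]
  refine (Category.assoc _ _ _).trans ((congrArg ((toResolved hψ L G β).app X ≫ ·)
    ((Localization.fac (P ⋙ F) hψ.inverts L).inv_hom_id_app_assoc X _)).trans ?_)
  simp only [toResolved, Category.assoc]
  have := β.naturality (ψ.app X)
  dsimp at this ⊢
  rw [← this, ← G.map_comp_assoc, IsIso.inv_hom_id, G.map_id, Category.id_comp]

include hψ in
lemma isIso_counit_app_resolved (X : C) : IsIso ((counit hψ L).app (P.obj X)) := by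
  rw [counit_app]
  exact @IsIso.comp_isIso _ _ _ _ _ _ _ ((Localization.fac (P ⋙ F) hψ.inverts L).app (P.obj X)).isIso_hom
    (hψ.isIso_resolved X)

lemma hom_ext (G : D ⥤ H) (γ γ' : G ⟶ functor hψ L)
    (h : Functor.whiskerLeft L γ ≫ counit hψ L = Functor.whiskerLeft L γ' ≫ counit hψ L) :
    γ = γ' := by
  apply Localization.natTrans_ext L W
  intro X
  haveI := Localization.inverts L W (ψ.app X) (hψ.mem X)
  have h' := congrArg (fun t => t.app (P.obj X)) h
  simp only [NatTrans.comp_app, Functor.whiskerLeft_app] at h'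
  haveI := isIso_counit_app_resolved hψ L X
  rw [cancel_mono] at h'
  rw [← cancel_epi (G.map (L.map (ψ.app X)))]
  exact (γ.naturality (L.map (ψ.app X))).trans ((congrArg (· ≫ _) h').trans
    (γ'.naturality (L.map (ψ.app X))).symm)

theorem isLeftDerivedFunctor : (functor hψ L).IsLeftDerivedFunctor (counit hψ L) W :=
  ⟨⟨⟨Limits.IsTerminal.ofUniqueHom
    (fun G => CostructuredArrow.homMk (liftTrans hψ L G.left G.hom)
      (whiskerLeft_liftTrans hψ L G.left G.hom))
    (fun G m => CostructuredArrow.hom_ext _ _ (hom_ext hψ L G.left _ _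
      ((CostructuredArrow.w m).trans (whiskerLeft_liftTrans hψ L G.left G.hom).symm)))⟩⟩⟩

include hψ in
theorem hasLeftDerivedFunctor : F.HasLeftDerivedFunctor W :=
  haveI := isLeftDerivedFunctor hψ W.Q
  Functor.HasLeftDerivedFunctor.mk' (LF := functor hψ W.Q) (α := counit hψ W.Q)

include hψ in
/-- The counit of any left derived functor is an isomorphism where `F` inverts the resolution. -/
theorem isIso_counit_app (LF : D ⥤ H) (α : L ⋙ LF ⟶ F) [LF.IsLeftDerivedFunctor α W]
    (X : C) [IsIso (F.map (ψ.app X))] : IsIso (α.app X) := by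
  haveI := isLeftDerivedFunctor hψ L
  have h := Functor.leftDerived_fac_app LF α W (functor hψ L) (counit hψ L) X
  haveI := (Functor.isLeftDerivedFunctor_iff_isIso_leftDerivedLift LF α W (functor hψ L)
    (counit hψ L)).1 (isLeftDerivedFunctor hψ L)
  have : IsIso ((counit hψ L).app X) := by
    rw [counit_app]
    exact @IsIso.comp_isIso _ _ _ _ _ _ _ ((Localization.fac (P ⋙ F) hψ.inverts L).app X).isIso_hom ‹IsIso (F.map (ψ.app X))›
  exact IsIso.of_isIso_fac_left h

section Precomp

variable {C₀ : Type*} [Category C₀] (E : C₀ ⥤ C) (W₁ : MorphismProperty C₀) [E.IsLocalization W₁]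
  (W₀ : MorphismProperty C₀) [(E ⋙ L).IsLocalization W₀]

include W₁ in
/-- A left derived functor can be detected after precomposition with a localization functor. -/
theorem isLeftDerivedFunctor_of_precomp (LF : D ⥤ H) (α : L ⋙ LF ⟶ F)
    [h : LF.IsLeftDerivedFunctor (L := E ⋙ L) (F := E ⋙ F)
      ((Functor.associator E L LF).hom ≫ Functor.whiskerLeft E α) W₀] :
    LF.IsLeftDerivedFunctor α W := by
  set α₀ := (Functor.associator E L LF).hom ≫ Functor.whiskerLeft E α with hα₀
  refine ⟨⟨⟨Limits.IsTerminal.ofUniqueHom (fun G => CostructuredArrow.homMk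
    (LF.leftDerivedLift α₀ W₀ G.left ((Functor.associator E L G.left).hom ≫
      Functor.whiskerLeft E G.hom)) ?_) fun G m => ?_⟩⟩⟩
  · apply Localization.natTrans_ext E W₁
    intro X
    have := Functor.leftDerived_fac_app LF α₀ W₀ G.left
      ((Functor.associator E L G.left).hom ≫ Functor.whiskerLeft E G.hom) X
    simp [hα₀] at this
    exact this
  · refine CostructuredArrow.hom_ext _ _ (Functor.leftDerived_ext LF α₀ W₀ _ _ _ ?_)
    refine Eq.trans ?_ (Functor.leftDerived_fac LF α₀ W₀ G.left _).symm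
    ext X
    have := congrArg (fun t => t.app (E.obj X)) (CostructuredArrow.w m)
    simp [hα₀]; exact this

end Precomp

end Groth.Agent.Lib.DerivedOX.LeftDerived
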