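import Mathlib.Algebra.Homology.HomotopyCategory.Pretriangulated
import Mathlib.Algebra.Homology.HomologicalComplexBiprod
import Mathlib.Algebra.Homology.QuasiIso
import Groth.Agent.Lib.DerivedOX.TrivCof
import Groth.Agent.Lib.Modules.StalkModule

/-!
# Detecting and preserving quasi-isomorphisms
-/

universe u

open CategoryTheory Limits HomologicalComplex
open ZeroObject

set_option linter.style.haveILetI false

namespace Groth.Agent.Lib.DerivedOX.Qis

section Stalk

open AlgebraicGeometry Groth.Agent.Lib.Modules StalkModule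

variable {X : Scheme.{u}}

/-- Quasi-isomorphisms of complexes of O_X-modules are detected on stalks. -/
theorem quasiIso_iff_forall_stalk {K L : CochainComplex X.Modules ℤ} (f : K ⟶ L) :
    QuasiIso f ↔ ∀ x : X, QuasiIso (((stalkModFunctor X x).mapHomologicalComplex (.up ℤ)).map f) := by
  haveI : ∀ x : X, PreservesFiniteColimits (stalkModFunctor X x) := fun x =>
    PreservesColimitsOfSize.preservesFiniteColimits _
  refine ⟨fun _ x => inferInstance, fun h => ⟨fun n => ?_⟩⟩
  rw [quasiIsoAt_iff]
  let φ := (shortComplexFunctor X.Modules (.up ℤ) n).map f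
  have γ : ShortComplex.LeftHomologyMapData φ (K.sc n).leftHomologyData (L.sc n).leftHomologyData :=
    default
  rw [γ.quasiIso_iff, isIso_iff_stalkMapₗ_bijective]
  intro x
  have hx : ShortComplex.QuasiIso ((stalkModFunctor X x).mapShortComplex.map φ) :=
    (quasiIsoAt_iff _ n).1 ((h x).quasiIsoAt n)
  rw [(γ.map (stalkModFunctor X x)).quasiIso_iff, ShortComplex.LeftHomologyMapData.map_φH] at hx
  exact (ConcreteCategory.isIso_iff_bijective _).1 hx

end Stalk

section Preserve

open TrivCof

variable {C D : Type*} [Category C] [Category D] [Abelian C] [Abelian D]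
  (Φ : CochainComplex C ℤ ⥤ CochainComplex D ℤ) [Φ.Additive] [PreservesFiniteColimits Φ]

/-- A functor on complexes preserves quasi-isomorphisms as soon as it preserves degreewise split
monomorphisms as monomorphisms, kills contractible complexes up to quasi-isomorphism and preserves
acyclic complexes. -/
theorem quasiIso_map_of_acyclic
    (hm : ∀ {A B : CochainComplex C ℤ} (i : A ⟶ B), (∀ n, IsSplitMono (i.f n)) → Mono (Φ.map i))
    (hh : ∀ Z : CochainComplex C ℤ, Nonempty (Homotopy (𝟙 Z) 0) → (Φ.obj Z).Acyclic)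
    (hA : ∀ Z : CochainComplex C ℤ, Z.Acyclic → (Φ.obj Z).Acyclic)
    {A B : CochainComplex C ℤ} (f : A ⟶ B) [QuasiIso f] : QuasiIso (Φ.map f) := by
  let Z := CochainComplex.mappingCone (𝟙 A)
  let hZ : Homotopy (𝟙 Z) 0 := CochainComplex.mappingCone.homotopyToZeroOfId A
  have hZ' : Z.Acyclic := fun m => by
    rw [exactAt_iff_isZero_homology, IsZero.iff_id_eq_zero, ← homologyMap_id, hZ.homologyMap_eq,
      homologyMap_zero]
  let i : A ⟶ B ⊞ Z := biprod.lift f (CochainComplex.mappingCone.inr (𝟙 A))
  have hsplit : ∀ n, IsSplitMono (i.f n) := fun n =>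
    IsSplitMono.mk' ⟨(biprod.snd : B ⊞ Z ⟶ Z).f n ≫
      (CochainComplex.mappingCone.snd (𝟙 A)).v n n (add_zero n), by
      rw [← Category.assoc, ← HomologicalComplex.comp_f, biprod.lift_snd,
        CochainComplex.mappingCone.inr_f_snd_v]⟩
  haveI : Mono i := HomologicalComplex.mono_of_mono_f i fun n => by
    haveI := hsplit n
    infer_instance
  -- the projection onto `B` is a quasi-isomorphism, before and after applying `Φ`
  have hfst : ∀ n, IsIso (HomologicalComplex.homologyMap (biprod.fst : B ⊞ Z ⟶ B) n) := fun n => by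
    refine ⟨HomologicalComplex.homologyMap biprod.inl n, ?_, ?_⟩
    · rw [← homologyMap_comp]
      have h := congrArg (fun φ => HomologicalComplex.homologyMap φ n) (biprod.total (X := B) (Y := Z))
      simp only [homologyMap_add, homologyMap_id, homologyMap_comp] at h
      rw [homologyMap_comp, ← h, (hZ' n).isZero_homology.eq_of_tgt
        (HomologicalComplex.homologyMap biprod.snd n) 0]
      simp
    · rw [← homologyMap_comp, biprod.inl_fst, homologyMap_id]
  have hΦfst : ∀ n, IsIso (HomologicalComplex.homologyMap (Φ.map (biprod.fst : B ⊞ Z ⟶ B)) n) :=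
    fun n => by
    refine ⟨HomologicalComplex.homologyMap (Φ.map biprod.inl) n, ?_, ?_⟩
    · rw [← homologyMap_comp, ← Φ.map_comp]
      have h := congrArg (fun φ => HomologicalComplex.homologyMap (Φ.map φ) n)
        (biprod.total (X := B) (Y := Z))
      simp only [Φ.map_add, homologyMap_add, Φ.map_id, homologyMap_id, Φ.map_comp,
        homologyMap_comp] at h
      rw [Φ.map_comp, homologyMap_comp, ← h,
        (hh Z ⟨hZ⟩ n).isZero_homology.eq_of_tgt (HomologicalComplex.homologyMap (Φ.map biprod.snd) n) 0]
      simp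
    · rw [← homologyMap_comp, ← Φ.map_comp, biprod.inl_fst, Φ.map_id, homologyMap_id]
  haveI : QuasiIso (biprod.fst : B ⊞ Z ⟶ B) :=
    ⟨fun n => (quasiIsoAt_iff_isIso_homologyMap _ n).2 (hfst n)⟩
  haveI : QuasiIso (Φ.map (biprod.fst : B ⊞ Z ⟶ B)) :=
    ⟨fun n => (quasiIsoAt_iff_isIso_homologyMap _ n).2 (hΦfst n)⟩
  haveI : QuasiIso (i ≫ biprod.fst) := by rw [biprod.lift_fst]; infer_instance
  haveI : QuasiIso i := quasiIso_of_comp_right i biprod.fst
  have hS : (ShortComplex.mk i _ (cokernel.condition i)).ShortExact :=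
    { exact := ShortComplex.exact_cokernel i }
  have hcoker : (cokernel i).Acyclic := fun n => by
    rw [exactAt_iff_isZero_homology]
    refine (hS.homology_exact₃ n (n + 1) rfl).isZero_X₂ ?_ ?_
    · rw [← cancel_epi (HomologicalComplex.homologyMap i n), comp_zero, ← homologyMap_comp,
        cokernel.condition, homologyMap_zero]
    · rw [← cancel_mono (HomologicalComplex.homologyMap i (n + 1)), zero_comp]
      exact hS.δ_comp n (n + 1) rfl
  haveI := hm i hsplit
  have hΦS : (ShortComplex.mk (Φ.map i) (Φ.map (cokernel.π i))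
      (by rw [← Φ.map_comp, cokernel.condition, Φ.map_zero])).ShortExact :=
    { exact := ShortComplex.exact_of_g_is_cokernel _
        (CokernelCofork.mapIsColimit _ (cokernelIsCokernel i) Φ)
      epi_g := Cofork.IsColimit.epi (CokernelCofork.mapIsColimit _ (cokernelIsCokernel i) Φ) }
  haveI : QuasiIso (Φ.map i) := by
    refine ⟨fun n => ?_⟩
    rw [quasiIsoAt_iff_isIso_homologyMap]
    haveI : Mono (HomologicalComplex.homologyMap (Φ.map i) n) :=
      (hΦS.homology_exact₁ (n - 1) n (by simp)).mono_g
        ((hA _ hcoker (n - 1)).isZero_homology.eq_of_src _ _)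
    haveI : Epi (HomologicalComplex.homologyMap (Φ.map i) n) :=
      (hΦS.homology_exact₂ n).epi_f ((hA _ hcoker n).isZero_homology.eq_of_tgt _ _)
    exact isIso_of_mono_of_epi _
  have : Φ.map f = Φ.map i ≫ Φ.map biprod.fst := by rw [← Φ.map_comp, biprod.lift_fst]
  rw [this]
  infer_instance

end Preserve

end Groth.Agent.Lib.DerivedOX.Qis
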