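import Groth.Prelude.Def_DCoh4
import Mathlib.Algebra.Category.ModuleCat.Projective
import Groth.Agent.Lib.DerivedOX.KFlat
import Groth.Agent.Lib.DerivedOX.CofProj
import Groth.Agent.Lib.DerivedOX.Qis
import Groth.Agent.Lib.DerivedOX.LeftDerived
import Groth.Agent.Lib.DerivedOX.PullbackStalk
import Groth.Agent.Lib.DerivedOX.TensorSheaf

/-!
# Existence of `Lf^*`, `- ⊗^L M` and `- ⊗^L E`
-/

universe u

open CategoryTheory Limits AlgebraicGeometry HomologicalComplex MonoidalCategory
open ZeroObject

attribute [local instance] HasDerivedCategory.standard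

set_option linter.style.haveILetI false

namespace Groth.Agent.Lib.DerivedOX.LeftExists

open Groth.Agent.Lib.Modules StalkModule LeftRes

variable {X Y : Scheme.{u}}

/-- The cofibrant complexes (built from the generators `gen U`). -/
def IsCof (P : CochainComplex Y.Modules ℤ) : Prop := cof (KFlat.G Y) (0 : 0 ⟶ P)

lemma isCof_res (K : CochainComplex Y.Modules ℤ) : IsCof ((KFlat.res Y).obj K) := cof_resolution K

lemma quasiIso_res_map {A B : CochainComplex Y.Modules ℤ} (f : A ⟶ B) [QuasiIso f] :
    QuasiIso ((KFlat.res Y).map f) := by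
  haveI : QuasiIso ((KFlat.res Y).map f ≫ (KFlat.aug Y).app B) := by
    rw [(KFlat.aug Y).naturality f]
    dsimp
    infer_instance
  exact quasiIso_of_comp_right _ ((KFlat.aug Y).app B)

/-! ### Stalks of cofibrant complexes are K-projective -/

lemma projective_stalk_gen (y : Y) (U : Y.Opens) :
    Projective ((stalkModFunctor Y y).obj (FlatGen.gen U)) := by
  haveI : Module.Projective (Y.presheaf.stalk y) ((stalkModFunctor Y y).obj (FlatGen.gen U)) := by
    by_cases hy : y ∈ U
    · exact Module.Projective.of_equiv (LinearEquiv.ofBijective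
        (LinearMap.toSpanSingleton _ _ (GenStalk.genGerm hy)) (GenStalk.bijective_smul_genGerm hy))
    · haveI : Subsingleton ((stalkModFunctor Y y).obj (FlatGen.gen U)) :=
        GenStalk.subsingleton_stalk_gen hy
      infer_instance
  infer_instance

theorem isKProjective_stalk {P : CochainComplex Y.Modules ℤ} (hP : IsCof P) (y : Y) :
    CochainComplex.IsKProjective
      (((stalkModFunctor Y y).mapHomologicalComplex (.up ℤ)).obj P) :=
  CofProj.isKProjective_map_of_cof (stalkModFunctor Y y) (KFlat.G Y) (projective_stalk_gen y) hP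

/-- A functor which stalkwise is an additive functor of the stalk preserves quasi-isomorphisms between
cofibrant complexes. -/
theorem quasiIso_map_of_stalk (F : Y.Modules ⥤ X.Modules) [F.Additive] (φ : X → Y)
    (T : ∀ x : X, ModuleCat.{u} (Y.presheaf.stalk (φ x)) ⥤ ModuleCat.{u} (X.presheaf.stalk x))
    [∀ x, (T x).Additive]
    (e : ∀ x : X, F ⋙ stalkModFunctor X x ≅ stalkModFunctor Y (φ x) ⋙ T x)
    {P Q : CochainComplex Y.Modules ℤ} (hP : IsCof P) (hQ : IsCof Q) (f : P ⟶ Q) [QuasiIso f] :
    QuasiIso ((F.mapHomologicalComplex (.up ℤ)).map f) := by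
  rw [Qis.quasiIso_iff_forall_stalk]
  intro x
  haveI := isKProjective_stalk hP (φ x)
  haveI := isKProjective_stalk hQ (φ x)
  haveI := (Qis.quasiIso_iff_forall_stalk f).1 inferInstance (φ x)
  have hT := CofProj.quasiIso_map_of_isKProjective (T x)
    (((stalkModFunctor Y (φ x)).mapHomologicalComplex (.up ℤ)).map f)
  let ψ : (F ⋙ stalkModFunctor X x).mapHomologicalComplex (ComplexShape.up ℤ) ≅
      (stalkModFunctor Y (φ x) ⋙ T x).mapHomologicalComplex (ComplexShape.up ℤ) :=
    NatIso.mapHomologicalComplex (e x) (ComplexShape.up ℤ)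
  have h2 : QuasiIso (((stalkModFunctor Y (φ x) ⋙ T x).mapHomologicalComplex (.up ℤ)).map f) := hT
  haveI : QuasiIso (((F ⋙ stalkModFunctor X x).mapHomologicalComplex (.up ℤ)).map f) :=
    (quasiIso_iff_of_arrow_mk_iso _ _ (Arrow.isoMk (ψ.app P) (ψ.app Q) (ψ.hom.naturality f).symm)).2 h2
  exact this

/-- `f^*` preserves quasi-isomorphisms between cofibrant complexes. -/
theorem quasiIso_pullback (f : X ⟶ Y) {P Q : CochainComplex Y.Modules ℤ} (hP : IsCof P)
    (hQ : IsCof Q) (g : P ⟶ Q) [QuasiIso g] :
    QuasiIso (((Scheme.Modules.pullback f).mapHomologicalComplex (.up ℤ)).map g) :=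
  quasiIso_map_of_stalk (Scheme.Modules.pullback f) (fun x => f.base x)
    (fun x => ModuleCat.extendScalars.{u, u, u} (f.stalkMap x).hom)
    (fun x => (PullbackStalk.pullbackStalkIso f x).symm) hP hQ g

/-- `- ⊗ M` preserves quasi-isomorphisms between cofibrant complexes. -/
theorem quasiIso_tensorRightMod (M : Y.Modules) {P Q : CochainComplex Y.Modules ℤ} (hP : IsCof P)
    (hQ : IsCof Q) (g : P ⟶ Q) [QuasiIso g] :
    QuasiIso (((DCoh.tensorRightMod M).mapHomologicalComplex (.up ℤ)).map g) :=
  quasiIso_map_of_stalk (DCoh.tensorRightMod M) id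
    (fun y => tensorRight (ModuleCat.of (Y.presheaf.stalk y) (M.presheaf.stalk y)))
    (fun y => TensorSheaf.tensorRightStalkIso y M) hP hQ g

/-! ### Left derived functors of functors on the homotopy category -/

section Kh

variable (F : Y.Modules ⥤ X.Modules) [F.Additive]

/-- The functor on complexes underlying `F.mapHomotopyCategory ⋙ Qh`. -/
noncomputable abbrev onCx : CochainComplex Y.Modules ℤ ⥤ DCoh.D X :=
  HomotopyCategory.quotient Y.Modules (.up ℤ) ⋙
    (F.mapHomotopyCategory (.up ℤ) ⋙ DerivedCategory.Qh)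

/-- It is `F` termwise followed by localization. -/
noncomputable def onCxIso : onCx F ≅ F.mapHomologicalComplex (.up ℤ) ⋙ DerivedCategory.Q :=
  (Functor.associator _ _ _).symm ≪≫ Functor.isoWhiskerRight (F.mapHomotopyCategoryFactors _) _ ≪≫
    Functor.associator _ _ _ ≪≫
      Functor.isoWhiskerLeft _ (DerivedCategory.quotientCompQhIso X.Modules)

lemma isIso_onCx_map {A B : CochainComplex Y.Modules ℤ} (g : A ⟶ B)
    [hq : QuasiIso ((F.mapHomologicalComplex (.up ℤ)).map g)] : IsIso ((onCx F).map g) :=
  (NatIso.isIso_map_iff (onCxIso F) g).2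
    (Localization.inverts DerivedCategory.Q (quasiIso X.Modules (.up ℤ))
      ((F.mapHomologicalComplex (.up ℤ)).map g) hq)

variable (hF : ∀ {P Q : CochainComplex Y.Modules ℤ}, IsCof P → IsCof Q → ∀ (g : P ⟶ Q) [QuasiIso g],
    QuasiIso ((F.mapHomologicalComplex (.up ℤ)).map g))
include hF

theorem isAdapted_onCx :
    LeftDerived.IsAdapted (quasiIso Y.Modules (.up ℤ)) (onCx F) (KFlat.res Y) (KFlat.aug Y) where
  mem K := KFlat.quasiIso_aug K
  inverts A B g (hg : QuasiIso g) := by
    haveI := quasiIso_res_map g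
    haveI := hF (isCof_res A) (isCof_res B) ((KFlat.res Y).map g)
    exact isIso_onCx_map F ((KFlat.res Y).map g)
  isIso_resolved K := by
    haveI := hF (isCof_res _) (isCof_res K) ((KFlat.aug Y).app ((KFlat.res Y).obj K))
    exact isIso_onCx_map F _

theorem hasLeftDerivedFunctor_mapHomotopyCategory :
    (F.mapHomotopyCategory (.up ℤ) ⋙ DerivedCategory.Qh).HasLeftDerivedFunctor
      (HomotopyCategory.quasiIso Y.Modules (.up ℤ)) := by
  let E := HomotopyCategory.quotient Y.Modules (ComplexShape.up ℤ)
  let G := F.mapHomotopyCategory (.up ℤ) ⋙ DerivedCategory.Qh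
  haveI : (E ⋙ DerivedCategory.Qh).IsLocalization (quasiIso Y.Modules (.up ℤ)) :=
    Functor.IsLocalization.of_iso _ (DerivedCategory.quotientCompQhIso Y.Modules).symm
  let hA := isAdapted_onCx F hF
  let LF := LeftDerived.functor hA (E ⋙ DerivedCategory.Qh)
  let α₀ := LeftDerived.counit hA (E ⋙ DerivedCategory.Qh)
  let α : DerivedCategory.Qh ⋙ LF ⟶ G :=
    CategoryTheory.Quotient.natTransLift _ ((Functor.associator _ _ _).inv ≫ α₀)
  haveI : LF.IsLeftDerivedFunctor (L := E ⋙ DerivedCategory.Qh) (F := E ⋙ G)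
      ((Functor.associator E DerivedCategory.Qh LF).hom ≫ Functor.whiskerLeft E α)
      (quasiIso Y.Modules (.up ℤ)) := by
    convert LeftDerived.isLeftDerivedFunctor hA (E ⋙ DerivedCategory.Qh) using 1
    ext K
    simp [α, E]
    exact (CategoryTheory.Quotient.natTransLift_app _ _ _ _ K).trans
      (Category.id_comp _)
  haveI := LeftDerived.isLeftDerivedFunctor_of_precomp (F := G) (W := HomotopyCategory.quasiIso _ _)
    DerivedCategory.Qh E (homotopyEquivalences Y.Modules (.up ℤ)) (quasiIso Y.Modules (.up ℤ)) LF α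
  exact Functor.HasLeftDerivedFunctor.mk' (LF := LF) (α := α)

end Kh

theorem hasLpull (f : X ⟶ Y) : DCoh.HasLpull f :=
  hasLeftDerivedFunctor_mapHomotopyCategory (Scheme.Modules.pullback f)
    fun hP hQ g _ => quasiIso_pullback f hP hQ g

theorem hasLTensorMod (M : X.Modules) : DCoh.HasLTensorMod M :=
  hasLeftDerivedFunctor_mapHomotopyCategory (DCoh.tensorRightMod M)
    fun hP hQ g _ => quasiIso_tensorRightMod M hP hQ g

/-! ### Tensor product with a complex -/

attribute [local instance] preservesBinaryBiproducts_of_preservesBinaryCoproducts in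
instance additive_tensorCx_obj (L : CochainComplex X.Modules ℤ) :
    ((DCoh.tensorCx (X := X)).obj L).Additive := by
  haveI := PreservesColimitsOfSize.preservesFiniteColimits ((DCoh.tensorCx (X := X)).obj L)
  exact Functor.additive_of_preservesBinaryBiproducts _

attribute [local instance] preservesBinaryBiproducts_of_preservesBinaryCoproducts in
instance additive_tensorCx_flip_obj (L : CochainComplex X.Modules ℤ) :
    ((DCoh.tensorCx (X := X)).flip.obj L).Additive := by
  haveI := PreservesColimitsOfSize.preservesFiniteColimits ((DCoh.tensorCx (X := X)).flip.obj L)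
  exact Functor.additive_of_preservesBinaryBiproducts _

/-- `- ⊗ E` preserves quasi-isomorphisms if it preserves acyclic complexes. -/
theorem quasiIso_tensor_right {E : CochainComplex X.Modules ℤ} (hE : DCoh.IsKFlat E)
    {A B : CochainComplex X.Modules ℤ} (f : A ⟶ B) [QuasiIso f] :
    QuasiIso ((DCoh.tensorCx.map f).app E) := by
  haveI := PreservesColimitsOfSize.preservesFiniteColimits ((DCoh.tensorCx (X := X)).flip.obj E)
  exact Qis.quasiIso_map_of_acyclic ((DCoh.tensorCx (X := X)).flip.obj E)
    (fun i hi => Bifunctor.mono_map_app (DCoh.tensorBi (X := X)) i E fun p q => by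
      haveI := hi p
      exact inferInstanceAs (Mono (((DCoh.tensorBi (X := X)).flip.obj (E.X q)).map (i.f p))))
    (fun Z ⟨h⟩ => Bifunctor.acyclic_flip_obj_of_homotopy_zero _ h E)
    (fun Z hZ => (KFlat.isKFlat_iff E).1 hE Z hZ) f

/-- `P ⊗ -` preserves quasi-isomorphisms if it preserves acyclic complexes. -/
theorem quasiIso_tensor_left {P : CochainComplex X.Modules ℤ}
    (hP : ∀ L : CochainComplex X.Modules ℤ, L.Acyclic → ((DCoh.tensorCx.obj P).obj L).Acyclic)
    {A B : CochainComplex X.Modules ℤ} (f : A ⟶ B) [QuasiIso f] :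
    QuasiIso ((DCoh.tensorCx.obj P).map f) := by
  haveI := PreservesColimitsOfSize.preservesFiniteColimits ((DCoh.tensorCx (X := X)).obj P)
  exact Qis.quasiIso_map_of_acyclic ((DCoh.tensorCx (X := X)).obj P)
    (fun i hi => Bifunctor.mono_obj_map (DCoh.tensorBi (X := X)) P i fun p q => by
      haveI := hi q
      infer_instance)
    (fun Z ⟨h⟩ => Bifunctor.acyclic_obj_of_homotopy_zero _ P h) hP f

/-- `- ⊗ E` preserves quasi-isomorphisms between complexes that are flat for the first slot. -/
theorem quasiIso_tensor_of_flatLeft {P Q : CochainComplex X.Modules ℤ}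
    (hP : ∀ L : CochainComplex X.Modules ℤ, L.Acyclic → ((DCoh.tensorCx.obj P).obj L).Acyclic)
    (hQ : ∀ L : CochainComplex X.Modules ℤ, L.Acyclic → ((DCoh.tensorCx.obj Q).obj L).Acyclic)
    (g : P ⟶ Q) [QuasiIso g] (E : CochainComplex X.Modules ℤ) :
    QuasiIso ((DCoh.tensorCx.map g).app E) := by
  let r : (KFlat.res X).obj E ⟶ E := (KFlat.aug X).app E
  haveI : QuasiIso r := KFlat.quasiIso_aug E
  haveI := quasiIso_tensor_right (KFlat.isKFlat_res E) g
  haveI := quasiIso_tensor_left hP r
  haveI := quasiIso_tensor_left hQ r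
  haveI : QuasiIso ((DCoh.tensorCx.obj P).map r ≫ (DCoh.tensorCx.map g).app E) := by
    rw [(DCoh.tensorCx.map g).naturality r]
    infer_instance
  exact quasiIso_of_comp_left ((DCoh.tensorCx.obj P).map r) _

theorem isAdapted_tensorCxQ (E : CochainComplex X.Modules ℤ) :
    LeftDerived.IsAdapted (quasiIso X.Modules (.up ℤ)) (DCoh.tensorCxQ E) (KFlat.res X)
      (KFlat.aug X) where
  mem K := KFlat.quasiIso_aug K
  inverts A B g (hg : QuasiIso g) := by
    haveI := quasiIso_res_map g
    exact Localization.inverts DerivedCategory.Q (quasiIso X.Modules (.up ℤ)) _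
      (quasiIso_tensor_of_flatLeft (fun L hL => (KFlat.acyclic_tensor_of_cof (isCof_res A) hL).2)
        (fun L hL => (KFlat.acyclic_tensor_of_cof (isCof_res B) hL).2) ((KFlat.res X).map g) E)
  isIso_resolved K :=
    Localization.inverts DerivedCategory.Q (quasiIso X.Modules (.up ℤ)) _
      (quasiIso_tensor_of_flatLeft (fun L hL => (KFlat.acyclic_tensor_of_cof (isCof_res _) hL).2)
        (fun L hL => (KFlat.acyclic_tensor_of_cof (isCof_res K) hL).2)
        ((KFlat.aug X).app ((KFlat.res X).obj K)) E)

theorem hasLTensorCx (E : CochainComplex X.Modules ℤ) : DCoh.HasLTensorCx E :=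
  LeftDerived.hasLeftDerivedFunctor (isAdapted_tensorCxQ E)

end Groth.Agent.Lib.DerivedOX.LeftExists
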