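import Mathlib.RingTheory.Flat.Equalizer
import Mathlib.Algebra.Homology.ShortComplex.ShortExact
import Groth.Agent.Lib.DerivedOX.LeftExists

/-!
# Calculus of K-flat complexes of O_X-modules
-/

universe u

open CategoryTheory Limits AlgebraicGeometry HomologicalComplex MonoidalCategory
open ZeroObject

set_option linter.style.haveILetI false

namespace Groth.Agent.Lib.DerivedOX.Calculus

open Groth.Agent.Lib.Modules StalkModule LeftRes TrivCof

/-- An extension of flat modules is flat. -/
theorem flat_of_extension {R : Type u} [CommRing R] {A B C : Type u} [AddCommGroup A] [Module R A]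
    [AddCommGroup B] [Module R B] [AddCommGroup C] [Module R C] [Module.Flat R A] [Module.Flat R C]
    (f : A →ₗ[R] B) (g : B →ₗ[R] C) (hf : Function.Injective f) (hg : Function.Surjective g)
    (hex : Function.Exact f g) : Module.Flat R B := by
  rw [Module.Flat.iff_lTensor_preserves_injective_linearMap]
  intro X Y _ _ _ _ φ hφ
  rw [← LinearMap.ker_eq_bot]
  refine eq_bot_iff.2 fun z hz => ?_
  rw [LinearMap.mem_ker] at hz
  -- the image in `C ⊗ X` vanishes
  have h1 : g.rTensor X z = 0 := by
    apply Module.Flat.lTensor_preserves_injective_linearMap (M := C) φ hφ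
    rw [← LinearMap.comp_apply, LinearMap.lTensor_comp_rTensor, ← LinearMap.rTensor_comp_lTensor,
      LinearMap.comp_apply, hz, map_zero, map_zero]
  obtain ⟨w, rfl⟩ := ((rTensor_exact X hex hg) z).1 h1
  have h2 : f.rTensor Y (φ.lTensor A w) = 0 := by
    refine Eq.trans ?_ hz
    exact congrArg (fun l => l w) ((LinearMap.rTensor_comp_lTensor _ f φ).trans
      (LinearMap.lTensor_comp_rTensor _ f φ).symm)
  have hfY : Function.Injective (f.rTensor Y) := by
    rw [← LinearMap.lTensor_inj_iff_rTensor_inj]
    exact LinearMap.lTensor_injective_of_exact_of_flat g hg f hf hex Y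
  have h3 : w = 0 :=
    Module.Flat.lTensor_preserves_injective_linearMap φ hφ ((hfY (h2.trans (map_zero _).symm)).trans
      (map_zero _).symm)
  simp [h3]

variable {X : Scheme.{u}}

lemma stalk_shortExact {S : ShortComplex X.Modules} (hS : S.ShortExact) (x : X) :
    Function.Injective (stalkMapₗ S.f x) ∧ Function.Surjective (stalkMapₗ S.g x) ∧
      Function.Exact (stalkMapₗ S.f x) (stalkMapₗ S.g x) := by
  haveI : PreservesFiniteColimits (stalkModFunctor X x) :=
    PreservesColimitsOfSize.preservesFiniteColimits _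
  have h := hS.map_of_exact (stalkModFunctor X x)
  haveI := h.mono_f
  haveI := h.epi_g
  exact ⟨(ModuleCat.mono_iff_injective _).1 h.mono_f, (ModuleCat.epi_iff_surjective _).1 h.epi_g,
    (ShortComplex.ShortExact.moduleCat_exact_iff_function_exact _).1 h.exact⟩

/-- An extension of flat O_X-modules is flat. -/
theorem isFlat_of_shortExact {S : ShortComplex X.Modules} (hS : S.ShortExact)
    (h1 : FlatMod.IsFlat S.X₁) (h3 : FlatMod.IsFlat S.X₃) : FlatMod.IsFlat S.X₂ := fun x => by
  obtain ⟨hf, hg, hex⟩ := stalk_shortExact hS x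
  haveI : Module.Flat (X.presheaf.stalk x) (S.X₁.presheaf.stalk x) := h1 x
  haveI : Module.Flat (X.presheaf.stalk x) (S.X₃.presheaf.stalk x) := h3 x
  exact flat_of_extension _ _ hf hg hex

/-- Tensoring a monomorphism with flat cokernel gives a monomorphism. -/
theorem mono_tensor_of_flat_cokernel {S : ShortComplex X.Modules} (hS : S.ShortExact)
    (h3 : FlatMod.IsFlat S.X₃) (M : X.Modules) :
    Mono ((DCoh.tensorBi.obj M).map S.f) ∧ Mono ((DCoh.tensorBi.map S.f).app M) := by
  have key : ∀ x : X,
      Function.Injective ((stalkMapₗ S.f x).lTensor (M.presheaf.stalk x)) ∧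
      Function.Injective ((stalkMapₗ S.f x).rTensor (M.presheaf.stalk x)) := fun x => by
    obtain ⟨hf, hg, hex⟩ := stalk_shortExact hS x
    haveI : Module.Flat (X.presheaf.stalk x) (S.X₃.presheaf.stalk x) := h3 x
    have h := LinearMap.lTensor_injective_of_exact_of_flat _ hg _ hf hex (M.presheaf.stalk x)
    exact ⟨h, (LinearMap.lTensor_inj_iff_rTensor_inj _ _).1 h⟩
  constructor <;> rw [StalkModule.mono_iff_stalkMapₗ_injective] <;> intro x a b hab
  · apply (TensorSheaf.tensorStalk x M S.X₁).injective
    apply (key x).1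
    have h : ∀ z, TensorSheaf.tensorStalk x M S.X₂ (stalkMapₗ ((DCoh.tensorBi.obj M).map S.f) x z) =
        LinearMap.lTensor _ (stalkMapₗ S.f x) (TensorSheaf.tensorStalk x M S.X₁ z) := fun z => by
      have := TensorSheaf.tensorStalk_natural x (𝟙 M) S.f z
      rw [CategoryTheory.Functor.map_id, NatTrans.id_app, Category.id_comp,
        StalkModule.stalkMapₗ_id] at this
      exact this
    rw [← h a, ← h b, hab]
  · apply (TensorSheaf.tensorStalk x S.X₁ M).injective
    apply (key x).2
    have h : ∀ z, TensorSheaf.tensorStalk x S.X₂ M (stalkMapₗ ((DCoh.tensorBi.map S.f).app M) x z) =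
        LinearMap.rTensor _ (stalkMapₗ S.f x) (TensorSheaf.tensorStalk x S.X₁ M z) := fun z => by
      have := TensorSheaf.tensorStalk_natural x S.f (𝟙 M) z
      rw [CategoryTheory.Functor.map_id, Category.comp_id, StalkModule.stalkMapₗ_id] at this
      exact this
    rw [← h a, ← h b, hab]

variable {S : ShortComplex (CochainComplex X.Modules ℤ)} (hS : S.ShortExact)
  (h3 : ∀ n, FlatMod.IsFlat (S.X₃.X n))

include hS h3

/-- `L ⊗ -` preserves short exact sequences with degreewise flat quotient. -/
theorem shortExact_tensor_left (L : CochainComplex X.Modules ℤ) :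
    (S.map (DCoh.tensorCx.obj L)).ShortExact := by
  haveI := PreservesColimitsOfSize.preservesFiniteColimits ((DCoh.tensorCx (X := X)).obj L)
  haveI := hS.epi_g
  exact
    { exact := ShortComplex.exact_of_g_is_cokernel _
        (CokernelCofork.mapIsColimit _ hS.gIsCokernel (DCoh.tensorCx.obj L))
      mono_f := Bifunctor.mono_obj_map (DCoh.tensorBi (X := X)) L S.f fun p q =>
        (mono_tensor_of_flat_cokernel
          ((HomologicalComplex.shortExact_iff_degreewise_shortExact S).1 hS q) (h3 q) (L.X p)).1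
      epi_g := Cofork.IsColimit.epi
        (CokernelCofork.mapIsColimit _ hS.gIsCokernel (DCoh.tensorCx.obj L)) }

/-- `- ⊗ L` preserves short exact sequences with degreewise flat quotient. -/
theorem shortExact_tensor_right (L : CochainComplex X.Modules ℤ) :
    (S.map (DCoh.tensorCx.flip.obj L)).ShortExact := by
  haveI := PreservesColimitsOfSize.preservesFiniteColimits ((DCoh.tensorCx (X := X)).flip.obj L)
  haveI := hS.epi_g
  exact
    { exact := ShortComplex.exact_of_g_is_cokernel _
        (CokernelCofork.mapIsColimit _ hS.gIsCokernel (DCoh.tensorCx.flip.obj L))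
      mono_f := Bifunctor.mono_map_app (DCoh.tensorBi (X := X)) S.f L fun p q =>
        (mono_tensor_of_flat_cokernel
          ((HomologicalComplex.shortExact_iff_degreewise_shortExact S).1 hS p) (h3 p) (L.X q)).2
      epi_g := Cofork.IsColimit.epi
        (CokernelCofork.mapIsColimit _ hS.gIsCokernel (DCoh.tensorCx.flip.obj L)) }

omit h3 in
theorem acyclic_two_of_three :
    (S.X₁.Acyclic → S.X₂.Acyclic → S.X₃.Acyclic) ∧ (S.X₁.Acyclic → S.X₃.Acyclic → S.X₂.Acyclic) ∧
      (S.X₂.Acyclic → S.X₃.Acyclic → S.X₁.Acyclic) := by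
  refine ⟨fun a b n => ?_, fun a b n => ?_, fun a b n => ?_⟩ <;> rw [exactAt_iff_isZero_homology]
  · exact (hS.homology_exact₃ n (n + 1) rfl).isZero_X₂ ((b n).isZero_homology.eq_of_src _ _)
      ((a (n + 1)).isZero_homology.eq_of_tgt _ _)
  · exact (hS.homology_exact₂ n).isZero_X₂ ((a n).isZero_homology.eq_of_src _ _)
      ((b n).isZero_homology.eq_of_tgt _ _)
  · exact (hS.homology_exact₁ (n - 1) n (by simp)).isZero_X₂
      ((b (n - 1)).isZero_homology.eq_of_src _ _) ((a n).isZero_homology.eq_of_tgt _ _)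

/-- Two out of three for K-flatness in short exact sequences with degreewise flat quotient. -/
theorem isKFlat_two_of_three :
    (DCoh.IsKFlat S.X₁ → DCoh.IsKFlat S.X₂ → DCoh.IsKFlat S.X₃) ∧
    (DCoh.IsKFlat S.X₁ → DCoh.IsKFlat S.X₃ → DCoh.IsKFlat S.X₂) ∧
    (DCoh.IsKFlat S.X₂ → DCoh.IsKFlat S.X₃ → DCoh.IsKFlat S.X₁) := by
  simp only [KFlat.isKFlat_iff]
  exact ⟨fun a b L hL => (acyclic_two_of_three (shortExact_tensor_left hS h3 L)).1 (a L hL) (b L hL),
    fun a b L hL => (acyclic_two_of_three (shortExact_tensor_left hS h3 L)).2.1 (a L hL) (b L hL),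
    fun a b L hL => (acyclic_two_of_three (shortExact_tensor_left hS h3 L)).2.2 (a L hL) (b L hL)⟩

omit hS h3

/-- The cofibrations are monomorphisms. -/
theorem mono_of_cof {A B : CochainComplex X.Modules ℤ} {i : A ⟶ B} (hi : cof (KFlat.G X) i) :
    Mono i := by
  refine HomologicalComplex.mono_of_mono_f i fun m => ?_
  obtain ⟨n, rfl⟩ : ∃ n, m = n + 1 := ⟨m - 1, by omega⟩
  let J := EnoughInjectives.presentation (C := X.Modules) (A.X (n + 1)) |>.some
  haveI hl : HasLiftingProperty i (0 : disk J.J n ⟶ 0) := hi _ (by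
    rintro _ _ _ ⟨a⟩
    haveI := mono_genMap (fun U => FlatGen.gen U) a
    exact hasLiftingProperty_zero _ J.J n)
  have sq : CommSq (toDisk n J.f) i (0 : disk J.J n ⟶ 0) (0 : B ⟶ 0) := ⟨by simp⟩
  have h := congrArg (fun φ => φ.f (n + 1)) sq.fac_left
  simp only [HomologicalComplex.comp_f, toDisk_f_succ] at h
  exact mono_of_mono_fac h

/-- The cokernel of a cofibration is cofibrant. -/
theorem isCof_cokernel {A B : CochainComplex X.Modules ℤ} (i : A ⟶ B) (hi : cof (KFlat.G X) i) :
    LeftExists.IsCof (cokernel i) := by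
  intro P Q p hp
  refine ⟨fun {f g} sq => ?_⟩
  haveI : HasLiftingProperty i p := hi p hp
  have sq' : CommSq (0 : A ⟶ P) i p (cokernel.π i ≫ g) := ⟨by simp⟩
  exact ⟨⟨{ l := cokernel.desc i sq'.lift sq'.fac_left
            fac_left := (isZero_zero _).eq_of_src _ _
            fac_right := by
              rw [← cancel_epi (cokernel.π i), cokernel.π_desc_assoc, sq'.fac_right] }⟩⟩

/-- Every map out of a K-flat complex factors as a map to a K-flat complex followed by a degreewise
epimorphic quasi-isomorphism. -/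
theorem exists_factor {K L : CochainComplex X.Modules ℤ} (a : K ⟶ L) :
    ∃ (N : CochainComplex X.Modules ℤ) (b : K ⟶ N) (c : N ⟶ L), QuasiIso c ∧ b ≫ c = a ∧
      (DCoh.IsKFlat K → DCoh.IsKFlat N) ∧
      ((∀ n : ℤ, FlatMod.IsFlat (K.X n)) → ∀ n : ℤ, FlatMod.IsFlat (N.X n)) := by
  let F := factor (KFlat.G X)
  let b : K ⟶ F.Z.obj (Arrow.mk a) := F.i.app (Arrow.mk a)
  have hb : cof (KFlat.G X) b := F.hi _
  haveI := mono_of_cof hb
  have hS : (ShortComplex.mk b _ (cokernel.condition b)).ShortExact :=
    { exact := ShortComplex.exact_cokernel b }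
  have hQ := isCof_cokernel b hb
  have hflat : ∀ n, FlatMod.IsFlat ((cokernel b).X n) := fun n => by
    obtain ⟨r⟩ := exists_retract_of_cof FlatGen.isSeparating_gen _ hQ n
    exact KFlat.isFlat_of_retract r (KFlat.isFlat_sigma _ fun a => FlatGen.isFlat_gen a.1)
  refine ⟨_, b, F.p.app (Arrow.mk a),
    (epi_quasiIso_of_rlp FlatGen.isSeparating_gen _ (F.hp _)).2, ?_, fun hK => ?_, fun hK n => ?_⟩
  · have h := congrArg (fun t => t.app (Arrow.mk a)) F.fac
    simp only [NatTrans.comp_app] at h
    exact h
  · exact (isKFlat_two_of_three hS hflat).2.1 hK (KFlat.isKFlat_of_cof hQ)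
  · exact isFlat_of_shortExact
      ((HomologicalComplex.shortExact_iff_degreewise_shortExact _).1 hS n) (hK n) (hflat n)

end Groth.Agent.Lib.DerivedOX.Calculus
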