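import Groth.Agent.Lib.DerivedOX.KFlatStalk
import Groth.Agent.Lib.DerivedOX.LeftExists

/-!
# Tensoring quasi-isomorphisms with K-flat complexes
-/

universe u

open CategoryTheory Limits AlgebraicGeometry HomologicalComplex

namespace Groth.Agent.Lib.DerivedOX.TensorQis

open Groth.Agent.Lib.Modules StalkModule StalkCx

variable {X : Scheme.{u}}

/-- A K-flat complex is also K-flat for the first slot. -/
theorem acyclic_tensor_left {P : CochainComplex X.Modules ℤ} (hP : DCoh.IsKFlat P)
    {L : CochainComplex X.Modules ℤ} (hL : L.Acyclic) :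
    ((DCoh.tensorCx.obj P).obj L).Acyclic :=
  (acyclic_iff_stalk _).2 fun x => acyclic_of_iso (tensorIso x P L)
    ((isKFlat_iff_left _).1 ((KFlatStalk.isKFlat_iff_stalk P).1 hP x) _ (acyclic_stalk x hL))

/-- `P ⊗ -` preserves quasi-isomorphisms for K-flat `P`. -/
theorem quasiIso_left {P : CochainComplex X.Modules ℤ} (hP : DCoh.IsKFlat P)
    {A B : CochainComplex X.Modules ℤ} (f : A ⟶ B) [QuasiIso f] :
    QuasiIso ((DCoh.tensorCx.obj P).map f) :=
  LeftExists.quasiIso_tensor_left (fun _ hL => acyclic_tensor_left hP hL) f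

/-- A quasi-isomorphism of K-flat complexes stays one after tensoring with any complex. -/
theorem quasiIso_map_of_isKFlat {P Q : CochainComplex X.Modules ℤ} (α : P ⟶ Q) [QuasiIso α]
    (hP : DCoh.IsKFlat P) (hQ : DCoh.IsKFlat Q) (F : CochainComplex X.Modules ℤ) :
    QuasiIso ((DCoh.tensorCx.obj F).map α) := by
  let r : (KFlat.res X).obj F ⟶ F := (KFlat.aug X).app F
  haveI : QuasiIso r := KFlat.quasiIso_aug F
  haveI := LeftExists.quasiIso_tensor_right hP r
  haveI := LeftExists.quasiIso_tensor_right hQ r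
  haveI := quasiIso_left (KFlat.isKFlat_res F) α
  haveI : QuasiIso ((DCoh.tensorCx.map r).app P ≫ (DCoh.tensorCx.obj F).map α) := by
    rw [← (DCoh.tensorCx.map r).naturality α]
    infer_instance
  exact quasiIso_of_comp_left ((DCoh.tensorCx.map r).app P) _

end Groth.Agent.Lib.DerivedOX.TensorQis
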