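import Groth.Agent.Lib.DR.Resolve
import Groth.Agent.Lib.DerivedOX.TensorQis
import Groth.Agent.Lib.DerivedOX.Calculus

/-!
# Bounded above flat resolutions

Adapted from `Groth.Agent.Lib.DR.Resolve`, with quasi-liftability in place of projectivity.
-/

universe v u

open CategoryTheory CategoryTheory.Limits CochainComplex
open Groth.Agent.Lib.PCoh.Cone Groth.Agent.Lib.DR.FiniteComplex
open scoped ZeroObject

namespace Groth.Agent.Lib.DerivedOX.FlatResolve

open Groth.Agent.Lib.DR.Resolve

section

variable {C : Type u} [Category.{v} C] [Abelian C] {P : ObjectProperty C} {K : CochainComplex C ℤ} {b : ℤ}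

lemma exists_next (hP : Good P) (hql : PCoh.IsQuasiLiftable P) (hK : Approximable P K b)
    {k : ℕ} (s : Stage P K b k) :
    ∃ (s' : Stage P K b (k + 1)) (v : s.E ⟶ s'.E), v ≫ s'.φ = s.φ ∧
      ∀ i, i ≠ b - k → IsIso (v.f i) := by
  obtain ⟨E, φ, hE, hEp, hex⟩ := s
  obtain ⟨E', v, u', L, q, hL, ⟨e⟩, hv, -, hiso, -, hex'⟩ :=
    Groth.Agent.Lib.PCoh.Resolve.step hql (b - k) φ
      (hex.mono (by lia))
      (hK (b - k) E φ (by lia) (fun i hi => hE i (by lia)) hEp (hex.mono (by lia)))
  refine ⟨⟨E', u', fun i hi => ?_, fun i => ?_, hex'.mono (by lia)⟩, v, hv, hiso⟩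
  · have := hiso i (by lia)
    exact (hE i (by lia)).of_iso (asIso (v.f i)).symm
  · by_cases h : i = b - k
    · subst h
      exact hP.iso e.symm (hP.biprod (hEp _) hL)
    · have := hiso i h
      exact hP.iso (asIso (v.f i)) (hEp i)

/-- Every approximable complex has a resolution by a bounded above complex with terms in `P`. -/
theorem exists_resolution (hP : Good P) (hql : PCoh.IsQuasiLiftable P)
    [HasColimitsOfShape ℕ C] (hb : ∀ i, b < i → K.ExactAt i) (hK : Approximable P K b) :
    ∃ (G : CochainComplex C ℤ) (s : G ⟶ K), (∀ i, b < i → IsZero (G.X i)) ∧ (∀ i, P (G.X i)) ∧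
      QuasiIso s := by
  have hz : ∀ i, IsZero ((0 : CochainComplex C ℤ).X i) := fun i =>
    Functor.map_isZero (HomologicalComplex.eval C (.up ℤ) i) (isZero_zero _)
  let s₀ : Stage P K b 0 :=
    { E := 0
      φ := 0
      bounds := fun i _ => hz i
      mem := fun i => hP.zero (hz i)
      exact_cone := Groth.Agent.Lib.PCoh.Resolve.exactGE_zero K hz 0 fun i hi => hb i (by lia) }
  choose next v hv hiso using fun k (s : Stage P K b k) => exists_next hP hql hK s
  let seq : ∀ k, Stage P K b k := fun k => Nat.rec (motive := fun k => Stage P K b k) s₀ next k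
  let F : ℕ ⥤ CochainComplex C ℤ := Functor.ofSequence (X := fun k => (seq k).E) fun k => v k (seq k)
  let c : Cocone F :=
    { pt := K
      ι := NatTrans.ofSequence (fun k => (seq k).φ) fun k => by
        change F.map (homOfLE (Nat.le_succ k)) ≫ (seq (k + 1)).φ = (seq k).φ ≫ 𝟙 K
        rw [Category.comp_id]
        exact (congrArg (· ≫ (seq (k + 1)).φ) (Functor.ofSequence_map_homOfLE_succ _ k)).trans
          (hv k (seq k)) }
  have hev : ∀ (i : ℤ) (k : ℕ), b + 1 - k ≤ i →
      (F ⋙ HomologicalComplex.eval C (.up ℤ) i).IsEventuallyConstantFrom k := by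
    intro i k hk l f
    obtain ⟨d, rfl⟩ := Nat.exists_eq_add_of_le (leOfHom f)
    rw [Subsingleton.elim f (homOfLE (Nat.le_add_right k d))]
    clear f
    induction d with
    | zero =>
      rw [show homOfLE (Nat.le_add_right k 0) = 𝟙 k from rfl, CategoryTheory.Functor.map_id]
      infer_instance
    | succ d ih =>
      rw [show homOfLE (Nat.le_add_right k (d + 1)) =
        homOfLE (Nat.le_add_right k d) ≫ homOfLE (Nat.le_succ (k + d)) from rfl,
        CategoryTheory.Functor.map_comp]
      have : IsIso ((F ⋙ HomologicalComplex.eval C (.up ℤ) i).map (homOfLE (Nat.le_succ (k + d)))) := by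
        change IsIso ((F.map (homOfLE (Nat.le_succ (k + d)))).f i)
        rw [show F.map (homOfLE (Nat.le_succ (k + d))) = v (k + d) (seq (k + d)) from
          Functor.ofSequence_map_homOfLE_succ _ _]
        exact hiso _ _ i (by lia)
      infer_instance
  have hι : ∀ (i : ℤ) (k : ℕ), b + 1 - k ≤ i → IsIso ((colimit.ι F k).f i) := fun i k hk =>
    (hev i k hk).isIso_ι_of_isColimit
      (isColimitOfPreserves (HomologicalComplex.eval C (.up ℤ) i) (colimit.isColimit F))
  refine ⟨colimit F, colimit.desc F c, fun i hi => ?_, fun i => ?_, ⟨fun i => ?_⟩⟩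
  · have := hι i (b + 1 - i).toNat (by lia)
    exact ((seq (b + 1 - i).toNat).bounds i (Or.inr hi)).of_iso
      (asIso ((colimit.ι F (b + 1 - i).toNat).f i)).symm
  · have := hι i (b + 1 - i).toNat (by lia)
    exact hP.iso (asIso ((colimit.ι F (b + 1 - i).toNat).f i)) ((seq (b + 1 - i).toNat).mem i)
  · obtain ⟨k, hk⟩ : ∃ k : ℕ, b + 1 - k ≤ i - 1 := ⟨(b + 2 - i).toNat, by lia⟩
    have h₁ : QuasiIsoAt (colimit.ι F k) i := by
      rw [quasiIsoAt_iff' _ (i - 1) i (i + 1) (by simp) (by simp)]
      let φ := (HomologicalComplex.shortComplexFunctor' C (.up ℤ) (i - 1) i (i + 1)).map (colimit.ι F k)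
      have : IsIso φ.τ₁ := hι (i - 1) k hk
      have : IsIso φ.τ₂ := hι i k (by lia)
      have : IsIso φ.τ₃ := hι (i + 1) k (by lia)
      exact ShortComplex.quasiIso_of_epi_of_isIso_of_mono φ
    have h₂ : QuasiIsoAt (colimit.ι F k ≫ colimit.desc F c) i := by
      rw [colimit.ι_desc, quasiIsoAt_iff_isIso_homologyMap]
      exact ((exactGE_iff _ _).1 (seq k).exact_cone).2 i (by lia)
    exact quasiIsoAt_of_comp_left (colimit.ι F k) (colimit.desc F c) i

end

open AlgebraicGeometry

/-- Every module is a quotient of a flat one. -/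
theorem exists_flat_cover {X : Scheme.{u}} (M : X.Modules) :
    ∃ (E : X.Modules) (π : E ⟶ M), FlatMod.IsFlat E ∧ Epi π := by
  let S := (HomologicalComplex.single X.Modules (ComplexShape.up ℤ) 0).obj M
  haveI := KFlat.epi_aug_f S 0
  exact ⟨((KFlat.res X).obj S).X 0,
    ((KFlat.aug X).app S).f 0 ≫ (HomologicalComplex.singleObjXSelf (ComplexShape.up ℤ) 0 M).hom,
    KFlat.isFlat_res_X S 0, epi_comp _ _⟩

/-- Flat modules form a good class. -/
theorem good_isFlat {X : Scheme.{u}} : Good (C := X.Modules) fun M => FlatMod.IsFlat M where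
  zero {M} hM := fun x => by
    haveI : Subsingleton (M.presheaf.stalk x) :=
      ModuleCat.subsingleton_of_isZero ((Modules.StalkModule.stalkModFunctor X x).map_isZero hM)
    exact Module.Flat.of_free
  biprod {M N} hM hN := by
    let T := ShortComplex.mk (biprod.inl : M ⟶ M ⊞ N) biprod.snd (by simp)
    exact Calculus.isFlat_of_shortExact (S := T)
      (ShortComplex.Splitting.shortExact (ShortComplex.Splitting.ofHasBinaryBiproduct M N)) hM hN
  iso {M N} e h := KFlat.isFlat_of_retract ⟨e.inv, e.hom, e.inv_hom_id⟩ h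

/-- A complex of O_X-modules exact above `b` has a resolution by flat modules zero above `b`. -/
theorem exists_flat_resolution {X : Scheme.{u}} (K : CochainComplex X.Modules ℤ) (b : ℤ)
    (hb : ∀ i, b < i → K.ExactAt i) :
    ∃ (G : CochainComplex X.Modules ℤ) (s : G ⟶ K), (∀ i, b < i → IsZero (G.X i)) ∧
      (∀ i, FlatMod.IsFlat (G.X i)) ∧ QuasiIso s := by
  refine exists_resolution (P := fun M => FlatMod.IsFlat M) good_isFlat (fun E F u _ hF => ?_) hb
    (fun n E φ _ _ _ _ => exists_flat_cover _)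
  obtain ⟨E', π, hE', hπ⟩ := exists_flat_cover E
  exact ⟨E', π, hE', epi_comp _ _⟩

end Groth.Agent.Lib.DerivedOX.FlatResolve
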