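import Groth.Agent.Lib.DerivedOX.StalkCx
import Groth.Agent.Lib.Devissage.Sky

/-!
# K-flatness is detected on stalks
-/

universe u

open CategoryTheory Limits AlgebraicGeometry MonoidalCategory HomologicalComplex Opposite

namespace Groth.Agent.Lib.DerivedOX.KFlatStalk

open StalkCx Groth.Agent.Lib.Modules StalkModule Groth.Agent.Lib.Devissage Sky

variable {X : Scheme.{u}} (y : X)

/-- The functorial action of the skyscraper. -/
noncomputable def skyMap {L L' : ModuleCat.{u} (X.presheaf.stalk y)} (φ : L ⟶ L') :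
    sky y L ⟶ sky y L' :=
  toSky (φ.hom ∘ₗ (stalkEquiv y L).symm.toLinearMap)

lemma skyMap_app {L L' : ModuleCat.{u} (X.presheaf.stalk y)} (φ : L ⟶ L') (U : X.Opens)
    (f : Sec y L U) :
    (show Sec y L' U from (skyMap y φ).app U (show Γ(sky y L, U) from f)) = fun h => φ (f h) := by
  funext h
  change φ.hom ((stalkEquiv y L).symm
    ((sky y L).presheaf.germ U y h.down (show Γ(sky y L, U) from f))) = φ (f h)
  rw [← stalkEquiv_eq h.down (show Γ(sky y L, U) from f), LinearEquiv.symm_apply_apply]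

/-- The skyscraper functor. -/
noncomputable def skyF : ModuleCat.{u} (X.presheaf.stalk y) ⥤ X.Modules where
  obj L := sky y L
  map φ := skyMap y φ
  map_id L := by
    ext U f
    exact skyMap_app y (𝟙 L) U f
  map_comp {L L' L''} φ ψ := by
    ext U f
    refine (skyMap_app y (φ ≫ ψ) U f).trans ?_
    exact ((congrArg ((skyMap y ψ).app U) (skyMap_app y φ U f)).trans (skyMap_app y ψ U _)).symm

instance : (skyF (X := X) y).Additive where
  map_add {L L' φ ψ} := by
    ext U f
    refine (skyMap_app y (φ + ψ) U f).trans ?_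
    exact (congrArg₂ (· + ·) (skyMap_app y φ U f) (skyMap_app y ψ U f)).symm

/-- The stalk of the skyscraper at its point. -/
noncomputable def skyStalkIso : skyF y ⋙ stalkModFunctor X y ≅ 𝟭 _ :=
  (NatIso.ofComponents (fun L => (stalkEquiv y L).toModuleIso) (fun {L L'} φ => by
    ext l
    change stalkEquiv y L' (φ l) = stalkMapₗ (skyMap y φ) y (stalkEquiv y L l)
    rw [skyMap, stalkMapₗ_toSky]
    simp only [LinearMap.comp_apply, LinearEquiv.coe_coe, LinearEquiv.symm_apply_apply]) :
    𝟭 _ ≅ skyF y ⋙ stalkModFunctor X y).symm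

lemma exact_stalk_skyMap {L₁ L₂ L₃ : ModuleCat.{u} (X.presheaf.stalk y)} (f : L₁ ⟶ L₂)
    (g : L₂ ⟶ L₃) (h : Function.Exact f g) (z : X) :
    Function.Exact (stalkMapₗ (skyMap y f) z) (stalkMapₗ (skyMap y g) z) := by
  intro s
  obtain ⟨U, hU, s, rfl⟩ := TopCat.Presheaf.exists_germ_eq (sky y L₂).presheaf s
  rw [stalkMapₗ_germ]
  constructor
  · intro hs
    obtain ⟨W, hW, i, i', e⟩ := TopCat.Presheaf.germ_eq (sky y L₃).presheaf z hU hU _ 0
      (hs.trans (map_zero ((sky y L₃).presheaf.germ U z hU).hom).symm)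
    have he : ∀ hy : PLift (y ∈ W), g ((show Sec y L₂ U from s) ⟨i.le hy.down⟩) = 0 := fun hy => by
      refine (congrFun (skyMap_app y g U s) ⟨i.le hy.down⟩).symm.trans ?_
      exact congrFun e hy
    refine ⟨(sky y L₁).presheaf.germ W z hW
      (fun hy => ((h _).1 (he hy)).choose : Sec y L₁ W), ?_⟩
    rw [stalkMapₗ_germ, ← TopCat.Presheaf.germ_res_apply (sky y L₂).presheaf i z hW s]
    congr 1
    exact (skyMap_app y f W _).trans (funext fun hy => ((h _).1 (he hy)).choose_spec)
  · rintro ⟨t, ht⟩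
    obtain ⟨V, hV, t, rfl⟩ := TopCat.Presheaf.exists_germ_eq (sky y L₁).presheaf t
    rw [← stalkMapₗ_germ (skyMap y g) hU s, ← ht, stalkMapₗ_germ, stalkMapₗ_germ]
    refine (congrArg ((sky y L₃).presheaf.germ V z hV) ?_).trans
      (map_zero ((sky y L₃).presheaf.germ V z hV).hom)
    refine ((congrArg _ (skyMap_app y f V t)).trans (skyMap_app y g V _)).trans ?_
    exact funext fun hy => h.apply_apply_eq_zero _

lemma acyclic_sky {L : CochainComplex (ModuleCat.{u} (X.presheaf.stalk y)) ℤ} (hL : L.Acyclic) :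
    (((skyF y).mapHomologicalComplex (.up ℤ)).obj L).Acyclic := by
  rw [acyclic_iff_stalk]
  intro z n
  have e := hL n
  rw [exactAt_iff, ShortComplex.ShortExact.moduleCat_exact_iff_function_exact] at e ⊢
  exact exact_stalk_skyMap y _ _ e z

/-- K-flatness of a complex of O_X-modules is detected on the stalks. -/
theorem isKFlat_iff_stalk (F : CochainComplex X.Modules ℤ) :
    DCoh.IsKFlat F ↔ ∀ x : X, DRing.IsKFlat (X.presheaf.stalk x)
      (((stalkModFunctor X x).mapHomologicalComplex (.up ℤ)).obj F) := by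
  refine ⟨fun h x M hM => ?_, fun h L hL => ?_⟩
  · have hs := acyclic_sky x ((acyclic_iff_forall_isZero M).2 hM)
    have := acyclic_stalk x ((acyclic_iff_forall_isZero _).2
      (h _ ((acyclic_iff_forall_isZero _).1 hs)))
    refine (acyclic_iff_forall_isZero _).1 (acyclic_of_iso ?_ this)
    exact (tensorIso x _ F).symm ≪≫
      (((curriedTensor (ModuleCat.{u} (X.presheaf.stalk x))).map₂CochainComplex).mapIso
        ((NatIso.mapHomologicalComplex (skyStalkIso x) (.up ℤ)).app M)).app _
  · refine (acyclic_iff_forall_isZero _).1 ((acyclic_iff_stalk _).2 fun x => ?_)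
    refine acyclic_of_iso (tensorIso x L F) ?_
    exact (acyclic_iff_forall_isZero _).2 (h x _ ((acyclic_iff_forall_isZero _).1
      (acyclic_stalk x ((acyclic_iff_forall_isZero L).2 hL))))

end Groth.Agent.Lib.DerivedOX.KFlatStalk
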