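import Groth.Agent.Lib.DerivedOX.KFlatBaseChange
import Groth.Agent.Lib.DerivedOX.KFlatStalk
import Groth.Agent.Lib.DerivedOX.PullbackStalk

/-!
# Pullback preserves K-flatness
-/

universe u

open CategoryTheory Limits AlgebraicGeometry

namespace Groth.Agent.Lib.DerivedOX.KFlatPullback

open Groth.Agent.Lib.Modules StalkModule StalkCx

variable {X Y : Scheme.{u}} (f : X ⟶ Y)

/-- The termwise pullback of a K-flat complex is K-flat. -/
theorem isKFlat_pullback {K : CochainComplex Y.Modules ℤ} (hK : DCoh.IsKFlat K) :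
    DCoh.IsKFlat (((Scheme.Modules.pullback f).mapHomologicalComplex (ComplexShape.up ℤ)).obj K) := by
  refine (KFlatStalk.isKFlat_iff_stalk _).2 fun x => ?_
  refine isKFlat_of_iso ?_ (KFlatBaseChange.isKFlat_extendScalars (f.stalkMap x).hom
    ((KFlatStalk.isKFlat_iff_stalk K).1 hK (f.base x)))
  exact (NatIso.mapHomologicalComplex (PullbackStalk.pullbackStalkIso f x) (ComplexShape.up ℤ)).app K

end Groth.Agent.Lib.DerivedOX.KFlatPullback
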