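import Mathlib.Algebra.Homology.DerivedCategory.KInjective
import Mathlib.Algebra.Homology.DerivedCategory.ExactFunctor
import Mathlib.CategoryTheory.Functor.Derived.RightDerived
import Mathlib.CategoryTheory.Adjunction.PartialAdjoint
import Mathlib.CategoryTheory.Triangulated.Adjunction

/-!
# Right derived functors from K-injective resolutions

If every complex has a quasi-isomorphism to a K-injective one, then `DerivedCategory.Qh` has a
right adjoint `resFunctor`, and every functor `F` out of the homotopy category has the (absolute)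
right derived functor `resFunctor ⋙ F`.
-/

universe w v u v' u'

open CategoryTheory Limits

namespace Groth.Agent.Lib.DerivedOX.RightDerived

variable (A : Type u) [Category.{v} A] [Abelian A] [HasDerivedCategory.{w} A]

/-- Every complex admits a quasi-isomorphism to a K-injective complex. -/
def HasKInjRes : Prop :=
  ∀ K : CochainComplex A ℤ, ∃ (I : CochainComplex A ℤ) (f : K ⟶ I), I.IsKInjective ∧ QuasiIso f

variable {A}

theorem isLeftAdjoint_Qh (h : HasKInjRes A) : (DerivedCategory.Qh (C := A)).IsLeftAdjoint := by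
  apply Functor.isLeftAdjoint_of_rightAdjointObjIsDefined_eq_top
  ext d
  simp only [Pi.top_apply, Prop.top_eq_true, iff_true]
  obtain ⟨K, ⟨e⟩⟩ : ∃ K : CochainComplex A ℤ, Nonempty (DerivedCategory.Q.obj K ≅ d) :=
    ⟨_, ⟨DerivedCategory.Q.objObjPreimageIso d⟩⟩
  obtain ⟨I, f, hI, hf⟩ := h K
  let eI : DerivedCategory.Qh.obj ((HomotopyCategory.quotient A (.up ℤ)).obj I) ≅ d :=
    (DerivedCategory.quotientCompQhIso A).app I ≪≫ (asIso (DerivedCategory.Q.map f)).symm ≪≫ e
  let r : (DerivedCategory.Qh.op ⋙ yoneda.obj d).RepresentableBy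
      ((HomotopyCategory.quotient A (.up ℤ)).obj I) :=
    { homEquiv := fun {X} => (Equiv.ofBijective _
        (CochainComplex.IsKInjective.Qh_map_bijective X I)).trans eI.homToEquiv
      homEquiv_comp := fun {X X'} g g' => by
        change DerivedCategory.Qh.map (g ≫ g') ≫ eI.hom =
          DerivedCategory.Qh.map g ≫ DerivedCategory.Qh.map g' ≫ eI.hom
        simp }
  exact r.isRepresentable

section

variable [(DerivedCategory.Qh (C := A)).IsLeftAdjoint]

variable (A) in
/-- The K-injective resolution functor `D(A) ⥤ K(A)`. -/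
noncomputable abbrev resFunctor : DerivedCategory A ⥤ HomotopyCategory A (.up ℤ) :=
  (DerivedCategory.Qh (C := A)).rightAdjoint

variable (A) in
/-- `Qh` is left adjoint to `resFunctor`. -/
noncomputable abbrev resAdj : DerivedCategory.Qh ⊣ resFunctor A :=
  Adjunction.ofIsLeftAdjoint _

theorem isZero_Qh_obj_of_acyclic {K : CochainComplex A ℤ} (hK : K.Acyclic) :
    IsZero (DerivedCategory.Qh.obj ((HomotopyCategory.quotient A (.up ℤ)).obj K)) := by
  refine IsZero.of_iso ?_ ((DerivedCategory.quotientCompQhIso A).app K)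
  obtain ⟨Z, hz⟩ : ∃ Z : CochainComplex A ℤ, IsZero Z := ⟨_, isZero_zero _⟩
  have h0 : QuasiIso (0 : K ⟶ Z) := ⟨fun n => by
    rw [quasiIsoAt_iff_exactAt]
    · exact HomologicalComplex.acyclic_of_isZero Z hz n
    · exact hK n⟩
  exact IsZero.of_iso (DerivedCategory.Q.map_isZero hz) (asIso (DerivedCategory.Q.map (0 : K ⟶ Z)))

theorem exists_resFunctor_obj_iso (d : DerivedCategory A) :
    ∃ I : CochainComplex A ℤ, I.IsKInjective ∧
      Nonempty ((HomotopyCategory.quotient A (.up ℤ)).obj I ≅ (resFunctor A).obj d) := by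
  obtain ⟨I, hI⟩ := HomotopyCategory.quotient_obj_surjective ((resFunctor A).obj d)
  refine ⟨I, ?_, ⟨eqToIso hI⟩⟩
  rw [CochainComplex.isKInjective_iff_rightOrthogonal]
  intro X g hX
  obtain ⟨X, rfl⟩ := HomotopyCategory.quotient_obj_surjective X
  rw [HomotopyCategory.quotient_obj_mem_subcategoryAcyclic_iff_acyclic] at hX
  rw [← cancel_mono (eqToHom hI), zero_comp]
  apply ((resAdj A).homEquiv _ _).symm.injective
  exact (isZero_Qh_obj_of_acyclic hX).eq_of_src _ _

theorem isIso_unit_of_isKInjective (I : CochainComplex A ℤ) [I.IsKInjective] :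
    IsIso ((resAdj A).unit.app ((HomotopyCategory.quotient A (.up ℤ)).obj I)) := by
  set qI := (HomotopyCategory.quotient A (.up ℤ)).obj I
  set η := (resAdj A).unit
  obtain ⟨J, hJ, ⟨e⟩⟩ := exists_resFunctor_obj_iso (DerivedCategory.Qh.obj qI)
  -- the candidate inverse
  obtain ⟨g, hg⟩ := (CochainComplex.IsKInjective.Qh_map_bijective
    ((resFunctor A).obj (DerivedCategory.Qh.obj qI)) I).2
      ((resAdj A).counit.app (DerivedCategory.Qh.obj qI))
  refine ⟨g, ?_, ?_⟩
  · apply (CochainComplex.IsKInjective.Qh_map_bijective qI I).1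
    simp [η, hg, qI]
  · apply ((resAdj A).homEquiv _ _).symm.injective
    simp [η, Adjunction.homEquiv_counit, hg, qI]

variable {H : Type u'} [Category.{v'} H] (F : HomotopyCategory A (.up ℤ) ⥤ H)

/-- The unit `F ⟶ Qh ⋙ resFunctor ⋙ F`. -/
noncomputable def derivedUnit : F ⟶ DerivedCategory.Qh ⋙ (resFunctor A ⋙ F) :=
  F.leftUnitor.inv ≫ Functor.whiskerRight (resAdj A).unit F ≫ (Functor.associator _ _ _).hom

@[simp]
theorem derivedUnit_app (X : HomotopyCategory A (.up ℤ)) :
    (derivedUnit F).app X = F.map ((resAdj A).unit.app X) := by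
  simp [derivedUnit]

/-- The descent map of the universal property. -/
noncomputable def descRes (G : DerivedCategory A ⥤ H) (β : F ⟶ DerivedCategory.Qh ⋙ G) :
    resFunctor A ⋙ F ⟶ G where
  app d := β.app ((resFunctor A).obj d) ≫ G.map ((resAdj A).counit.app d)
  naturality d d' f := by
    have h1 := β.naturality ((resFunctor A).map f)
    simp only [Functor.comp_map] at h1 ⊢
    rw [reassoc_of% h1, Category.assoc, ← G.map_comp, ← G.map_comp]
    exact congrArg (fun z => β.app _ ≫ G.map z) ((resAdj A).counit.naturality f)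

theorem derivedUnit_descRes (G : DerivedCategory A ⥤ H) (β : F ⟶ DerivedCategory.Qh ⋙ G) :
    derivedUnit F ≫ Functor.whiskerLeft DerivedCategory.Qh (descRes F G β) = β := by
  ext X
  have h1 := β.naturality ((resAdj A).unit.app X)
  simp only [Functor.comp_map, Functor.id_obj, Functor.comp_obj] at h1
  simp [descRes, reassoc_of% h1, ← G.map_comp]

theorem descRes_unique (G : DerivedCategory A ⥤ H) (β : F ⟶ DerivedCategory.Qh ⋙ G)
    (m : resFunctor A ⋙ F ⟶ G) (hm : derivedUnit F ≫ Functor.whiskerLeft DerivedCategory.Qh m = β) :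
    m = descRes F G β := by
  subst hm
  ext d
  have h2 := m.naturality ((resAdj A).counit.app d)
  simp only [Functor.comp_map, Functor.id_obj, Functor.comp_obj] at h2
  simp [descRes, ← h2, ← F.map_comp_assoc]

instance isRightDerivedFunctor_resFunctor :
    (resFunctor A ⋙ F).IsRightDerivedFunctor (derivedUnit F)
      (HomotopyCategory.quasiIso A (.up ℤ)) where
  isLeftKanExtension := ⟨⟨Limits.IsInitial.ofUniqueHom
      (fun E => StructuredArrow.homMk (descRes F E.right E.hom)
        (derivedUnit_descRes F E.right E.hom))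
      (fun E m => StructuredArrow.ext _ _
        (descRes_unique F E.right E.hom m.right (StructuredArrow.w m)))⟩⟩

theorem hasRightDerivedFunctor :
    F.HasRightDerivedFunctor (HomotopyCategory.quasiIso A (.up ℤ)) :=
  Functor.HasRightDerivedFunctor.mk' (resFunctor A ⋙ F) (derivedUnit F)

variable [F.HasRightDerivedFunctor (HomotopyCategory.quasiIso A (.up ℤ))]

/-- The total right derived functor is computed by K-injective resolutions. -/
noncomputable def totalRightDerivedIso :
    resFunctor A ⋙ F ≅
      F.totalRightDerived DerivedCategory.Qh (HomotopyCategory.quasiIso A (.up ℤ)) :=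
  Functor.rightDerivedUnique _ _ (derivedUnit F)
    (F.totalRightDerivedUnit DerivedCategory.Qh _) (HomotopyCategory.quasiIso A (.up ℤ))

@[reassoc]
theorem derivedUnit_comp_totalRightDerivedIso_hom (X : HomotopyCategory A (.up ℤ)) :
    (derivedUnit F).app X ≫ (totalRightDerivedIso F).hom.app (DerivedCategory.Qh.obj X) =
      (F.totalRightDerivedUnit DerivedCategory.Qh (HomotopyCategory.quasiIso A (.up ℤ))).app X := by
  exact (Functor.rightDerivedNatTrans_app (resFunctor A ⋙ F)
    (F.totalRightDerived DerivedCategory.Qh (HomotopyCategory.quasiIso A (.up ℤ)))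
    (derivedUnit F) (F.totalRightDerivedUnit DerivedCategory.Qh
      (HomotopyCategory.quasiIso A (.up ℤ))) (HomotopyCategory.quasiIso A (.up ℤ)) (𝟙 F) X).trans
    (Category.id_comp _)

theorem isIso_totalRightDerivedUnit_app_iff (X : HomotopyCategory A (.up ℤ)) :
    IsIso ((F.totalRightDerivedUnit DerivedCategory.Qh
        (HomotopyCategory.quasiIso A (.up ℤ))).app X) ↔
      IsIso (F.map ((resAdj A).unit.app X)) := by
  rw [← derivedUnit_comp_totalRightDerivedIso_hom, isIso_comp_right_iff, derivedUnit_app]

theorem isIso_totalRightDerivedUnit_app_of_isKInjective (I : CochainComplex A ℤ)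
    [I.IsKInjective] :
    IsIso ((F.totalRightDerivedUnit DerivedCategory.Qh
        (HomotopyCategory.quasiIso A (.up ℤ))).app
      ((HomotopyCategory.quotient A (.up ℤ)).obj I)) := by
  rw [isIso_totalRightDerivedUnit_app_iff]
  have := isIso_unit_of_isKInjective I
  infer_instance

end

end Groth.Agent.Lib.DerivedOX.RightDerived
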