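import Groth.Prelude.Def_CxOX
import Groth.Agent.Lib.DerivedOX.Grothendieck
import Groth.Agent.Lib.DerivedOX.RightDerived
import Groth.Agent.Lib.DerCat.KInjExists

/-!
# Existence of unbounded right derived functors on D(O_X)
-/

set_option linter.style.haveILetI false

universe w v u

open CategoryTheory AlgebraicGeometry

namespace Groth.Agent.Lib.DerivedOX.Exists

/-- In a Grothendieck abelian category every complex has a K-injective resolution, so `Qh` is a left adjoint. -/
instance isLeftAdjoint_Qh {A : Type u} [Category.{v} A] [Abelian A] [IsGrothendieckAbelian.{v} A]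
    [HasDerivedCategory.{w} A] : (DerivedCategory.Qh (C := A)).IsLeftAdjoint :=
  RightDerived.isLeftAdjoint_Qh fun K => DerCat.KInjExists.hasKInjRes K

section

universe u'

attribute [local instance] HasDerivedCategory.standard

variable {X Y : Scheme.{u'}}

theorem hasRpush (f : X ⟶ Y) : DCoh.HasRpush f :=
  RightDerived.hasRightDerivedFunctor _

theorem hasRΓ (X : Scheme.{u'}) : DCoh.HasRΓ X :=
  RightDerived.hasRightDerivedFunctor _

theorem hasRgammaZ {U : Scheme.{u'}} (j : U ⟶ X) [IsOpenImmersion j] : CxOX.HasRgammaZ j :=
  RightDerived.hasRightDerivedFunctor _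

theorem hasRsectZ {U : Scheme.{u'}} (j : U ⟶ X) [IsOpenImmersion j] : CxOX.HasRsectZ j :=
  RightDerived.hasRightDerivedFunctor _

end

end Groth.Agent.Lib.DerivedOX.Exists
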