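import Mathlib.Algebra.Homology.DerivedCategory.Basic
import Groth.Agent.Lib.DerivedOX.LeftDerived

/-!
# Left derived functors on the homotopy category: computation and absoluteness
-/

open CategoryTheory Limits

set_option linter.style.haveILetI false

namespace Groth.Agent.Lib.DerivedOX.LeftDerived

section Detect

variable {C D H : Type*} [Category C] [Category D] [Category H]
  {W : MorphismProperty C} {F : C ⥤ H} {P : C ⥤ C} {ψ : P ⟶ 𝟭 C} (hψ : IsAdapted W F P ψ)
  (L : C ⥤ D) [L.IsLocalization W]

include hψ in
/-- A functor with a counit which is an isomorphism on resolved objects is a left derived functor. -/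
theorem isLeftDerivedFunctor_of_isIso (G : D ⥤ H) (β : L ⋙ G ⟶ F)
    (h : ∀ X, IsIso (β.app (P.obj X))) : G.IsLeftDerivedFunctor β W := by
  haveI := Localization.essSurj L W
  haveI := isLeftDerivedFunctor hψ L
  let γ := liftTrans hψ L G β
  have hγ : ∀ X, IsIso (γ.app (L.obj X)) := fun X => by
    haveI := h X
    haveI := isIso_counit_app_resolved hψ L X
    have e := congrArg (fun t => t.app (P.obj X)) (whiskerLeft_liftTrans hψ L G β)
    haveI : IsIso (γ.app (L.obj (P.obj X))) := IsIso.of_isIso_fac_right e
    haveI := Localization.inverts L W (ψ.app X) (hψ.mem X)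
    exact (NatTrans.isIso_app_iff_of_iso γ (asIso (L.map (ψ.app X)))).1 inferInstance
  haveI : ∀ d, IsIso (γ.app d) := fun d =>
    (NatTrans.isIso_app_iff_of_iso γ (L.objObjPreimageIso d)).1 (hγ _)
  haveI := NatIso.isIso_of_isIso_app γ
  exact (Functor.isLeftDerivedFunctor_iff_of_iso (LF := G) (α := β) (α' := counit hψ L) (W := W)
    (e := asIso γ) (comm := whiskerLeft_liftTrans hψ L G β)).2 inferInstance

lemma IsAdapted.postcomp {H' : Type*} [Category H'] (hψ : IsAdapted W F P ψ) (G : H ⥤ H') :
    IsAdapted W (F ⋙ G) P ψ where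
  mem := hψ.mem
  inverts A B g hg := by
    haveI : IsIso (F.map (P.map g)) := hψ.inverts g hg
    exact inferInstanceAs (IsIso (G.map (F.map (P.map g))))
  isIso_resolved X := by
    haveI := hψ.isIso_resolved X
    exact inferInstanceAs (IsIso (G.map (F.map (ψ.app (P.obj X)))))

lemma IsAdapted.of_natIso {F' : C ⥤ H} (hψ : IsAdapted W F P ψ) (e : F ≅ F') :
    IsAdapted W F' P ψ where
  mem := hψ.mem
  inverts A B g hg := by
    haveI : IsIso (F.map (P.map g)) := hψ.inverts g hg
    exact (NatIso.isIso_map_iff e (P.map g)).1 inferInstance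
  isIso_resolved X := by
    haveI := hψ.isIso_resolved X
    exact (NatIso.isIso_map_iff e (ψ.app (P.obj X))).1 inferInstance

end Detect

section Kh

universe w v u

variable {C : Type u} [Category.{v} C] [Abelian C] [HasDerivedCategory.{w} C]
  {H : Type*} [Category H] {G : HomotopyCategory C (.up ℤ) ⥤ H}
  {P : CochainComplex C ℤ ⥤ CochainComplex C ℤ} {ψ : P ⟶ 𝟭 _}
  (hA : IsAdapted (HomologicalComplex.quasiIso C (.up ℤ)) (HomotopyCategory.quotient C (.up ℤ) ⋙ G)
    P ψ)

local instance : (HomotopyCategory.quotient C (.up ℤ) ⋙ DerivedCategory.Qh).IsLocalization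
    (HomologicalComplex.quasiIso C (.up ℤ)) :=
  Functor.IsLocalization.of_iso _ (DerivedCategory.quotientCompQhIso C).symm

/-- The counit on the homotopy category. -/
noncomputable def khCounit :
    DerivedCategory.Qh ⋙ functor hA (HomotopyCategory.quotient C (.up ℤ) ⋙ DerivedCategory.Qh) ⟶ G :=
  CategoryTheory.Quotient.natTransLift _ ((Functor.associator _ _ _).inv ≫
    counit hA (HomotopyCategory.quotient C (.up ℤ) ⋙ DerivedCategory.Qh))

lemma khCounit_app (K : CochainComplex C ℤ) :
    (khCounit hA).app ((HomotopyCategory.quotient C (.up ℤ)).obj K) =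
      (counit hA (HomotopyCategory.quotient C (.up ℤ) ⋙ DerivedCategory.Qh)).app K :=
  (CategoryTheory.Quotient.natTransLift_app _ _ _ _ K).trans (Category.id_comp _)

theorem isLeftDerivedFunctor_khCounit :
    (functor hA (HomotopyCategory.quotient C (.up ℤ) ⋙ DerivedCategory.Qh)).IsLeftDerivedFunctor
      (khCounit hA) (HomotopyCategory.quasiIso C (.up ℤ)) := by
  let E := HomotopyCategory.quotient C (ComplexShape.up ℤ)
  let LF := functor hA (E ⋙ DerivedCategory.Qh)
  haveI : LF.IsLeftDerivedFunctor (L := E ⋙ DerivedCategory.Qh) (F := E ⋙ G)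
      ((Functor.associator E DerivedCategory.Qh LF).hom ≫ Functor.whiskerLeft E (khCounit hA))
      (HomologicalComplex.quasiIso C (.up ℤ)) := by
    convert LeftDerived.isLeftDerivedFunctor hA (E ⋙ DerivedCategory.Qh) using 1
    ext K
    refine (Category.id_comp _).trans ?_
    exact khCounit_app hA K
  exact isLeftDerivedFunctor_of_precomp (F := G) (W := HomotopyCategory.quasiIso _ _)
    DerivedCategory.Qh E (HomologicalComplex.homotopyEquivalences C (.up ℤ))
    (HomologicalComplex.quasiIso C (.up ℤ)) LF (khCounit hA)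

include hA in
theorem hasLeftDerivedFunctor_kh :
    G.HasLeftDerivedFunctor (HomotopyCategory.quasiIso C (.up ℤ)) :=
  haveI := isLeftDerivedFunctor_khCounit hA
  Functor.HasLeftDerivedFunctor.mk'
    (LF := functor hA (HomotopyCategory.quotient C (.up ℤ) ⋙ DerivedCategory.Qh)) (α := khCounit hA)

variable (LF : DerivedCategory C ⥤ H) (α : DerivedCategory.Qh ⋙ LF ⟶ G)
  [LF.IsLeftDerivedFunctor α (HomotopyCategory.quasiIso C (.up ℤ))]

include hA in
/-- The counit of a left derived functor on the homotopy category at a complex whose resolution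
map is inverted. -/
theorem isIso_khCounit_app (K : CochainComplex C ℤ)
    (hK : IsIso (G.map ((HomotopyCategory.quotient C (.up ℤ)).map (ψ.app K)))) :
    IsIso (α.app ((HomotopyCategory.quotient C (.up ℤ)).obj K)) := by
  haveI := isLeftDerivedFunctor_khCounit hA
  let E := HomotopyCategory.quotient C (ComplexShape.up ℤ)
  let LF₀ := functor hA (E ⋙ DerivedCategory.Qh)
  have h := Functor.leftDerived_fac_app LF α (HomotopyCategory.quasiIso C (.up ℤ)) LF₀
    (khCounit hA) (E.obj K)
  haveI := (Functor.isLeftDerivedFunctor_iff_isIso_leftDerivedLift LF α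
    (HomotopyCategory.quasiIso C (.up ℤ)) LF₀ (khCounit hA)).1 inferInstance
  haveI : IsIso ((khCounit hA).app (E.obj K)) := by
    rw [khCounit_app, counit_app]
    exact @IsIso.comp_isIso _ _ _ _ _ _ _
      ((Localization.fac (P ⋙ E ⋙ G) hA.inverts (E ⋙ DerivedCategory.Qh)).app K).isIso_hom hK
  exact IsIso.of_isIso_fac_left h

include hA in
/-- Left derived functors computed by resolutions are absolute. -/
theorem isLeftDerivedFunctor_postcomp {H' : Type*} [Category H'] (G' : H ⥤ H') :
    (LF ⋙ G').IsLeftDerivedFunctor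
      ((Functor.associator DerivedCategory.Qh LF G').inv ≫ Functor.whiskerRight α G')
      (HomotopyCategory.quasiIso C (.up ℤ)) := by
  let E := HomotopyCategory.quotient C (ComplexShape.up ℤ)
  let α' := (Functor.associator DerivedCategory.Qh LF G').inv ≫ Functor.whiskerRight α G'
  haveI : (LF ⋙ G').IsLeftDerivedFunctor (L := E ⋙ DerivedCategory.Qh) (F := E ⋙ G ⋙ G')
      ((Functor.associator E DerivedCategory.Qh (LF ⋙ G')).hom ≫ Functor.whiskerLeft E α')
      (HomologicalComplex.quasiIso C (.up ℤ)) := by
    refine isLeftDerivedFunctor_of_isIso ((hA.postcomp G').of_natIso (Functor.associator E G G'))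
      (E ⋙ DerivedCategory.Qh) _ _ fun K => ?_
    haveI := isIso_khCounit_app hA LF α (P.obj K) (hA.isIso_resolved K)
    simp only [α', E, NatTrans.comp_app, Functor.associator_hom_app, Functor.whiskerLeft_app,
      Functor.whiskerRight_app, Functor.associator_inv_app]
    erw [Category.id_comp, Category.id_comp]
    exact inferInstanceAs (IsIso (G'.map (α.app (E.obj (P.obj K)))))
  exact isLeftDerivedFunctor_of_precomp (F := G ⋙ G') (W := HomotopyCategory.quasiIso _ _)
    DerivedCategory.Qh E (HomologicalComplex.homotopyEquivalences C (.up ℤ))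
    (HomologicalComplex.quasiIso C (.up ℤ)) (LF ⋙ G') α'

end Kh

end Groth.Agent.Lib.DerivedOX.LeftDerived
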