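import Mathlib.CategoryTheory.Limits.Preserves.Shapes.Products
import Groth.Agent.Lib.DerivedOX.Bifunctor

/-!
# Functoriality of the total complex in the bifunctor
-/

open CategoryTheory Limits HomologicalComplex

set_option linter.style.haveILetI false

namespace Groth.Agent.Lib.DerivedOX.BifunctorMap

open Bifunctor (Fib)

variable {C₁ C₂ D C₁' C₂' D' : Type*} [Category C₁] [Category C₂] [Category D] [Category C₁']
  [Category C₂'] [Category D'] [Preadditive C₁] [Preadditive C₂] [Preadditive D]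
  [Preadditive C₁'] [Preadditive C₂'] [Preadditive D']
  (F : C₁ ⥤ C₂ ⥤ D) [F.Additive] [∀ X₁, (F.obj X₁).Additive]
  [∀ (K₁ : CochainComplex C₁ ℤ) (K₂ : CochainComplex C₂ ℤ), HasMapBifunctor K₁ K₂ F (.up ℤ)]
  (F' : C₁' ⥤ C₂' ⥤ D') [F'.Additive] [∀ X₁, (F'.obj X₁).Additive]
  [∀ (K₁ : CochainComplex C₁' ℤ) (K₂ : CochainComplex C₂' ℤ), HasMapBifunctor K₁ K₂ F' (.up ℤ)]
  (S₁ : C₁ ⥤ C₁') [S₁.Additive] (S₂ : C₂ ⥤ C₂') [S₂.Additive] (G : D ⥤ D') [G.Additive]

/-- A comparison of two bifunctors along functors on the sources and on the target. -/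
structure Comparison where
  /-- The components. -/
  iso : ∀ a b, (F'.obj (S₁.obj a)).obj (S₂.obj b) ≅ G.obj ((F.obj a).obj b)
  natural₁ : ∀ {a a' : C₁} (f : a ⟶ a') (b : C₂),
    (F'.map (S₁.map f)).app (S₂.obj b) ≫ (iso a' b).hom = (iso a b).hom ≫ G.map ((F.map f).app b)
  natural₂ : ∀ (a : C₁) {b b' : C₂} (g : b ⟶ b'),
    (F'.obj (S₁.obj a)).map (S₂.map g) ≫ (iso a b').hom = (iso a b).hom ≫ G.map ((F.obj a).map g)

variable {F F' S₁ S₂ G} (θ : Comparison F F' S₁ S₂ G)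

attribute [reassoc] Comparison.natural₁ Comparison.natural₂

variable (K : CochainComplex C₁ ℤ) (L : CochainComplex C₂ ℤ)

/-- `S₁` termwise. -/
noncomputable abbrev map₁ (S₁ : C₁ ⥤ C₁') [S₁.Additive] (K : CochainComplex C₁ ℤ) :
    CochainComplex C₁' ℤ := (S₁.mapHomologicalComplex (ComplexShape.up ℤ)).obj K

/-- `S₂` termwise. -/
noncomputable abbrev map₂ (S₂ : C₂ ⥤ C₂') [S₂.Additive] (L : CochainComplex C₂ ℤ) :
    CochainComplex C₂' ℤ := (S₂.mapHomologicalComplex (ComplexShape.up ℤ)).obj L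


/-- The comparison in a given degree. -/
noncomputable def homX (n : ℤ) :
    (mapBifunctor (map₁ S₁ K) (map₂ S₂ L) F' (.up ℤ)).X n ⟶ G.obj ((mapBifunctor K L F (.up ℤ)).X n) :=
  mapBifunctorDesc fun p q h =>
    (θ.iso (K.X p) (L.X q)).hom ≫ G.map (ιMapBifunctor K L F (.up ℤ) p q n h)

omit [G.Additive] in
@[reassoc]
lemma ι_homX (p q n : ℤ) (h : p + q = n) :
    ιMapBifunctor (map₁ S₁ K) (map₂ S₂ L) F' (.up ℤ) p q n h ≫ homX θ K L n =
      (θ.iso (K.X p) (L.X q)).hom ≫ G.map (ιMapBifunctor K L F (.up ℤ) p q n h) :=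
  ι_mapBifunctorDesc _ p q h

variable [∀ n : ℤ, PreservesColimitsOfShape (Discrete (Fib n)) G]
  [∀ n : ℤ, HasColimitsOfShape (Discrete (Fib n)) D]

omit [G.Additive] [∀ n : ℤ, HasColimitsOfShape (Discrete (Fib n)) D] in
lemma isIso_homX (n : ℤ) : IsIso (homX θ K L n) := by
  let f : Fib n → D := fun s => (F.obj (K.X s.1.1)).obj (L.X s.1.2)
  let c : Cofan f := Cofan.mk ((mapBifunctor K L F (.up ℤ)).X n)
    fun s => ιMapBifunctor K L F (.up ℤ) s.1.1 s.1.2 n s.2
  have hc : IsColimit c := Cofan.IsColimit.mk _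
    (fun t => mapBifunctorDesc fun p q h => t.inj (⟨(p, q), h⟩ : Fib n))
    (fun t s => ι_mapBifunctorDesc (K₁ := K) (K₂ := L) _ s.1.1 s.1.2 s.2)
    (fun t m hm => mapBifunctor.hom_ext fun p q h =>
      (hm ⟨(p, q), h⟩).trans
        (ι_mapBifunctorDesc (K₁ := K) (K₂ := L) (F := F)
          (fun p q h => t.inj (⟨(p, q), h⟩ : Fib n)) p q h).symm)
  let cG := isColimitCofanMkObjOfIsColimit G f _ hc
  refine ⟨Cofan.IsColimit.desc cG fun s => (θ.iso (K.X s.1.1) (L.X s.1.2)).inv ≫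
    ιMapBifunctor (map₁ S₁ K) (map₂ S₂ L) F' (.up ℤ) s.1.1 s.1.2 n s.2, ?_, ?_⟩
  · apply mapBifunctor.hom_ext
    intro p q h
    rw [ι_homX_assoc, Category.comp_id]
    refine (Category.assoc _ _ _).trans ((congrArg ((θ.iso (K.X p) (L.X q)).hom ≫ ·)
      (Cofan.IsColimit.fac cG _ (⟨(p, q), h⟩ : Fib n))).trans ?_)
    exact Iso.hom_inv_id_assoc _ _
  · refine Cofan.IsColimit.hom_ext cG _ _ fun s => ?_
    refine ((Category.assoc _ _ _).symm.trans (congrArg (· ≫ homX θ K L n)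
      (Cofan.IsColimit.fac cG _ s))).trans ?_
    refine (Category.assoc _ _ _).trans (Eq.trans ?_ (Category.comp_id _).symm)
    exact (congrArg ((θ.iso (K.X s.1.1) (L.X s.1.2)).inv ≫ ·) (ι_homX θ K L s.1.1 s.1.2 n s.2)).trans
      (Iso.inv_hom_id_assoc _ _)

omit [∀ n : ℤ, PreservesColimitsOfShape (Discrete (Fib n)) G]
  [∀ n : ℤ, HasColimitsOfShape (Discrete (Fib n)) D] in
lemma homX_comm (n n' : ℤ) (hn : n + 1 = n') :
    homX θ K L n ≫ G.map ((mapBifunctor K L F (.up ℤ)).d n n') =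
      (mapBifunctor (map₁ S₁ K) (map₂ S₂ L) F' (.up ℤ)).d n n' ≫ homX θ K L n' := by
  apply mapBifunctor.hom_ext
  intro p q h
  have hp : (ComplexShape.up ℤ).Rel p (p + 1) := rfl
  have hq : (ComplexShape.up ℤ).Rel q (q + 1) := rfl
  change p + q = n at h
  have h₁ : (p + 1) + q = n' := by omega
  have h₂ : p + (q + 1) = n' := by omega
  refine (Category.assoc _ _ _).symm.trans ((congrArg (· ≫ G.map ((mapBifunctor K L F (.up ℤ)).d n n'))
    (ι_homX θ K L p q n h)).trans ((Category.assoc _ _ _).trans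
    ((congrArg ((θ.iso (K.X p) (L.X q)).hom ≫ ·) (G.map_comp _ _).symm).trans ?_)))
  simp only [mapBifunctor.d_eq, Preadditive.add_comp, Preadditive.comp_add, G.map_add,
    mapBifunctor.ι_D₁_assoc, mapBifunctor.ι_D₂_assoc, mapBifunctor.ι_D₁, mapBifunctor.ι_D₂]
  rw [mapBifunctor.d₁_eq _ _ _ _ hp q n' h₁, mapBifunctor.d₂_eq _ _ _ _ p hq n' h₂,
    mapBifunctor.d₁_eq (map₁ S₁ K) (map₂ S₂ L) F' _ hp q n' h₁, mapBifunctor.d₂_eq (map₁ S₁ K) (map₂ S₂ L) F' _ p hq n' h₂]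
  congr 1
  · simp only [Functor.mapHomologicalComplex_obj_d,
      Functor.mapHomologicalComplex_obj_X, Units.smul_def, G.map_zsmul, Preadditive.comp_zsmul,
      G.map_comp]
    refine Eq.trans ?_ (Preadditive.zsmul_comp ..).symm
    refine congrArg (_ • ·) (Eq.trans ?_ (Category.assoc _ _ _).symm)
    exact (θ.natural₁_assoc _ _ _).symm.trans
      (congrArg ((F'.map (S₁.map (K.d p (p + 1)))).app (S₂.obj (L.X q)) ≫ ·) (ι_homX θ K L (p + 1) q n' h₁).symm)
  · simp only [Functor.mapHomologicalComplex_obj_d,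
      Functor.mapHomologicalComplex_obj_X, Units.smul_def, G.map_zsmul, Preadditive.comp_zsmul,
      G.map_comp]
    refine Eq.trans ?_ (Preadditive.zsmul_comp ..).symm
    refine congrArg (_ • ·) (Eq.trans ?_ (Category.assoc _ _ _).symm)
    exact (θ.natural₂_assoc _ _ _).symm.trans
      (congrArg ((F'.obj (S₁.obj (K.X p))).map (S₂.map (L.d q (q + 1))) ≫ ·) (ι_homX θ K L p (q + 1) n' h₂).symm)

/-- The comparison of total complexes. -/
noncomputable def totalIso :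
    mapBifunctor (map₁ S₁ K) (map₂ S₂ L) F' (.up ℤ) ≅
      (G.mapHomologicalComplex (.up ℤ)).obj (mapBifunctor K L F (.up ℤ)) :=
  HomologicalComplex.Hom.isoOfComponents
    (fun n => @asIso _ _ _ _ (homX θ K L n) (isIso_homX θ K L n))
    fun n n' h => homX_comm θ K L n n' h

lemma totalIso_hom_f (n : ℤ) : (totalIso θ K L).hom.f n = homX θ K L n := rfl

variable {K L} in
lemma totalIso_natural {K' : CochainComplex C₁ ℤ} {L' : CochainComplex C₂ ℤ} (f : K ⟶ K') (g : L ⟶ L') :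
    mapBifunctorMap ((S₁.mapHomologicalComplex (.up ℤ)).map f)
        ((S₂.mapHomologicalComplex (.up ℤ)).map g) F' (.up ℤ) ≫ (totalIso θ K' L').hom =
      (totalIso θ K L).hom ≫ (G.mapHomologicalComplex (.up ℤ)).map (mapBifunctorMap f g F (.up ℤ)) := by
  ext n p q h
  simp only [HomologicalComplex.comp_f, totalIso_hom_f, ι_mapBifunctorMap_assoc,
    Functor.mapHomologicalComplex_map_f]
  refine Eq.trans (congrArg _ (congrArg _ (ι_homX θ K' L' p q n h))) (Eq.trans ?_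
    (((Category.assoc _ _ _).symm.trans (congrArg (· ≫ G.map ((mapBifunctorMap f g F (.up ℤ)).f n))
      (ι_homX θ K L p q n h))).symm))
  refine Eq.trans ?_ (Category.assoc _ _ _).symm
  refine Eq.trans ?_ (congrArg _ ((congrArg G.map (ι_mapBifunctorMap (f₁ := f) (f₂ := g) (F := F) (.up ℤ) p q n h).symm).trans
    (G.map_comp _ _)))
  rw [G.map_comp, G.map_comp]
  exact (congrArg ((F'.map (S₁.map (f.f p))).app (S₂.obj (L.X q)) ≫ ·) (θ.natural₂_assoc _ _ _)).trans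
    (θ.natural₁_assoc _ _ _)

end Groth.Agent.Lib.DerivedOX.BifunctorMap
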