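import Groth.Prelude.Def_DerSch
import Groth.Prelude.Def_KFlatSite
import Mathlib.Algebra.Homology.Monoidal
import Mathlib.Algebra.Category.ModuleCat.Monoidal.Symmetric
import Groth.Agent.Lib.DerivedOX.BifunctorMap
import Groth.Agent.Lib.DerivedOX.TensorSheaf
import Groth.Agent.Lib.DerivedOX.KFlat
import Groth.Agent.Lib.DerivedOX.Qis

/-!
# Stalks of tensor products of complexes, symmetry, K-flatness on stalks
-/

universe u v w

open CategoryTheory Limits AlgebraicGeometry MonoidalCategory HomologicalComplex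
open scoped TensorProduct

namespace Groth.Agent.Lib.DerivedOX.StalkCx

open BifunctorMap Qis Groth.Agent.Lib.Modules StalkModule

section Acyclic

variable {C : Type w} [Category.{v} C] [Abelian C]

lemma acyclic_iff_quasiIso_zero (Z : CochainComplex C ℤ) : Z.Acyclic ↔ QuasiIso (0 : Z ⟶ Z) := by
  refine ⟨fun h => ⟨fun n => ?_⟩, fun h n => ?_⟩
  · exact (quasiIsoAt_iff_exactAt (K := Z) (L := Z) 0 n (h n)).2 (h n)
  · have := (quasiIsoAt_iff_isIso_homologyMap (0 : Z ⟶ Z) n).1 (h.quasiIsoAt n)
    rw [homologyMap_zero] at this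
    rw [exactAt_iff_isZero_homology, IsZero.iff_id_eq_zero]
    exact (IsIso.hom_inv_id (0 : Z.homology n ⟶ Z.homology n)).symm.trans zero_comp

lemma acyclic_iff_forall_isZero (Z : CochainComplex C ℤ) :
    Z.Acyclic ↔ ∀ i, IsZero (Z.homology i) :=
  forall_congr' fun i => exactAt_iff_isZero_homology Z i

lemma acyclic_of_iso {Z Z' : CochainComplex C ℤ} (e : Z ≅ Z') (h : Z.Acyclic) : Z'.Acyclic :=
  fun i => (h i).of_iso e

end Acyclic

variable {X : Scheme.{u}} (x : X)

instance : PreservesColimitsOfSize.{0, 0} (stalkModFunctor X x) :=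
  preservesColimitsOfSize_shrink.{0, u, 0, u} _

/-- `DerSch.stalkFunctor` agrees with `stalkModFunctor`. -/
noncomputable def derStalkIso : DerSch.stalkFunctor X x ≅ stalkModFunctor X x :=
  NatIso.ofComponents (fun _ => Iso.refl _) (fun {M N} φ => by
    ext z
    rfl)

lemma acyclic_iff_stalk (Z : CochainComplex X.Modules ℤ) :
    Z.Acyclic ↔ ∀ x : X,
      (((stalkModFunctor X x).mapHomologicalComplex (.up ℤ)).obj Z).Acyclic := by
  simp only [acyclic_iff_quasiIso_zero, quasiIso_iff_forall_stalk, Functor.map_zero]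

lemma acyclic_stalk {Z : CochainComplex X.Modules ℤ} (h : Z.Acyclic) :
    (((stalkModFunctor X x).mapHomologicalComplex (.up ℤ)).obj Z).Acyclic :=
  (acyclic_iff_stalk Z).1 h x

/-- The comparison of tensor products on stalks. -/
noncomputable def stalkComparison :
    Comparison (DCoh.tensorBi (X := X)) (curriedTensor (ModuleCat.{u} (X.presheaf.stalk x)))
      (stalkModFunctor X x) (stalkModFunctor X x) (stalkModFunctor X x) where
  iso M N := (TensorSheaf.tensorStalk x M N).toModuleIso.symm
  natural₁ {M M'} f N := by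
    refine (Iso.comp_inv_eq _).2 ((Category.assoc _ _ _).trans ((Iso.inv_comp_eq _).2 ?_)).symm
    exact ((TensorSheaf.tensorRightStalkIso x N).hom.naturality f)
  natural₂ M {N N'} g := by
    refine (Iso.comp_inv_eq _).2 ((Category.assoc _ _ _).trans ((Iso.inv_comp_eq _).2 ?_)).symm
    exact ((TensorSheaf.tensorLeftStalkIso x M).hom.naturality g)

/-- The stalk of a tensor product of complexes. -/
noncomputable def tensorIso (K L : CochainComplex X.Modules ℤ) :
    HomologicalComplex.tensorObj (((stalkModFunctor X x).mapHomologicalComplex (.up ℤ)).obj K)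
        (((stalkModFunctor X x).mapHomologicalComplex (.up ℤ)).obj L) ≅
      ((stalkModFunctor X x).mapHomologicalComplex (.up ℤ)).obj ((DCoh.tensorCx.obj K).obj L) :=
  totalIso (stalkComparison x) K L

section Symm

variable {A : Type u} [CommRing A]

/-- The symmetry of the tensor product of modules. -/
noncomputable def braidComparison :
    Comparison (curriedTensor (ModuleCat.{u} A)) (curriedTensor (ModuleCat.{u} A)).flip
      (𝟭 _) (𝟭 _) (𝟭 _) where
  iso M N := β_ N M
  natural₁ f N := BraidedCategory.braiding_naturality_right N f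
  natural₂ M _ _ g := BraidedCategory.braiding_naturality_left g M

/-- The symmetry of tensor products of complexes of modules. -/
noncomputable def commCx (K L : CochainComplex (ModuleCat.{u} A) ℤ) :
    K ⊗ L ≅ L ⊗ K :=
  (mapBifunctorFlipIso K L (curriedTensor (ModuleCat.{u} A)) (.up ℤ)).symm ≪≫
    totalIso braidComparison L K

lemma commCx_natural {K K' L L' : CochainComplex (ModuleCat.{u} A) ℤ} (f : K ⟶ K') (g : L ⟶ L') :
    (f ⊗ₘ g) ≫ (commCx K' L').hom = (commCx K L).hom ≫ (g ⊗ₘ f) := by
  have h := totalIso_natural (braidComparison (A := A)) g f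
  have h' := mapBifunctorFlipIso_hom_naturality f g (curriedTensor (ModuleCat.{u} A)) (.up ℤ)
  rw [← cancel_epi (mapBifunctorFlipIso K L (curriedTensor (ModuleCat.{u} A)) (.up ℤ)).hom]
  refine ((reassoc_of% h') _).symm.trans (Eq.trans ?_ (congrArg _ (Category.assoc _ _ _)).symm)
  refine Eq.trans ?_ (Iso.hom_inv_id_assoc _ _).symm
  refine (congrArg _ (Iso.hom_inv_id_assoc _ _)).trans ?_
  exact h

theorem isKFlat_iff_left (K : CochainComplex (ModuleCat.{u} A) ℤ) :
    DRing.IsKFlat A K ↔
      ∀ M : CochainComplex (ModuleCat.{u} A) ℤ, M.Acyclic → (K ⊗ M).Acyclic := by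
  refine ⟨fun h M hM => acyclic_of_iso (commCx M K) ((acyclic_iff_forall_isZero _).2
    (h M ((acyclic_iff_forall_isZero _).1 hM))), fun h M hM => (acyclic_iff_forall_isZero _).1
    (acyclic_of_iso (commCx K M) (h M ((acyclic_iff_forall_isZero _).2 hM)))⟩

theorem isKFlat_of_iso {K K' : CochainComplex (ModuleCat.{u} A) ℤ} (e : K ≅ K')
    (h : DRing.IsKFlat A K) : DRing.IsKFlat A K' := fun M hM i =>
  (h M hM i).of_iso ((homologyFunctor _ _ i).mapIso
    ((((curriedTensor (ModuleCat.{u} A)).map₂CochainComplex).obj M).mapIso e)).symm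

end Symm

end Groth.Agent.Lib.DerivedOX.StalkCx
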