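import Mathlib.Algebra.Category.ModuleCat.ChangeOfRings
import Mathlib.LinearAlgebra.TensorProduct.Tower
import Mathlib.Algebra.Homology.Monoidal
import Mathlib.Algebra.Category.ModuleCat.Monoidal.Symmetric
import Groth.Prelude.Def_KFlatSite
import Groth.Agent.Lib.DerivedOX.StalkCx

/-!
# Base change preserves K-flatness
-/

universe u

open CategoryTheory Limits MonoidalCategory HomologicalComplex
open scoped TensorProduct

namespace Groth.Agent.Lib.DerivedOX.KFlatBaseChange

open BifunctorMap StalkCx

variable {R S : Type u} [CommRing R] [CommRing S] (f : R →+* S)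

/-- Restriction of scalars. -/
noncomputable abbrev resF : ModuleCat.{u} S ⥤ ModuleCat.{u} R := ModuleCat.restrictScalars.{u} f

/-- Extension of scalars. -/
noncomputable abbrev extF : ModuleCat.{u} R ⥤ ModuleCat.{u} S :=
  ModuleCat.extendScalars.{u, u, u} f

/-- `M ⊗ (S ⊗ N)` as a bifunctor. -/
noncomputable abbrev tensorExt : ModuleCat.{u} S ⥤ ModuleCat.{u} R ⥤ ModuleCat.{u} S :=
  curriedTensor (ModuleCat.{u} S) ⋙ (Functor.whiskeringLeft _ _ _).obj (extF f)

instance : (extF f).Additive := (ModuleCat.extendRestrictScalarsAdj.{u} f).left_adjoint_additive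

instance (M : ModuleCat.{u} S) : ((tensorExt f).obj M).Additive :=
  inferInstanceAs (extF f ⋙ (curriedTensor (ModuleCat.{u} S)).obj M).Additive

/-- The projection formula, as an additive equivalence. -/
noncomputable def projAddEquiv (M : ModuleCat.{u} S) (N : ModuleCat.{u} R) :
    ((resF f).obj M ⊗ N : ModuleCat.{u} R) ≃+ (M ⊗ (extF f).obj N : ModuleCat.{u} S) :=
  letI := f.toAlgebra
  letI : Module R M := Module.compHom M f
  haveI : IsScalarTower R S M := IsScalarTower.of_algebraMap_smul fun _ _ => rfl
  (TensorProduct.AlgebraTensorModule.cancelBaseChange R S S M N).symm.toAddEquiv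

lemma projAddEquiv_tmul (M : ModuleCat.{u} S) (N : ModuleCat.{u} R) (m : (resF f).obj M) (n : N) :
    projAddEquiv f M N (m ⊗ₜ[R] n) =
      letI := f.toAlgebra
      (show ↥M from m) ⊗ₜ[S] (show ↥((extF f).obj N) from (1 : S) ⊗ₜ[R] n) := rfl

/-- The projection formula. -/
noncomputable def projIso (M : ModuleCat.{u} S) (N : ModuleCat.{u} R) :
    (resF f).obj M ⊗ N ≅ (resF f).obj (M ⊗ (extF f).obj N) :=
  LinearEquiv.toModuleIso (R := R)
    (m₁ := ((resF f).obj M ⊗ N : ModuleCat.{u} R).isModule)
    (m₂ := ((resF f).obj (M ⊗ (extF f).obj N)).isModule)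
    { projAddEquiv f M N with
      map_smul' := fun r z => by
        letI := f.toAlgebra
        letI : Module R M := Module.compHom M f
        haveI : IsScalarTower R S M := IsScalarTower.of_algebraMap_smul fun _ _ => rfl
        let z' : ↥M ⊗[R] ↥N := z
        have h := map_smul (TensorProduct.AlgebraTensorModule.cancelBaseChange R S S M N).symm
          (algebraMap R S r) z'
        rw [algebraMap_smul] at h
        exact h }

lemma projIso_hom_tmul (M : ModuleCat.{u} S) (N : ModuleCat.{u} R) (m : (resF f).obj M) (n : N) :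
    (projIso f M N).hom (m ⊗ₜ[R] n) =
      letI := f.toAlgebra
      (show ↥M from m) ⊗ₜ[S] (show ↥((extF f).obj N) from (1 : S) ⊗ₜ[R] n) := rfl

/-- The projection formula as a comparison of bifunctors. -/
noncomputable def projComparison :
    Comparison (tensorExt f) (curriedTensor (ModuleCat.{u} R)) (resF f) (𝟭 _) (resF f) where
  iso := projIso f
  natural₁ {M M'} g N := by
    refine ModuleCat.MonoidalCategory.tensor_ext fun m n => ?_
    rfl
  natural₂ M {N N'} g := by
    refine ModuleCat.MonoidalCategory.tensor_ext fun m n => ?_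
    rfl

/-- `M ⊗ (S ⊗ N)` compared with the tensor product. -/
noncomputable def extComparison :
    Comparison (tensorExt f) (curriedTensor (ModuleCat.{u} S)) (𝟭 _) (extF f) (𝟭 _) where
  iso _ _ := Iso.refl _
  natural₁ _ _ := (Category.comp_id _).trans (Category.id_comp _).symm
  natural₂ _ _ _ _ := (Category.comp_id _).trans (Category.id_comp _).symm

lemma acyclic_of_restrict {Z : CochainComplex (ModuleCat.{u} S) ℤ}
    (h : (((resF f).mapHomologicalComplex (.up ℤ)).obj Z).Acyclic) : Z.Acyclic := fun n => by
  have e := h n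
  rw [exactAt_iff, ShortComplex.ShortExact.moduleCat_exact_iff_function_exact] at e ⊢
  exact e

lemma acyclic_restrict {Z : CochainComplex (ModuleCat.{u} S) ℤ} (h : Z.Acyclic) :
    (((resF f).mapHomologicalComplex (.up ℤ)).obj Z).Acyclic := fun n => by
  have e := h n
  rw [exactAt_iff, ShortComplex.ShortExact.moduleCat_exact_iff_function_exact] at e ⊢
  exact e

instance : PreservesColimitsOfSize.{0, 0} (ModuleCat.restrictScalars.{u} f) :=
  haveI : PreservesColimitsOfSize.{u, u} (ModuleCat.restrictScalars.{u} f) :=
    (ModuleCat.restrictCoextendScalarsAdj.{u} f).leftAdjoint_preservesColimits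
  preservesColimitsOfSize_shrink.{0, u, 0, u} _

instance (n : ℤ) : HasColimitsOfShape (Discrete (Bifunctor.Fib n)) (ModuleCat.{u} S) :=
  inferInstance

/-- Base change preserves K-flatness. -/
theorem isKFlat_extendScalars {K : CochainComplex (ModuleCat.{u} R) ℤ} (hK : DRing.IsKFlat R K) :
    DRing.IsKFlat S (((extF f).mapHomologicalComplex (.up ℤ)).obj K) := by
  intro M hM
  refine (acyclic_iff_forall_isZero _).1 (acyclic_of_iso (totalIso (extComparison f) M K).symm ?_)
  change (mapBifunctor M K (tensorExt f) (.up ℤ)).Acyclic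
  refine acyclic_of_restrict f (acyclic_of_iso (totalIso (projComparison f) M K) ?_)
  exact (acyclic_iff_forall_isZero _).2 (hK _ ((acyclic_iff_forall_isZero _).1
    (acyclic_restrict f ((acyclic_iff_forall_isZero M).2 hM))))

end Groth.Agent.Lib.DerivedOX.KFlatBaseChange
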