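import Groth.Agent.Lib.DerivedOX.SingleTensor
import Groth.Agent.Lib.DerivedOX.KFlatBaseChange
import Groth.Agent.Lib.DerivedOX.PullbackStalk
import Groth.Agent.Lib.DerivedOX.TensorQis

/-!
# The pullback preserves quasi-isomorphisms of K-flat complexes
-/

universe u

open CategoryTheory Limits AlgebraicGeometry HomologicalComplex MonoidalCategory
open scoped TensorProduct

namespace Groth.Agent.Lib.DerivedOX.PullbackQis

open Groth.Agent.Lib.Modules StalkModule StalkCx KFlatBaseChange

section Ring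

variable {R S : Type u} [CommRing R] [CommRing S] (φ : R →+* S)

/-- `S ⊗ -` does not depend on the structure used. -/
noncomputable def extForgetIso :
    extF φ ⋙ forget₂ (ModuleCat.{u} S) AddCommGrpCat.{u} ≅
      tensorLeft ((resF φ).obj (ModuleCat.of S S)) ⋙ forget₂ (ModuleCat.{u} R) AddCommGrpCat.{u} :=
  NatIso.ofComponents (fun _ => Iso.refl _) fun {M N} g => by
    ext z
    induction z using TensorProduct.induction_on with
    | zero => exact (map_zero _).trans (map_zero _).symm
    | tmul s m => rfl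
    | add a b ha hb => exact ((map_add _ a b).trans (congrArg₂ (· + ·) ha hb)).trans (map_add _ a b).symm

theorem quasiIso_extendScalars {P Q : CochainComplex (ModuleCat.{u} R) ℤ} (g : P ⟶ Q)
    [QuasiIso (((tensorLeft ((resF φ).obj (ModuleCat.of S S))).mapHomologicalComplex
      (ComplexShape.up ℤ)).map g)] :
    QuasiIso (((extF φ).mapHomologicalComplex (ComplexShape.up ℤ)).map g) := by
  rw [← quasiIso_map_iff_of_preservesHomology _ (forget₂ (ModuleCat.{u} S) AddCommGrpCat.{u})]
  let ψ : (extF φ ⋙ forget₂ (ModuleCat.{u} S) AddCommGrpCat.{u}).mapHomologicalComplex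
      (ComplexShape.up ℤ) ≅ (tensorLeft ((resF φ).obj (ModuleCat.of S S)) ⋙
        forget₂ (ModuleCat.{u} R) AddCommGrpCat.{u}).mapHomologicalComplex (ComplexShape.up ℤ) :=
    NatIso.mapHomologicalComplex (extForgetIso φ) _
  refine (quasiIso_iff_of_arrow_mk_iso _ _
    (Arrow.isoMk (ψ.app P) (ψ.app Q) (ψ.hom.naturality g).symm)).2 ?_
  exact (quasiIso_map_iff_of_preservesHomology
    (((tensorLeft ((resF φ).obj (ModuleCat.of S S))).mapHomologicalComplex
      (ComplexShape.up ℤ)).map g) (forget₂ (ModuleCat.{u} R) AddCommGrpCat.{u})).2 inferInstance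

end Ring

variable {X Y : Scheme.{u}}

/-- Tensoring stalks of a quasi-isomorphism of K-flat complexes with a module. -/
theorem quasiIso_tensorLeft_stalk {P Q : CochainComplex Y.Modules ℤ} (α : P ⟶ Q) [QuasiIso α]
    (hP : DCoh.IsKFlat P) (hQ : DCoh.IsKFlat Q) (y : Y) (N : ModuleCat.{u} (Y.presheaf.stalk y)) :
    QuasiIso (((tensorLeft N).mapHomologicalComplex (ComplexShape.up ℤ)).map
      (((stalkModFunctor Y y).mapHomologicalComplex (ComplexShape.up ℤ)).map α)) := by
  let G := (KFlatStalk.skyF y).obj N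
  let St := (stalkModFunctor Y y).mapHomologicalComplex (ComplexShape.up ℤ)
  have h₀ := TensorQis.quasiIso_map_of_isKFlat α hP hQ ((single Y.Modules (.up ℤ) 0).obj G)
  let T := (DCoh.tensorBi (X := Y)).obj G ⋙ stalkModFunctor Y y
  let e : T ≅ stalkModFunctor Y y ⋙ tensorLeft N :=
    TensorSheaf.tensorLeftStalkIso y G ≪≫
      Functor.isoWhiskerLeft _ ((curriedTensor _).mapIso ((KFlatStalk.skyStalkIso y).app N))
  let ψ₀ := SingleTensor.singleZeroIso (DCoh.tensorBi (X := Y)) G
  let ψ : T.mapHomologicalComplex (ComplexShape.up ℤ) ≅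
      (stalkModFunctor Y y ⋙ tensorLeft N).mapHomologicalComplex (ComplexShape.up ℤ) :=
    NatIso.mapHomologicalComplex e _
  have h₁ : QuasiIso ((((DCoh.tensorBi (X := Y)).obj G).mapHomologicalComplex
      (ComplexShape.up ℤ)).map α) :=
    (quasiIso_iff_of_arrow_mk_iso _ _
      (Arrow.isoMk (ψ₀.app P) (ψ₀.app Q) (ψ₀.hom.naturality α).symm)).2 h₀
  have h₂ : QuasiIso ((T.mapHomologicalComplex (ComplexShape.up ℤ)).map α) :=
    (Qis.quasiIso_iff_forall_stalk
      ((((DCoh.tensorBi (X := Y)).obj G).mapHomologicalComplex (ComplexShape.up ℤ)).map α)).1 h₁ y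
  exact (quasiIso_iff_of_arrow_mk_iso _ _
    (Arrow.isoMk (ψ.app P) (ψ.app Q) (ψ.hom.naturality α).symm)).1 h₂

/-- The pullback preserves quasi-isomorphisms between K-flat complexes. -/
theorem quasiIso_pullback (f : X ⟶ Y) {P Q : CochainComplex Y.Modules ℤ} (α : P ⟶ Q) [QuasiIso α]
    (hP : DCoh.IsKFlat P) (hQ : DCoh.IsKFlat Q) :
    QuasiIso (((Scheme.Modules.pullback f).mapHomologicalComplex (ComplexShape.up ℤ)).map α) := by
  rw [Qis.quasiIso_iff_forall_stalk]
  intro x
  haveI := quasiIso_tensorLeft_stalk α hP hQ (f.base x)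
    ((resF (f.stalkMap x).hom).obj (ModuleCat.of (X.presheaf.stalk x) (X.presheaf.stalk x)))
  haveI := quasiIso_extendScalars (f.stalkMap x).hom
    (((stalkModFunctor Y (f.base x)).mapHomologicalComplex (ComplexShape.up ℤ)).map α)
  let ψ : (Scheme.Modules.pullback f ⋙ stalkModFunctor X x).mapHomologicalComplex (ComplexShape.up ℤ) ≅
      (stalkModFunctor Y (f.base x) ⋙ extF (f.stalkMap x).hom).mapHomologicalComplex
        (ComplexShape.up ℤ) :=
    NatIso.mapHomologicalComplex (PullbackStalk.pullbackStalkIso f x).symm _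
  exact (quasiIso_iff_of_arrow_mk_iso _ _
    (Arrow.isoMk (ψ.app P) (ψ.app Q) (ψ.hom.naturality α).symm)).2 (by assumption)

end Groth.Agent.Lib.DerivedOX.PullbackQis
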