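import Mathlib.CategoryTheory.Functor.Derived.Adjunction
import Groth.Agent.Lib.DerivedOX.Exists
import Groth.Agent.Lib.DerivedOX.KhDerived
import Groth.Agent.Lib.DerivedOX.LeftExists
import Groth.Agent.Lib.DerivedOX.PullbackQis
import Groth.Agent.Lib.DerCat.DerAdj

/-!
# `Lf^* ⊣ Rf_*` and the computation of `Lf^*` on K-flat complexes
-/

universe u

open CategoryTheory Limits AlgebraicGeometry

attribute [local instance] HasDerivedCategory.standard

namespace Groth.Agent.Lib.DerivedOX.PullPushAdj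

variable {X Y : Scheme.{u}} (f : X ⟶ Y)

/-- The pullback on homotopy categories followed by localization. -/
noncomputable abbrev pullK : HomotopyCategory Y.Modules (ComplexShape.up ℤ) ⥤ DCoh.D X :=
  (Scheme.Modules.pullback f).mapHomotopyCategory (ComplexShape.up ℤ) ⋙ DerivedCategory.Qh

theorem isAdapted_pullK :
    LeftDerived.IsAdapted (HomologicalComplex.quasiIso Y.Modules (.up ℤ))
      (HomotopyCategory.quotient Y.Modules (.up ℤ) ⋙ pullK f) (KFlat.res Y) (KFlat.aug Y) :=
  LeftExists.isAdapted_onCx (Scheme.Modules.pullback f)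
    fun hP hQ g _ => LeftExists.quasiIso_pullback f hP hQ g

section

variable (LF : DCoh.D Y ⥤ DCoh.D X) (α : DerivedCategory.Qh ⋙ LF ⟶ pullK f)
  [LF.IsLeftDerivedFunctor α (HomotopyCategory.quasiIso Y.Modules (ComplexShape.up ℤ))]

/-- The counit of `Lf^*` is an isomorphism at K-flat complexes. -/
theorem isIso_counit_app_of_isKFlat {K : CochainComplex Y.Modules ℤ} (hK : DCoh.IsKFlat K) :
    IsIso (α.app ((HomotopyCategory.quotient Y.Modules (.up ℤ)).obj K)) := by
  refine LeftDerived.isIso_khCounit_app (isAdapted_pullK f) LF α K ?_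
  haveI : QuasiIso ((KFlat.aug Y).app K) := KFlat.quasiIso_aug K
  haveI := PullbackQis.quasiIso_pullback f ((KFlat.aug Y).app K) (KFlat.isKFlat_res K) hK
  exact LeftExists.isIso_onCx_map (Scheme.Modules.pullback f) ((KFlat.aug Y).app K)

end

variable [hl : DCoh.HasLpull f] [hr : DCoh.HasRpush f]

/-- `Lf^* ⊣ Rf_*`. -/
noncomputable def derivedAdjunction : DCoh.Lpull f ⊣ DCoh.Rpush f :=
  let W₁ := HomotopyCategory.quasiIso Y.Modules (ComplexShape.up ℤ)
  let W₂ := HomotopyCategory.quasiIso X.Modules (ComplexShape.up ℤ)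
  let adj := DerCat.DerAdj.adjK (Scheme.Modules.pullbackPushforwardAdjunction f) (ComplexShape.up ℤ)
  let α : DerivedCategory.Qh ⋙ DCoh.Lpull f ⟶ pullK f :=
    (pullK f).totalLeftDerivedCounit DerivedCategory.Qh W₁
  let β : DCoh.pushKh f ⟶ DerivedCategory.Qh ⋙ DCoh.Rpush f :=
    (DCoh.pushKh f).totalRightDerivedUnit DerivedCategory.Qh W₂
  haveI : (DCoh.Lpull f ⋙ DCoh.Rpush f).IsLeftDerivedFunctor
      ((Functor.associator DerivedCategory.Qh (DCoh.Lpull f) (DCoh.Rpush f)).inv ≫
        Functor.whiskerRight α (DCoh.Rpush f)) W₁ :=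
    LeftDerived.isLeftDerivedFunctor_postcomp (isAdapted_pullK f) (DCoh.Lpull f) α (DCoh.Rpush f)
  haveI : (DCoh.Rpush f ⋙ DCoh.Lpull f).IsRightDerivedFunctor
      (Functor.whiskerRight β (DCoh.Lpull f) ≫
        (Functor.associator DerivedCategory.Qh (DCoh.Rpush f) (DCoh.Lpull f)).hom) W₂ := by
    let e := (Functor.associator (RightDerived.resFunctor X.Modules) (DCoh.pushKh f) (DCoh.Lpull f)).symm ≪≫
      Functor.isoWhiskerRight (RightDerived.totalRightDerivedIso (DCoh.pushKh f)) (DCoh.Lpull f)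
    refine (Functor.isRightDerivedFunctor_iff_of_iso (RF := RightDerived.resFunctor X.Modules ⋙
      DCoh.pushKh f ⋙ DCoh.Lpull f) (α := RightDerived.derivedUnit (DCoh.pushKh f ⋙ DCoh.Lpull f))
      (e := e) (W := W₂) (comm := ?_)).1 inferInstance
    ext K
    simp only [e, NatTrans.comp_app, Functor.whiskerLeft_app, Iso.trans_hom, Iso.symm_hom,
      Functor.isoWhiskerRight_hom, Functor.whiskerRight_app, Functor.associator_inv_app,
      Functor.associator_hom_app, RightDerived.derivedUnit_app]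
    erw [Category.id_comp, Category.comp_id]
    refine ((DCoh.Lpull f).map_comp _ _).symm.trans (congrArg (DCoh.Lpull f).map ?_)
    exact (congrArg (· ≫ _) (RightDerived.derivedUnit_app (DCoh.pushKh f) K).symm).trans
      (RightDerived.derivedUnit_comp_totalRightDerivedIso_hom (DCoh.pushKh f) K)
  Adjunction.derived (G := (Scheme.Modules.pullback f).mapHomotopyCategory (ComplexShape.up ℤ))
    (F := (Scheme.Modules.pushforward f).mapHomotopyCategory (ComplexShape.up ℤ))
    (L₁ := DerivedCategory.Qh) (L₂ := DerivedCategory.Qh) adj W₁ W₂ α β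

end Groth.Agent.Lib.DerivedOX.PullPushAdj
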