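import Groth.Agent.Lib.DerCat.HProd
import Groth.Agent.Lib.DerivedOX.Exists
import Groth.Agent.Lib.DerivedOX.LeftExists
import Groth.Agent.Lib.DerivedOX.TensorQis
import Groth.Agent.Lib.Tor.HomologyColim

/-!
# The derived tensor product commutes with direct sums
-/

universe u

open CategoryTheory Limits AlgebraicGeometry

attribute [local instance] HasDerivedCategory.standard

set_option linter.style.haveILetI false

namespace Groth.Agent.Lib.DerivedOX.TensorCoprod

variable {X : Scheme.{u}}

/-- Localization commutes with direct sums of complexes. -/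
theorem preservesColimit_Q {ι : Type u} (K : ι → CochainComplex X.Modules ℤ) :
    PreservesColimit (Discrete.functor K) (DerivedCategory.Q (C := X.Modules)) := by
  haveI : PreservesColimit (Discrete.functor K)
      (HomotopyCategory.quotient X.Modules (ComplexShape.up ℤ)) :=
    preservesColimit_of_preserves_colimit_cocone (coproductIsCoproduct K)
      ((isColimitMapCoconeCofanMkEquiv _ _ _).symm (DerCat.HProd.isColimitCofan K))
  haveI : PreservesColimit (Discrete.functor K ⋙
      HomotopyCategory.quotient X.Modules (ComplexShape.up ℤ)) (DerivedCategory.Qh (C := X.Modules)) :=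
    haveI := (Adjunction.ofIsLeftAdjoint (DerivedCategory.Qh (C := X.Modules))).leftAdjoint_preservesColimits
    inferInstance
  exact preservesColimit_of_natIso _ (DerivedCategory.quotientCompQhIso X.Modules)

variable (D : CochainComplex X.Modules ℤ)

section

variable (T : DCoh.D X ⥤ DCoh.D X) (α : DerivedCategory.Q ⋙ T ⟶ DCoh.tensorCxQ D)
  [T.IsLeftDerivedFunctor α (HomologicalComplex.quasiIso X.Modules (ComplexShape.up ℤ))]

/-- The counit of the derived tensor product is an isomorphism at K-flat complexes. -/
theorem isIso_counit_app_of_isKFlat {P : CochainComplex X.Modules ℤ} (hP : DCoh.IsKFlat P) :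
    IsIso (α.app P) := by
  haveI : QuasiIso ((KFlat.aug X).app P) := KFlat.quasiIso_aug P
  haveI : IsIso ((DCoh.tensorCxQ D).map ((KFlat.aug X).app P)) :=
    Localization.inverts DerivedCategory.Q (HomologicalComplex.quasiIso X.Modules (.up ℤ)) _
      (LeftExists.quasiIso_tensor_of_flatLeft
        (fun _ hL => TensorQis.acyclic_tensor_left (KFlat.isKFlat_res P) hL)
        (fun _ hL => TensorQis.acyclic_tensor_left hP hL) ((KFlat.aug X).app P) D)
  exact LeftDerived.isIso_counit_app (LeftExists.isAdapted_tensorCxQ D) DerivedCategory.Q T α P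

end

theorem acyclic_sigma {ι : Type u} (K : ι → CochainComplex X.Modules ℤ) (hK : ∀ i, (K i).Acyclic) :
    (∐ K).Acyclic := fun n => by
  haveI : HasFiniteBiproducts X.Modules := HasFiniteBiproducts.of_hasFiniteProducts
  haveI := AB4.of_AB5 X.Modules
  haveI : HasExactColimitsOfShape (Discrete ι) X.Modules := AB4OfSize.ofShape _
  rw [HomologicalComplex.exactAt_iff_isZero_homology]
  refine IsZero.of_iso ?_ (PreservesCoproduct.iso (HomologicalComplex.homologyFunctor X.Modules (ComplexShape.up ℤ) n) K)
  rw [IsZero.iff_id_eq_zero]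
  exact Sigma.hom_ext _ _ fun i => ((HomologicalComplex.exactAt_iff_isZero_homology _ _).1 (hK i n)).eq_of_src _ _

theorem isKFlat_sigma {ι : Type u} (K : ι → CochainComplex X.Modules ℤ)
    (hK : ∀ i, DCoh.IsKFlat (K i)) : DCoh.IsKFlat (∐ K) :=
  (KFlat.isKFlat_iff _).2 fun L hL =>
    StalkCx.acyclic_of_iso (PreservesCoproduct.iso (DCoh.tensorCx.obj L) K).symm
      (acyclic_sigma _ fun i => (KFlat.isKFlat_iff _).1 (hK i) L hL)

/-- `- ⊗^L D` commutes with direct sums. -/
theorem preservesColimit_LTensorCx [DCoh.HasLTensorCx D] {ι : Type u} (C : ι → DCoh.D X) :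
    PreservesColimit (Discrete.functor C) (DCoh.LTensorCx D) := by
  let T := DCoh.LTensorCx D
  let Φ := DCoh.tensorCxQ D
  let α : DerivedCategory.Q ⋙ T ⟶ Φ :=
    Φ.totalLeftDerivedCounit DerivedCategory.Q (HomologicalComplex.quasiIso X.Modules (.up ℤ))
  let K : ι → CochainComplex X.Modules ℤ := fun i =>
    (KFlat.res X).obj (DerivedCategory.Q.objPreimage (C i))
  haveI : ∀ i, IsIso (α.app (K i)) := fun i => isIso_counit_app_of_isKFlat D T α (KFlat.isKFlat_res _)
  haveI : IsIso (α.app (∐ K)) :=
    isIso_counit_app_of_isKFlat D T α (isKFlat_sigma K fun i => KFlat.isKFlat_res _)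
  haveI := preservesColimit_Q K
  haveI : PreservesColimit (Discrete.functor K) Φ := by
    haveI := preservesColimit_Q (((DCoh.tensorCx (X := X)).flip.obj D).obj ∘ K)
    haveI : PreservesColimit (Discrete.functor K ⋙ (DCoh.tensorCx (X := X)).flip.obj D)
        (DerivedCategory.Q (C := X.Modules)) :=
      preservesColimit_of_iso_diagram _
        (Discrete.compNatIsoDiscrete K ((DCoh.tensorCx (X := X)).flip.obj D)).symm
    infer_instance
  haveI : PreservesColimit (Discrete.functor K ⋙ DerivedCategory.Q) T := by
    refine preservesColimit_of_preserves_colimit_cocone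
      (isColimitOfPreserves DerivedCategory.Q (coproductIsCoproduct K)) ?_
    let c : Cofan K := Cofan.mk (∐ K) (Sigma.ι K)
    let e : Discrete.functor K ⋙ DerivedCategory.Q ⋙ T ≅ Discrete.functor K ⋙ Φ :=
      Discrete.natIso fun j => asIso (α.app (K j.as))
    exact (IsColimit.equivOfNatIsoOfIso e ((DerivedCategory.Q ⋙ T).mapCocone c) (Φ.mapCocone c)
      (Cocone.ext (asIso (α.app (∐ K))) fun j => by
        refine (Category.assoc _ _ _).trans ((Iso.inv_comp_eq (e.app j)).2 ?_)
        exact α.naturality (Sigma.ι K j.as))).symm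
      (isColimitOfPreserves Φ (coproductIsCoproduct K))
  refine preservesColimit_of_iso_diagram _ (K₁ := Discrete.functor K ⋙ DerivedCategory.Q) ?_
  exact Discrete.natIso fun j => asIso (DerivedCategory.Q.map
    ((KFlat.aug X).app (DerivedCategory.Q.objPreimage (C j.as)))) ≪≫
      DerivedCategory.Q.objObjPreimageIso (C j.as)

end Groth.Agent.Lib.DerivedOX.TensorCoprod
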