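import Groth.Agent.Lib.TensorMod.Pullback
import Groth.Agent.Lib.DerivedOX.PullPushAdj
import Groth.Agent.Lib.DerivedOX.KFlatPullback
import Groth.Agent.Lib.DerivedOX.TensorCoprod

/-!
# `Lf^*` commutes with the derived tensor product
-/

universe u

open CategoryTheory Limits AlgebraicGeometry MonoidalCategory

attribute [local instance] HasDerivedCategory.standard

set_option linter.style.haveILetI false

namespace Groth.Agent.Lib.DerivedOX.PullTensor

open BifunctorMap Groth.Agent.Lib.Modules StalkModule StalkCx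

variable {X Y : Scheme.{u}}

lemma tensorBi_map_app {M M' : X.Modules} (a : M ⟶ M') (N : X.Modules) :
    (DCoh.tensorBi.map a).app N = TensorMod.Basic.tmap a (𝟙 N) := by
  refine congrArg DCoh.shP.map ?_
  exact (MonoidalCategory.tensorHom_id _ _).symm

lemma tensorBi_obj_map (M : X.Modules) {N N' : X.Modules} (b : N ⟶ N') :
    (DCoh.tensorBi.obj M).map b = TensorMod.Basic.tmap (𝟙 M) b := by
  refine congrArg DCoh.shP.map ?_
  exact (MonoidalCategory.id_tensorHom _ _).symm

/-- Pullback commutes with tensor products, as a comparison of bifunctors. -/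
noncomputable def pullComparison (f : X ⟶ Y) :
    Comparison (DCoh.tensorBi (X := Y)) (DCoh.tensorBi (X := X))
      (Scheme.Modules.pullback f) (Scheme.Modules.pullback f) (Scheme.Modules.pullback f) where
  iso M N := (TensorMod.Pullback.pullbackTensorIso f M N).symm
  natural₁ {M M'} a N := by
    refine (Iso.comp_inv_eq _).2 ((Category.assoc _ _ _).trans ((Iso.inv_comp_eq _).2 ?_)).symm
    rw [tensorBi_map_app, tensorBi_map_app]
    have h := TensorMod.Pullback.delta_natural f a (𝟙 N)
    rw [CategoryTheory.Functor.map_id] at h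
    exact h
  natural₂ M {N N'} b := by
    refine (Iso.comp_inv_eq _).2 ((Category.assoc _ _ _).trans ((Iso.inv_comp_eq _).2 ?_)).symm
    rw [tensorBi_obj_map, tensorBi_obj_map]
    have h := TensorMod.Pullback.delta_natural f (𝟙 M) b
    rw [CategoryTheory.Functor.map_id] at h
    exact h

/-- Termwise pullback of a tensor product of complexes. -/
noncomputable def pullTensorIso (f : X ⟶ Y) (K L : CochainComplex Y.Modules ℤ) :
    (DCoh.tensorCx.obj (((Scheme.Modules.pullback f).mapHomologicalComplex (.up ℤ)).obj K)).obj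
        (((Scheme.Modules.pullback f).mapHomologicalComplex (.up ℤ)).obj L) ≅
      ((Scheme.Modules.pullback f).mapHomologicalComplex (.up ℤ)).obj
        ((DCoh.tensorCx.obj K).obj L) :=
  haveI : PreservesColimitsOfSize.{u, u} (Scheme.Modules.pullback f) :=
    (Scheme.Modules.pullbackPushforwardAdjunction f).leftAdjoint_preservesColimits
  haveI : PreservesColimitsOfSize.{0, 0} (Scheme.Modules.pullback f) :=
    preservesColimitsOfSize_shrink.{0, u, 0, u} _
  totalIso (pullComparison f) K L

/-- A tensor product of K-flat complexes is K-flat. -/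
theorem isKFlat_tensor {P L : CochainComplex X.Modules ℤ} (hP : DCoh.IsKFlat P)
    (hL : DCoh.IsKFlat L) : DCoh.IsKFlat ((DCoh.tensorCx.obj P).obj L) := by
  refine (KFlatStalk.isKFlat_iff_stalk _).2 fun x => ?_
  refine isKFlat_of_iso (tensorIso x P L) fun M hM => ?_
  let St := (stalkModFunctor X x).mapHomologicalComplex (ComplexShape.up ℤ)
  have h := (KFlatStalk.isKFlat_iff_stalk L).1 hL x _ ((KFlatStalk.isKFlat_iff_stalk P).1 hP x M hM)
  exact (acyclic_iff_forall_isZero _).1 (acyclic_of_iso (α_ M (St.obj P) (St.obj L))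
    ((acyclic_iff_forall_isZero _).2 h))

/-- `Lf^*(K ⊗^L L) ≅ Lf^* K ⊗^L f^* L` for K-flat `L`. -/
theorem nonempty_iso (f : X ⟶ Y) [DCoh.HasLpull f] (L : CochainComplex Y.Modules ℤ)
    (hL : DCoh.IsKFlat L) [DCoh.HasLTensorCx L]
    [DCoh.HasLTensorCx (((Scheme.Modules.pullback f).mapHomologicalComplex (ComplexShape.up ℤ)).obj L)]
    (K : DCoh.D Y) :
    Nonempty ((DCoh.Lpull f).obj ((DCoh.LTensorCx L).obj K) ≅
      (DCoh.LTensorCx (((Scheme.Modules.pullback f).mapHomologicalComplex (ComplexShape.up ℤ)).obj L)).obj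
        ((DCoh.Lpull f).obj K)) := by
  let pb := (Scheme.Modules.pullback f).mapHomologicalComplex (ComplexShape.up ℤ)
  let K' := DerivedCategory.Q.objPreimage K
  let P := (KFlat.res Y).obj K'
  have hP : DCoh.IsKFlat P := KFlat.isKFlat_res K'
  let eK : DerivedCategory.Q.obj P ≅ K :=
    asIso (DerivedCategory.Q.map ((KFlat.aug Y).app K')) ≪≫ DerivedCategory.Q.objObjPreimageIso K
  -- pullback of a K-flat complex
  have eP : ∀ {A : CochainComplex Y.Modules ℤ}, DCoh.IsKFlat A →
      Nonempty ((DCoh.Lpull f).obj (DerivedCategory.Q.obj A) ≅ DerivedCategory.Q.obj (pb.obj A)) := by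
    intro A hA
    haveI := PullPushAdj.isIso_counit_app_of_isKFlat f (DCoh.Lpull f)
      ((PullPushAdj.pullK f).totalLeftDerivedCounit DerivedCategory.Qh _) hA
    exact ⟨(DCoh.Lpull f).mapIso ((DerivedCategory.quotientCompQhIso Y.Modules).app A).symm ≪≫
      asIso (((PullPushAdj.pullK f).totalLeftDerivedCounit DerivedCategory.Qh
        (HomotopyCategory.quasiIso Y.Modules (.up ℤ))).app
          ((HomotopyCategory.quotient Y.Modules (.up ℤ)).obj A)) ≪≫
      (LeftExists.onCxIso (Scheme.Modules.pullback f)).app A⟩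
  haveI := TensorCoprod.isIso_counit_app_of_isKFlat L (DCoh.LTensorCx L)
    ((DCoh.tensorCxQ L).totalLeftDerivedCounit DerivedCategory.Q _) hP
  haveI := TensorCoprod.isIso_counit_app_of_isKFlat (pb.obj L) (DCoh.LTensorCx (pb.obj L))
    ((DCoh.tensorCxQ (pb.obj L)).totalLeftDerivedCounit DerivedCategory.Q _)
    (KFlatPullback.isKFlat_pullback f hP)
  obtain ⟨e₁⟩ := eP hP
  obtain ⟨e₂⟩ := eP (isKFlat_tensor hP hL)
  refine ⟨(DCoh.Lpull f).mapIso ((DCoh.LTensorCx L).mapIso eK.symm ≪≫
    asIso (((DCoh.tensorCxQ L).totalLeftDerivedCounit DerivedCategory.Q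
      (HomologicalComplex.quasiIso Y.Modules (.up ℤ))).app P)) ≪≫ e₂ ≪≫
    DerivedCategory.Q.mapIso (pullTensorIso f P L).symm ≪≫
    (asIso (((DCoh.tensorCxQ (pb.obj L)).totalLeftDerivedCounit DerivedCategory.Q
      (HomologicalComplex.quasiIso X.Modules (.up ℤ))).app (pb.obj P))).symm ≪≫
    (DCoh.LTensorCx (pb.obj L)).mapIso (e₁.symm ≪≫ (DCoh.Lpull f).mapIso eK)⟩

end Groth.Agent.Lib.DerivedOX.PullTensor
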