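import Mathlib.AlgebraicGeometry.Modules.Tilde
import Mathlib.RingTheory.Localization.BaseChange
import Mathlib.Algebra.Category.ModuleCat.ChangeOfRings
import Groth.Agent.Lib.Modules.StalkModule
import Groth.Agent.Lib.DerivedOX.KFlatBaseChange
import Groth.Agent.Lib.DerivedOX.KFlatStalk

/-!
# Stalks of `tilde`, K-flatness of `tilde`
-/

universe u

open CategoryTheory Limits AlgebraicGeometry

namespace Groth.Agent.Lib.DerivedOX.TildeStalk

open Groth.Agent.Lib.Modules StalkModule StalkCx

variable (R : CommRingCat.{u}) (x : Spec R)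

/-- The map `R → O_{Spec R, x}`. -/
noncomputable abbrev σ : R →+* (Spec R).presheaf.stalk x :=
  letI : Algebra R ((Spec R).presheaf.stalk x) := StructureSheaf.stalkAlgebra R x
  algebraMap R ((Spec R).presheaf.stalk x)

/-- The semilinear map `M → M~_x`. -/
noncomputable def toRes (M : ModuleCat.{u} R) :
    M ⟶ (ModuleCat.restrictScalars (σ R x)).obj ((stalkModFunctor (Spec R) x).obj (tilde M)) :=
  ModuleCat.ofHom (Y := (ModuleCat.restrictScalars (σ R x)).obj ((stalkModFunctor (Spec R) x).obj (tilde M)))
    { toFun := fun m => (tilde.toStalk M x).hom m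
      map_add' := map_add _
      map_smul' := fun r m => (tilde.toStalk M x).hom.map_smul r m }

lemma toRes_natural {M N : ModuleCat.{u} R} (g : M ⟶ N) :
    g ≫ toRes R x N =
      toRes R x M ≫ (ModuleCat.restrictScalars (σ R x)).map
        ((stalkModFunctor (Spec R) x).map ((tilde.functor R).map g)) := by
  ext m
  change (tilde.toStalk N x).hom (g m) = stalkMapₗ (tilde.map g) x ((tilde.toStalk M x).hom m)
  refine Eq.trans ?_ (stalkMapₗ_germ (tilde.map g) (U := ⊤) (x := x) trivial
    (tilde.toOpen M ⊤ m)).symm
  exact congrArg ((tilde N).presheaf.germ ⊤ x trivial)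
    (ConcreteCategory.congr_hom (tilde.toOpen_map_app g ⊤) m).symm

/-- The comparison `O_x ⊗ M → M~_x`. -/
noncomputable def comparison :
    ModuleCat.extendScalars.{u, u, u} (σ R x) ⟶ tilde.functor R ⋙ stalkModFunctor (Spec R) x where
  app M := ((ModuleCat.extendRestrictScalarsAdj.{u} (σ R x)).homEquiv M _).symm (toRes R x M)
  naturality M N g := by
    refine ((ModuleCat.extendRestrictScalarsAdj.{u} (σ R x)).homEquiv_naturality_left_symm
      _ _).symm.trans (Eq.trans ?_
      ((ModuleCat.extendRestrictScalarsAdj.{u} (σ R x)).homEquiv_naturality_right_symm _ _))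
    exact congrArg _ (toRes_natural R x g)

lemma comparison_tmul (M : ModuleCat.{u} R) (s : (Spec R).presheaf.stalk x) (m : M) :
    letI : Algebra R ((Spec R).presheaf.stalk x) := (σ R x).toAlgebra
    (comparison R x).app M (s ⊗ₜ[R] m) = s • (toRes R x M m :) := rfl

theorem isIso_comparison (M : ModuleCat.{u} R) : IsIso ((comparison R x).app M) := by
  letI : Algebra R ((Spec R).presheaf.stalk x) := StructureSheaf.stalkAlgebra R x
  haveI : IsLocalization.AtPrime ((Spec R).presheaf.stalk x) x.asIdeal :=
    StructureSheaf.IsLocalization.to_stalk R x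
  haveI : IsScalarTower R ((Spec R).presheaf.stalk x) ((tilde M).presheaf.stalk x) :=
    .of_algebraMap_smul fun _ _ => rfl
  have hb : IsBaseChange ((Spec R).presheaf.stalk x) (tilde.toStalk M x).hom :=
    IsLocalizedModule.isBaseChange x.asIdeal.primeCompl ((Spec R).presheaf.stalk x) _
  rw [ConcreteCategory.isIso_iff_bijective]
  have e : ∀ z : TensorProduct R ((Spec R).presheaf.stalk x) M,
      ((comparison R x).app M) z = hb.equiv z := fun z => by
    induction z using TensorProduct.induction_on with
    | zero => exact (map_zero _).trans (map_zero hb.equiv).symm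
    | tmul s m => exact (comparison_tmul R x M s m).trans (hb.equiv_tmul s m).symm
    | add a b ha hb' =>
      exact ((map_add _ a b).trans (congrArg₂ (· + ·) ha hb')).trans (map_add hb.equiv a b).symm
  exact ⟨fun a b h => hb.equiv.injective ((e a).symm.trans (h.trans (e b))),
    fun y => ⟨hb.equiv.symm y, (e _).trans (hb.equiv.apply_symm_apply y)⟩⟩

/-- Stalks of `tilde` are localizations. -/
noncomputable def tildeStalkIso :
    ModuleCat.extendScalars.{u, u, u} (σ R x) ≅ tilde.functor R ⋙ stalkModFunctor (Spec R) x :=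
  haveI := fun M => isIso_comparison R x M
  haveI := NatIso.isIso_of_isIso_app (comparison R x)
  asIso (comparison R x)

/-- `tilde` of a K-flat complex is K-flat. -/
theorem isKFlat_tilde {K : CochainComplex (ModuleCat.{u} R) ℤ} (hK : DRing.IsKFlat R K) :
    DCoh.IsKFlat (((tilde.functor R).mapHomologicalComplex (ComplexShape.up ℤ)).obj K) := by
  refine (KFlatStalk.isKFlat_iff_stalk _).2 fun x => ?_
  exact isKFlat_of_iso ((NatIso.mapHomologicalComplex (tildeStalkIso R x) (ComplexShape.up ℤ)).app K)
    (KFlatBaseChange.isKFlat_extendScalars (σ R x) hK)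

end Groth.Agent.Lib.DerivedOX.TildeStalk
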