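import Mathlib.RingTheory.TensorProduct.Basic
import Groth.Agent.Lib.Modules.ProjFormula
import Groth.Agent.Lib.PushClosed.Unit
import Groth.Agent.Lib.DerivedOX.StalkCx

/-!
# The projection formula along a closed immersion, for arbitrary modules
-/

set_option autoImplicit false

universe u

open CategoryTheory Limits AlgebraicGeometry Opposite TopologicalSpace
open scoped TensorProduct

namespace Groth.Agent.Lib.DerivedOX.ProjClosed

open Groth.Agent.Lib.Modules StalkModule TensorSheaf PullbackStalk
open Groth.Agent.Lib.TensorMod.Pullback (pb pf pbAdj mu unitSec)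
open Groth.Agent.Lib.Modules.TensorSec (tens)

variable {X Y : Scheme.{u}}

/-- The germ of a pure tensor. -/
theorem tensorStalk_germ_tens (M N : X.Modules) {U : X.Opens} (x : X) (hx : x ∈ U)
    (m : Γ(M, U)) (n : Γ(N, U)) :
    tensorStalk x M N ((CohB1.tensorMod M N).presheaf.germ U x hx (tens m n)) =
      M.presheaf.germ U x hx m ⊗ₜ[X.presheaf.stalk x] N.presheaf.germ U x hx n := by
  have e : shStalkEquiv x (MonoidalCategory.tensorObj (DCoh.toP.obj M) (DCoh.toP.obj N))
      (TensorStalk.germ hx (TensorStalk.tm (P := DCoh.toP.obj M) (Q := DCoh.toP.obj N) m n)) =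
      (CohB1.tensorMod M N).presheaf.germ U x hx (tens m n) := by
    refine (TensorStalk.stMap_germ (unitSh _) hx _).trans ?_
    refine congrArg ((CohB1.tensorMod M N).presheaf.germ U x hx) ?_
    simp only [tens, TensorMod.Free.pairM, TensorMod.Whisker.pair]
    let P := MonoidalCategory.tensorObj ((TensorMod.Basic.fgt X).obj M) ((TensorMod.Basic.fgt X).obj N)
    have h : ((TensorMod.Basic.adj X).homEquiv P (CohB1.tensorMod M N)) (𝟙 (CohB1.tensorMod M N)) =
        (TensorMod.Basic.adj X).unit.app P := (TensorMod.Basic.adj X).homEquiv_id P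
    rw [h]
    rfl
  refine (congrArg (tensorStalk x M N) e.symm).trans ((tensorStalk_shStalkEquiv x M N _).trans ?_)
  rw [TensorStalk.tensorStalkEquiv_germ_tm]
  rfl

section Algebra

variable {R S : Type u} [CommRing R] [CommRing S] [Algebra R S] {M : Type u} [AddCommGroup M]
  [Module R M] {N : Type u} [AddCommGroup N] [Module R N] [Module S N] [IsScalarTower R S N]

/-- `M ⊗ N ≅ (S ⊗ M) ⊗_S N` for an `S`-module `N`. -/
noncomputable def cancel : M ⊗[R] N ≃+ (S ⊗[R] M) ⊗[S] N :=
  ((TensorProduct.comm R M N).toAddEquiv.trans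
    (TensorProduct.AlgebraTensorModule.cancelBaseChange R S S N M).symm.toAddEquiv).trans
    (TensorProduct.comm S N (S ⊗[R] M)).toAddEquiv

lemma cancel_tmul (m : M) (n : N) :
    cancel (S := S) (m ⊗ₜ[R] n) = ((1 : S) ⊗ₜ[R] m) ⊗ₜ[S] n := by
  simp [cancel]

end Algebra

variable (f : X ⟶ Y)

lemma stalkMapₗ_theta_germ (E : Y.Modules) (F : X.Modules) {V : Y.Opens} (z : X) (hz : f.base z ∈ V)
    (m : Γ(E, V)) (n : Γ((pf f).obj F, V)) :
    tensorStalk z ((pb f).obj E) F (pushStalkMap f z _ (stalkMapₗ (ProjFormula.theta f E F) (f.base z)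
      ((CohB1.tensorMod E ((pf f).obj F)).presheaf.germ V (f.base z) hz (tens m n)))) =
    pushStalkMap f z _ (stalkMapₗ ((pbAdj f).unit.app E) (f.base z) (E.presheaf.germ V _ hz m))
      ⊗ₜ[X.presheaf.stalk z] pushStalkMap f z F (((pf f).obj F).presheaf.germ V _ hz n) := by
  have e1 : pushStalkMap f z _ (stalkMapₗ (ProjFormula.theta f E F) (f.base z)
      ((CohB1.tensorMod E ((pf f).obj F)).presheaf.germ V (f.base z) hz (tens m n))) =
      (CohB1.tensorMod ((pb f).obj E) F).presheaf.germ (f ⁻¹ᵁ V) z hz
        (tens (unitSec f E m) (show Γ(F, f ⁻¹ᵁ V) from n)) := by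
    refine (congrArg (pushStalkMap f z _) (stalkMapₗ_germ (ProjFormula.theta f E F) hz _)).trans ?_
    refine (pushStalkMap_germ f z _ hz _).trans ?_
    exact congrArg _ (ProjFormula.theta_tens f F m n)
  refine (congrArg (tensorStalk z ((pb f).obj E) F) e1).trans
    ((tensorStalk_germ_tens ((pb f).obj E) F (U := f ⁻¹ᵁ V) z hz _ _).trans
      (congrArg₂ (fun u v => u ⊗ₜ[X.presheaf.stalk z] v) ?_ ?_))
  · exact ((congrArg (pushStalkMap f z _) (stalkMapₗ_germ ((pbAdj f).unit.app E) hz m)).trans
      (pushStalkMap_germ f z _ hz _)).symm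
  · exact (pushStalkMap_germ f z F hz n).symm

theorem bijective_theta_stalk [IsClosedImmersion f] (E : Y.Modules) (F : X.Modules) (y : Y) :
    Function.Bijective (stalkMapₗ (ProjFormula.theta f E F) y) := by
  by_cases hy : y ∈ Set.range f
  · obtain ⟨z, rfl⟩ := hy
    letI : Algebra (Y.presheaf.stalk (f.base z)) (X.presheaf.stalk z) := (f.stalkMap z).hom.toAlgebra
    letI : Module (Y.presheaf.stalk (f.base z)) (F.presheaf.stalk z) :=
      Module.compHom _ (f.stalkMap z).hom
    haveI : IsScalarTower (Y.presheaf.stalk (f.base z)) (X.presheaf.stalk z) (F.presheaf.stalk z) :=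
      IsScalarTower.of_algebraMap_smul fun _ _ => rfl
    let p₀ : ((pf f).obj F).presheaf.stalk (f.base z) →ₗ[Y.presheaf.stalk (f.base z)] F.presheaf.stalk z :=
      { toFun := pushStalkMap f z F
        map_add' := map_add _
        map_smul' := fun c a => pushStalkMap_smul f z F c a }
    let p : ((pf f).obj F).presheaf.stalk (f.base z) ≃ₗ[Y.presheaf.stalk (f.base z)] F.presheaf.stalk z :=
      LinearEquiv.ofBijective p₀ (PushClosed.Unit.bijective_pushStalkMap f F z)
    haveI := isIso_comparison f z
    let c : X.presheaf.stalk z ⊗[Y.presheaf.stalk (f.base z)] E.presheaf.stalk (f.base z) ≃ₗ[X.presheaf.stalk z]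
        ((pb f).obj E).presheaf.stalk z :=
      (asIso ((comparison f z).app E)).toLinearEquiv
    let Φ := ((TensorProduct.congr (LinearEquiv.refl _ (E.presheaf.stalk (f.base z))) p).toAddEquiv.trans
      (cancel (S := X.presheaf.stalk z))).trans
        (TensorProduct.congr c (LinearEquiv.refl _ (F.presheaf.stalk z))).toAddEquiv
    let T : E.presheaf.stalk (f.base z) ⊗[Y.presheaf.stalk (f.base z)]
        ((pf f).obj F).presheaf.stalk (f.base z) →+
          ((pb f).obj E).presheaf.stalk z ⊗[X.presheaf.stalk z] F.presheaf.stalk z :=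
      (tensorStalk z ((pb f).obj E) F).toAddEquiv.toAddMonoidHom.comp
        ((pushStalkMap f z (CohB1.tensorMod ((pb f).obj E) F)).hom.comp
          ((stalkMapₗ (ProjFormula.theta f E F) (f.base z)).toAddMonoidHom.comp
            (tensorStalk (f.base z) E ((pf f).obj F)).symm.toAddEquiv.toAddMonoidHom))
    have key : ∀ t, T t = Φ t := by
      intro t
      induction t using TensorProduct.induction_on with
      | zero => rw [map_zero, map_zero]
      | add t t' h h' => rw [map_add, map_add, h, h']
      | tmul a b =>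
        obtain ⟨V, hV, m, n, hm, hn⟩ := TensorStalk.exists_germ₂ (x := f.base z)
          (P := DCoh.toP.obj E) (Q := DCoh.toP.obj ((pf f).obj F)) a b
        subst hm hn
        refine (congrArg (fun w => tensorStalk z ((pb f).obj E) F (pushStalkMap f z _
            (stalkMapₗ (ProjFormula.theta f E F) (f.base z) w)))
          ((LinearEquiv.symm_apply_eq _).2
            (tensorStalk_germ_tens E ((pf f).obj F) _ hV m n).symm)).trans ?_
        refine (stalkMapₗ_theta_germ f E F z hV m n).trans ?_
        simp only [Φ, AddEquiv.trans_apply, LinearEquiv.coe_toAddEquiv, TensorProduct.congr_tmul,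
          LinearEquiv.refl_apply, cancel_tmul]
        refine congrArg₂ (fun u v => u ⊗ₜ[X.presheaf.stalk z] v) ?_ rfl
        exact (comparison_one_tmul f z E _).symm
    have hb : Function.Bijective T := (show ⇑T = ⇑Φ from funext key) ▸ Φ.bijective
    have hb' : Function.Bijective ((pushStalkMap f z (CohB1.tensorMod ((pb f).obj E) F)).hom ∘
        stalkMapₗ (ProjFormula.theta f E F) (f.base z)) :=
      (Function.Bijective.of_comp_iff _
        (tensorStalk (f.base z) E ((pf f).obj F)).symm.bijective).1
        (((tensorStalk z ((pb f).obj E) F).bijective.of_comp_iff' _).1 hb)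
    exact ((PushClosed.Unit.bijective_pushStalkMap f _ z).of_comp_iff' _).1 hb'
  · haveI := PushClosed.Unit.subsingleton_stalk_push f F hy
    haveI := PushClosed.Unit.subsingleton_stalk_push f (CohB1.tensorMod ((pb f).obj E) F) hy
    haveI : Subsingleton ((CohB1.tensorMod E ((pf f).obj F)).presheaf.stalk y) :=
      (tensorStalk y E ((pf f).obj F)).toEquiv.subsingleton_congr.2 inferInstance
    exact ⟨fun a b _ => Subsingleton.elim a b, fun b => ⟨0, Subsingleton.elim _ _⟩⟩

/-- The projection formula map is an isomorphism for a closed immersion. -/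
theorem isIso_theta [IsClosedImmersion f] (E : Y.Modules) (F : X.Modules) :
    IsIso (ProjFormula.theta f E F) := by
  refine (Stalk.isIso_iff_stalk _).2 fun y => ?_
  exact (ConcreteCategory.isIso_iff_bijective _).2 (bijective_theta_stalk f E F y)

end Groth.Agent.Lib.DerivedOX.ProjClosed
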