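import Groth.Agent.Lib.DerivedOX.PullPushAdj
import Groth.Agent.Lib.SpecSeq.RightHom

/-!
# `Rf_*` is triangulated and commutes with derived limits
-/

universe u

open CategoryTheory Limits AlgebraicGeometry Pretriangulated

attribute [local instance] HasDerivedCategory.standard

set_option linter.style.haveILetI false

namespace Groth.Agent.Lib.DerivedOX.RpushTriangulated

open RightDerived

variable {X Y : Scheme.{u}} (f : X ⟶ Y) [DCoh.HasRpush f]

noncomputable instance commShift_Rpush : (DCoh.Rpush f).CommShift ℤ :=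
  Functor.CommShift.ofIso (totalRightDerivedIso (DCoh.pushKh f)) ℤ

instance isTriangulated_Rpush : (DCoh.Rpush f).IsTriangulated :=
  haveI : NatTrans.CommShift (totalRightDerivedIso (DCoh.pushKh f)).hom ℤ :=
    Functor.CommShift.ofIso_compatibility (totalRightDerivedIso (DCoh.pushKh f)) ℤ
  Functor.isTriangulated_of_iso (totalRightDerivedIso (DCoh.pushKh f))

theorem isRightAdjoint_Rpush : (DCoh.Rpush f).IsRightAdjoint :=
  haveI := LeftExists.hasLpull f
  (PullPushAdj.derivedAdjunction f).isRightAdjoint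

theorem isRlim_Rpush (K : ℕ → DCoh.D X) (t : ∀ n, K (n + 1) ⟶ K n) [HasProduct K]
    [HasProduct fun n => (DCoh.Rpush f).obj (K n)] (L : DCoh.D X) (hL : DCoh.IsRlim K t L) :
    DCoh.IsRlim (fun n => (DCoh.Rpush f).obj (K n)) (fun n => (DCoh.Rpush f).map (t n))
      ((DCoh.Rpush f).obj L) := by
  haveI := isRightAdjoint_Rpush f
  obtain ⟨a, c, hT⟩ := hL
  let R := DCoh.Rpush f
  let e : R.obj (∏ᶜ K) ≅ ∏ᶜ fun n => R.obj (K n) := PreservesProduct.iso R K
  refine ⟨R.map a ≫ e.hom, e.inv ≫ R.map c ≫ (R.commShiftIso (1 : ℤ)).hom.app L,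
    isomorphic_distinguished _ (R.map_distinguished _ hT) _ ?_⟩
  refine Triangle.isoMk _ _ (Iso.refl _) e.symm e.symm ?_ ?_ ?_
  · change (R.map a ≫ e.hom) ≫ e.inv = 𝟙 (R.obj L) ≫ R.map a
    simp
  · change Pi.lift _ ≫ e.inv = e.inv ≫ R.map _
    refine (Iso.comp_inv_eq e).2 (Pi.hom_ext _ _ fun n => ?_)
    have hπ : ∀ m, (PreservesProduct.iso (DCoh.Rpush f) K).inv ≫ (DCoh.Rpush f).map (Pi.π K m) =
        Pi.π (fun m => (DCoh.Rpush f).obj (K m)) m := fun m => by
      rw [Iso.inv_comp_eq, PreservesProduct.iso_hom, piComparison_comp_π]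
    simp [e, R, Functor.map_sub, hπ, reassoc_of% hπ]
  · change (e.inv ≫ R.map c ≫ (R.commShiftIso (1 : ℤ)).hom.app L) ≫ (𝟙 (R.obj L))⟦(1 : ℤ)⟧' = _
    simp
    rfl

end Groth.Agent.Lib.DerivedOX.RpushTriangulated
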