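import Groth.Agent.Lib.DerivedOX.CompactUnit
import Groth.Agent.Lib.DerivedOX.PullPushAdj
import Groth.Agent.Lib.DerivedOX.RpushTriangulated
import Groth.Agent.Lib.BettiExact.TorProduct

/-!
# `Rf_*` commutes with direct sums in `D_QCoh`

For `f` quasi-compact and quasi-separated.
-/

set_option autoImplicit false
set_option linter.unusedSectionVars false
set_option linter.style.haveILetI false

universe u

open CategoryTheory Limits AlgebraicGeometry Pretriangulated DerivedCategory

attribute [local instance] HasDerivedCategory.standard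

namespace Groth.Agent.Lib.DerivedOX.RpushCoprod

open Groth.Agent.Lib.DerCat FixCoprod CompactUnit

variable {X S : Scheme.{u}} (f : X ⟶ S)

/-- `Lf^*𝒪 ≅ 𝒪`. -/
theorem nonempty_Lpull_one [DCoh.HasLpull f] : Nonempty ((DCoh.Lpull f).obj (oneD S) ≅ oneD X) := by
  let α : DerivedCategory.Qh ⋙ DCoh.Lpull f ⟶ PullPushAdj.pullK f :=
    (PullPushAdj.pullK f).totalLeftDerivedCounit DerivedCategory.Qh
      (HomotopyCategory.quasiIso S.Modules (ComplexShape.up ℤ))
  haveI := PullPushAdj.isIso_counit_app_of_isKFlat f (DCoh.Lpull f) α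
    (BettiExact.TorProduct.isKFlat_unitCx S)
  exact ⟨(DCoh.Lpull f).mapIso (((DerivedCategory.singleFunctorIsoCompQ S.Modules 0).app _) ≪≫
        ((DerivedCategory.quotientCompQhIso S.Modules).app (DerSch.unitCx S)).symm) ≪≫
      asIso (α.app ((HomotopyCategory.quotient S.Modules (.up ℤ)).obj (DerSch.unitCx S))) ≪≫
      DerivedCategory.Qh.mapIso (((Scheme.Modules.pullback f).mapHomotopyCategoryFactors
        (ComplexShape.up ℤ)).app _) ≪≫
      (DerivedCategory.quotientCompQhIso X.Modules).app _ ≪≫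
      DerivedCategory.Q.mapIso (BettiExact.TorProduct.pbUnitIso f) ≪≫
      ((DerivedCategory.singleFunctorIsoCompQ X.Modules 0).app _).symm⟩

lemma exists_desc_lift {D : Type*} [Category D] [Preadditive D] {D' : Type*} [Category D']
    [Preadditive D'] (F : D ⥤ D') [F.Additive] {ι : Type*} (K : ι → D) [HasCoproduct K]
    [HasCoproduct fun i => F.obj (K i)] (s : Finset ι) {P : D'} (h : P ⟶ F.obj (∐ K))
    (hs : h ≫ F.map (cut K s) = h) :
    ∃ g : P ⟶ ∐ fun i => F.obj (K i), g ≫ sigmaComparison F K = h := by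
  refine ⟨∑ i ∈ s, (h ≫ F.map (proj K i)) ≫ Sigma.ι (fun i => F.obj (K i)) i, ?_⟩
  rw [Preadditive.sum_comp]
  conv_rhs => rw [← hs, cut_eq_sum, F.map_sum, Preadditive.comp_sum]
  refine Finset.sum_congr rfl fun i _ => ?_
  rw [Category.assoc, ι_comp_sigmaComparison, Category.assoc, ← F.map_comp]

lemma eq_zero_of_comp_sigmaComparison {D : Type*} [Category D] [Preadditive D] {D' : Type*}
    [Category D'] [Preadditive D'] (F : D ⥤ D') [F.Additive] {ι : Type*} (K : ι → D) [HasCoproduct K]
    [HasCoproduct fun i => F.obj (K i)] (s : Finset ι) {P : D'} (g : P ⟶ ∐ fun i => F.obj (K i))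
    (hs : g ≫ cut (fun i => F.obj (K i)) s = g) (h : g ≫ sigmaComparison F K = 0) : g = 0 := by
  classical
  have key : ∀ i, sigmaComparison F K ≫ F.map (proj K i) = proj (fun i => F.obj (K i)) i :=
    fun i => Sigma.hom_ext _ _ fun j => by
      rw [← Category.assoc, ι_comp_sigmaComparison, ← F.map_comp, ι_proj, ι_proj]
      split_ifs with hji
      · subst hji; simp
      · simp
  rw [← hs, cut_eq_sum, Preadditive.comp_sum]
  refine Finset.sum_eq_zero fun i _ => ?_
  rw [← key, Category.assoc, reassoc_of% h, zero_comp]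

/-- Tested on a compact object with compact image, the comparison map is bijective. -/
theorem bijective_test [QuasiCompact f] [QuasiSeparated f] [DCoh.HasRpush f] [DCoh.HasLpull f]
    {P : DCoh.D S} (hP : Fix.{u} (qcD S) P) (hP' : Fix.{u} (qcD X) ((DCoh.Lpull f).obj P))
    {ι : Type u} (K : ι → DCoh.D X) (hK : ∀ i, DCoh.IsQCohD (K i)) [HasCoproduct K]
    [HasCoproduct fun i => (DCoh.Rpush f).obj (K i)] :
    Function.Bijective fun g : P ⟶ ∐ (fun i => (DCoh.Rpush f).obj (K i)) =>
      g ≫ sigmaComparison (DCoh.Rpush f) K := by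
  let adj := PullPushAdj.derivedAdjunction f
  constructor
  · intro g g' h
    rw [← sub_eq_zero]
    obtain ⟨s, hs⟩ := hP ι _ (fun i => RpushQCoh.isQCohD_Rpush f _ (hK i)) (g - g')
    exact eq_zero_of_comp_sigmaComparison _ K s _ hs
      (by rw [Preadditive.sub_comp]; exact sub_eq_zero.2 h)
  · intro h
    obtain ⟨s, hs⟩ := hP' ι K hK ((adj.homEquiv P _).symm h)
    refine exists_desc_lift (DCoh.Rpush f) K s h ((adj.homEquiv P _).symm.injective ?_)
    rw [adj.homEquiv_naturality_right_symm, hs]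

section Spec

variable (R : CommRingCat.{u})

lemma acyclic_of_hom_eq_zero (L : CochainComplex (ModuleCat.{u} R) ℤ)
    (hL : ∀ (n : ℤ) (β : DerivedCategory.Q.obj (ModGen.sing (↑R) n) ⟶ DerivedCategory.Q.obj L), β = 0) :
    L.Acyclic := fun n => by
  rw [HomologicalComplex.exactAt_iff' _ (n - 1) n (n + 1) (by simp) (by simp),
    ShortComplex.moduleCat_exact_iff]
  intro (z : L.X n) (hz : (L.d n (n + 1)).hom z = 0)
  let φ : ModGen.sing (↑R) n ⟶ L := HomologicalComplex.mkHomFromSingle
    (ModuleCat.ofHom (LinearMap.toSpanSingleton R _ z)) fun k hk => by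
      obtain rfl : n + 1 = k := hk
      ext
      simpa using hz
  have h0 : (HomotopyCategory.quotient _ (ComplexShape.up ℤ)).map φ = 0 := by
    apply (CochainComplex.IsKProjective.Qh_map_bijective (ModGen.sing (↑R) n) _).1
    rw [Functor.map_zero]
    let q := DerivedCategory.quotientCompQhIso (ModuleCat.{u} R)
    rw [← cancel_mono (q.hom.app L), zero_comp]
    exact (q.hom.naturality φ).trans ((congrArg (_ ≫ ·) (hL n _)).trans comp_zero)
  let h := HomotopyCategory.homotopyOfEq φ 0 (h0.trans (Functor.map_zero _ _ _).symm)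
  have hc := h.comm n
  rw [HomologicalComplex.zero_f, add_zero,
    prevD_eq h.hom (show (ComplexShape.up ℤ).Rel (n - 1) n from by simp),
    dNext_eq h.hom (show (ComplexShape.up ℤ).Rel n (n + 1) from rfl),
    HomologicalComplex.single_obj_d, zero_comp, zero_add] at hc
  let t := (HomologicalComplex.singleObjXSelf (ComplexShape.up ℤ) n (ModuleCat.of R R)).inv
  refine ⟨(t ≫ h.hom n (n - 1)).hom 1, ?_⟩
  have := congrArg (fun f : (ModGen.sing (↑R) n).X n ⟶ L.X n => (t ≫ f).hom (1 : R)) hc
  simp [φ, t] at this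
  exact this.symm

end Spec

/-- On an affine scheme the shifts of `𝒪` detect vanishing in `D_QCoh`. -/
theorem isZero_of_hom_eq_zero [IsAffine S] {C : DCoh.D S} (hC : DCoh.IsQCohD C)
    (h : ∀ (n : ℤ) (g : (oneD S)⟦n⟧ ⟶ C), g = 0) : IsZero C := by
  let R : CommRingCat.{u} := Γ(S, ⊤)
  let e : S ≅ Spec (CommRingCat.of R) := S.isoSpec
  let adj : Scheme.Modules.restrictFunctor e.hom ⊣ Scheme.Modules.restrictFunctor e.inv :=
    (OpenImm.isoEquiv e).symm.toAdjunction
  let adjD : DCoh.restrictD e.hom ⊣ DCoh.restrictD e.inv := RestrictRpush.derivedAdjExact adj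
  obtain ⟨M, ⟨eM⟩⟩ := TildeEquiv.exists_preimage R _ (isQCohD_restrictD e.inv hC)
  let L := DerivedCategory.Q.objPreimage M
  haveI := TildeEquiv.faithful R
  have hL : L.Acyclic := by
    refine acyclic_of_hom_eq_zero R L fun n β => ?_
    let eP : (DCoh.tildeD R).obj (DerivedCategory.Q.obj (ModGen.sing (↑R) n)) ≅
        (oneD (Spec (CommRingCat.of R)))⟦-n⟧ :=
      (DCoh.tildeD R).mapIso ((DerivedCategory.singleFunctorIsoCompQ (ModuleCat.{u} R) n).app _).symm ≪≫
      ((TildeEquiv.F R).mapDerivedCategorySingleFunctor n).app _ ≪≫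
      (DerivedCategory.singleFunctor _ n).mapIso (tildeSelf (R := R)) ≪≫
      (((DerivedCategory.singleFunctors _).shiftIso (-n) n 0 (by omega)).app _).symm
    let w := (DCoh.tildeD R).mapIso (DerivedCategory.Q.objObjPreimageIso M) ≪≫ eM
    refine (DCoh.tildeD R).map_injective ?_
    rw [Functor.map_zero, ← cancel_epi eP.inv, ← cancel_mono w.hom, comp_zero, zero_comp]
    let j : (DCoh.restrictD e.hom).obj ((oneD (Spec (CommRingCat.of R)))⟦-n⟧) ≅ (oneD S)⟦-n⟧ :=
      ((DCoh.restrictD e.hom).commShiftIso (-n)).app _ ≪≫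
        (shiftFunctor (DCoh.D S) (-n)).mapIso (restrictOneIso e.hom)
    refine (adjD.homEquiv _ _).symm.injective ?_
    refine ((cancel_epi j.inv).1 ?_)
    exact (h (-n) _).trans (h (-n) _).symm
  have hQ : IsZero (DerivedCategory.Q.obj L) :=
    (RightDerived.isZero_Qh_obj_of_acyclic hL).of_iso
      ((DerivedCategory.quotientCompQhIso _).app L).symm
  have hM : IsZero ((DCoh.restrictD e.inv).obj C) :=
    ((DCoh.tildeD R).map_isZero (hQ.of_iso (DerivedCategory.Q.objObjPreimageIso M).symm)).of_iso eM.symm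
  exact OpenSupport.isZero_of_homology C fun n => (Modules.Support.support_eq_empty_iff).1
    (Set.eq_empty_iff_forall_notMem.2 fun x hx => OpenImm.not_mem_support_of_isZero_restrict
      e.inv hM n (e.hom x) (by simpa [← Scheme.Hom.comp_apply] using hx))

variable [QuasiCompact f] [QuasiSeparated f]

/-- The affine case. -/
theorem isIso_of_isAffine [IsAffine S] [DCoh.HasRpush f] {ι : Type u} (K : ι → DCoh.D X)
    (hK : ∀ i, DCoh.IsQCohD (K i)) [HasCoproduct K] [HasCoproduct fun i => (DCoh.Rpush f).obj (K i)] :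
    IsIso (sigmaComparison (DCoh.Rpush f) K) := by
  haveI := LeftExists.hasLpull f
  haveI : CompactSpace X := QuasiCompact.compactSpace_of_compactSpace f
  haveI : QuasiSeparatedSpace X := quasiSeparatedSpace_of_quasiSeparated f
  let adj := PullPushAdj.derivedAdjunction f
  have key : ∀ n : ℤ, Function.Bijective fun g : (oneD S)⟦n⟧ ⟶ ∐ (fun i => (DCoh.Rpush f).obj (K i)) =>
      g ≫ sigmaComparison (DCoh.Rpush f) K := fun n => by
    refine bijective_test f (fix_shift qcD_shift hasCoproduct (CompactUnit.good_of_isAffine S) n) ?_ K hK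
    obtain ⟨θ⟩ := nonempty_Lpull_one f
    let adj₁ := ((shiftEquiv (DCoh.D S) n).toAdjunction.comp adj).ofNatIsoRight
      ((DCoh.Rpush f).commShiftIso (-n)).symm
    let adj₂ := adj.comp (shiftEquiv (DCoh.D X) n).toAdjunction
    exact fix_of_iso ((shiftFunctor _ n).mapIso θ.symm ≪≫
        (adj₁.leftAdjointUniq adj₂).symm.app (oneD S))
      (fix_shift qcD_shift hasCoproduct (CompactUnit.good X) n)
  obtain ⟨C, g, h, hT⟩ := Pretriangulated.distinguished_cocone_triangle (sigmaComparison (DCoh.Rpush f) K)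
  refine (Triangle.isZero₃_iff_isIso₁ _ hT).1 (isZero_of_hom_eq_zero ?_ fun n x => ?_)
  · exact TildeEquiv.isQCohD_mor₃ _ hT
      (QCohCoprod.isQCohD_coproduct _ fun i => RpushQCoh.isQCohD_Rpush f _ (hK i))
      (RpushQCoh.isQCohD_Rpush f _ (QCohCoprod.isQCohD_coproduct _ hK))
  · let e := (shiftFunctorAdd' (DCoh.D S) (n - 1) 1 n (by omega)).app (oneD S)
    obtain ⟨u, hu⟩ := (shiftFunctor (DCoh.D S) (1 : ℤ)).map_surjective (e.inv ≫ x ≫ h)
    have hu0 : u = 0 := by
      refine (key (n - 1)).1 ?_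
      change u ≫ sigmaComparison (DCoh.Rpush f) K = 0 ≫ sigmaComparison (DCoh.Rpush f) K
      rw [zero_comp]
      refine (shiftFunctor (DCoh.D S) (1 : ℤ)).map_injective ?_
      rw [Functor.map_comp, Functor.map_zero, hu, Category.assoc, Category.assoc]
      refine (congrArg (fun t => e.inv ≫ x ≫ t) (comp_distTriang_mor_zero₃₁ _ hT)).trans ?_
      simp
      rfl
    have hxh : x ≫ h = 0 := by
      rw [← cancel_epi e.inv, ← hu, hu0, Functor.map_zero, comp_zero]
    obtain ⟨y, rfl⟩ := Triangle.coyoneda_exact₃ _ hT x hxh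
    obtain ⟨z, rfl⟩ := (key n).2 y
    change (z ≫ _) ≫ g = 0
    rw [Category.assoc, show sigmaComparison (DCoh.Rpush f) K ≫ g = 0 from
      comp_distTriang_mor_zero₁₂ _ hT, comp_zero]

/-- `Rf_*` preserves direct sums of objects of `D_QCoh`. -/
theorem preservesColimit_Rpush [DCoh.HasRpush f] {ι : Type u} (K : ι → DCoh.D X)
    (hK : ∀ i, DCoh.IsQCohD (K i)) : PreservesColimit (Discrete.functor K) (DCoh.Rpush f) := by
  classical
  haveI := hasCoproduct ι K
  haveI := hasCoproduct ι fun i => (DCoh.Rpush f).obj (K i)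
  suffices IsIso (sigmaComparison (DCoh.Rpush f) K) from PreservesCoproduct.of_iso_comparison _ _
  choose V hV hsV _ using fun s : S =>
    exists_isAffineOpen_mem_and_subset (X := S) (x := s) (U := ⊤) trivial
  refine OpenSupport.isIso_of_restrictD V (eq_top_iff.2 fun s _ => TopologicalSpace.Opens.mem_iSup.2 ⟨s, hsV s⟩) _
    fun s => ?_
  haveI : IsAffine (V s : Scheme.{u}) := hV s
  haveI := Exists.hasRpush (f ∣_ V s)
  let r := DCoh.restrictD (f ⁻¹ᵁ V s).ι
  let rS := DCoh.restrictD (V s).ι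
  haveI := hasCoproduct ι fun i => r.obj (K i)
  haveI := hasCoproduct ι fun i => (DCoh.Rpush (f ∣_ V s)).obj (r.obj (K i))
  haveI := hasCoproduct ι fun i => rS.obj ((DCoh.Rpush f).obj (K i))
  haveI := preservesColimits_restrictD (f ⁻¹ᵁ V s).ι ι
  haveI := preservesColimits_restrictD (V s).ι ι
  haveI := isIso_of_isAffine (f ∣_ V s) (fun i => r.obj (K i))
    fun i => isQCohD_restrictD _ (hK i)
  haveI : PreservesColimit (Discrete.functor fun i => r.obj (K i)) (DCoh.Rpush (f ∣_ V s)) :=
    PreservesCoproduct.of_iso_comparison _ _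
  haveI : PreservesColimit (Discrete.functor K ⋙ r) (DCoh.Rpush (f ∣_ V s)) :=
    preservesColimit_of_iso_diagram (K₁ := Discrete.functor fun i => r.obj (K i)) _
      (Discrete.compNatIsoDiscrete K r).symm
  haveI : PreservesColimit (Discrete.functor K) (DCoh.Rpush f ⋙ rS) :=
    preservesColimit_of_natIso _ (RestrictRpush.restrictD_Rpush_iso f (V s)).symm
  haveI : HasCoproduct fun i => (DCoh.Rpush f ⋙ rS).obj (K i) :=
    inferInstanceAs (HasCoproduct fun i => rS.obj ((DCoh.Rpush f).obj (K i)))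
  have hc : sigmaComparison rS (fun i => (DCoh.Rpush f).obj (K i)) ≫
      rS.map (sigmaComparison (DCoh.Rpush f) K) = sigmaComparison (DCoh.Rpush f ⋙ rS) K :=
    Sigma.hom_ext _ _ fun i => by
      rw [← Category.assoc, ι_comp_sigmaComparison, ← Functor.map_comp, ι_comp_sigmaComparison]
      exact (ι_comp_sigmaComparison (DCoh.Rpush f ⋙ rS) K i).symm
  haveI : IsIso (sigmaComparison rS (fun i => (DCoh.Rpush f).obj (K i)) ≫
      rS.map (sigmaComparison (DCoh.Rpush f) K)) := by rw [hc]; infer_instance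
  exact IsIso.of_isIso_comp_left (sigmaComparison rS (fun i => (DCoh.Rpush f).obj (K i))) _

end Groth.Agent.Lib.DerivedOX.RpushCoprod
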