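import Groth.Prelude.Def_DCoh2
import Groth.Agent.Lib.WayOut.Scheme
import Groth.Agent.Lib.DerCat.DerAdj
import Groth.Agent.Lib.DerCat.TStruct

/-!
# `D(A) ≅ D_QCoh(Spec A)`

The functor induced by `M ↦ M~` is fully faithful, and its essential image consists of the objects
with quasi-coherent cohomology.
-/

set_option autoImplicit false
set_option linter.unusedSectionVars false
set_option linter.style.haveILetI false

universe u

open CategoryTheory Limits AlgebraicGeometry Pretriangulated DerivedCategory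

attribute [local instance] HasDerivedCategory.standard

namespace Groth.Agent.Lib.DerivedOX.TildeEquiv

open Groth.Agent.Lib.SpecSeq.RightHom Groth.Agent.Lib.SpecSeq.AcyclicComplex
open Groth.Agent.Lib.WayOut.Bounded Groth.Agent.Lib.WayOut.Scheme
open Groth.Agent.Lib.DerCat

variable (R : CommRingCat.{u})

/-- `M ↦ M~`. -/
noncomputable abbrev F : ModuleCat.{u} R ⥤ (Spec (CommRingCat.of R)).Modules := tilde.functor R

/-- Global sections, as a module over `R`. -/
noncomputable abbrev G : (Spec (CommRingCat.of R)).Modules ⥤ ModuleCat.{u} R :=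
  moduleSpecΓFunctor (R := R)

instance G_additive : (G R).Additive := (tilde.adjunction (R := R)).right_adjoint_additive

/-- Global sections, as an abelian group. -/
noncomputable abbrev T : (Spec (CommRingCat.of R)).Modules ⥤ AddCommGrpCat.{u} :=
  sect (⊤ : (Spec (CommRingCat.of R)).Opens)

/-- Global sections as a module, viewed as an abelian group. -/
noncomputable def forgetIso : G R ⋙ forget₂ (ModuleCat.{u} R) AddCommGrpCat.{u} ≅ T R :=
  NatIso.ofComponents (fun _ => Iso.refl _)

/-- The counit and unit on complexes. -/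
noncomputable abbrev adjC :
    (F R).mapHomologicalComplex (ComplexShape.up ℤ) ⊣ (G R).mapHomologicalComplex (ComplexShape.up ℤ) :=
  DerAdj.adjC (tilde.adjunction (R := R)) (ComplexShape.up ℤ)

instance isIso_unit (E : CochainComplex (ModuleCat.{u} R) ℤ) : IsIso ((adjC R).unit.app E) := by
  haveI : ∀ n, IsIso (((adjC R).unit.app E).f n) := fun n =>
    inferInstanceAs (IsIso ((tilde.adjunction (R := R)).unit.app (E.X n)))
  exact HomologicalComplex.Hom.isIso_of_components _

instance isIso_map_counit (I : CochainComplex (Spec (CommRingCat.of R)).Modules ℤ) :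
    IsIso (((G R).mapHomologicalComplex (ComplexShape.up ℤ)).map ((adjC R).counit.app I)) :=
  IsIso.of_isIso_fac_left ((adjC R).right_triangle_components I)

/-- If `T` of a map is a quasi-isomorphism, so is `G` of it. -/
lemma quasiIso_G {K L : CochainComplex (Spec (CommRingCat.of R)).Modules ℤ} (f : K ⟶ L)
    (h : ∀ n, IsIso (HomologicalComplex.homologyMap
      (((T R).mapHomologicalComplex (ComplexShape.up ℤ)).map f) n)) :
    QuasiIso (((G R).mapHomologicalComplex (ComplexShape.up ℤ)).map f) := by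
  have h0 : QuasiIso (((T R).mapHomologicalComplex (ComplexShape.up ℤ)).map f) :=
    ⟨fun n => (quasiIsoAt_iff_isIso_homologyMap _ n).2 (h n)⟩
  let e := (NatIso.mapHomologicalComplex (forgetIso R) (ComplexShape.up ℤ))
  haveI : QuasiIso (((forget₂ (ModuleCat.{u} R) AddCommGrpCat.{u}).mapHomologicalComplex
      (ComplexShape.up ℤ)).map (((G R).mapHomologicalComplex (ComplexShape.up ℤ)).map f)) :=
    (quasiIso_iff_of_arrow_mk_iso _ _
      (((Functor.mapArrowFunctor _ _).mapIso e).app (Arrow.mk f))).2 h0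
  exact HomologicalComplex.quasiIso_map_iff_of_preservesHomology _
    (forget₂ (ModuleCat.{u} R) AddCommGrpCat.{u}) |>.1 inferInstance

lemma isIso_cmp_qc (K : CochainComplex (Spec (CommRingCat.of R)).Modules ℤ)
    (hK : ∀ j, qc _ (K.X j)) (n : ℤ) : IsIso ((cmp (T R) n).app K) :=
  WayOut.AcyclicCx.isIso_cmp (detects _) (T R) (van_sect_affine (isAffineOpen_top _))
    qc_homology K hK
    (fun k m hm => van_sect_affine (isAffineOpen_top _) _ (hK k) m (by lia)) n

/-- A quasi-isomorphism from a quasi-coherent complex to a K-injective one is one on sections. -/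
lemma isIso_T_of_qc {K I : CochainComplex (Spec (CommRingCat.of R)).Modules ℤ} (f : K ⟶ I)
    [I.IsKInjective] (hK : ∀ j, qc _ (K.X j)) (n : ℤ)
    [hf : IsIso ((RH (T R) n).map (DerivedCategory.Q.map f))] :
    IsIso (HomologicalComplex.homologyMap
      (((T R).mapHomologicalComplex (ComplexShape.up ℤ)).map f) n) := by
  haveI := isIso_cmp_qc R K hK n
  have hI := isIso_cmp_of_isKInjective (T R) n I
  have e := (cmp (T R) n).naturality f
  have h1 : IsIso (((T R).mapHomologicalComplex (ComplexShape.up ℤ) ⋙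
      HomologicalComplex.homologyFunctor _ (ComplexShape.up ℤ) n).map f ≫ (cmp (T R) n).app I) := by
    rw [e]
    exact IsIso.comp_isIso' inferInstance hf
  exact @IsIso.of_isIso_comp_right _ _ _ _ _ _ _ hI h1

variable [PreservesFiniteLimits (tilde.functor R)]

lemma acyclic_F {K : CochainComplex (ModuleCat.{u} R) ℤ} (hK : K.Acyclic) :
    (((F R).mapHomologicalComplex (ComplexShape.up ℤ)).obj K).Acyclic := fun n =>
  (HomologicalComplex.exactAt_iff _ n).2 (((HomologicalComplex.exactAt_iff K n).1 (hK n)).map (F R))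

/-- Global sections preserve K-injective complexes. -/
lemma isKInjective_G (I : CochainComplex (Spec (CommRingCat.of R)).Modules ℤ) [I.IsKInjective] :
    CochainComplex.IsKInjective (((G R).mapHomologicalComplex (ComplexShape.up ℤ)).obj I) where
  nonempty_homotopy_zero {K} φ hK := by
    let h := CochainComplex.IsKInjective.homotopyZero (((adjC R).homEquiv K I).symm φ) (acyclic_F R hK)
    let h' := (((G R).mapHomotopy h).compLeft ((adjC R).unit.app K))
    exact ⟨((Homotopy.ofEq ((((adjC R).homEquiv K I).apply_symm_apply φ).symm.trans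
      ((adjC R).homEquiv_unit _ _ _))).trans h').trans (Homotopy.ofEq (by simp))⟩

/-- The map `E ⟶ G I` adjoint to `E~ ⟶ I`. -/
noncomputable abbrev adjunct {E : CochainComplex (ModuleCat.{u} R) ℤ}
    {I : CochainComplex (Spec (CommRingCat.of R)).Modules ℤ}
    (φ : ((F R).mapHomologicalComplex (ComplexShape.up ℤ)).obj E ⟶ I) :
    E ⟶ ((G R).mapHomologicalComplex (ComplexShape.up ℤ)).obj I :=
  (adjC R).unit.app E ≫ ((G R).mapHomologicalComplex (ComplexShape.up ℤ)).map φ

lemma map_adjunct_counit {E : CochainComplex (ModuleCat.{u} R) ℤ}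
    {I : CochainComplex (Spec (CommRingCat.of R)).Modules ℤ}
    (φ : ((F R).mapHomologicalComplex (ComplexShape.up ℤ)).obj E ⟶ I) :
    ((F R).mapHomologicalComplex (ComplexShape.up ℤ)).map (adjunct R φ) ≫ (adjC R).counit.app I = φ := by
  have h1 := (adjC R).counit.naturality φ
  have h2 := (adjC R).left_triangle_components E
  dsimp at h1 h2
  simp only [adjunct, Functor.map_comp, Category.assoc]
  rw [h1, reassoc_of% h2]

/-- The adjunct of a quasi-isomorphism into a K-injective complex is a quasi-isomorphism. -/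
lemma quasiIso_adjunct {E : CochainComplex (ModuleCat.{u} R) ℤ}
    {I : CochainComplex (Spec (CommRingCat.of R)).Modules ℤ} [I.IsKInjective]
    (i : ((F R).mapHomologicalComplex (ComplexShape.up ℤ)).obj E ⟶ I) [QuasiIso i] :
    QuasiIso (adjunct R i) := by
  haveI := quasiIso_G R i fun n => isIso_T_of_qc R i
    (fun j => (inferInstance : (tilde (E.X j)).IsQuasicoherent)) n
  infer_instance

/-- Maps of complexes after tilde. -/
lemma tildeD_Q {E E' : CochainComplex (ModuleCat.{u} R) ℤ} (f : E ⟶ E') :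
    (DCoh.tildeD R).map (DerivedCategory.Q.map f) =
      ((F R).mapDerivedCategoryFactors).hom.app E ≫
        DerivedCategory.Q.map (((F R).mapHomologicalComplex (ComplexShape.up ℤ)).map f) ≫
        ((F R).mapDerivedCategoryFactors).inv.app E' :=
  (NatIso.naturality_2 ((F R).mapDerivedCategoryFactors) f).symm

lemma exists_kinj (K : CochainComplex (Spec (CommRingCat.of R)).Modules ℤ) :
    ∃ (I : CochainComplex (Spec (CommRingCat.of R)).Modules ℤ) (i : K ⟶ I),
      I.IsKInjective ∧ QuasiIso i := by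
  obtain ⟨I, hI, ⟨e⟩⟩ := RightDerived.exists_resFunctor_obj_iso (DerivedCategory.Q.obj K)
  haveI := hI
  haveI := HProd.isIso_counit (DerivedCategory.Q.obj K)
  let eI : DerivedCategory.Q.obj I ≅ DerivedCategory.Q.obj K :=
    (quotientCompQhIso _).symm.app I ≪≫ Qh.mapIso e ≪≫
      asIso ((RightDerived.resAdj _).counit.app _)
  obtain ⟨g, hg⟩ := (CochainComplex.IsKInjective.Qh_map_bijective _ I).surjective
    ((quotientCompQhIso _).hom.app K ≫ eI.inv ≫ (quotientCompQhIso _).inv.app I)
  obtain ⟨i, rfl⟩ := (HomotopyCategory.quotient _ _).map_surjective g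
  refine ⟨I, i, hI, (DerivedCategory.isIso_Q_map_iff_quasiIso _ i).1 ?_⟩
  have : DerivedCategory.Q.map i = eI.inv := by
    rw [← cancel_mono ((quotientCompQhIso _).inv.app I), quotientCompQhIso_inv_naturality, hg]
    simp
  rw [this]
  infer_instance

lemma exists_map_of_kinj {A : Type*} [Category A] [Abelian A] [HasDerivedCategory A]
    {K I : CochainComplex A ℤ} [I.IsKInjective]
    (α : DerivedCategory.Q.obj K ⟶ DerivedCategory.Q.obj I) :
    ∃ φ : K ⟶ I, DerivedCategory.Q.map φ = α := by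
  obtain ⟨g, hg⟩ := (CochainComplex.IsKInjective.Qh_map_bijective _ I).surjective
    ((quotientCompQhIso _).hom.app K ≫ α ≫ (quotientCompQhIso _).inv.app I)
  obtain ⟨φ, rfl⟩ := (HomotopyCategory.quotient _ _).map_surjective g
  refine ⟨φ, ?_⟩
  rw [← cancel_mono ((quotientCompQhIso _).inv.app I), quotientCompQhIso_inv_naturality, hg]
  simp

lemma homotopy_of_kinj {A : Type*} [Category A] [Abelian A] [HasDerivedCategory A]
    {K I : CochainComplex A ℤ} [I.IsKInjective] (φ : K ⟶ I)
    (h : DerivedCategory.Q.map φ = 0) : Nonempty (Homotopy φ 0) := by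
  refine ⟨HomotopyCategory.homotopyOfEq _ _ ((CochainComplex.IsKInjective.Qh_map_bijective _ I).injective ?_)⟩
  have hn := quotientCompQhIso_inv_naturality (C := A) φ
  rw [h, zero_comp] at hn
  rw [Functor.map_zero, Functor.map_zero]
  exact (cancel_epi ((quotientCompQhIso A).inv.app K)).1 (hn.symm.trans comp_zero.symm)

theorem full : (DCoh.tildeD R).Full where
  map_surjective {K L} α := by
    suffices ∀ (E E' : CochainComplex (ModuleCat.{u} R) ℤ)
        (α : (DCoh.tildeD R).obj (DerivedCategory.Q.obj E) ⟶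
          (DCoh.tildeD R).obj (DerivedCategory.Q.obj E')),
        ∃ β, (DCoh.tildeD R).map β = α by
      obtain ⟨E, ⟨eK⟩⟩ : ∃ E, Nonempty (DerivedCategory.Q.obj E ≅ K) :=
        ⟨_, ⟨DerivedCategory.Q.objObjPreimageIso K⟩⟩
      obtain ⟨E', ⟨eL⟩⟩ : ∃ E, Nonempty (DerivedCategory.Q.obj E ≅ L) :=
        ⟨_, ⟨DerivedCategory.Q.objObjPreimageIso L⟩⟩
      obtain ⟨β, hβ⟩ := this E E' ((DCoh.tildeD R).map eK.hom ≫ α ≫ (DCoh.tildeD R).map eL.inv)
      refine ⟨eK.inv ≫ β ≫ eL.hom, ?_⟩
      rw [Functor.map_comp, Functor.map_comp, hβ]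
      simp [← Functor.map_comp_assoc, ← Functor.map_comp]
    intro E E' α
    let ef := (F R).mapDerivedCategoryFactors
    obtain ⟨I, i, hI, hi⟩ := exists_kinj R (((F R).mapHomologicalComplex (ComplexShape.up ℤ)).obj E')
    obtain ⟨φ, hφ⟩ := exists_map_of_kinj (ef.inv.app E ≫ α ≫ ef.hom.app E' ≫ DerivedCategory.Q.map i)
    haveI := quasiIso_adjunct R i
    refine ⟨DerivedCategory.Q.map (adjunct R φ) ≫ inv (DerivedCategory.Q.map (adjunct R i)), ?_⟩
    rw [Functor.map_comp, Functor.map_inv, IsIso.comp_inv_eq, tildeD_Q, tildeD_Q]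
    let ε : ((F R).mapHomologicalComplex (ComplexShape.up ℤ)).obj
        (((G R).mapHomologicalComplex (ComplexShape.up ℤ)).obj I) ⟶ I := (adjC R).counit.app I
    have hε : DerivedCategory.Q.map (((F R).mapHomologicalComplex (ComplexShape.up ℤ)).map
        (adjunct R i)) ≫ DerivedCategory.Q.map ε = DerivedCategory.Q.map i := by
      rw [← Functor.map_comp, map_adjunct_counit]
    haveI : IsIso (DerivedCategory.Q.map ε) := by
      haveI : IsIso (DerivedCategory.Q.map (((F R).mapHomologicalComplex (ComplexShape.up ℤ)).map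
          (adjunct R i)) ≫ DerivedCategory.Q.map ε) := by rw [hε]; infer_instance
      exact IsIso.of_isIso_comp_left (DerivedCategory.Q.map
        (((F R).mapHomologicalComplex (ComplexShape.up ℤ)).map (adjunct R i))) _
    rw [← cancel_mono (ef.hom.app (((G R).mapHomologicalComplex (ComplexShape.up ℤ)).obj I) ≫
      DerivedCategory.Q.map ε)]
    simp only [ef, Category.assoc, Iso.inv_hom_id_app_assoc]
    rw [← Functor.map_comp, ← Functor.map_comp, map_adjunct_counit, map_adjunct_counit, hφ]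
    simp [ef]

theorem faithful : (DCoh.tildeD R).Faithful := by
  suffices ∀ (K L : DerivedCategory (ModuleCat.{u} R)) (β : K ⟶ L),
      (DCoh.tildeD R).map β = 0 → β = 0 by
    exact ⟨fun {K L f g} h => sub_eq_zero.1 (this K L (f - g) (by rw [Functor.map_sub, h, sub_self]))⟩
  suffices ∀ (E E' : CochainComplex (ModuleCat.{u} R) ℤ)
      (β : DerivedCategory.Q.obj E ⟶ DerivedCategory.Q.obj E'),
      (DCoh.tildeD R).map β = 0 → β = 0 by
    intro K L β hβ
    obtain ⟨E, ⟨eK⟩⟩ : ∃ E, Nonempty (DerivedCategory.Q.obj E ≅ K) :=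
      ⟨_, ⟨DerivedCategory.Q.objObjPreimageIso K⟩⟩
    obtain ⟨E', ⟨eL⟩⟩ : ∃ E, Nonempty (DerivedCategory.Q.obj E ≅ L) :=
      ⟨_, ⟨DerivedCategory.Q.objObjPreimageIso L⟩⟩
    have := this E E' (eK.hom ≫ β ≫ eL.inv) (by simp [hβ])
    simpa using congrArg (fun g => eK.inv ≫ g ≫ eL.hom) this
  intro E E' β hβ
  let ef := (F R).mapDerivedCategoryFactors
  obtain ⟨I, i, hI, hi⟩ := exists_kinj R (((F R).mapHomologicalComplex (ComplexShape.up ℤ)).obj E')
  haveI := quasiIso_adjunct R i
  haveI := isKInjective_G R I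
  obtain ⟨ψ, hψ⟩ := exists_map_of_kinj (β ≫ DerivedCategory.Q.map (adjunct R i))
  have h0 : DerivedCategory.Q.map (((F R).mapHomologicalComplex (ComplexShape.up ℤ)).map ψ) = 0 := by
    have h1 := tildeD_Q R ψ
    rw [hψ, Functor.map_comp, hβ, zero_comp] at h1
    rw [← cancel_epi (ef.hom.app E), ← cancel_mono (ef.inv.app _), Category.assoc, ← h1]
    simp
  obtain ⟨h⟩ := homotopy_of_kinj (I := I)
    (((F R).mapHomologicalComplex (ComplexShape.up ℤ)).map ψ ≫ (adjC R).counit.app I)
    (by rw [Functor.map_comp, h0, zero_comp])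
  have hψ' : ψ = adjunct R
      (((F R).mapHomologicalComplex (ComplexShape.up ℤ)).map ψ ≫ (adjC R).counit.app I) := by
    have h1 := (adjC R).unit.naturality ψ
    have h2 := (adjC R).right_triangle_components I
    dsimp at h1 h2
    simp only [adjunct, Functor.map_comp]
    rw [← Category.assoc, ← h1, Category.assoc, h2, Category.comp_id]
  have h' : Homotopy ψ 0 :=
    (Homotopy.ofEq hψ').trans ((((G R).mapHomotopy h).compLeft ((adjC R).unit.app E)).trans
      (Homotopy.ofEq (by simp)))
  have hQ : DerivedCategory.Q.map ψ = 0 := by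
    rw [← cancel_mono ((quotientCompQhIso _).inv.app _), quotientCompQhIso_inv_naturality,
      HomotopyCategory.eq_of_homotopy _ _ h', Functor.map_zero, Functor.map_zero, comp_zero, zero_comp]
  exact (cancel_mono (DerivedCategory.Q.map (adjunct R i))).1 (by rw [← hψ, hQ, zero_comp])

theorem isQCohD_obj (M : DerivedCategory (ModuleCat.{u} R)) :
    DCoh.IsQCohD ((DCoh.tildeD R).obj M) := fun i => by
  obtain ⟨E, ⟨e⟩⟩ : ∃ E, Nonempty (DerivedCategory.Q.obj E ≅ M) :=
    ⟨_, ⟨DerivedCategory.Q.objObjPreimageIso M⟩⟩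
  exact (qc _).prop_of_iso
    (((homologyFunctorFactors _ i).app _).symm ≪≫ (homologyFunctor _ i).mapIso
      (((F R).mapDerivedCategoryFactors.app E).symm ≪≫ (DCoh.tildeD R).mapIso e))
    (qc_homology (((F R).mapHomologicalComplex (ComplexShape.up ℤ)).obj E)
      (fun j => (inferInstance : (tilde (E.X j)).IsQuasicoherent)) i)

omit [PreservesFiniteLimits (tilde.functor R)] in
/-- The middle of an exact five-term sequence of quasi-coherent modules is quasi-coherent. -/
lemma isQCoh_mid {X : Scheme.{u}} {A B C D E : X.Modules} (a : A ⟶ B) (f : B ⟶ C) (g : C ⟶ D)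
    (b : D ⟶ E) (h₁ : a ≫ f = 0) (h₂ : f ≫ g = 0) (h₃ : g ≫ b = 0)
    (e₁ : (ShortComplex.mk a f h₁).Exact) (e₂ : (ShortComplex.mk f g h₂).Exact)
    (e₃ : (ShortComplex.mk g b h₃).Exact)
    (hA : A.IsQuasicoherent) (hB : B.IsQuasicoherent) (hD : D.IsQuasicoherent)
    (hE : E.IsQuasicoherent) : C.IsQuasicoherent := by
  let f' : B ⟶ kernel g := kernel.lift g f h₂
  haveI : Epi f' := (ShortComplex.exact_iff_epi_kernel_lift _).1 e₂
  haveI hK : (kernel g).IsQuasicoherent := by
    let S := ShortComplex.mk a f' (by rw [← cancel_mono (kernel.ι g)]; simp [f', h₁])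
    let φ : S ⟶ ShortComplex.mk a f h₁ :=
      { τ₁ := 𝟙 _, τ₂ := 𝟙 _, τ₃ := kernel.ι g, comm₁₂ := by simp [S]
        comm₂₃ := by simp [S, f'] }
    haveI : Epi φ.τ₁ := inferInstanceAs (Epi (𝟙 A))
    haveI : IsIso φ.τ₂ := inferInstanceAs (IsIso (𝟙 B))
    haveI : Mono φ.τ₃ := inferInstanceAs (Mono (kernel.ι g))
    have hS : S.Exact := (ShortComplex.exact_iff_of_epi_of_isIso_of_mono φ).2 e₁
    haveI : Epi S.g := inferInstanceAs (Epi f')
    haveI : S.X₁.IsQuasicoherent := hA
    haveI : S.X₂.IsQuasicoherent := hB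
    exact QCoh.Closure.isQCoh_of_exact_epi hS
  let g' : C ⟶ kernel b := kernel.lift b g h₃
  haveI : Epi g' := (ShortComplex.exact_iff_epi_kernel_lift _).1 e₃
  have hz : kernel.ι g ≫ g' = 0 := by rw [← cancel_mono (kernel.ι b)]; simp [g']
  have hS : (ShortComplex.mk (kernel.ι g) g' hz).ShortExact := by
    refine ShortComplex.ShortExact.mk' (ShortComplex.exact_of_f_is_kernel _ ?_) inferInstance inferInstance
    exact KernelFork.IsLimit.ofι' _ hz fun k hk => ⟨kernel.lift g k (by
      have := congrArg (· ≫ kernel.ι b) hk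
      simpa [g'] using this), kernel.lift_ι _ _ _⟩
  haveI : (ShortComplex.mk (kernel.ι g) g' hz).X₁.IsQuasicoherent := hK
  haveI : (ShortComplex.mk (kernel.ι g) g' hz).X₃.IsQuasicoherent := QCoh.Closure.isQCoh_kernel b
  exact QCoh.Closure.isQCoh_of_extension hS

omit [PreservesFiniteLimits (tilde.functor R)] in
lemma isQCohD_mor₃ {X : Scheme.{u}} (Tr : Triangle (DCoh.D X)) (hT : Tr ∈ distTriang (DCoh.D X))
    (h₁ : DCoh.IsQCohD Tr.obj₁) (h₂ : DCoh.IsQCohD Tr.obj₂) : DCoh.IsQCohD Tr.obj₃ := fun i =>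
  isQCoh_mid ((homologyFunctor _ i).map Tr.mor₁) ((homologyFunctor _ i).map Tr.mor₂)
    (HomologySequence.δ Tr i (i + 1) rfl) ((homologyFunctor _ (i + 1)).map Tr.mor₁) _ _ _
    (HomologySequence.exact₂ Tr hT i) (HomologySequence.exact₃ Tr hT i (i + 1) rfl)
    (HomologySequence.exact₁ Tr hT i (i + 1) rfl) (h₁ i) (h₂ i) (h₁ (i + 1)) (h₂ (i + 1))

omit [PreservesFiniteLimits (tilde.functor R)] in
/-- An object with quasi-coherent cohomology and without derived global sections is zero. -/
lemma isZero_homology_of_RH (Z : DCoh.D (Spec (CommRingCat.of R))) (hZ : DCoh.IsQCohD Z) (k : ℤ)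
    (h : ∀ n, IsZero ((RH (T R) n).obj Z)) :
    IsZero ((homologyFunctor _ k).obj Z) := by
  have hT := TStructure.t.triangleLTGE_distinguished k Z
  let Z' := (TStructure.t.truncLT k).obj Z
  let W := (TStructure.t.truncGE k).obj Z
  haveI hlt : Z'.IsLE (k - 1) := (inferInstance : TStructure.t.IsLE Z' (k - 1))
  haveI hW : W.IsGE k := (inferInstance : TStructure.t.IsGE W k)
  have z1 : IsZero ((RH (T R) (k + 1)).obj Z') :=
    WayOut.Holim.isZero_RH (detects _) (T R) (van_sect_affine (isAffineOpen_top _)) Z'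
      (hasP_truncLT (P := qc _) hZ k) (k - 1) (k + 1) (by lia)
  have zW : IsZero ((RH (T R) k).obj W) :=
    ((RH0 (T R)).homologySequence_exact₃ _ hT k (k + 1) rfl).isZero_X₂
      ((h k).eq_of_src _ _) (z1.eq_of_tgt _ _)
  have hT' := TStructure.t.triangleLTGE_distinguished (k + 1) W
  let U := (TStructure.t.truncLT (k + 1)).obj W
  let V := (TStructure.t.truncGE (k + 1)).obj W
  haveI hV : V.IsGE (k + 1) := (inferInstance : TStructure.t.IsGE V (k + 1))
  haveI hU : U.IsLE k := by
    have : TStructure.t.IsLE U (k + 1 - 1) := inferInstance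
    simpa using this
  haveI hU' : U.IsGE k := isGE_truncLT W (k + 1) k
  have zV : IsZero ((RH (T R) (k - 1)).obj V) := isZero_RH_of_isGE (T R) V (k + 1) (k - 1) (by lia)
  have zU : IsZero ((RH (T R) k).obj U) :=
    ((RH0 (T R)).homologySequence_exact₁ _ hT' (k - 1) k (by lia)).isZero_X₂
      (zV.eq_of_src _ _) (zW.eq_of_tgt _ _)
  obtain ⟨M, ⟨e⟩⟩ := exists_iso_singleFunctor_obj_of_isGE_of_isLE U k
  have eM : (homologyFunctor _ k).obj Z ≅ M :=
    @asIso _ _ _ _ _ (isIso_homologyMap_truncGEπ Z k k le_rfl) ≪≫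
      (@asIso _ _ _ _ _ (isIso_homologyMap_truncLTι W (k + 1) k (by lia))).symm ≪≫
      (homologyFunctor _ k).mapIso e ≪≫ (singleFunctorCompHomologyFunctorIso _ k).app M
  haveI hM : M.IsQuasicoherent := (qc _).prop_of_iso eM (hZ k)
  have z0 : IsZero (RS (T R) (k - k) M) :=
    zU.of_iso ((RH (T R) k).mapIso (e ≪≫
      (((DerivedCategory.singleFunctors _).shiftIso (-k) k 0 (by lia)).app M).symm) ≪≫
      ((RH0 (T R)).shiftIso (-k) k (k - k) (by lia)).app _).symm
  rw [sub_self] at z0
  haveI := isIso_cmp_single (T R) M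
  have z0' : IsZero ((T R).obj M) := by
    refine z0.of_iso (?_ ≪≫ asIso ((cmp (T R) 0).app ((CochainComplex.singleFunctor _ 0).obj M)) ≪≫
      (RH (T R) 0).mapIso (((SingleFunctors.evaluation _ _ 0).mapIso
        (singleFunctorsPostcompQIso _)).symm.app M))
    exact ((HomologicalComplex.homologyFunctorSingleIso _ (ComplexShape.up ℤ) 0).app ((T R).obj M)).symm ≪≫
      (HomologicalComplex.homologyFunctor _ _ 0).mapIso
        ((HomologicalComplex.singleMapHomologicalComplex (T R) (ComplexShape.up ℤ) 0).app M).symm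
  have hG : IsZero ((G R).obj M) := by
    haveI : Subsingleton ((T R).obj M) := AddCommGrpCat.subsingleton_of_isZero z0'
    exact @ModuleCat.isZero_of_subsingleton _ _ ((G R).obj M)
      (show Subsingleton ((T R).obj M) from inferInstance)
  haveI : IsIso ((tilde.adjunction (R := R)).counit.app M) := inferInstanceAs (IsIso M.fromTildeΓ)
  exact IsZero.of_iso ((F R).map_isZero hG)
    (eM ≪≫ (asIso ((tilde.adjunction (R := R)).counit.app M)).symm)

/-- Every object with quasi-coherent cohomology comes from `D(R)`. -/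
theorem exists_preimage (K : DCoh.D (Spec (CommRingCat.of R))) (hK : DCoh.IsQCohD K) :
    ∃ M, Nonempty ((DCoh.tildeD R).obj M ≅ K) := by
  obtain ⟨E, ⟨eE⟩⟩ : ∃ E, Nonempty (DerivedCategory.Q.obj E ≅ K) :=
    ⟨_, ⟨DerivedCategory.Q.objObjPreimageIso K⟩⟩
  obtain ⟨I, i, hI, hi⟩ := exists_kinj R E
  let GI := ((G R).mapHomologicalComplex (ComplexShape.up ℤ)).obj I
  let FGI := ((F R).mapHomologicalComplex (ComplexShape.up ℤ)).obj GI
  let ε : FGI ⟶ I := (adjC R).counit.app I
  let eF : (DCoh.tildeD R).obj (DerivedCategory.Q.obj GI) ≅ DerivedCategory.Q.obj FGI :=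
    (F R).mapDerivedCategoryFactors.app GI
  obtain ⟨Z, g, δ, hT⟩ := distinguished_cocone_triangle (DerivedCategory.Q.map ε)
  haveI : (DCoh.IsQCohD (X := Spec (CommRingCat.of R))).IsClosedUnderIsomorphisms :=
    ⟨fun e h j => (qc _).prop_of_iso ((homologyFunctor _ j).mapIso e) (h j)⟩
  have h₁ : DCoh.IsQCohD (DerivedCategory.Q.obj FGI) :=
    DCoh.IsQCohD.prop_of_iso eF (isQCohD_obj R (DerivedCategory.Q.obj GI))
  have h₂ : DCoh.IsQCohD (DerivedCategory.Q.obj I) :=
    DCoh.IsQCohD.prop_of_iso (eE.symm ≪≫ asIso (DerivedCategory.Q.map i)) hK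
  have hqc : ∀ j, qc _ (FGI.X j) := fun j => (inferInstance : (tilde (GI.X j)).IsQuasicoherent)
  have hiso : ∀ n, IsIso ((RH (T R) n).map (DerivedCategory.Q.map ε)) := fun n => by
    haveI := isIso_cmp_qc R FGI hqc n
    haveI := isIso_cmp_of_isKInjective (T R) n I
    let e := NatIso.mapHomologicalComplex (forgetIso R) (ComplexShape.up ℤ)
    haveI : IsIso (((T R).mapHomologicalComplex (ComplexShape.up ℤ)).map ε) :=
      ((MorphismProperty.isomorphisms _).arrow_mk_iso_iff
        (((Functor.mapArrowFunctor _ _).mapIso e).app (Arrow.mk ε))).1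
        (inferInstanceAs (IsIso (((forget₂ (ModuleCat.{u} R) AddCommGrpCat.{u}).mapHomologicalComplex
          (ComplexShape.up ℤ)).map (((G R).mapHomologicalComplex (ComplexShape.up ℤ)).map ε))))
    have hn := (cmp (T R) n).naturality ε
    haveI : IsIso ((cmp (T R) n).app FGI ≫ (DerivedCategory.Q ⋙ RH (T R) n).map ε) := by
      rw [← hn]
      exact IsIso.comp_isIso' (inferInstanceAs (IsIso (HomologicalComplex.homologyMap
        (((T R).mapHomologicalComplex (ComplexShape.up ℤ)).map ε) n))) inferInstance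
    exact IsIso.of_isIso_comp_left ((cmp (T R) n).app FGI) ((DerivedCategory.Q ⋙ RH (T R) n).map ε)
  have hz : ∀ n, IsZero ((RH (T R) n).obj Z) := fun n => by
    haveI := hiso n
    haveI := hiso (n + 1)
    refine ((RH0 (T R)).homologySequence_exact₃ _ hT n (n + 1) rfl).isZero_X₂ ?_ ?_
    · have h0 := (congrArg (RH (T R) n).map (comp_distTriang_mor_zero₁₂ _ hT)).trans (Functor.map_zero _ _ _)
      rw [Functor.map_comp] at h0
      exact (cancel_epi ((RH (T R) n).map (DerivedCategory.Q.map ε))).1 (h0.trans comp_zero.symm)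
    · exact (cancel_mono ((RH (T R) (n + 1)).map (DerivedCategory.Q.map ε))).1
        (((RH0 (T R)).homologySequenceδ_comp _ hT n (n + 1) rfl).trans zero_comp.symm)
  have hZ := isQCohD_mor₃ _ hT h₁ h₂
  haveI : IsIso (DerivedCategory.Q.map ε) := by
    rw [DerivedCategory.isIso_iff]
    intro k
    have z1 := isZero_homology_of_RH R Z hZ (k - 1) hz
    have z0 := isZero_homology_of_RH R Z hZ k hz
    haveI : Mono ((homologyFunctor _ k).map (DerivedCategory.Q.map ε)) :=
      (HomologySequence.mono_homologyMap_mor₁_iff _ hT (k - 1) k (by lia)).2 (z1.eq_of_src _ _)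
    haveI : Epi ((homologyFunctor _ k).map (DerivedCategory.Q.map ε)) :=
      (HomologySequence.epi_homologyMap_mor₁_iff _ hT k).2 (z0.eq_of_tgt _ _)
    exact isIso_of_mono_of_epi _
  exact ⟨DerivedCategory.Q.obj GI, ⟨eF ≪≫ asIso (DerivedCategory.Q.map ε) ≪≫
    (asIso (DerivedCategory.Q.map i)).symm ≪≫ eE⟩⟩

end Groth.Agent.Lib.DerivedOX.TildeEquiv
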