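import Groth.Agent.Lib.DerivedOX.GammaAcyclic
import Groth.Agent.Lib.DerivedOX.RpushTriangulated
import Groth.Agent.Lib.DerivedOX.TildeEquiv

/-!
# `Rf_*` for an affine morphism on quasi-coherent complexes
-/

set_option autoImplicit false
set_option linter.unusedSectionVars false
set_option linter.style.haveILetI false

universe u

open CategoryTheory Limits AlgebraicGeometry Pretriangulated DerivedCategory

attribute [local instance] HasDerivedCategory.standard

namespace Groth.Agent.Lib.DerivedOX.AffinePush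

open Groth.Agent.Lib.SpecSeq.RightHom Groth.Agent.Lib.SpecSeq.AcyclicComplex
open Groth.Agent.Lib.WayOut.Bounded Groth.Agent.Lib.WayOut.Scheme

variable {X S : Scheme.{u}}

/-- Without derived sections over an affine open, no cohomology sheaf has sections there. -/
lemma isZero_sect_homology (W : X.Opens) (hW : IsAffineOpen W) (Z : DCoh.D X)
    (hZ : DCoh.IsQCohD Z) (k : ℤ) (h : ∀ n, IsZero ((RH (sect W) n).obj Z)) :
    IsZero ((sect W).obj ((homologyFunctor _ k).obj Z)) := by
  have hT := TStructure.t.triangleLTGE_distinguished k Z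
  let Z' := (TStructure.t.truncLT k).obj Z
  let W' := (TStructure.t.truncGE k).obj Z
  haveI hlt : Z'.IsLE (k - 1) := (inferInstance : TStructure.t.IsLE Z' (k - 1))
  haveI hW' : W'.IsGE k := (inferInstance : TStructure.t.IsGE W' k)
  have z1 : IsZero ((RH (sect W) (k + 1)).obj Z') :=
    WayOut.Holim.isZero_RH (detects _) (sect W) (van_sect_affine hW) Z'
      (hasP_truncLT (P := qc _) hZ k) (k - 1) (k + 1) (by lia)
  have zW : IsZero ((RH (sect W) k).obj W') :=
    ((RH0 (sect W)).homologySequence_exact₃ _ hT k (k + 1) rfl).isZero_X₂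
      ((h k).eq_of_src _ _) (z1.eq_of_tgt _ _)
  have hT' := TStructure.t.triangleLTGE_distinguished (k + 1) W'
  let U := (TStructure.t.truncLT (k + 1)).obj W'
  let V := (TStructure.t.truncGE (k + 1)).obj W'
  haveI hV : V.IsGE (k + 1) := (inferInstance : TStructure.t.IsGE V (k + 1))
  haveI hU : U.IsLE k := by
    have : TStructure.t.IsLE U (k + 1 - 1) := inferInstance
    simpa using this
  haveI hU' : U.IsGE k := isGE_truncLT W' (k + 1) k
  have zV : IsZero ((RH (sect W) (k - 1)).obj V) :=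
    isZero_RH_of_isGE (sect W) V (k + 1) (k - 1) (by lia)
  have zU : IsZero ((RH (sect W) k).obj U) :=
    ((RH0 (sect W)).homologySequence_exact₁ _ hT' (k - 1) k (by lia)).isZero_X₂
      (zV.eq_of_src _ _) (zW.eq_of_tgt _ _)
  obtain ⟨M, ⟨e⟩⟩ := exists_iso_singleFunctor_obj_of_isGE_of_isLE U k
  have eM : (homologyFunctor _ k).obj Z ≅ M :=
    @asIso _ _ _ _ _ (isIso_homologyMap_truncGEπ Z k k le_rfl) ≪≫
      (@asIso _ _ _ _ _ (isIso_homologyMap_truncLTι W' (k + 1) k (by lia))).symm ≪≫
      (homologyFunctor _ k).mapIso e ≪≫ (singleFunctorCompHomologyFunctorIso _ k).app M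
  have z0 : IsZero (RS (sect W) (k - k) M) :=
    zU.of_iso ((RH (sect W) k).mapIso (e ≪≫
      (((DerivedCategory.singleFunctors _).shiftIso (-k) k 0 (by lia)).app M).symm) ≪≫
      ((RH0 (sect W)).shiftIso (-k) k (k - k) (by lia)).app _).symm
  rw [sub_self] at z0
  haveI := isIso_cmp_single (sect W) M
  have z0' : IsZero ((sect W).obj M) := by
    refine z0.of_iso (?_ ≪≫ asIso ((cmp (sect W) 0).app ((CochainComplex.singleFunctor _ 0).obj M)) ≪≫
      (RH (sect W) 0).mapIso (((SingleFunctors.evaluation _ _ 0).mapIso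
        (singleFunctorsPostcompQIso _)).symm.app M))
    exact ((HomologicalComplex.homologyFunctorSingleIso _ (ComplexShape.up ℤ) 0).app ((sect W).obj M)).symm ≪≫
      (HomologicalComplex.homologyFunctor _ _ 0).mapIso
        ((HomologicalComplex.singleMapHomologicalComplex (sect W) (ComplexShape.up ℤ) 0).app M).symm
  exact z0'.of_iso ((sect W).mapIso eM)

/-- A quasi-coherent module without sections on the members of an affine cover is zero. -/
lemma isZero_of_sect {M : X.Modules} [M.IsQuasicoherent]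
    (h : ∀ x : X, ∃ U : X.Opens, IsAffineOpen U ∧ x ∈ U ∧ IsZero ((sect U).obj M)) : IsZero M := by
  haveI : ∀ x : X, Subsingleton (M.presheaf.stalk x) := fun x => by
    obtain ⟨U, hU, hxU, hz⟩ := h x
    haveI : Subsingleton Γ(M, U) := AddCommGrpCat.subsingleton_of_isZero hz
    refine ⟨fun a b => ?_⟩
    suffices ∀ z : M.presheaf.stalk x, z = 0 by rw [this a, this b]
    intro z
    obtain ⟨V, hxV, s, rfl⟩ := TopCat.Presheaf.exists_germ_eq M.presheaf z
    obtain ⟨g, hgV, hxg⟩ := hU.exists_basicOpen_le (V := V) ⟨x, hxV⟩ hxU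
    obtain ⟨n, t, ht⟩ := (QCoh.Localizing.localizes_of_isAffineOpen M hU g).ext'
      (M.presheaf.map (homOfLE hgV).op s)
    rw [Subsingleton.elim t 0] at ht
    have hu : IsUnit (QCoh.Localizing.resR (X.basicOpen_le g) g ^ n) :=
      (RingedSpace.isUnit_res_basicOpen X.toRingedSpace g).pow n
    have h0 : M.presheaf.map (homOfLE hgV).op s = 0 :=
      hu.smul_eq_zero.1 (ht.symm.trans (map_zero _))
    rw [← TopCat.Presheaf.germ_res_apply M.presheaf (homOfLE hgV) x hxg s]
    exact (congrArg _ h0).trans (map_zero _)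
  exact Modules.Stalk.isZero_iff_stalk_subsingleton.2 this

variable (f : X ⟶ S)

/-- Sections of `f_*` of a complex. -/
lemma quasiIso_push [IsAffineHom f] {F I : CochainComplex X.Modules ℤ} (i : F ⟶ I) [QuasiIso i]
    [I.IsKInjective] (hF : ∀ n, qc X (F.X n)) :
    QuasiIso (((Scheme.Modules.pushforward f).mapHomologicalComplex (ComplexShape.up ℤ)).map i) := by
  let C := CochainComplex.mappingCone
    (((Scheme.Modules.pushforward f).mapHomologicalComplex (ComplexShape.up ℤ)).map i)
  refine (quasiIso_iff_acyclic_mappingCone _).2 fun n => (HomologicalComplex.exactAt_iff _ _).2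
    (exact_of_sect _ fun W => ?_)
  have hq : QuasiIso (((sect (f ⁻¹ᵁ W.1)).mapHomologicalComplex (ComplexShape.up ℤ)).map i) := by
    refine ⟨fun m => (quasiIsoAt_iff_isIso_homologyMap _ m).2 ?_⟩
    have hW : IsAffineOpen (f ⁻¹ᵁ W.1) := W.2.preimage f
    haveI := WayOut.AcyclicCx.isIso_cmp (detects X) (sect (f ⁻¹ᵁ W.1)) (van_sect_affine hW)
      qc_homology F hF (fun k j hj => van_sect_affine hW _ (hF k) j (by lia)) m
    have hI := isIso_cmp_of_isKInjective (sect (f ⁻¹ᵁ W.1)) m I
    have e := (cmp (sect (f ⁻¹ᵁ W.1)) m).naturality i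
    have h1 : IsIso (((sect (f ⁻¹ᵁ W.1)).mapHomologicalComplex (ComplexShape.up ℤ) ⋙
        HomologicalComplex.homologyFunctor _ (ComplexShape.up ℤ) m).map i ≫
          (cmp (sect (f ⁻¹ᵁ W.1)) m).app I) := by
      rw [e]
      exact IsIso.comp_isIso' inferInstance
        (inferInstanceAs (IsIso ((RH (sect (f ⁻¹ᵁ W.1)) m).map (DerivedCategory.Q.map i))))
    exact @IsIso.of_isIso_comp_right _ _ _ _ _ _ _ hI h1
  let T' := Scheme.Modules.pushforward f ⋙ sect W.1
  haveI : T'.Additive := inferInstance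
  let e : sect (f ⁻¹ᵁ W.1) ≅ T' := NatIso.ofComponents fun _ => Iso.refl _
  have hq' : QuasiIso ((T'.mapHomologicalComplex (ComplexShape.up ℤ)).map i) :=
    (quasiIso_iff_of_arrow_mk_iso _ _ (((Functor.mapArrowFunctor _ _).mapIso
      (NatIso.mapHomologicalComplex e (ComplexShape.up ℤ))).app (Arrow.mk i))).1 hq
  have hq'' : QuasiIso (((sect W.1).mapHomologicalComplex (ComplexShape.up ℤ)).map
      (((Scheme.Modules.pushforward f).mapHomologicalComplex (ComplexShape.up ℤ)).map i)) := hq'
  exact (HomologicalComplex.exactAt_iff _ _).1 (HomologicalComplex.ExactAt.of_iso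
    ((quasiIso_iff_acyclic_mappingCone _).1 hq'' n)
    (CochainComplex.mappingCone.mapHomologicalComplexIso
      (((Scheme.Modules.pushforward f).mapHomologicalComplex (ComplexShape.up ℤ)).map i)
      (sect W.1)).symm)

/-- The unit is invertible on quasi-coherent complexes. -/
theorem isIso_unit [IsAffineHom f] [DCoh.HasRpush f] (F : CochainComplex X.Modules ℤ)
    (hF : ∀ n, qc X (F.X n)) :
    IsIso (((DCoh.pushKh f).totalRightDerivedUnit DerivedCategory.Qh
      (HomotopyCategory.quasiIso X.Modules (ComplexShape.up ℤ))).app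
      ((HomotopyCategory.quotient X.Modules (ComplexShape.up ℤ)).obj F)) := by
  obtain ⟨I, i, hI, hi⟩ : ∃ (I : CochainComplex X.Modules ℤ) (i : F ⟶ I), I.IsKInjective ∧ QuasiIso i := by
    obtain ⟨I, hI, ⟨e⟩⟩ := RightDerived.exists_resFunctor_obj_iso (DerivedCategory.Q.obj F)
    haveI := hI
    haveI := DerCat.HProd.isIso_counit (DerivedCategory.Q.obj F)
    let eI : DerivedCategory.Q.obj I ≅ DerivedCategory.Q.obj F :=
      (quotientCompQhIso _).symm.app I ≪≫ Qh.mapIso e ≪≫
        asIso ((RightDerived.resAdj _).counit.app _)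
    obtain ⟨i, hi⟩ := TildeEquiv.exists_map_of_kinj eI.inv
    refine ⟨I, i, hI, (DerivedCategory.isIso_Q_map_iff_quasiIso _ i).1 ?_⟩
    rw [hi]
    infer_instance
  let η := (DCoh.pushKh f).totalRightDerivedUnit DerivedCategory.Qh
      (HomotopyCategory.quasiIso X.Modules (ComplexShape.up ℤ))
  have hηI : IsIso (η.app ((HomotopyCategory.quotient X.Modules (ComplexShape.up ℤ)).obj I)) :=
    RightDerived.isIso_totalRightDerivedUnit_app_of_isKInjective _ I
  haveI : IsIso (DerivedCategory.Qh.map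
      ((HomotopyCategory.quotient X.Modules (ComplexShape.up ℤ)).map i)) :=
    (NatIso.isIso_map_iff (quotientCompQhIso X.Modules) i).2 inferInstance
  have hpq := quasiIso_push f i hF
  let q := (HomotopyCategory.quotient X.Modules (ComplexShape.up ℤ)).map i
  have hp : IsIso ((DCoh.pushKh f).map q) :=
    ((MorphismProperty.isomorphisms _).arrow_mk_iso_iff
      (((Functor.mapArrowFunctor _ _).mapIso
        (Functor.isoWhiskerRight ((Scheme.Modules.pushforward f).mapHomotopyCategoryFactors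
          (ComplexShape.up ℤ)) DerivedCategory.Qh)).app (Arrow.mk i))).2
      ((NatIso.isIso_map_iff (quotientCompQhIso S.Modules) _).2
        ((DerivedCategory.isIso_Q_map_iff_quasiIso _ _).2 hpq))
  have h2 : IsIso ((DerivedCategory.Qh ⋙ DCoh.Rpush f).map q) :=
    inferInstanceAs (IsIso ((DCoh.Rpush f).map (DerivedCategory.Qh.map q)))
  have h1 : IsIso (η.app ((HomotopyCategory.quotient X.Modules (ComplexShape.up ℤ)).obj F) ≫
      (DerivedCategory.Qh ⋙ DCoh.Rpush f).map q) := by
    rw [← η.naturality q]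
    exact IsIso.comp_isIso' hp hηI
  exact @IsIso.of_isIso_comp_right _ _ _ _ _ _ _ h2 h1

/-- `Rf_*` detects zero objects of `D_QCoh`. -/
theorem isZero_of_Rpush [IsAffineHom f] [DCoh.HasRpush f] (Z : DCoh.D X) (hZ : DCoh.IsQCohD Z)
    (h : IsZero ((DCoh.Rpush f).obj Z)) (k : ℤ) : IsZero ((homologyFunctor _ k).obj Z) := by
  obtain ⟨I, hI, ⟨e⟩⟩ := RightDerived.exists_resFunctor_obj_iso Z
  haveI := hI
  haveI := DerCat.HProd.isIso_counit Z
  let eI : DerivedCategory.Qh.obj ((HomotopyCategory.quotient X.Modules (ComplexShape.up ℤ)).obj I) ≅ Z :=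
    Qh.mapIso e ≪≫ asIso ((RightDerived.resAdj _).counit.app Z)
  let eQ : DerivedCategory.Q.obj I ≅ Z := (quotientCompQhIso _).symm.app I ≪≫ eI
  haveI := RightDerived.isIso_totalRightDerivedUnit_app_of_isKInjective (DCoh.pushKh f) I
  let C := ((Scheme.Modules.pushforward f).mapHomologicalComplex (ComplexShape.up ℤ)).obj I
  have hC : IsZero (DerivedCategory.Q.obj C) :=
    h.of_iso (((quotientCompQhIso S.Modules).symm.app C) ≪≫
      DerivedCategory.Qh.mapIso (((Scheme.Modules.pushforward f).mapHomotopyCategoryFactors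
        (ComplexShape.up ℤ)).symm.app I) ≪≫
      asIso (((DCoh.pushKh f).totalRightDerivedUnit DerivedCategory.Qh
        (HomotopyCategory.quasiIso X.Modules (ComplexShape.up ℤ))).app
          ((HomotopyCategory.quotient X.Modules (ComplexShape.up ℤ)).obj I)) ≪≫
      (DCoh.Rpush f).mapIso eI)
  let L : CochainComplex S.Modules ℤ := HomologicalComplex.zero
  have hL0 : IsZero L := HomologicalComplex.isZero_zero
  haveI : L.IsKInjective := ⟨fun φ _ => ⟨Homotopy.ofEq (hL0.eq_of_tgt _ _)⟩⟩
  let i : (GammaAcyclic.pushC f).obj I ⟶ L := 0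
  haveI : QuasiIso i := (DerivedCategory.isIso_Q_map_iff_quasiIso _ i).1
    ⟨0, hC.eq_of_src _ _, (DerivedCategory.Q.map_isZero hL0).eq_of_src _ _⟩
  suffices ∀ x : X, ∃ U : X.Opens, IsAffineOpen U ∧ x ∈ U ∧
      IsZero ((sect U).obj ((homologyFunctor _ k).obj Z)) by
    haveI hq : ((homologyFunctor X.Modules k).obj Z).IsQuasicoherent := hZ k
    exact isZero_of_sect ‹_›
  intro x
  obtain ⟨V, hV, hxV, -⟩ := exists_isAffineOpen_mem_and_subset (X := S) (x := f x) (U := ⊤) trivial
  refine ⟨f ⁻¹ᵁ V, hV.preimage f, hxV, isZero_sect_homology _ (hV.preimage f) Z hZ k fun n => ?_⟩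
  have hqs := GammaAcyclic.quasiIso_sect f I i V
  have hh := (quasiIsoAt_iff_isIso_homologyMap _ n).1 (hqs.quasiIsoAt n)
  have z1 : IsZero ((((GammaAcyclic.sect V).mapHomologicalComplex (ComplexShape.up ℤ)).obj
      ((GammaAcyclic.pushC f).obj I)).homology n) :=
    (ShortComplex.isZero_homology_of_isZero_X₂ _ ((GammaAcyclic.sect V).map_isZero
      ((HomologicalComplex.eval _ _ n).map_isZero hL0))).of_iso
      (@asIso _ _ _ _ _ hh)
  let T' := Scheme.Modules.pushforward f ⋙ GammaAcyclic.sect V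
  let e : sect (f ⁻¹ᵁ V) ≅ T' := NatIso.ofComponents fun _ => Iso.refl _
  have hc := isIso_cmp_of_isKInjective (sect (f ⁻¹ᵁ V)) n I
  exact z1.of_iso (((RH (sect (f ⁻¹ᵁ V)) n).mapIso eQ.symm) ≪≫
    (@asIso _ _ _ _ _ hc).symm ≪≫ (HomologicalComplex.homologyFunctor _ _ n).mapIso
      ((NatIso.mapHomologicalComplex e (ComplexShape.up ℤ)).app I))

/-- `Rf_*` reflects isomorphisms of `D_QCoh`. -/
theorem isIso_of_Rpush [IsAffineHom f] [DCoh.HasRpush f] {E F : DCoh.D X} (hE : DCoh.IsQCohD E)
    (hF : DCoh.IsQCohD F) (α : E ⟶ F) (hα : IsIso ((DCoh.Rpush f).map α)) : IsIso α := by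
  obtain ⟨Z, g, δ, hT⟩ := distinguished_cocone_triangle α
  have hz : IsZero ((DCoh.Rpush f).obj Z) :=
    (Triangle.isZero₃_iff_isIso₁ _ ((DCoh.Rpush f).map_distinguished _ hT)).2 hα
  have hZ := isZero_of_Rpush f Z (TildeEquiv.isQCohD_mor₃ _ hT hE hF) hz
  rw [DerivedCategory.isIso_iff]
  intro k
  haveI : Mono ((homologyFunctor _ k).map α) :=
    (HomologySequence.mono_homologyMap_mor₁_iff _ hT (k - 1) k (by lia)).2 ((hZ (k - 1)).eq_of_src _ _)
  haveI : Epi ((homologyFunctor _ k).map α) :=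
    (HomologySequence.epi_homologyMap_mor₁_iff _ hT k).2 ((hZ k).eq_of_tgt _ _)
  exact isIso_of_mono_of_epi _

end Groth.Agent.Lib.DerivedOX.AffinePush
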