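import Groth.Agent.Lib.DerivedOX.PullPushAdj
import Groth.Agent.Lib.DerivedOX.KFlatPullback

/-!
# `Lf^* ∘ Lg^* ≅ L(g ∘ f)^*` and `Rg_* ∘ Rf_* ≅ R(g ∘ f)_*`
-/

universe u

open CategoryTheory Limits AlgebraicGeometry

attribute [local instance] HasDerivedCategory.standard

set_option linter.style.haveILetI false

namespace Groth.Agent.Lib.DerivedOX.PullComp

open PullPushAdj

variable {X Y Z : Scheme.{u}} (f : X ⟶ Y) (g : Y ⟶ Z)

local instance : (HomotopyCategory.quotient Z.Modules (.up ℤ) ⋙ DerivedCategory.Qh).IsLocalization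
    (HomologicalComplex.quasiIso Z.Modules (.up ℤ)) :=
  Functor.IsLocalization.of_iso _ (DerivedCategory.quotientCompQhIso Z.Modules).symm

/-- `f^* g^* ≅ (g ∘ f)^*` on homotopy categories. -/
noncomputable def pullHKIso :
    (Scheme.Modules.pullback g).mapHomotopyCategory (.up ℤ) ⋙
        (Scheme.Modules.pullback f).mapHomotopyCategory (.up ℤ) ≅
      (Scheme.Modules.pullback (f ≫ g)).mapHomotopyCategory (.up ℤ) :=
  Functor.mapHomotopyCategoryCompIso (Scheme.Modules.pullbackComp f g) (.up ℤ)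

/-- The composite counit. -/
noncomputable def compCounit [DCoh.HasLpull f] [DCoh.HasLpull g] :
    DerivedCategory.Qh ⋙ (DCoh.Lpull g ⋙ DCoh.Lpull f) ⟶ pullK (f ≫ g) :=
  (Functor.associator _ _ _).inv ≫
    Functor.whiskerRight ((pullK g).totalLeftDerivedCounit DerivedCategory.Qh
      (HomotopyCategory.quasiIso Z.Modules (.up ℤ))) (DCoh.Lpull f) ≫
    (Functor.associator _ _ _).hom ≫
    Functor.whiskerLeft _ ((pullK f).totalLeftDerivedCounit DerivedCategory.Qh
      (HomotopyCategory.quasiIso Y.Modules (.up ℤ))) ≫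
    (Functor.associator _ _ _).inv ≫
    Functor.whiskerRight (pullHKIso f g).hom DerivedCategory.Qh

lemma isIso_compCounit_app [DCoh.HasLpull f] [DCoh.HasLpull g]
    {K : CochainComplex Z.Modules ℤ} (hK : DCoh.IsKFlat K) :
    IsIso ((compCounit f g).app ((HomotopyCategory.quotient Z.Modules (.up ℤ)).obj K)) := by
  let qK := (HomotopyCategory.quotient Z.Modules (.up ℤ)).obj K
  haveI := isIso_counit_app_of_isKFlat g (DCoh.Lpull g)
    ((pullK g).totalLeftDerivedCounit DerivedCategory.Qh _) hK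
  have h2 : IsIso (((pullK f).totalLeftDerivedCounit DerivedCategory.Qh
      (HomotopyCategory.quasiIso Y.Modules (.up ℤ))).app
        (((Scheme.Modules.pullback g).mapHomotopyCategory (.up ℤ)).obj qK)) :=
    isIso_counit_app_of_isKFlat f (DCoh.Lpull f) _ (KFlatPullback.isKFlat_pullback g hK)
  haveI := h2
  simp only [compCounit, NatTrans.comp_app, Functor.whiskerRight_app, Functor.whiskerLeft_app,
    Functor.associator_hom_app, Functor.associator_inv_app]
  erw [Category.id_comp, Category.id_comp, Category.id_comp]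
  infer_instance

theorem isLeftDerived_compCounit [DCoh.HasLpull f] [DCoh.HasLpull g] :
    (DCoh.Lpull g ⋙ DCoh.Lpull f).IsLeftDerivedFunctor (compCounit f g)
      (HomotopyCategory.quasiIso Z.Modules (.up ℤ)) := by
  let E := HomotopyCategory.quotient Z.Modules (ComplexShape.up ℤ)
  haveI : (DCoh.Lpull g ⋙ DCoh.Lpull f).IsLeftDerivedFunctor
      (L := E ⋙ DerivedCategory.Qh) (F := E ⋙ pullK (f ≫ g))
      ((Functor.associator E DerivedCategory.Qh _).hom ≫ Functor.whiskerLeft E (compCounit f g))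
      (HomologicalComplex.quasiIso Z.Modules (.up ℤ)) := by
    refine LeftDerived.isLeftDerivedFunctor_of_isIso (isAdapted_pullK (f ≫ g))
      (E ⋙ DerivedCategory.Qh) _ _ fun K => ?_
    haveI := isIso_compCounit_app f g (KFlat.isKFlat_res K)
    exact inferInstanceAs (IsIso (𝟙 _ ≫ (compCounit f g).app (E.obj ((KFlat.res Z).obj K))))
  exact LeftDerived.isLeftDerivedFunctor_of_precomp (F := pullK (f ≫ g))
    (W := HomotopyCategory.quasiIso _ _) DerivedCategory.Qh E
    (HomologicalComplex.homotopyEquivalences Z.Modules (.up ℤ))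
    (HomologicalComplex.quasiIso Z.Modules (.up ℤ)) _ (compCounit f g)

/-- `Lf^* Lg^* ≅ L(g ∘ f)^*`. -/
noncomputable def lpullCompIso [DCoh.HasLpull f] [DCoh.HasLpull g] [DCoh.HasLpull (f ≫ g)] :
    DCoh.Lpull g ⋙ DCoh.Lpull f ≅ DCoh.Lpull (f ≫ g) :=
  haveI := isLeftDerived_compCounit f g
  Functor.leftDerivedUnique (LF := DCoh.Lpull g ⋙ DCoh.Lpull f) (LF' := DCoh.Lpull (f ≫ g))
    (α := compCounit f g)
    (α'₂ := (pullK (f ≫ g)).totalLeftDerivedCounit DerivedCategory.Qh
      (HomotopyCategory.quasiIso Z.Modules (.up ℤ)))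
    (W := HomotopyCategory.quasiIso Z.Modules (.up ℤ))

/-- `Rg_* Rf_* ≅ R(g ∘ f)_*`. -/
noncomputable def rpushCompIso [DCoh.HasRpush f] [DCoh.HasRpush g] [DCoh.HasRpush (f ≫ g)] :
    DCoh.Rpush f ⋙ DCoh.Rpush g ≅ DCoh.Rpush (f ≫ g) :=
  haveI := LeftExists.hasLpull f
  haveI := LeftExists.hasLpull g
  haveI := LeftExists.hasLpull (f ≫ g)
  (((derivedAdjunction g).comp (derivedAdjunction f)).ofNatIsoLeft (lpullCompIso f g)).rightAdjointUniq
    (derivedAdjunction (f ≫ g))

end Groth.Agent.Lib.DerivedOX.PullComp
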