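import Groth.Agent.Lib.DerivedOX.RestrictRpush
import Groth.Agent.Lib.DerivedOX.TildeEquiv
import Groth.Agent.Lib.DerCat.RFhObj
import Groth.Agent.Lib.Perfect.QCohD
import Groth.Agent.S0030

/-!
# `Rf_*` of a quasi-coherent complex along a quasi-compact quasi-separated morphism

`isQCohD_Rpush` and the uniform bound `exists_bound`.
-/

set_option autoImplicit false
set_option linter.unusedSectionVars false
set_option linter.style.haveILetI false

universe u

open CategoryTheory Limits AlgebraicGeometry Pretriangulated DerivedCategory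

attribute [local instance] HasDerivedCategory.standard

namespace Groth.Agent.Lib.DerivedOX.RpushQCoh

open Groth.Agent.Lib.SpecSeq.RightHom Groth.Agent.Lib.SpecSeq.AcyclicComplex
open Groth.Agent.Lib.WayOut.Bounded Groth.Agent.Lib.WayOut.Scheme

variable {X S : Scheme.{u}} (f : X ⟶ S)

/-- `f_*`. -/
noncomputable abbrev P : X.Modules ⥤ S.Modules := Scheme.Modules.pushforward f

/-- The cohomology of `Rf_*` is the derived `H^n f_*`. -/
lemma nonempty_HD_Rpush [DCoh.HasRpush f] (K : DCoh.D X) (n : ℤ) :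
    Nonempty (DCoh.HD ((DCoh.Rpush f).obj K) n ≅ (RH (P f) n).obj K) := by
  obtain ⟨I, hI, ⟨e⟩⟩ := RightDerived.exists_resFunctor_obj_iso K
  haveI := hI
  haveI := DerCat.HProd.isIso_counit K
  let eI : DerivedCategory.Qh.obj ((HomotopyCategory.quotient X.Modules (ComplexShape.up ℤ)).obj I) ≅ K :=
    Qh.mapIso e ≪≫ asIso ((RightDerived.resAdj _).counit.app K)
  haveI := RightDerived.isIso_totalRightDerivedUnit_app_of_isKInjective (DCoh.pushKh f) I
  haveI := isIso_cmp_of_isKInjective (P f) n I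
  exact ⟨(homologyFunctor S.Modules n).mapIso ((DCoh.Rpush f).mapIso eI.symm ≪≫
      (asIso (((DCoh.pushKh f).totalRightDerivedUnit DerivedCategory.Qh
        (HomotopyCategory.quasiIso X.Modules (ComplexShape.up ℤ))).app
          ((HomotopyCategory.quotient X.Modules (ComplexShape.up ℤ)).obj I))).symm ≪≫
      DerivedCategory.Qh.mapIso ((P f).mapHomotopyCategoryFactors (ComplexShape.up ℤ) |>.app I) ≪≫
      (quotientCompQhIso S.Modules).app _) ≪≫
    (homologyFunctorFactors S.Modules n).app _ ≪≫ asIso ((cmp (P f) n).app I) ≪≫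
    (RH (P f) n).mapIso ((quotientCompQhIso X.Modules).symm.app I ≪≫ eI)⟩

/-- On a module, `H^n f_*` is the `n`-th right derived functor. -/
lemma nonempty_RS_iso (M : X.Modules) (k : ℕ) :
    Nonempty (RS (P f) (k : ℤ) M ≅ ((P f).rightDerived k).obj M) := by
  let R := injectiveResolution M
  haveI := isKInjective_of_isStrictlyGE R.cochainComplex 0 inferInstance
  haveI : IsIso (DerivedCategory.Q.map R.ι') :=
    (DerivedCategory.isIso_Q_map_iff_quasiIso _ R.ι').2 inferInstance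
  haveI := isIso_cmp_of_isKInjective (P f) k R.cochainComplex
  exact ⟨(RH (P f) k).mapIso ((DerivedCategory.singleFunctorIsoCompQ X.Modules 0).app M ≪≫
      asIso (DerivedCategory.Q.map R.ι')) ≪≫
    (asIso ((cmp (P f) k).app R.cochainComplex)).symm ≪≫
    DerCat.RFObj.mapResHomologyIso (P f) R k⟩

lemma qc_of_isZero {M : S.Modules} (h : IsZero M) : M.IsQuasicoherent := P_of_isZero (P := qc S) h

variable [QuasiCompact f] [QuasiSeparated f]

lemma isQCoh_RH_single (Y : DCoh.D X) (hY : DCoh.IsQCohD Y) (q : ℤ) [Y.IsGE q] [Y.IsLE q] (n : ℤ) :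
    ((RH (P f) n).obj Y).IsQuasicoherent := by
  obtain ⟨M, ⟨e⟩⟩ := exists_iso_singleFunctor_obj_of_isGE_of_isLE Y q
  haveI hM : M.IsQuasicoherent := (qc X).prop_of_iso
    ((homologyFunctor _ q).mapIso e ≪≫ (singleFunctorCompHomologyFunctorIso _ q).app M) (hY q)
  refine (qc S).prop_of_iso ((RH (P f) n).mapIso (e ≪≫
    (((DerivedCategory.singleFunctors _).shiftIso (-q) q 0 (by lia)).app M).symm) ≪≫
    ((RH0 (P f)).shiftIso (-q) n (n - q) (by lia)).app _).symm ?_
  by_cases h : n - q < 0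
  · haveI : ((DerivedCategory.singleFunctor X.Modules 0).obj M).IsGE 0 := inferInstance
    exact qc_of_isZero (isZero_RH_of_isGE (P f) _ 0 (n - q) h)
  · obtain ⟨k, hk⟩ : ∃ k : ℕ, n - q = k := ⟨(n - q).toNat, by omega⟩
    rw [hk]
    haveI : HasInjectiveResolutions X.Modules := inferInstance
    obtain ⟨θ⟩ := nonempty_RS_iso f M k
    exact (qc S).prop_of_iso θ.symm (Groth.Agent.S0030.result f M k)

lemma isQCoh_RH_bounded (Y : DCoh.D X) (hY : DCoh.IsQCohD Y) (a b : ℤ) [Y.IsGE a] [Y.IsLE b] :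
    ∀ n : ℤ, ((RH (P f) n).obj Y).IsQuasicoherent := by
  obtain ⟨k, hk⟩ : ∃ k : ℕ, k = (b - a + 1).toNat := ⟨_, rfl⟩
  induction k generalizing Y b with
  | zero => exact fun n => qc_of_isZero (Functor.map_isZero _ (isZero_of_isGE_of_isLE_lt Y a b (by lia)))
  | succ k ih =>
    intro n
    haveI := isGE_truncLT Y b a
    haveI : ((TStructure.t.truncLT b).obj Y).IsLE (b - 1) :=
      (inferInstance : TStructure.t.IsLE ((TStructure.t.truncLT b).obj Y) (b - 1))
    haveI := isLE_truncGE Y b b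
    haveI : ((TStructure.t.truncGE b).obj Y).IsGE b :=
      (inferInstance : TStructure.t.IsGE ((TStructure.t.truncGE b).obj Y) b)
    have h1 := ih ((TStructure.t.truncLT b).obj Y) (hasP_truncLT (P := qc X) hY b) (b - 1) (by lia)
    have h2 := isQCoh_RH_single f ((TStructure.t.truncGE b).obj Y) (hasP_truncGE (P := qc X) hY b) b
    have hT := TStructure.t.triangleLTGE_distinguished b Y
    exact TildeEquiv.isQCoh_mid ((RH0 (P f)).homologySequenceδ _ (n - 1) n (by lia))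
      ((RH (P f) n).map ((TStructure.t.triangleLTGE b).obj Y).mor₁)
      ((RH (P f) n).map ((TStructure.t.triangleLTGE b).obj Y).mor₂)
      ((RH0 (P f)).homologySequenceδ _ n (n + 1) rfl) _ _ _
      ((RH0 (P f)).homologySequence_exact₁ _ hT (n - 1) n (by lia))
      ((RH0 (P f)).homologySequence_exact₂ _ hT n)
      ((RH0 (P f)).homologySequence_exact₃ _ hT n (n + 1) rfl)
      (h2 (n - 1)) (h1 n) (h2 n) (h1 (n + 1))

lemma isQCoh_RH_isGE (Y : DCoh.D X) (hY : DCoh.IsQCohD Y) (a : ℤ) [Y.IsGE a] (n : ℤ) :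
    ((RH (P f) n).obj Y).IsQuasicoherent := by
  let b := n + 2
  have hT := TStructure.t.triangleLTGE_distinguished b Y
  let Y' := (TStructure.t.truncLT b).obj Y
  let Y'' := (TStructure.t.truncGE b).obj Y
  haveI : Y'.IsLE (b - 1) := (inferInstance : TStructure.t.IsLE Y' (b - 1))
  haveI : Y'.IsGE a := isGE_truncLT Y b a
  haveI : Y''.IsGE b := (inferInstance : TStructure.t.IsGE Y'' b)
  have z0 : IsZero ((RH (P f) n).obj Y'') := isZero_RH_of_isGE (P f) Y'' b n (by lia)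
  have z1 : IsZero ((RH (P f) (n - 1)).obj Y'') := isZero_RH_of_isGE (P f) Y'' b (n - 1) (by lia)
  let m : (RH (P f) n).obj Y' ⟶ (RH (P f) n).obj Y :=
    (RH (P f) n).map ((TStructure.t.triangleLTGE b).obj Y).mor₁
  haveI : Mono m :=
    ((RH0 (P f)).homologySequence_exact₁ _ hT (n - 1) n (by lia)).mono_g (z1.eq_of_src _ _)
  haveI : Epi m :=
    ((RH0 (P f)).homologySequence_exact₂ _ hT n).epi_f (z0.eq_of_tgt _ _)
  haveI := isIso_of_mono_of_epi m
  exact (qc S).prop_of_iso (asIso m)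
    (isQCoh_RH_bounded f Y' (hasP_truncLT (P := qc X) hY b) a (b - 1) n)

omit [QuasiCompact f] [QuasiSeparated f] in
lemma exists_van (hS : IsAffine S) [QuasiCompact f] [QuasiSeparated f] :
    ∃ N : ℕ, ∀ W : S.Opens, IsAffineOpen W → Van (sect (f ⁻¹ᵁ W)) (qc X) (N + 1) := by
  have hT : IsAffineOpen (⊤ : S.Opens) := isAffineOpen_top S
  obtain ⟨d, -, hd⟩ := ZarCoh.Bounded.exists_bound (f ⁻¹ᵁ (⊤ : S.Opens))
    (f.isQuasiSeparated_preimage hT.isQuasiSeparated)
    {G | ∃ W : S.Opens, IsAffineOpen W ∧ G = f ⁻¹ᵁ W} (by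
      rintro U hU' hU _ ⟨W, hW, rfl⟩
      exact ZarCoh.Bounded.inf_preimage f hU hT hW le_top hU')
    (f ⁻¹ᵁ (⊤ : S.Opens)) le_rfl (f.isCompact_preimage hT.isCompact)
  refine ⟨d, fun W hW M hM n hn => isZero_RS_sect (f ⁻¹ᵁ W) d M (fun p hp => ?_) n hn⟩
  have h := hd M hM _ ⟨W, hW, rfl⟩ p (by lia)
  rwa [inf_eq_right.2 (f.preimage_mono le_top)] at h

/-- Uniform vanishing over an affine base. -/
lemma exists_bound_RH (hS : IsAffine S) :
    ∃ N : ℕ, ∀ (Y : DCoh.D X) (b : ℤ), DCoh.IsQCohD Y → Y.IsLE b →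
      ∀ n : ℤ, b + N + 1 ≤ n → IsZero ((RH (P f) n).obj Y) := by
  obtain ⟨N, hN⟩ := exists_van f hS
  refine ⟨N, fun Y b hY hb n hn => ?_⟩
  haveI := hb
  obtain ⟨I, hI, ⟨e⟩⟩ := RightDerived.exists_resFunctor_obj_iso Y
  haveI := hI
  haveI := DerCat.HProd.isIso_counit Y
  let eI : DerivedCategory.Q.obj I ≅ Y := (quotientCompQhIso _).symm.app I ≪≫
    Qh.mapIso e ≪≫ asIso ((RightDerived.resAdj _).counit.app Y)
  haveI := isIso_cmp_of_isKInjective (P f) n I
  refine IsZero.of_iso ?_ ((RH (P f) n).mapIso eI.symm ≪≫ (asIso ((cmp (P f) n).app I)).symm)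
  refine (HomologicalComplex.exactAt_iff_isZero_homology
    (((P f).mapHomologicalComplex (ComplexShape.up ℤ)).obj I) n).1
    ((HomologicalComplex.exactAt_iff _ _).2 (exact_of_sect _ fun W => ?_))
  let e' : sect (f ⁻¹ᵁ W.1) ≅ P f ⋙ sect W.1 := NatIso.ofComponents fun _ => Iso.refl _
  haveI hc := isIso_cmp_of_isKInjective (sect (f ⁻¹ᵁ W.1)) n I
  have z : IsZero ((((sect (f ⁻¹ᵁ W.1)).mapHomologicalComplex (ComplexShape.up ℤ)).obj I).homology n) :=
    (WayOut.Holim.isZero_RH (detects X) (sect (f ⁻¹ᵁ W.1)) (hN W.1 W.2) Y hY b n (by lia)).of_iso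
      (@asIso _ _ _ _ _ hc ≪≫ (RH (sect (f ⁻¹ᵁ W.1)) n).mapIso eI)
  exact (HomologicalComplex.exactAt_iff _ _).1
    (((HomologicalComplex.exactAt_iff_isZero_homology _ _).2 z).of_iso
      ((NatIso.mapHomologicalComplex e' (ComplexShape.up ℤ)).app I))

/-- The affine case. -/
lemma isQCoh_RH (hS : IsAffine S) (Y : DCoh.D X) (hY : DCoh.IsQCohD Y) (n : ℤ) :
    ((RH (P f) n).obj Y).IsQuasicoherent := by
  obtain ⟨N, hN⟩ := exists_bound_RH f hS
  let a : ℤ := n - N - 1
  have hT := TStructure.t.triangleLTGE_distinguished a Y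
  let Y' := (TStructure.t.truncLT a).obj Y
  let Y'' := (TStructure.t.truncGE a).obj Y
  have h' : DCoh.IsQCohD Y' := hasP_truncLT (P := qc X) hY a
  have hle : Y'.IsLE (a - 1) := (inferInstance : TStructure.t.IsLE Y' (a - 1))
  haveI : Y''.IsGE a := (inferInstance : TStructure.t.IsGE Y'' a)
  have z0 := hN Y' (a - 1) h' hle n (by lia)
  have z1 := hN Y' (a - 1) h' hle (n + 1) (by lia)
  haveI : Mono ((RH (P f) n).map ((TStructure.t.triangleLTGE a).obj Y).mor₂) :=
    ((RH0 (P f)).homologySequence_exact₂ _ hT n).mono_g (z0.eq_of_src _ _)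
  haveI : Epi ((RH (P f) n).map ((TStructure.t.triangleLTGE a).obj Y).mor₂) :=
    ((RH0 (P f)).homologySequence_exact₃ _ hT n (n + 1) rfl).epi_f (z1.eq_of_tgt _ _)
  haveI := isIso_of_mono_of_epi ((RH (P f) n).map ((TStructure.t.triangleLTGE a).obj Y).mor₂)
  exact (qc S).prop_of_iso (asIso ((RH (P f) n).map ((TStructure.t.triangleLTGE a).obj Y).mor₂)).symm
    (isQCoh_RH_isGE f Y'' (hasP_truncGE (P := qc X) hY a) a n)

lemma nonempty_restrict_HD [DCoh.HasRpush f] (K : DCoh.D X) (V : S.Opens) (n : ℤ) :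
    Nonempty ((DCoh.HD ((DCoh.Rpush f).obj K) n).restrict V.ι ≅
      (RH (P (f ∣_ V)) n).obj ((Perfect.Basic.RD (f ⁻¹ᵁ V).ι).obj K)) := by
  haveI := Exists.hasRpush (f ∣_ V)
  obtain ⟨θ⟩ := nonempty_HD_Rpush (f ∣_ V) ((Perfect.Basic.RD (f ⁻¹ᵁ V).ι).obj K) n
  exact ⟨(Perfect.Coherent.homologyIso V.ι _ n).symm ≪≫
    (homologyFunctor _ n).mapIso ((RestrictRpush.restrictD_Rpush_iso f V).app K) ≪≫ θ⟩

lemma isQCohD_restrict {K : DCoh.D X} (hK : DCoh.IsQCohD K) (U : X.Opens) :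
    DCoh.IsQCohD ((Perfect.Basic.RD U.ι).obj K) := fun n => by
  haveI : (DCoh.HD K n).IsQuasicoherent := hK n
  exact (qc _).prop_of_iso (Perfect.Coherent.homologyIso U.ι K n).symm
    (inferInstanceAs (((Scheme.Modules.restrictFunctor U.ι).obj (DCoh.HD K n)).IsQuasicoherent))

/-- `Rf_*` preserves `D_QCoh`. -/
theorem isQCohD_Rpush [DCoh.HasRpush f] (K : DCoh.D X) (hK : DCoh.IsQCohD K) :
    DCoh.IsQCohD ((DCoh.Rpush f).obj K) := fun n => Perfect.QCohD.isQCoh_of_cover fun s => by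
  obtain ⟨V, hV, hsV, -⟩ := exists_isAffineOpen_mem_and_subset (X := S) (x := s) (U := ⊤) trivial
  haveI : IsAffine (V : Scheme.{u}) := hV
  obtain ⟨θ⟩ := nonempty_restrict_HD f K V n
  refine ⟨V, V.ι, inferInstance, ⟨s, hsV⟩, rfl, (qc _).prop_of_iso θ.symm ?_⟩
  exact isQCoh_RH (f ∣_ V) inferInstance _ (isQCohD_restrict hK _) n

/-- Uniform vanishing above. -/
theorem exists_bound [CompactSpace S] [DCoh.HasRpush f] :
    ∃ N : ℤ, ∀ (E : DCoh.D X), DCoh.IsQCohD E → E.IsLE 0 →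
      ∀ m : ℤ, N ≤ m → IsZero (DCoh.HD ((DCoh.Rpush f).obj E) m) := by
  classical
  choose V hV hsV _ using fun s : S =>
    exists_isAffineOpen_mem_and_subset (X := S) (x := s) (U := ⊤) trivial
  obtain ⟨t, ht⟩ := isCompact_univ.elim_finite_subcover (fun s : S => ((V s : S.Opens) : Set S))
    (fun s => (V s).2) (fun s _ => Set.mem_iUnion.2 ⟨s, hsV s⟩)
  choose N hN using fun s : S => exists_bound_RH (f ∣_ V s) (hV s)
  refine ⟨(t.sup N : ℕ) + 1, fun E hE hE0 m hm => ?_⟩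
  haveI := hE0
  refine (Modules.Stalk.isZero_iff_stalk_subsingleton).2 fun x => ?_
  obtain ⟨s, hs, hxs⟩ : ∃ s ∈ t, x ∈ V s := by simpa using ht (Set.mem_univ x)
  obtain ⟨θ⟩ := nonempty_restrict_HD f E (V s) m
  have hle : ((Perfect.Basic.RD (f ⁻¹ᵁ V s).ι).obj E).IsLE 0 := (isLE_iff _ _).2 fun i hi =>
    ((Scheme.Modules.restrictFunctor (f ⁻¹ᵁ V s).ι).map_isZero (isZero_of_isLE E 0 i hi)).of_iso
      (Perfect.Coherent.homologyIso _ E i)
  have hz := (hN s _ 0 (isQCohD_restrict hE _) hle m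
    (by have := Finset.le_sup (f := N) hs; lia)).of_iso θ
  have h1 := Modules.Stalk.isZero_iff_stalk_subsingleton.1 hz ⟨x, hxs⟩
  exact (Modules.StalkRestrict.restrictStalkAddEquiv (V s).ι (DCoh.HD ((DCoh.Rpush f).obj E) m)
    ⟨x, hxs⟩).symm.injective.subsingleton

end Groth.Agent.Lib.DerivedOX.RpushQCoh
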