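import Groth.Agent.Lib.DerivedOX.TensorCoprod
import Groth.Agent.Lib.QCoh.Closure

/-!
# Direct sums of objects with quasi-coherent cohomology
-/

universe u

open CategoryTheory Limits AlgebraicGeometry

attribute [local instance] HasDerivedCategory.standard

set_option linter.style.haveILetI false

namespace Groth.Agent.Lib.DerivedOX.QCohCoprod

variable {X : Scheme.{u}}

/-- Cohomology sheaves commute with direct sums. -/
theorem preservesColimit_homology {ι : Type u} (C : ι → DCoh.D X) (n : ℤ) :
    PreservesColimit (Discrete.functor C) (DerivedCategory.homologyFunctor X.Modules n) := by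
  let K : ι → CochainComplex X.Modules ℤ := fun i => DerivedCategory.Q.objPreimage (C i)
  haveI := TensorCoprod.preservesColimit_Q K
  haveI : HasFiniteBiproducts X.Modules := HasFiniteBiproducts.of_hasFiniteProducts
  haveI := AB4.of_AB5 X.Modules
  haveI : HasExactColimitsOfShape (Discrete ι) X.Modules := AB4OfSize.ofShape _
  haveI : PreservesColimit (Discrete.functor K ⋙ DerivedCategory.Q)
      (DerivedCategory.homologyFunctor X.Modules n) := by
    refine preservesColimit_of_preserves_colimit_cocone
      (isColimitOfPreserves DerivedCategory.Q (coproductIsCoproduct K)) ?_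
    let c : Cofan K := Cofan.mk (∐ K) (Sigma.ι K)
    let e : Discrete.functor K ⋙ DerivedCategory.Q ⋙ DerivedCategory.homologyFunctor X.Modules n ≅
        Discrete.functor K ⋙ HomologicalComplex.homologyFunctor X.Modules (ComplexShape.up ℤ) n :=
      Functor.isoWhiskerLeft _ (DerivedCategory.homologyFunctorFactors X.Modules n)
    exact (IsColimit.equivOfNatIsoOfIso e ((DerivedCategory.Q ⋙ DerivedCategory.homologyFunctor X.Modules n).mapCocone c)
      ((HomologicalComplex.homologyFunctor X.Modules (ComplexShape.up ℤ) n).mapCocone c)
      (Cocone.ext ((DerivedCategory.homologyFunctorFactors X.Modules n).app (∐ K)) fun j => by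
        refine (Category.assoc _ _ _).trans ((Iso.inv_comp_eq (e.app j)).2 ?_)
        exact (DerivedCategory.homologyFunctorFactors X.Modules n).hom.naturality (Sigma.ι K j.as))).symm
      (isColimitOfPreserves _ (coproductIsCoproduct K))
  exact preservesColimit_of_iso_diagram _ (K₁ := Discrete.functor K ⋙ DerivedCategory.Q)
    (Discrete.natIso fun j => DerivedCategory.Q.objObjPreimageIso (C j.as))

/-- A direct sum of objects with quasi-coherent cohomology has quasi-coherent cohomology. -/
theorem isQCohD_coproduct {ι : Type u} (K : ι → DCoh.D X) (hK : ∀ i, DCoh.IsQCohD (K i))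
    [HasCoproduct K] : DCoh.IsQCohD (∐ K) := fun n => by
  haveI := preservesColimit_homology K n
  exact QCoh.Closure.isQCoh_of_isColimit
    (isColimitOfPreserves (DerivedCategory.homologyFunctor X.Modules n)
      (colimit.isColimit (Discrete.functor K))) fun j => hK j.as n

end Groth.Agent.Lib.DerivedOX.QCohCoprod
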