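import Groth.Agent.Lib.DerivedOX.TildeEquiv
import Groth.Agent.Lib.DerivedOX.TildeStalk
import Groth.Agent.Lib.DerivedOX.PullTensor
import Groth.Agent.Lib.DerivedOX.PullComp
import Groth.Agent.Lib.DerivedOX.TensorQis
import Groth.Agent.Lib.DR.KFlat
import Groth.Agent.Lib.Perfect.QCohD
import Groth.Agent.Lib.Perfect.Pullback
import Groth.Agent.Lib.QCoh.Tilde
import Groth.Agent.Lib.QCoh.Pullback
import Groth.Agent.Lib.TensorMod.TensorQCoh

/-!
# Derived pullback and derived tensor product preserve quasi-coherent cohomology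
-/

set_option autoImplicit false

universe u

open CategoryTheory Limits AlgebraicGeometry HomologicalComplex

attribute [local instance] HasDerivedCategory.standard

set_option linter.style.haveILetI false

namespace Groth.Agent.Lib.DerivedOX.QCohLocal

open Perfect.Basic Perfect.Pullback

variable {X Y : Scheme.{u}}

/-- `Lf^*` of a K-flat complex is its termwise pullback. -/
theorem nonempty_Lpull_iso (f : X ⟶ Y) [DCoh.HasLpull f] {A : CochainComplex Y.Modules ℤ}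
    (hA : DCoh.IsKFlat A) :
    Nonempty ((DCoh.Lpull f).obj (DerivedCategory.Q.obj A) ≅ DerivedCategory.Q.obj ((pC f).obj A)) := by
  haveI := PullPushAdj.isIso_counit_app_of_isKFlat f (DCoh.Lpull f)
    ((PullPushAdj.pullK f).totalLeftDerivedCounit DerivedCategory.Qh _) hA
  exact ⟨(DCoh.Lpull f).mapIso ((DerivedCategory.quotientCompQhIso Y.Modules).app A).symm ≪≫
    asIso (((PullPushAdj.pullK f).totalLeftDerivedCounit DerivedCategory.Qh
      (HomotopyCategory.quasiIso Y.Modules (.up ℤ))).app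
        ((HomotopyCategory.quotient Y.Modules (.up ℤ)).obj A)) ≪≫
    (LeftExists.onCxIso (Scheme.Modules.pullback f)).app A⟩

/-- Every object is represented by a K-flat complex. -/
theorem exists_kflat (K : DCoh.D X) :
    ∃ P : CochainComplex X.Modules ℤ, DCoh.IsKFlat P ∧ Nonempty (DerivedCategory.Q.obj P ≅ K) :=
  ⟨_, KFlat.isKFlat_res (DerivedCategory.Q.objPreimage K),
    ⟨asIso (DerivedCategory.Q.map ((KFlat.aug X).app _)) ≪≫ DerivedCategory.Q.objObjPreimageIso K⟩⟩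

/-- Restriction is derived pullback. -/
theorem nonempty_restrictD_iso (j : X ⟶ Y) [IsOpenImmersion j] [DCoh.HasLpull j] (K : DCoh.D Y) :
    Nonempty ((DCoh.restrictD j).obj K ≅ (DCoh.Lpull j).obj K) := by
  obtain ⟨P, hP, ⟨e⟩⟩ := exists_kflat K
  obtain ⟨e'⟩ := nonempty_Lpull_iso j hP
  exact ⟨(DCoh.restrictD j).mapIso e.symm ≪≫ RDQ j P ≪≫
    DerivedCategory.Q.mapIso ((rCIso j).app P) ≪≫ e'.symm ≪≫ (DCoh.Lpull j).mapIso e⟩

/-- A complex with quasi-coherent terms has quasi-coherent cohomology. -/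
theorem isQCoh_HD {E : CochainComplex X.Modules ℤ} (hE : ∀ n, (E.X n).IsQuasicoherent) {K : DCoh.D X}
    (e : DerivedCategory.Q.obj E ≅ K) (i : ℤ) : Coh.IsQCoh (DCoh.HD K i) :=
  (WayOut.Scheme.qc X).prop_of_iso
    (((DerivedCategory.homologyFunctorFactors _ i).app E).symm ≪≫
      (DerivedCategory.homologyFunctor _ i).mapIso e) (WayOut.Scheme.qc_homology E hE i)

/-- On an affine scheme, objects with quasi-coherent cohomology are K-flat complexes of quasi-coherent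
modules. -/
theorem exists_model (R : CommRingCat.{u}) (K : DCoh.D (Spec R)) (hK : DCoh.IsQCohD K) :
    ∃ P : CochainComplex (Spec R).Modules ℤ, DCoh.IsKFlat P ∧ (∀ n, (P.X n).IsQuasicoherent) ∧
      Nonempty (DerivedCategory.Q.obj P ≅ K) := by
  haveI : PreservesFiniteLimits (tilde.functor R) := QCoh.Tilde.tildeFunctor_preservesFiniteLimits ..
  obtain ⟨M, ⟨e⟩⟩ := TildeEquiv.exists_preimage R K hK
  let E := DerivedCategory.Q.objPreimage M
  haveI := DR.KProjRes.quasiIso_aug R E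
  let a := (DR.KProjRes.aug R).app E
  refine ⟨((tilde.functor R).mapHomologicalComplex (ComplexShape.up ℤ)).obj ((DR.KProjRes.res R).obj E),
    TildeStalk.isKFlat_tilde R (DR.KFlat.isKFlat_res E),
    fun n => (inferInstance : (tilde (((DR.KProjRes.res R).obj E).X n)).IsQuasicoherent), ⟨?_⟩⟩
  exact ((tilde.functor R).mapDerivedCategoryFactors.app _).symm ≪≫
    (DCoh.tildeD R).mapIso (asIso (DerivedCategory.Q.map a) ≪≫ DerivedCategory.Q.objObjPreimageIso M) ≪≫ e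

theorem isQCohD_restrictD (j : X ⟶ Y) [IsOpenImmersion j] {K : DCoh.D Y} (hK : DCoh.IsQCohD K) :
    DCoh.IsQCohD ((DCoh.restrictD j).obj K) := fun i =>
  haveI := hK i
  CohBasics.Closure.isQCoh_of_iso (Perfect.Coherent.homologyIso j K i).symm

/-- Derived pullback preserves quasi-coherent cohomology. -/
theorem isQCohD_Lpull (f : X ⟶ Y) [DCoh.HasLpull f] {K : DCoh.D Y} (hK : DCoh.IsQCohD K) :
    DCoh.IsQCohD ((DCoh.Lpull f).obj K) := fun i => by
  refine Perfect.QCohD.isQCoh_of_cover fun x => ?_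
  obtain ⟨V, hV, hxV, -⟩ :=
    exists_isAffineOpen_mem_and_subset (X := Y) (x := f x) (U := ⊤) trivial
  let j := hV.fromSpec
  let U := f ⁻¹ᵁ V
  have hr : Set.range (U.ι ≫ f) ⊆ Set.range j := by
    rw [hV.range_fromSpec]
    rintro _ ⟨y, rfl⟩
    exact y.2
  let g := IsOpenImmersion.lift j (U.ι ≫ f) hr
  have hg : g ≫ j = U.ι ≫ f := IsOpenImmersion.lift_fac j (U.ι ≫ f) hr
  haveI := LeftExists.hasLpull j
  haveI := LeftExists.hasLpull g
  haveI := LeftExists.hasLpull U.ι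
  haveI := LeftExists.hasLpull (g ≫ j)
  haveI := LeftExists.hasLpull (U.ι ≫ f)
  have congrIso : ∀ {a b : (U : Scheme.{u}) ⟶ Y} [DCoh.HasLpull a] [DCoh.HasLpull b],
      a = b → Nonempty (DCoh.Lpull a ≅ DCoh.Lpull b) := fun h => by
    subst h; exact ⟨Iso.refl _⟩
  obtain ⟨ec⟩ := congrIso (a := U.ι ≫ f) (b := g ≫ j) hg.symm
  obtain ⟨P, hP, hq, ⟨eP⟩⟩ := exists_model _ _ (isQCohD_restrictD j hK)
  obtain ⟨eL⟩ := nonempty_Lpull_iso g hP
  obtain ⟨eU⟩ := nonempty_restrictD_iso U.ι ((DCoh.Lpull f).obj K)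
  obtain ⟨ej⟩ := nonempty_restrictD_iso j K
  let e : DerivedCategory.Q.obj ((pC g).obj P) ≅ (RD U.ι).obj ((DCoh.Lpull f).obj K) :=
    eL.symm ≪≫ (DCoh.Lpull g).mapIso (eP ≪≫ ej) ≪≫ (PullComp.lpullCompIso g j).app K ≪≫
      (ec.app K).symm ≪≫ ((PullComp.lpullCompIso U.ι f).app K).symm ≪≫ eU.symm
  refine ⟨_, U.ι, inferInstance, ⟨x, hxV⟩, rfl, ?_⟩
  haveI : Coh.IsQCoh (DCoh.HD ((RD U.ι).obj ((DCoh.Lpull f).obj K)) i) :=
    isQCoh_HD (fun n => haveI := hq n; QCoh.Pullback.isQCoh_pullback g (P.X n)) e i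
  exact CohBasics.Closure.isQCoh_of_iso (Perfect.Coherent.homologyIso U.ι _ i)

/-- Replacing the second factor along an isomorphism in the derived category. -/
theorem nonempty_tensor_iso {P B B' : CochainComplex X.Modules ℤ} (hP : DCoh.IsKFlat P)
    (e : DerivedCategory.Q.obj B ≅ DerivedCategory.Q.obj B') :
    Nonempty (DerivedCategory.Q.obj ((DCoh.tensorCx.obj P).obj B) ≅
      DerivedCategory.Q.obj ((DCoh.tensorCx.obj P).obj B')) := by
  obtain ⟨B'', s, hs, g, hg⟩ := DerivedCategory.right_fac e.hom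
  haveI : QuasiIso s := (DerivedCategory.isIso_Q_map_iff_quasiIso _ _).1 hs
  haveI : IsIso (inv (DerivedCategory.Q.map s) ≫ DerivedCategory.Q.map g) := hg ▸ inferInstance
  haveI : IsIso (DerivedCategory.Q.map g) :=
    IsIso.of_isIso_comp_left (inv (DerivedCategory.Q.map s)) _
  haveI : QuasiIso g := (DerivedCategory.isIso_Q_map_iff_quasiIso _ _).1 inferInstance
  haveI := TensorQis.quasiIso_left hP s
  haveI := TensorQis.quasiIso_left hP g
  exact ⟨(asIso (DerivedCategory.Q.map ((DCoh.tensorCx.obj P).map s))).symm ≪≫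
    asIso (DerivedCategory.Q.map ((DCoh.tensorCx.obj P).map g))⟩

theorem nonempty_LTensorCx_iso (D : CochainComplex X.Modules ℤ) [DCoh.HasLTensorCx D]
    {P : CochainComplex X.Modules ℤ} (hP : DCoh.IsKFlat P) :
    Nonempty ((DCoh.LTensorCx D).obj (DerivedCategory.Q.obj P) ≅
      DerivedCategory.Q.obj ((DCoh.tensorCx.obj P).obj D)) := by
  haveI := TensorCoprod.isIso_counit_app_of_isKFlat D (DCoh.LTensorCx D)
    ((DCoh.tensorCxQ D).totalLeftDerivedCounit DerivedCategory.Q _) hP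
  exact ⟨asIso (((DCoh.tensorCxQ D).totalLeftDerivedCounit DerivedCategory.Q
    (HomologicalComplex.quasiIso X.Modules (.up ℤ))).app P)⟩

/-- Tensor products of complexes of quasi-coherent modules have quasi-coherent terms. -/
theorem isQCoh_tensor {A B : CochainComplex X.Modules ℤ} (hA : ∀ n, (A.X n).IsQuasicoherent)
    (hB : ∀ n, (B.X n).IsQuasicoherent) (n : ℤ) :
    (((DCoh.tensorCx.obj A).obj B).X n).IsQuasicoherent :=
  QCoh.Closure.isQCoh_of_isColimit (GradedObject.isColimitCofanMapObj _ _ n) fun j => by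
    haveI := hA j.as.1.1
    haveI := hB j.as.1.2
    exact TensorMod.TensorQCoh.isQCoh_tensorMod (A.X j.as.1.1) (B.X j.as.1.2)

/-- Derived tensor products preserve quasi-coherent cohomology. -/
theorem isQCohD_LTensorCx (F : CochainComplex X.Modules ℤ) (hF : DCoh.IsQCohD (DCoh.toD X F))
    [DCoh.HasLTensorCx F] {E : DCoh.D X} (hE : DCoh.IsQCohD E) :
    DCoh.IsQCohD ((DCoh.LTensorCx F).obj E) := fun i => by
  obtain ⟨P, hP, ⟨eP⟩⟩ := exists_kflat E
  let F' := (KFlat.res X).obj F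
  let eF : DerivedCategory.Q.obj F' ≅ DerivedCategory.Q.obj F :=
    asIso (DerivedCategory.Q.map ((KFlat.aug X).app F))
  obtain ⟨eT⟩ := nonempty_LTensorCx_iso F hP
  obtain ⟨eT'⟩ := nonempty_tensor_iso hP eF
  let e₀ : DerivedCategory.Q.obj ((DCoh.tensorCx.obj P).obj F') ≅ (DCoh.LTensorCx F).obj E :=
    eT' ≪≫ eT.symm ≪≫ (DCoh.LTensorCx F).mapIso eP
  refine Perfect.QCohD.isQCoh_of_cover fun x => ?_
  obtain ⟨V, hV, hxV, -⟩ :=
    exists_isAffineOpen_mem_and_subset (X := X) (x := x) (U := ⊤) trivial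
  let j := hV.fromSpec
  obtain ⟨P₁, hP₁, hq₁, ⟨e₁⟩⟩ := exists_model _ _ (isQCohD_restrictD j hE)
  obtain ⟨F₁, hF₁, hq₂, ⟨e₂⟩⟩ := exists_model _ _ (isQCohD_restrictD j hF)
  let a : DerivedCategory.Q.obj P₁ ≅ DerivedCategory.Q.obj ((pC j).obj P) :=
    e₁ ≪≫ (RD j).mapIso eP.symm ≪≫ RDQ j P ≪≫ DerivedCategory.Q.mapIso ((rCIso j).app P)
  let b : DerivedCategory.Q.obj F₁ ≅ DerivedCategory.Q.obj ((pC j).obj F') :=
    e₂ ≪≫ (RD j).mapIso eF.symm ≪≫ RDQ j F' ≪≫ DerivedCategory.Q.mapIso ((rCIso j).app F')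
  haveI := LeftExists.hasLTensorCx ((pC j).obj F')
  obtain ⟨t₁⟩ := nonempty_LTensorCx_iso ((pC j).obj F') hP₁
  obtain ⟨t₂⟩ := nonempty_LTensorCx_iso ((pC j).obj F') (KFlatPullback.isKFlat_pullback j hP)
  obtain ⟨t₃⟩ := nonempty_tensor_iso hP₁ b
  let e : DerivedCategory.Q.obj ((DCoh.tensorCx.obj P₁).obj F₁) ≅
      (RD j).obj ((DCoh.LTensorCx F).obj E) :=
    t₃ ≪≫ t₁.symm ≪≫ (DCoh.LTensorCx ((pC j).obj F')).mapIso a ≪≫ t₂ ≪≫
      DerivedCategory.Q.mapIso (PullTensor.pullTensorIso j P F') ≪≫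
      (DerivedCategory.Q.mapIso ((rCIso j).app _)).symm ≪≫ (RDQ j _).symm ≪≫ (RD j).mapIso e₀
  haveI : Coh.IsQCoh (DCoh.HD ((RD j).obj ((DCoh.LTensorCx F).obj E)) i) :=
    isQCoh_HD (isQCoh_tensor hq₁ hq₂) e i
  refine ⟨_, j, inferInstance, hV.isoSpec.hom ⟨x, hxV⟩, ?_,
    CohBasics.Closure.isQCoh_of_iso (Perfect.Coherent.homologyIso j _ i)⟩
  change (hV.isoSpec.hom ≫ hV.fromSpec) ⟨x, hxV⟩ = x
  rw [hV.isoSpec_hom, IsAffineOpen.toSpecΓ_fromSpec]
  rfl

end Groth.Agent.Lib.DerivedOX.QCohLocal
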