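import Groth.Agent.Lib.BettiExact.LTensorTri

/-!
# `- ⊗^L F` followed by a triangulated functor is exact on triangles
-/

set_option autoImplicit false
set_option linter.style.haveILetI false

universe u

open CategoryTheory Limits AlgebraicGeometry HomologicalComplex Pretriangulated

attribute [local instance] HasDerivedCategory.standard

namespace Groth.Agent.Lib.DerivedOX.TensorExact

open Groth.Agent.Lib Groth.Agent.Lib.DerivedOX Groth.Agent.Lib.BettiExact.LTensorTri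

variable {X Y : Scheme.{u}} (F : CochainComplex X.Modules ℤ) [DCoh.HasLTensorCx F]

/-- Cohomology of `G(- ⊗^L F)` is exact on distinguished triangles, for triangulated `G`. -/
theorem exact (G : DCoh.D X ⥤ DCoh.D Y) [G.CommShift ℤ] [G.IsTriangulated]
    (T : Triangle (DCoh.D X)) (hT : T ∈ distTriang (DCoh.D X)) (p : ℤ) :
    ((ShortComplex.mk T.mor₁ T.mor₂ (comp_distTriang_mor_zero₁₂ _ hT)).map
      (DCoh.LTensorCx F ⋙ G ⋙ DerivedCategory.homologyFunctor Y.Modules p)).Exact := by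
  let P := (KFlat.res X).obj F
  let s : P ⟶ F := (KFlat.aug X).app F
  haveI : QuasiIso s := KFlat.quasiIso_aug F
  obtain ⟨θ⟩ := nonempty_iso_tensorCxQ F s (KFlat.isKFlat_res F)
  obtain ⟨A, B, φ, ⟨ι⟩⟩ := (DerivedCategory.mem_distTriang_iff _).1 (inv_rot_of_distTriang _ hT)
  let Q := DerivedCategory.Q (C := X.Modules)
  let S := LocalTor.Split.coneSeq φ
  have hS := LocalTor.Split.shortExact_tensor S (LocalTor.Split.coneSplitting φ) P
  let W := DCoh.LTensorCx F ⋙ G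
  let T' := G.mapTriangle.obj (DerivedCategory.triangleOfSES hS)
  have hT' : T' ∈ distTriang (DCoh.D Y) :=
    G.map_distinguished _ (DerivedCategory.triangleOfSES_distinguished hS)
  let c : T.obj₃ ≅ Q.obj S.X₃ :=
    ((shiftFunctorCompIsoId (DCoh.D X) (-1 : ℤ) (1 : ℤ) (by norm_num)).app T.obj₃).symm ≪≫
      (shiftFunctor (DCoh.D X) (1 : ℤ)).mapIso (Triangle.π₁.mapIso ι) ≪≫
      ((Q.commShiftIso (1 : ℤ)).app A).symm
  let e₁ : T.obj₁ ≅ Q.obj S.X₁ := Triangle.π₂.mapIso ι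
  let e₂ : T.obj₂ ≅ Q.obj S.X₂ := Triangle.π₃.mapIso ι
  have h₁ : T.mor₁ ≫ e₂.hom = e₁.hom ≫ Q.map S.f := ι.hom.comm₂
  have h₂ : T.mor₂ ≫ c.hom = e₂.hom ≫ Q.map S.g := by
    have h : (T.mor₂ ≫ (shiftFunctorCompIsoId (DCoh.D X) (-1 : ℤ) (1 : ℤ) (by norm_num)).inv.app T.obj₃) ≫
        (shiftFunctor (DCoh.D X) (1 : ℤ)).map (Triangle.π₁.mapIso ι).hom =
          e₂.hom ≫ (Q.map S.g ≫ (Q.commShiftIso (1 : ℤ)).hom.app A) := ι.hom.comm₃
    let η := (shiftFunctorCompIsoId (DCoh.D X) (-1 : ℤ) (1 : ℤ) (by norm_num)).inv.app T.obj₃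
    have h0 : T.mor₂ ≫ c.hom = ((T.mor₂ ≫ η) ≫
        (shiftFunctor (DCoh.D X) (1 : ℤ)).map (Triangle.π₁.mapIso ι).hom) ≫
          ((Q.commShiftIso (1 : ℤ)).app A).inv :=
      (Category.assoc T.mor₂ η _).symm.trans (Category.assoc (T.mor₂ ≫ η) _ _).symm
    refine h0.trans ((congrArg (· ≫ _) h).trans ?_)
    refine (Category.assoc _ _ _).trans (congrArg (e₂.hom ≫ ·) ((Category.assoc _ _ _).trans ?_))
    exact (congrArg (Q.map S.g ≫ ·) ((Q.commShiftIso (1 : ℤ)).app A).hom_inv_id).trans (Category.comp_id _)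
  let d₁ : W.obj T.obj₁ ≅ T'.obj₁ := W.mapIso e₁ ≪≫ G.mapIso (θ.app S.X₁)
  let d₂ : W.obj T.obj₂ ≅ T'.obj₂ := W.mapIso e₂ ≪≫ G.mapIso (θ.app S.X₂)
  let d₃ : W.obj T.obj₃ ≅ T'.obj₃ := W.mapIso c ≪≫ G.mapIso (θ.app S.X₃)
  have key : ∀ {U V : DCoh.D X} {U' V' : CochainComplex X.Modules ℤ} (m : U ⟶ V) (m' : U' ⟶ V')
      (a : U ≅ Q.obj U') (b : V ≅ Q.obj V'), m ≫ b.hom = a.hom ≫ Q.map m' →
      W.map m ≫ (W.map b.hom ≫ G.map (θ.hom.app V')) =
        (W.map a.hom ≫ G.map (θ.hom.app U')) ≫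
          G.map (Q.map (((DCoh.tensorCx (X := X)).flip.obj P).map m')) := by
    intro U V U' V' m m' a b hm
    rw [← Category.assoc, ← W.map_comp, hm, W.map_comp, Category.assoc, Category.assoc]
    refine congrArg (W.map a.hom ≫ ·) ?_
    refine (G.map_comp _ _).symm.trans (Eq.trans ?_ (G.map_comp _ _))
    exact congrArg G.map (θ.hom.naturality m')
  have k₁ : W.map T.mor₁ ≫ d₂.hom = d₁.hom ≫ T'.mor₁ := key T.mor₁ S.f e₁ e₂ h₁
  have k₂ : W.map T.mor₂ ≫ d₃.hom = d₂.hom ≫ T'.mor₂ := key T.mor₂ S.g e₂ c h₂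
  let H := fun n => DerivedCategory.homologyFunctor Y.Modules n
  refine ShortComplex.exact_of_iso (ShortComplex.isoMk ((H p).mapIso d₁.symm) ((H p).mapIso d₂.symm)
    ((H p).mapIso d₃.symm) ?_ ?_) (DerivedCategory.HomologySequence.exact₂ T' hT' p)
  · refine ((H p).map_comp _ _).symm.trans (Eq.trans ?_ ((H p).map_comp _ _))
    refine congrArg (H p).map ?_
    rw [Iso.symm_hom, Iso.symm_hom, Iso.inv_comp_eq, ← Category.assoc, Iso.eq_comp_inv]
    exact k₁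
  · refine ((H p).map_comp _ _).symm.trans (Eq.trans ?_ ((H p).map_comp _ _))
    refine congrArg (H p).map ?_
    rw [Iso.symm_hom, Iso.symm_hom, Iso.inv_comp_eq, ← Category.assoc, Iso.eq_comp_inv]
    exact k₂

end Groth.Agent.Lib.DerivedOX.TensorExact
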