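import Mathlib.Algebra.Homology.DerivedCategory.Fractions
import Mathlib.Algebra.Homology.DerivedCategory.KInjective
import Groth.Agent.Lib.DerivedOX.PullPushAdj
import Groth.Agent.Lib.DerivedOX.KFlatStalk
import Groth.Agent.Lib.DR.KFlat
import Groth.Agent.Lib.DerivedOX.FlatGen
import Groth.Agent.Lib.MLSeq.Complex

/-!
# Direct images of K-injective complexes are acyclic for sections

* `isKFlat_single`;
* `Qh_map_bijective`: maps from a K-flat complex to `f_*B`, `B` K-injective, are computed in `K(O_Y)`;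
* `postcomp_bijective`: a quasi-isomorphism `f_*B ⟶ L` to a K-injective complex induces bijections
  on homotopy classes of maps from K-flat complexes;
* `quasiIso_sect`: it induces a quasi-isomorphism on sections over every open.
-/

universe v u

open CategoryTheory Limits AlgebraicGeometry HomologicalComplex Opposite

attribute [local instance] HasDerivedCategory.standard

set_option linter.style.haveILetI false

namespace Groth.Agent.Lib.DerivedOX.GammaAcyclic

open Groth.Agent.Lib.Modules StalkModule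

section Single

variable {C : Type u} [Category.{v} C] [Abelian C]

theorem quotient_map_mkHomFromSingle_eq_zero_iff {K : CochainComplex C ℤ} {G : C} (n : ℤ)
    (g : G ⟶ K.X n) (hg : ∀ k, (ComplexShape.up ℤ).Rel n k → g ≫ K.d n k = 0) :
    (HomotopyCategory.quotient C (.up ℤ)).map (mkHomFromSingle g hg) = 0 ↔
      ∃ s : G ⟶ K.X (n - 1), s ≫ K.d (n - 1) n = g := by
  have r₂₁ : (ComplexShape.up ℤ).Rel n (n + 1) := rfl
  have r₁₀ : (ComplexShape.up ℤ).Rel (n - 1) n := sub_add_cancel n 1
  constructor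
  · intro h
    obtain ⟨h⟩ := (HomotopyCategory.quotient_map_eq_zero_iff _).1 h
    refine ⟨(singleObjXSelf (.up ℤ) n G).inv ≫ h.hom n (n - 1), ?_⟩
    have e := h.comm n
    rw [dNext_eq _ r₂₁, prevD_eq _ r₁₀, single_obj_d, zero_comp, zero_add,
      HomologicalComplex.zero_f, add_zero, mkHomFromSingle_f] at e
    rw [Category.assoc, ← e, Iso.inv_hom_id_assoc]
  · rintro ⟨s, rfl⟩
    refine (HomotopyCategory.quotient_map_eq_zero_iff _).2 ⟨?_⟩
    let h : ∀ i j, (ComplexShape.up ℤ).Rel j i → (((single C (.up ℤ) n).obj G).X i ⟶ K.X j) :=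
      fun i j _ => if hij : i = n ∧ j = n - 1 then
        eqToHom (by rw [hij.1]) ≫ (singleObjXSelf (.up ℤ) n G).hom ≫ s ≫
          eqToHom (by rw [hij.2]) else 0
    refine (Homotopy.ofEq ?_).trans (Homotopy.nullHomotopy' h)
    apply from_single_hom_ext
    rw [mkHomFromSingle_f, Homotopy.nullHomotopicMap'_f r₁₀ r₂₁, single_obj_d, zero_comp, zero_add]
    simp [h]

theorem exists_mkHomFromSingle {K : CochainComplex C ℤ} {G : C} (n : ℤ)
    (φ : (HomotopyCategory.quotient C (.up ℤ)).obj ((single C (.up ℤ) n).obj G) ⟶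
      (HomotopyCategory.quotient C (.up ℤ)).obj K) :
    ∃ (g : G ⟶ K.X n) (hg : ∀ k, (ComplexShape.up ℤ).Rel n k → g ≫ K.d n k = 0),
      (HomotopyCategory.quotient C (.up ℤ)).map (mkHomFromSingle g hg) = φ := by
  obtain ⟨φ, rfl⟩ := (HomotopyCategory.quotient C (.up ℤ)).map_surjective φ
  refine ⟨(singleObjXSelf (.up ℤ) n G).inv ≫ φ.f n, fun k _ => ?_, congrArg _ ?_⟩
  · rw [Category.assoc, φ.comm, single_obj_d, zero_comp, comp_zero]
  · apply from_single_hom_ext
    rw [mkHomFromSingle_f, Iso.hom_inv_id_assoc]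

theorem mkHomFromSingle_comp {K L : CochainComplex C ℤ} {G : C} (n : ℤ) (g : G ⟶ K.X n)
    (hg : ∀ k, (ComplexShape.up ℤ).Rel n k → g ≫ K.d n k = 0) (i : K ⟶ L) :
    mkHomFromSingle g hg ≫ i = mkHomFromSingle (g ≫ i.f n) (fun k hk => by
      rw [Category.assoc, i.comm, ← Category.assoc, hg k hk, zero_comp]) := by
  apply from_single_hom_ext
  simp [mkHomFromSingle_f]

/-- A natural map `e : Hom(G, -) → Φ` which is bijective turns bijections on homotopy classes of
maps out of shifts of `G` into quasi-isomorphisms. -/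
theorem quasiIso_map_of_bijective (Φ : C ⥤ AddCommGrpCat.{v}) [Φ.Additive] (G : C)
    (e : ∀ M : C, (G ⟶ M) → Φ.obj M) (he : ∀ M, Function.Bijective (e M))
    (hnat : ∀ {M N : C} (a : M ⟶ N) (g : G ⟶ M), e N (g ≫ a) = Φ.map a (e M g))
    (he0 : ∀ M, e M 0 = 0) (hadd : ∀ M (g g' : G ⟶ M), e M (g + g') = e M g + e M g')
    {K L : CochainComplex C ℤ} (i : K ⟶ L)
    (h : ∀ n, Function.Bijective fun φ : (HomotopyCategory.quotient C (.up ℤ)).obj
        ((single C (.up ℤ) n).obj G) ⟶ (HomotopyCategory.quotient C (.up ℤ)).obj K =>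
      φ ≫ (HomotopyCategory.quotient C (.up ℤ)).map i) :
    QuasiIso ((Φ.mapHomologicalComplex (ComplexShape.up ℤ)).map i) := by
  let K' := (Φ.mapHomologicalComplex (ComplexShape.up ℤ)).obj K
  let L' := (Φ.mapHomologicalComplex (ComplexShape.up ℤ)).obj L
  let i' : K' ⟶ L' := (Φ.mapHomologicalComplex (ComplexShape.up ℤ)).map i
  -- boundaries are images of boundaries
  have hd : ∀ (M : CochainComplex C ℤ) (m n : ℤ) (s : G ⟶ M.X m),
      e (M.X n) (s ≫ M.d m n) =
        (((Φ.mapHomologicalComplex (ComplexShape.up ℤ)).obj M).d m n).hom (e (M.X m) s) :=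
    fun M m n s => hnat (M.d m n) s
  have hcyc : ∀ (M : CochainComplex C ℤ) (n k : ℤ) (g : G ⟶ M.X n),
      (((Φ.mapHomologicalComplex (ComplexShape.up ℤ)).obj M).d n k).hom (e (M.X n) g) = 0 →
        g ≫ M.d n k = 0 := fun M n k g hg =>
    (he _).1 (((hd M n k g).trans hg).trans (he0 _).symm)
  refine ⟨fun n => ?_⟩
  rw [quasiIsoAt_iff_isIso_homologyMap]
  refine (ConcreteCategory.isIso_iff_bijective _).2 ⟨?_, ?_⟩
  · rw [injective_iff_map_eq_zero]
    intro c hc
    obtain ⟨z, rfl⟩ := MLSeq.Complex.homologyπ_surjective K' n c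
    have h1 : (L'.homologyπ n).hom ((cyclesMap i' n).hom z) = 0 := by
      rw [← hc]
      exact (ConcreteCategory.congr_hom (homologyπ_naturality i' n) z).symm
    obtain ⟨y, hy⟩ := (MLSeq.Complex.homologyπ_eq_zero_iff L' (sub_add_cancel n 1) _).1 h1
    obtain ⟨g, hg⟩ := (he (K.X n)).2 ((K'.iCycles n).hom z)
    obtain ⟨s, hs⟩ := (he (L.X (n - 1))).2 y
    have hg' : ∀ k, (ComplexShape.up ℤ).Rel n k → g ≫ K.d n k = 0 := fun k _ => hcyc K n k g (by
      rw [hg]; exact MLSeq.Complex.d_iCycles K' n k z)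
    have hgs : s ≫ L.d (n - 1) n = g ≫ i.f n := (he (L.X n)).1 (by
      rw [hd, hs, hnat, hg, ← MLSeq.Complex.iCycles_toCycles L' (n - 1) n y, hy]
      exact ConcreteCategory.congr_hom (cyclesMap_i i' n) z)
    have h0 : (HomotopyCategory.quotient C (.up ℤ)).map (mkHomFromSingle g hg') = 0 := by
      refine (h n).1 ?_
      change _ ≫ _ = 0 ≫ _
      rw [zero_comp, ← Functor.map_comp, mkHomFromSingle_comp]
      exact (quotient_map_mkHomFromSingle_eq_zero_iff n _ _).2 ⟨s, hgs⟩
    obtain ⟨t, ht⟩ := (quotient_map_mkHomFromSingle_eq_zero_iff n g hg').1 h0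
    refine (MLSeq.Complex.homologyπ_eq_zero_iff K' (sub_add_cancel n 1) z).2
      ⟨e _ t, MLSeq.Complex.iCycles_injective K' n ?_⟩
    rw [MLSeq.Complex.iCycles_toCycles, ← hd, ht, hg]
  · intro c
    obtain ⟨z, rfl⟩ := MLSeq.Complex.homologyπ_surjective L' n c
    obtain ⟨g, hg⟩ := (he (L.X n)).2 ((L'.iCycles n).hom z)
    have hg' : ∀ k, (ComplexShape.up ℤ).Rel n k → g ≫ L.d n k = 0 := fun k _ => hcyc L n k g (by
      rw [hg]; exact MLSeq.Complex.d_iCycles L' n k z)
    obtain ⟨ψ, hψ⟩ := (h n).2 ((HomotopyCategory.quotient C (.up ℤ)).map (mkHomFromSingle g hg'))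
    obtain ⟨k, hk, rfl⟩ := exists_mkHomFromSingle n ψ
    change _ ≫ _ = _ at hψ
    rw [← Functor.map_comp, mkHomFromSingle_comp] at hψ
    have hdiff : ∀ m, (ComplexShape.up ℤ).Rel n m → (g - k ≫ i.f n) ≫ L.d n m = 0 := fun m hm => by
      rw [Preadditive.sub_comp, hg' m hm, Category.assoc, i.comm, ← Category.assoc, hk m hm,
        zero_comp, sub_zero]
    have h0 : (HomotopyCategory.quotient C (.up ℤ)).map (mkHomFromSingle (g - k ≫ i.f n) hdiff) = 0 := by
      rw [show mkHomFromSingle (g - k ≫ i.f n) hdiff = mkHomFromSingle g hg' -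
          mkHomFromSingle (k ≫ i.f n) (fun m hm => by
            rw [Category.assoc, i.comm, ← Category.assoc, hk m hm, zero_comp])
          from from_single_hom_ext (by
            rw [mkHomFromSingle_f, HomologicalComplex.sub_f_apply, mkHomFromSingle_f,
              mkHomFromSingle_f, Preadditive.comp_sub]), Functor.map_sub, hψ, sub_self]
    obtain ⟨t, ht⟩ := (quotient_map_mkHomFromSingle_eq_zero_iff n _ hdiff).1 h0
    obtain ⟨w, hw⟩ := MLSeq.Complex.exists_cycle K' (show (ComplexShape.up ℤ).Rel n (n + 1) from rfl)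
      (e _ k) ((hd K n (n + 1) k).symm.trans ((congrArg (e _) (hk (n + 1) rfl)).trans (he0 _)))
    refine ⟨(K'.homologyπ n).hom w, ?_⟩
    refine (ConcreteCategory.congr_hom (homologyπ_naturality i' n) w).trans ?_
    refine (sub_eq_zero.1 ?_).symm
    refine (map_sub (L'.homologyπ n).hom z ((cyclesMap i' n).hom w)).symm.trans ?_
    refine (MLSeq.Complex.homologyπ_eq_zero_iff L' (sub_add_cancel n 1) _).2
      ⟨e _ t, MLSeq.Complex.iCycles_injective L' n ?_⟩
    rw [MLSeq.Complex.iCycles_toCycles, ← hd, ht, map_sub, ← hg]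
    have h1 : (L'.iCycles n).hom ((cyclesMap i' n).hom w) = e (L.X n) (k ≫ i.f n) := by
      rw [hnat, ← hw]
      exact ConcreteCategory.congr_hom (cyclesMap_i i' n) w
    rw [h1]
    exact eq_sub_iff_add_eq.2 ((hadd _ _ _).symm.trans (congrArg _ (sub_add_cancel _ _)))

end Single

variable {X Y : Scheme.{u}}

/-- A flat module placed in a single degree is K-flat. -/
theorem isKFlat_single {G : Y.Modules} (hG : FlatMod.IsFlat G) (n : ℤ) :
    DCoh.IsKFlat ((single Y.Modules (ComplexShape.up ℤ) n).obj G) := by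
  refine (KFlatStalk.isKFlat_iff_stalk _).2 fun x => ?_
  refine DR.KFlat.isKFlat_of_flat _ n (fun i hi => ?_) fun i => ?_
  · exact (stalkModFunctor Y x).map_isZero (isZero_single_obj_X (.up ℤ) n G i (by lia))
  · by_cases hi : i = n
    · subst hi
      haveI : Module.Flat (Y.presheaf.stalk x) ((stalkModFunctor Y x).obj G) := hG x
      exact Module.Flat.of_linearEquiv
        ((stalkModFunctor Y x).mapIso (singleObjXSelf (.up ℤ) i G)).toLinearEquiv
    · haveI := ModuleCat.subsingleton_of_isZero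
        ((stalkModFunctor Y x).map_isZero (isZero_single_obj_X (.up ℤ) n G i hi))
      exact inferInstanceAs (Module.Flat (Y.presheaf.stalk x)
        ((stalkModFunctor Y x).obj (((single Y.Modules (ComplexShape.up ℤ) n).obj G).X i)))

variable (f : X ⟶ Y)

/-- `f_*` on complexes. -/
noncomputable abbrev pushC : CochainComplex X.Modules ℤ ⥤ CochainComplex Y.Modules ℤ :=
  (Scheme.Modules.pushforward f).mapHomologicalComplex (ComplexShape.up ℤ)

/-- Quasi-isomorphisms between K-flat complexes give bijections on homotopy classes of maps into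
`f_*B`. -/
theorem precomp_bijective (B : CochainComplex X.Modules ℤ) [B.IsKInjective]
    {P Q : CochainComplex Y.Modules ℤ} (a : P ⟶ Q) [QuasiIso a] (hP : DCoh.IsKFlat P)
    (hQ : DCoh.IsKFlat Q) :
    Function.Bijective fun φ : (HomotopyCategory.quotient Y.Modules (.up ℤ)).obj Q ⟶
        (HomotopyCategory.quotient Y.Modules (.up ℤ)).obj ((pushC f).obj B) =>
      (HomotopyCategory.quotient Y.Modules (.up ℤ)).map a ≫ φ := by
  let adj := DerCat.DerAdj.adjK (Scheme.Modules.pullbackPushforwardAdjunction f) (ComplexShape.up ℤ)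
  let qX := HomotopyCategory.quotient X.Modules (ComplexShape.up ℤ)
  let qY := HomotopyCategory.quotient Y.Modules (ComplexShape.up ℤ)
  let pC := (Scheme.Modules.pullback f).mapHomologicalComplex (ComplexShape.up ℤ)
  haveI : QuasiIso (pC.map a) := PullbackQis.quasiIso_pullback f a hP hQ
  haveI : IsIso (DerivedCategory.Qh.map (qX.map (pC.map a))) :=
    Localization.inverts DerivedCategory.Qh (HomotopyCategory.quasiIso X.Modules (.up ℤ)) _
      ((HomotopyCategory.quotient_map_mem_quasiIso_iff _).2 ‹_›)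
  have hb : Function.Bijective fun φ : qX.obj (pC.obj Q) ⟶ qX.obj B => qX.map (pC.map a) ≫ φ := by
    constructor
    · intro φ φ' e
      apply (CochainComplex.IsKInjective.Qh_map_bijective _ B).1
      rw [← cancel_epi (DerivedCategory.Qh.map (qX.map (pC.map a))), ← Functor.map_comp,
        ← Functor.map_comp]
      exact congrArg _ e
    · intro ψ
      obtain ⟨φ, hφ⟩ := (CochainComplex.IsKInjective.Qh_map_bijective _ B).2
        (inv (DerivedCategory.Qh.map (qX.map (pC.map a))) ≫ DerivedCategory.Qh.map ψ)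
      refine ⟨φ, (CochainComplex.IsKInjective.Qh_map_bijective _ B).1 ?_⟩
      rw [Functor.map_comp, hφ, IsIso.hom_inv_id_assoc]
  have key : ∀ φ : qX.obj (pC.obj Q) ⟶ qX.obj B, qY.map a ≫ adj.homEquiv (qY.obj Q) (qX.obj B) φ =
      adj.homEquiv (qY.obj P) (qX.obj B) (qX.map (pC.map a) ≫ φ) :=
    fun φ => (adj.homEquiv_naturality_left (qY.map a) φ).symm
  constructor
  · intro φ φ' e
    obtain ⟨φ, rfl⟩ := (adj.homEquiv (qY.obj Q) (qX.obj B)).surjective φ
    obtain ⟨φ', rfl⟩ := (adj.homEquiv (qY.obj Q) (qX.obj B)).surjective φ'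
    exact congrArg _ (hb.1 ((adj.homEquiv _ _).injective ((key φ).symm.trans (e.trans (key φ')))))
  · intro ψ
    obtain ⟨ψ, rfl⟩ := (adj.homEquiv (qY.obj P) (qX.obj B)).surjective ψ
    obtain ⟨φ, rfl⟩ := hb.2 ψ
    exact ⟨adj.homEquiv _ _ φ, key φ⟩

/-- Maps from a K-flat complex to `f_*B` are the same in `K(O_Y)` and in `D(O_Y)`. -/
theorem Qh_map_bijective (B : CochainComplex X.Modules ℤ) [B.IsKInjective]
    {P : CochainComplex Y.Modules ℤ} (hP : DCoh.IsKFlat P) :
    Function.Bijective (DerivedCategory.Qh.map :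
      ((HomotopyCategory.quotient Y.Modules (.up ℤ)).obj P ⟶
        (HomotopyCategory.quotient Y.Modules (.up ℤ)).obj ((pushC f).obj B)) → _) := by
  let q := HomotopyCategory.quotient Y.Modules (ComplexShape.up ℤ)
  let W := HomotopyCategory.quasiIso Y.Modules (ComplexShape.up ℤ)
  have res : ∀ {R : HomotopyCategory Y.Modules (.up ℤ)} (a : R ⟶ q.obj P), W a →
      ∃ (R' : CochainComplex Y.Modules ℤ) (t : q.obj R' ⟶ R) (a' : R' ⟶ P),
        DCoh.IsKFlat R' ∧ W t ∧ QuasiIso a' ∧ t ≫ a = q.map a' := by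
    intro R a ha
    obtain ⟨R, rfl⟩ := HomotopyCategory.quotient_obj_surjective R
    obtain ⟨a, rfl⟩ := (HomotopyCategory.quotient Y.Modules (.up ℤ)).map_surjective a
    haveI : QuasiIso a := (HomotopyCategory.quotient_map_mem_quasiIso_iff _).1 ha
    exact ⟨(KFlat.res Y).obj R, q.map ((KFlat.aug Y).app R), (KFlat.aug Y).app R ≫ a,
      KFlat.isKFlat_res R, (HomotopyCategory.quotient_map_mem_quasiIso_iff _).2 (KFlat.quasiIso_aug R),
      quasiIso_comp _ _, (q.map_comp _ _).symm⟩
  constructor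
  · intro φ φ' e
    obtain ⟨R, a, ha, e'⟩ := (MorphismProperty.map_eq_iff_precomp DerivedCategory.Qh W φ φ').1 e
    obtain ⟨R', t, a', hR', -, ha', e''⟩ := res a ha
    haveI := ha'
    refine (precomp_bijective f B a' hR' hP).1 ?_
    change q.map a' ≫ φ = q.map a' ≫ φ'
    rw [← e'', Category.assoc, Category.assoc, e']
  · intro ψ
    obtain ⟨r, hr⟩ := Localization.exists_rightFraction DerivedCategory.Qh W ψ
    obtain ⟨R, a, ha, g, rfl⟩ := r.cases
    obtain ⟨R', t, a', hR', ht, ha', e''⟩ := res a ha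
    haveI := ha'
    obtain ⟨φ, hφ⟩ := (precomp_bijective f B a' hR' hP).2 (t ≫ g)
    refine ⟨φ, ?_⟩
    haveI := Localization.inverts DerivedCategory.Qh W a ha
    haveI := Localization.inverts DerivedCategory.Qh W t ht
    rw [hr]
    change _ = inv (DerivedCategory.Qh.map a) ≫ DerivedCategory.Qh.map g
    change q.map a' ≫ φ = t ≫ g at hφ
    rw [← cancel_epi (DerivedCategory.Qh.map a), IsIso.hom_inv_id_assoc,
      ← cancel_epi (DerivedCategory.Qh.map t), ← Functor.map_comp_assoc, e'',
      ← Functor.map_comp, hφ, Functor.map_comp]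

/-- A quasi-isomorphism from `f_*B` to a K-injective complex induces bijections on homotopy
classes of maps out of K-flat complexes. -/
theorem postcomp_bijective (B : CochainComplex X.Modules ℤ) [B.IsKInjective]
    {L : CochainComplex Y.Modules ℤ} [L.IsKInjective] (i : (pushC f).obj B ⟶ L) [QuasiIso i]
    {P : CochainComplex Y.Modules ℤ} (hP : DCoh.IsKFlat P) :
    Function.Bijective fun φ : (HomotopyCategory.quotient Y.Modules (.up ℤ)).obj P ⟶
        (HomotopyCategory.quotient Y.Modules (.up ℤ)).obj ((pushC f).obj B) =>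
      φ ≫ (HomotopyCategory.quotient Y.Modules (.up ℤ)).map i := by
  let q := HomotopyCategory.quotient Y.Modules (ComplexShape.up ℤ)
  haveI : IsIso (DerivedCategory.Qh.map (q.map i)) :=
    Localization.inverts DerivedCategory.Qh (HomotopyCategory.quasiIso Y.Modules (.up ℤ)) _
      ((HomotopyCategory.quotient_map_mem_quasiIso_iff _).2 ‹_›)
  constructor
  · intro φ φ' e
    apply (Qh_map_bijective f B hP).1
    rw [← cancel_mono (DerivedCategory.Qh.map (q.map i)), ← Functor.map_comp, ← Functor.map_comp]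
    exact congrArg _ e
  · intro ψ
    obtain ⟨φ, hφ⟩ := (Qh_map_bijective f B hP).2
      (DerivedCategory.Qh.map ψ ≫ inv (DerivedCategory.Qh.map (q.map i)))
    refine ⟨φ, (CochainComplex.IsKInjective.Qh_map_bijective _ L).1 ?_⟩
    rw [Functor.map_comp, hφ, Category.assoc, IsIso.inv_hom_id, Category.comp_id]

/-- Sections over `W` as a functor to abelian groups. -/
noncomputable abbrev sect (W : Y.Opens) : Y.Modules ⥤ AddCommGrpCat.{u} :=
  Scheme.Modules.toPresheaf Y ⋙ (evaluation _ _).obj (op W)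

instance (W : Y.Opens) : (sect W).Additive where
  map_add := by intros; rfl

lemma genHomEquiv_comp (W : Y.Opens) {M N : Y.Modules} (a : M ⟶ N) (g : FlatGen.gen W ⟶ M) :
    FlatGen.genHomEquiv W N (g ≫ a) = (sect W).map a (FlatGen.genHomEquiv W M g) :=
  (congrArg PresheafOfModules.freeYonedaEquiv
    ((TensorMod.Basic.adj Y).homEquiv_naturality_right g a)).trans
    (PresheafOfModules.freeYonedaEquiv_comp _ _)

lemma genHomEquiv_zero (W : Y.Opens) (M : Y.Modules) :
    FlatGen.genHomEquiv W M 0 = 0 := by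
  refine (congrArg (FlatGen.genHomEquiv W M) (zero_comp (X := FlatGen.gen W) (f := (0 : M ⟶ M))).symm).trans
    ((genHomEquiv_comp W (0 : M ⟶ M) 0).trans ?_)
  rw [Functor.map_zero]
  rfl

lemma genHomEquiv_add (W : Y.Opens) (M : Y.Modules) (g g' : FlatGen.gen W ⟶ M) :
    FlatGen.genHomEquiv W M (g + g') = FlatGen.genHomEquiv W M g + FlatGen.genHomEquiv W M g' := by
  have e : g + g' = biprod.lift g g' ≫ (biprod.fst + biprod.snd) := by simp
  have e1 : g = biprod.lift g g' ≫ biprod.fst := by simp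
  have e2 : g' = biprod.lift g g' ≫ biprod.snd := by simp
  conv_lhs => rw [e, genHomEquiv_comp, Functor.map_add]
  conv_rhs => arg 1; rw [e1, genHomEquiv_comp]
  conv_rhs => arg 2; rw [e2, genHomEquiv_comp]
  rfl

/-- `i` induces a quasi-isomorphism on sections over every open. -/
theorem quasiIso_sect (B : CochainComplex X.Modules ℤ) [B.IsKInjective]
    {L : CochainComplex Y.Modules ℤ} [L.IsKInjective] (i : (pushC f).obj B ⟶ L) [QuasiIso i]
    (W : Y.Opens) :
    QuasiIso (((sect W).mapHomologicalComplex (ComplexShape.up ℤ)).map i) :=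
  quasiIso_map_of_bijective (sect W) (FlatGen.gen W) (fun M => FlatGen.genHomEquiv W M)
    (fun M => (FlatGen.genHomEquiv W M).bijective) (fun a g => genHomEquiv_comp W a g)
    (genHomEquiv_zero W) (genHomEquiv_add W) i
    fun n => postcomp_bijective f B i (isKFlat_single (FlatGen.isFlat_gen W) n)

end Groth.Agent.Lib.DerivedOX.GammaAcyclic
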