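import Mathlib.Algebra.Homology.HomotopyCategory.KInjective
import Groth.Agent.Lib.DerivedOX.KFlat
import Groth.Agent.Lib.DerCat.DerAdj
import Groth.Agent.Lib.ExtZero.Sheaf

/-!
# Restriction to an open subscheme preserves K-injective complexes
-/

universe u v u' v'

open CategoryTheory Limits AlgebraicGeometry HomologicalComplex

set_option linter.style.haveILetI false

namespace Groth.Agent.Lib.DerivedOX.RestrictKInj

/-- A right adjoint of an exact additive functor preserves K-injective complexes. -/
theorem isKInjective_of_adj {A : Type u} [Category.{v} A] [Abelian A]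
    {B : Type u'} [Category.{v'} B] [Abelian B] {F : A ⥤ B} {G : B ⥤ A} [F.Additive] [G.Additive]
    [PreservesFiniteLimits F] [PreservesFiniteColimits F] (adj : F ⊣ G)
    {I : CochainComplex B ℤ} (hI : I.IsKInjective) :
    CochainComplex.IsKInjective ((G.mapHomologicalComplex (ComplexShape.up ℤ)).obj I) where
  nonempty_homotopy_zero {K} φ hK := by
    let adjC := DerCat.DerAdj.adjC adj (ComplexShape.up ℤ)
    let h := CochainComplex.IsKInjective.homotopyZero ((adjC.homEquiv K I).symm φ)
      (KFlat.acyclic_map F hK)
    let h' := ((G.mapHomotopy h).compLeft (adjC.unit.app K))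
    exact ⟨((Homotopy.ofEq (((adjC.homEquiv K I).apply_symm_apply φ).symm.trans
      (adjC.homEquiv_unit _ _ _))).trans h').trans (Homotopy.ofEq (by simp))⟩

variable {X : Scheme.{u}} (U : X.Opens)

/-- Extension by zero along an open subscheme. -/
noncomputable def extZero : (U : Scheme.{u}).Modules ⥤ X.Modules :=
  (Scheme.Modules.overEquiv U).inverse ⋙ ExtZero.Sheaf.EZ X.ringCatSheaf U

/-- `j_! ⊣ j^*`. -/
noncomputable def extZeroAdj : extZero U ⊣ Scheme.Modules.restrictFunctor U.ι :=
  ((Scheme.Modules.overEquiv U).symm.toAdjunction.comp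
    (ExtZero.Sheaf.adjEZ X.ringCatSheaf U)).ofNatIsoRight (Scheme.Modules.overFunctorEquiv U)

instance : (extZero U).IsLeftAdjoint := (extZeroAdj U).isLeftAdjoint

instance : PreservesFiniteLimits (extZero U) :=
  inferInstanceAs (PreservesFiniteLimits
    ((Scheme.Modules.overEquiv U).inverse ⋙ ExtZero.Sheaf.EZ X.ringCatSheaf U))

instance : (extZero U).Additive := (extZeroAdj U).left_adjoint_additive

instance : PreservesFiniteColimits (extZero U) :=
  haveI : PreservesColimitsOfSize.{0, 0} (extZero U) := (extZeroAdj U).leftAdjoint_preservesColimits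
  PreservesColimitsOfSize.preservesFiniteColimits.{0, 0} _

/-- Restriction to an open subscheme preserves K-injective complexes. -/
theorem isKInjective_restrict {I : CochainComplex X.Modules ℤ} (hI : I.IsKInjective) :
    CochainComplex.IsKInjective
      (((Scheme.Modules.restrictFunctor U.ι).mapHomologicalComplex (ComplexShape.up ℤ)).obj I) :=
  isKInjective_of_adj (extZeroAdj U) hI

end Groth.Agent.Lib.DerivedOX.RestrictKInj
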