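import Mathlib.AlgebraicGeometry.Restrict
import Groth.Prelude.Def_DCoh3
import Groth.Agent.Lib.DerivedOX.RestrictKInj
import Groth.Agent.Lib.DerivedOX.GammaAcyclic
import Groth.Agent.Lib.DerivedOX.Exists
import Groth.Agent.Lib.Modules.Local

/-!
# `Rf_*` and restriction to opens

* `pushRestrictIso`: `(f_* M)|_V ≅ (f ∣_ V)_* (M|_U)` for `U = f ⁻¹ V`;
* `resCompIso`: exact functors with exact left adjoints commute with K-injective resolution functors;
* `restrictD_Rpush_iso`, `RΓ_Rpush_iso`.
-/

set_option autoImplicit false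

universe w w' v v' u u'

open CategoryTheory Limits AlgebraicGeometry Opposite

attribute [local instance] HasDerivedCategory.standard

set_option linter.style.haveILetI false

namespace Groth.Agent.Lib.DerivedOX.RestrictRpush

open RightDerived

section General

variable {A : Type u} [Category.{v} A] [Abelian A] [HasDerivedCategory.{w} A]
  {B : Type u'} [Category.{v'} B] [Abelian B] [HasDerivedCategory.{w'} B]
  [(DerivedCategory.Qh (C := A)).IsLeftAdjoint] [(DerivedCategory.Qh (C := B)).IsLeftAdjoint]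

theorem isIso_resAdj_counit [IsGrothendieckAbelian.{v} A] (d : DerivedCategory A) :
    IsIso ((resAdj A).counit.app d) := by
  haveI := Localization.essSurj (DerivedCategory.Qh (C := A)) (HomotopyCategory.quasiIso A (.up ℤ))
  obtain ⟨K, hK⟩ := HomotopyCategory.quotient_obj_surjective
    ((DerivedCategory.Qh (C := A)).objPreimage d)
  obtain ⟨I, f, hI, hf⟩ := DerCat.KInjExists.hasKInjRes K
  haveI := hI
  let q := HomotopyCategory.quotient A (ComplexShape.up ℤ)
  haveI := Localization.inverts DerivedCategory.Qh (HomotopyCategory.quasiIso A (.up ℤ)) (q.map f)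
    ((HomotopyCategory.quotient_map_mem_quasiIso_iff _).2 hf)
  haveI := isIso_unit_of_isKInjective I
  have ht := (resAdj A).left_triangle_components (q.obj I)
  haveI : IsIso (DerivedCategory.Qh.map ((resAdj A).unit.app (q.obj I)) ≫
      (resAdj A).counit.app (DerivedCategory.Qh.obj (q.obj I))) := by
    simpa using (show IsIso (𝟙 ((DerivedCategory.Qh (C := A)).obj (q.obj I))) from IsIso.id _)
  haveI := IsIso.of_isIso_comp_left (DerivedCategory.Qh.map ((resAdj A).unit.app (q.obj I)))
    ((resAdj A).counit.app (DerivedCategory.Qh.obj (q.obj I)))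
  exact (NatTrans.isIso_app_iff_of_iso (resAdj A).counit
    ((asIso (DerivedCategory.Qh.map (q.map f))).symm ≪≫ eqToIso (congrArg DerivedCategory.Qh.obj hK) ≪≫
      (DerivedCategory.Qh (C := A)).objObjPreimageIso d)).1 inferInstance

variable {F : A ⥤ B} {G : B ⥤ A} [F.Additive] [G.Additive] (adj : F ⊣ G)
  [PreservesFiniteLimits F] [PreservesFiniteColimits F]
  [PreservesFiniteLimits G] [PreservesFiniteColimits G] [IsGrothendieckAbelian.{v'} B]

/-- An adjunction between exact functors passes to derived categories. -/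
noncomputable def derivedAdjExact : F.mapDerivedCategory ⊣ G.mapDerivedCategory :=
  (DerCat.DerAdj.derivedAdj adj).ofNatIsoRight
    (Functor.isoWhiskerLeft (resFunctor B) G.mapDerivedCategoryFactorsh.symm ≪≫
      (Functor.associator _ _ _).symm ≪≫
      Functor.isoWhiskerRight
        (haveI : ∀ d, IsIso ((resAdj B).counit.app d) := isIso_resAdj_counit
         haveI := NatIso.isIso_of_isIso_app (resAdj B).counit
         asIso (resAdj B).counit) G.mapDerivedCategory ≪≫ Functor.leftUnitor _)

/-- A right adjoint exact functor with exact left adjoint commutes with K-injective resolutions. -/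
noncomputable def resCompIso :
    resFunctor B ⋙ G.mapHomotopyCategory (.up ℤ) ≅ G.mapDerivedCategory ⋙ resFunctor A :=
  (((DerCat.DerAdj.adjK adj (ComplexShape.up ℤ)).comp (resAdj B))).rightAdjointUniq
    (((resAdj A).comp (derivedAdjExact adj)).ofNatIsoLeft F.mapDerivedCategoryFactorsh)

end General

variable {X Y : Scheme.{u}} (f : X ⟶ Y) (V : Y.Opens)

/-- Constructor for morphisms of modules from linear maps on sections. -/
noncomputable def mkHom {M N : X.Modules} (φ : M.presheaf ⟶ N.presheaf)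
    (hφ : ∀ (W : X.Opens) (r : Γ(X, W)) (m : Γ(M, W)),
      φ.app (op W) (r • m) = r • (show Γ(N, W) from φ.app (op W) m)) : M ⟶ N :=
  (Scheme.Modules.fullyFaithfulToPresheafOfModules (X := X)).preimage
    (PresheafOfModules.homMk φ fun W r m => hφ W.unop r m)

@[simp] lemma mkHom_app {M N : X.Modules} (φ : M.presheaf ⟶ N.presheaf) (hφ) (W : X.Opens) :
    (mkHom φ hφ).app W = φ.app (op W) := rfl

lemma scalar_eq (W : (V : Scheme.{u}).Opens) (r : Γ((V : Scheme.{u}), W)) :
    ((f ⁻¹ᵁ V).ι.appIso ((f ∣_ V) ⁻¹ᵁ W)).inv ((f ∣_ V).app W r) =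
      X.presheaf.map (eqToHom (image_morphismRestrict_preimage f V W)).op
        (f.app (V.ι ''ᵁ W) ((V.ι.appIso W).inv r)) := by
  rw [Scheme.Opens.ι_appIso, Scheme.Opens.ι_appIso, morphismRestrict_app]
  rfl

/-- The restriction map underlying `pushRestrictHom`. -/
noncomputable def pushRestrictPre (M : X.Modules) :
    (((Scheme.Modules.pushforward f).obj M).restrict V.ι).presheaf ⟶
      ((Scheme.Modules.pushforward (f ∣_ V)).obj (M.restrict (f ⁻¹ᵁ V).ι)).presheaf where
  app W := M.presheaf.map (eqToHom (image_morphismRestrict_preimage f V W.unop)).op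
  naturality W W' i := by
    obtain ⟨W⟩ := W
    obtain ⟨W'⟩ := W'
    obtain ⟨i, rfl⟩ : ∃ j : W' ⟶ W, j.op = i := ⟨i.unop, rfl⟩
    have h1 : (((Scheme.Modules.pushforward f).obj M).restrict V.ι).presheaf.map i.op =
        M.presheaf.map ((TopologicalSpace.Opens.map f.base).map (V.ι.opensFunctor.map i)).op := rfl
    have h2 : ((Scheme.Modules.pushforward (f ∣_ V)).obj (M.restrict (f ⁻¹ᵁ V).ι)).presheaf.map i.op =
        M.presheaf.map ((f ⁻¹ᵁ V).ι.opensFunctor.map
          ((TopologicalSpace.Opens.map (f ∣_ V).base).map i)).op := rfl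
    rw [h1, h2]
    exact (M.presheaf.map_comp _ _).symm.trans
      ((congrArg M.presheaf.map (Subsingleton.elim _ _)).trans (M.presheaf.map_comp _ _))

lemma pushRestrictPre_smul (M : X.Modules) (W : (V : Scheme.{u}).Opens) (r : Γ((V : Scheme.{u}), W))
    (m : Γ(((Scheme.Modules.pushforward f).obj M).restrict V.ι, W)) :
    (pushRestrictPre f V M).app (op W) (r • m) =
      r • (show Γ((Scheme.Modules.pushforward (f ∣_ V)).obj (M.restrict (f ⁻¹ᵁ V).ι), W) from
        (pushRestrictPre f V M).app (op W) m) :=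
  (Scheme.Modules.map_smul M (eqToHom (image_morphismRestrict_preimage f V W))
    (f.app (V.ι ''ᵁ W) ((V.ι.appIso W).inv r)) m).trans
    (congrArg (· • _) (scalar_eq f V W r).symm)

/-- The base change map `(f_* M)|_V ⟶ (f ∣_ V)_* (M|_U)`. -/
noncomputable def pushRestrictHom (M : X.Modules) :
    ((Scheme.Modules.pushforward f).obj M).restrict V.ι ⟶
      (Scheme.Modules.pushforward (f ∣_ V)).obj (M.restrict (f ⁻¹ᵁ V).ι) :=
  mkHom (pushRestrictPre f V M) (pushRestrictPre_smul f V M)

instance isIso_pushRestrictHom (M : X.Modules) : IsIso (pushRestrictHom f V M) :=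
  Scheme.Modules.Hom.isIso_iff_isIso_app.2 fun W =>
    inferInstanceAs (IsIso (M.presheaf.map (eqToHom (image_morphismRestrict_preimage f V W)).op))

/-- `(f_* M)|_V ≅ (f ∣_ V)_* (M|_U)`. -/
noncomputable def pushRestrictIso :
    Scheme.Modules.pushforward f ⋙ Scheme.Modules.restrictFunctor V.ι ≅
      Scheme.Modules.restrictFunctor (f ⁻¹ᵁ V).ι ⋙ Scheme.Modules.pushforward (f ∣_ V) :=
  NatIso.ofComponents (fun M => asIso (pushRestrictHom f V M)) fun {M N} φ => by
    refine Scheme.Modules.hom_ext _ _ fun W => ?_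
    exact (φ.mapPresheaf.naturality (eqToHom (image_morphismRestrict_preimage f V W)).op).symm

/-- `(Rf_* E)|_V ≅ Rg_*(E|_U)`. -/
noncomputable def restrictD_Rpush_iso [DCoh.HasRpush f] [DCoh.HasRpush (f ∣_ V)]
    [PreservesFiniteLimits (Scheme.Modules.restrictFunctor V.ι)]
    [PreservesFiniteLimits (Scheme.Modules.restrictFunctor (f ⁻¹ᵁ V).ι)] :
    DCoh.Rpush f ⋙ DCoh.restrictD V.ι ≅ DCoh.restrictD (f ⁻¹ᵁ V).ι ⋙ DCoh.Rpush (f ∣_ V) :=
  Functor.isoWhiskerRight (totalRightDerivedIso (DCoh.pushKh f)).symm _ ≪≫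
    Functor.associator _ _ _ ≪≫
    Functor.isoWhiskerLeft (resFunctor X.Modules)
      (Functor.associator _ _ _ ≪≫
        Functor.isoWhiskerLeft _ (Scheme.Modules.restrictFunctor V.ι).mapDerivedCategoryFactorsh ≪≫
        (Functor.associator _ _ _).symm ≪≫
        Functor.isoWhiskerRight
          (Functor.mapHomotopyCategoryCompIso (pushRestrictIso f V) (.up ℤ) ≪≫
            (Functor.mapHomotopyCategoryCompIso (F := Scheme.Modules.restrictFunctor (f ⁻¹ᵁ V).ι)
              (G := Scheme.Modules.pushforward (f ∣_ V)) (Iso.refl _) (.up ℤ)).symm) _ ≪≫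
        Functor.associator _ _ _) ≪≫
    (Functor.associator _ _ _).symm ≪≫
    Functor.isoWhiskerRight (resCompIso (RestrictKInj.extZeroAdj (f ⁻¹ᵁ V))) _ ≪≫
    Functor.associator _ _ _ ≪≫
    Functor.isoWhiskerLeft _ (totalRightDerivedIso (DCoh.pushKh (f ∣_ V)))

/-- Direct images of K-injective complexes are acyclic for global sections. -/
theorem isIso_gamma_unit [DCoh.HasRΓ Y] (B : CochainComplex X.Modules ℤ) [B.IsKInjective] :
    IsIso (((DCoh.gammaKh Y).totalRightDerivedUnit DerivedCategory.Qh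
      (HomotopyCategory.quasiIso Y.Modules (ComplexShape.up ℤ))).app
        ((HomotopyCategory.quotient Y.Modules (ComplexShape.up ℤ)).obj
          ((GammaAcyclic.pushC f).obj B))) := by
  obtain ⟨L, i, hL, hi⟩ := DerCat.KInjExists.hasKInjRes ((GammaAcyclic.pushC f).obj B)
  haveI := hL
  haveI := hi
  let F := DCoh.gammaKh Y
  let q := HomotopyCategory.quotient Y.Modules (ComplexShape.up ℤ)
  let W := HomotopyCategory.quasiIso Y.Modules (ComplexShape.up ℤ)
  let η := F.totalRightDerivedUnit DerivedCategory.Qh W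
  haveI h1 : IsIso (η.app (q.obj L)) := isIso_totalRightDerivedUnit_app_of_isKInjective F L
  have hg : QuasiIso (((DCoh.gammaAb Y).mapHomologicalComplex (ComplexShape.up ℤ)).map i) :=
    GammaAcyclic.quasiIso_sect f B i ⊤
  haveI h2 : IsIso (F.map (q.map i)) :=
    Localization.inverts DerivedCategory.Qh (HomotopyCategory.quasiIso AddCommGrpCat.{u} (.up ℤ))
      ((HomotopyCategory.quotient AddCommGrpCat.{u} (ComplexShape.up ℤ)).map
        (((DCoh.gammaAb Y).mapHomologicalComplex (ComplexShape.up ℤ)).map i))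
      ((HomotopyCategory.quotient_map_mem_quasiIso_iff _).2 hg)
  haveI := Localization.inverts DerivedCategory.Qh W (q.map i)
    ((HomotopyCategory.quotient_map_mem_quasiIso_iff _).2 hi)
  have h3 : IsIso ((F.totalRightDerived DerivedCategory.Qh W).map (DerivedCategory.Qh.map (q.map i))) :=
    Functor.map_isIso _ _
  have h4 : IsIso (η.app (q.obj _) ≫ (DerivedCategory.Qh ⋙ F.totalRightDerived DerivedCategory.Qh W).map
      (q.map i)) := by
    rw [← η.naturality (q.map i)]
    infer_instance
  exact @IsIso.of_isIso_comp_right _ _ _ _ _ (η.app (q.obj _))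
    ((DerivedCategory.Qh ⋙ F.totalRightDerived DerivedCategory.Qh W).map (q.map i)) h3 h4

/-- `RΓ(Y, Rf_* -) ≅ RΓ(X, -)`. -/
noncomputable def RΓ_Rpush_iso [DCoh.HasRpush f] [DCoh.HasRΓ X] [DCoh.HasRΓ Y] :
    DCoh.Rpush f ⋙ DCoh.RΓ Y ≅ DCoh.RΓ X :=
  let P := (Scheme.Modules.pushforward f).mapHomotopyCategory (ComplexShape.up ℤ)
  let η := (DCoh.gammaKh Y).totalRightDerivedUnit DerivedCategory.Qh
    (HomotopyCategory.quasiIso Y.Modules (ComplexShape.up ℤ))
  let eP : P ⋙ DCoh.gammaKh Y ≅ DCoh.gammaKh X :=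
    (Functor.associator _ _ _).symm ≪≫ Functor.isoWhiskerRight
      (Functor.mapHomotopyCategoryCompIso
        (NatIso.ofComponents (fun M => Iso.refl _) (fun _ => rfl) :
          Scheme.Modules.pushforward f ⋙ DCoh.gammaAb Y ≅ DCoh.gammaAb X) (.up ℤ)) _
  haveI : ∀ d, IsIso (η.app (P.obj ((resFunctor X.Modules).obj d))) := fun d => by
    obtain ⟨I, hI, ⟨e⟩⟩ := exists_resFunctor_obj_iso d
    haveI := hI
    haveI : IsIso (η.app (P.obj ((HomotopyCategory.quotient X.Modules (.up ℤ)).obj I))) :=
      isIso_gamma_unit f I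
    exact (NatTrans.isIso_app_iff_of_iso η (P.mapIso e)).1 inferInstance
  Functor.isoWhiskerRight (totalRightDerivedIso (DCoh.pushKh f)).symm _ ≪≫
    (NatIso.ofComponents (fun d => (asIso (η.app (P.obj ((resFunctor X.Modules).obj d)))).symm)
      (fun {d d'} φ => by
        rw [Iso.symm_hom, Iso.symm_hom, asIso_inv, asIso_inv, IsIso.comp_inv_eq, Category.assoc,
          IsIso.eq_inv_comp]
        exact (η.naturality (P.map ((resFunctor X.Modules).map φ))).symm) :
      (resFunctor X.Modules ⋙ DCoh.pushKh f) ⋙ DCoh.RΓ Y ≅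
        resFunctor X.Modules ⋙ P ⋙ DCoh.gammaKh Y) ≪≫
    Functor.isoWhiskerLeft _ eP ≪≫ totalRightDerivedIso (DCoh.gammaKh X)

end Groth.Agent.Lib.DerivedOX.RestrictRpush
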