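import Groth.Agent.Lib.DerivedOX.ProjectionMap
import Groth.Agent.Lib.DerivedOX.TensorExact
import Groth.Agent.Lib.DerivedOX.RpushCoprod
import Groth.Agent.Lib.DerivedOX.QCohLocal
import Groth.Agent.Lib.KoszulOrth36.Counit
import Groth.Agent.Lib.DerCat.ExactFun

/-!
# Where the projection map is invertible

For an open `U` of the target, `GoodU f g U L`: the projection map at `j_!L` (and all its shifts) is
invertible over `U`.  This class of objects of `D(𝒪_U)` contains `𝒪`, is closed under triangles,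
shifts and retracts, and under direct sums in `D_QCoh` when `f` is qcqs and `I` is in `D_QCoh`.
-/

set_option autoImplicit false
set_option linter.unusedSectionVars false
set_option linter.style.haveILetI false

universe u

open CategoryTheory Limits AlgebraicGeometry Pretriangulated HomologicalComplex

attribute [local instance] HasDerivedCategory.standard

namespace Groth.Agent.Lib.DerivedOX.ProjectionLocal

open ProjectionMap CompactUnit

variable {X Y : Scheme.{u}}

noncomputable instance commShift_Lpull (f : X ⟶ Y) [DCoh.HasLpull f] :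
    (DCoh.Lpull f).CommShift ℤ :=
  haveI := Exists.hasRpush f
  (PullPushAdj.derivedAdjunction f).leftAdjointCommShift ℤ

instance isTriangulated_Lpull (f : X ⟶ Y) [DCoh.HasLpull f] : (DCoh.Lpull f).IsTriangulated :=
  haveI := Exists.hasRpush f
  haveI : (PullPushAdj.derivedAdjunction f).CommShift ℤ :=
    (PullPushAdj.derivedAdjunction f).commShift_of_rightAdjoint ℤ
  (PullPushAdj.derivedAdjunction f).isTriangulated_leftAdjoint

/-- Derived pullback commutes with restriction. -/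
theorem nonempty_restrict_Lpull (f : X ⟶ Y) [DCoh.HasLpull f] (U : Y.Opens) (K : DCoh.D Y) :
    haveI := LeftExists.hasLpull (f ∣_ U)
    Nonempty ((DCoh.restrictD (f ⁻¹ᵁ U).ι).obj ((DCoh.Lpull f).obj K) ≅
      (DCoh.Lpull (f ∣_ U)).obj ((DCoh.restrictD U.ι).obj K)) := by
  haveI := LeftExists.hasLpull (f ∣_ U)
  haveI := LeftExists.hasLpull (f ⁻¹ᵁ U).ι
  haveI := LeftExists.hasLpull U.ι
  haveI := LeftExists.hasLpull ((f ⁻¹ᵁ U).ι ≫ f)
  haveI := LeftExists.hasLpull ((f ∣_ U) ≫ U.ι)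
  obtain ⟨e₁⟩ := QCohLocal.nonempty_restrictD_iso (f ⁻¹ᵁ U).ι ((DCoh.Lpull f).obj K)
  obtain ⟨e₂⟩ := QCohLocal.nonempty_restrictD_iso U.ι K
  have hc : ∀ (a b : ((f ⁻¹ᵁ U : X.Opens) : Scheme.{u}) ⟶ Y) [DCoh.HasLpull a] [DCoh.HasLpull b],
      a = b → Nonempty ((DCoh.Lpull a).obj K ≅ (DCoh.Lpull b).obj K) := by
    rintro a b ha hb rfl
    exact ⟨Iso.refl _⟩
  obtain ⟨e₃⟩ := hc _ _ (morphismRestrict_ι f U).symm
  exact ⟨e₁ ≪≫ (PullComp.lpullCompIso (f ⁻¹ᵁ U).ι f).app K ≪≫ e₃ ≪≫
    ((PullComp.lpullCompIso (f ∣_ U) U.ι).app K).symm ≪≫ (DCoh.Lpull (f ∣_ U)).mapIso e₂.symm⟩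

/-- Derived tensor products commute with restriction. -/
theorem exists_restrict_LTensor (j : X ⟶ Y) [IsOpenImmersion j] (F : CochainComplex Y.Modules ℤ)
    [DCoh.HasLTensorCx F] :
    ∃ F' : CochainComplex X.Modules ℤ,
      Nonempty (DerivedCategory.Q.obj F' ≅ (DCoh.restrictD j).obj (DerivedCategory.Q.obj F)) ∧
      ∀ (_ : DCoh.HasLTensorCx F') (K : DCoh.D Y),
        Nonempty ((DCoh.restrictD j).obj ((DCoh.LTensorCx F).obj K) ≅
          (DCoh.LTensorCx F').obj ((DCoh.restrictD j).obj K)) := by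
  haveI := LeftExists.hasLpull j
  let F₀ := (KFlat.res Y).obj F
  have hF₀ : DCoh.IsKFlat F₀ := KFlat.isKFlat_res F
  haveI := LeftExists.hasLTensorCx F₀
  let eF : DerivedCategory.Q.obj F₀ ≅ DerivedCategory.Q.obj F :=
    haveI : QuasiIso ((KFlat.aug Y).app F) := KFlat.quasiIso_aug F
    asIso (DerivedCategory.Q.map ((KFlat.aug Y).app F))
  obtain ⟨e₀⟩ := QCohLocal.nonempty_Lpull_iso j hF₀
  obtain ⟨r₀⟩ := QCohLocal.nonempty_restrictD_iso j (DerivedCategory.Q.obj F₀)
  refine ⟨(PullTranspose.pullC j).obj F₀,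
    ⟨e₀.symm ≪≫ r₀.symm ≪≫ (DCoh.restrictD j).mapIso eF⟩, fun _ K => ?_⟩
  obtain ⟨P, hP, ⟨eP⟩⟩ := QCohLocal.exists_kflat K
  obtain ⟨t⟩ := QCohLocal.nonempty_LTensorCx_iso F hP
  obtain ⟨t₀⟩ := QCohLocal.nonempty_LTensorCx_iso F₀ hP
  obtain ⟨c⟩ := QCohLocal.nonempty_tensor_iso hP eF
  let eT : (DCoh.LTensorCx F).obj K ≅ (DCoh.LTensorCx F₀).obj K :=
    (DCoh.LTensorCx F).mapIso eP.symm ≪≫ t ≪≫ c.symm ≪≫ t₀.symm ≪≫
      (DCoh.LTensorCx F₀).mapIso eP
  obtain ⟨r₁⟩ := QCohLocal.nonempty_restrictD_iso j ((DCoh.LTensorCx F₀).obj K)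
  obtain ⟨r₂⟩ := QCohLocal.nonempty_restrictD_iso j K
  obtain ⟨p⟩ := PullTensor.nonempty_iso j F₀ hF₀ K
  exact ⟨(DCoh.restrictD j).mapIso eT ≪≫ r₁ ≪≫ p ≪≫ (DCoh.LTensorCx _).mapIso r₂.symm⟩

theorem isZero_restrict_LTensor (j : X ⟶ Y) [IsOpenImmersion j] (F : CochainComplex Y.Modules ℤ)
    [DCoh.HasLTensorCx F] {K : DCoh.D Y} (hK : IsZero ((DCoh.restrictD j).obj K)) :
    IsZero ((DCoh.restrictD j).obj ((DCoh.LTensorCx F).obj K)) := by
  obtain ⟨F', -, h⟩ := exists_restrict_LTensor j F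
  haveI := LeftExists.hasLTensorCx F'
  obtain ⟨e⟩ := h inferInstance K
  exact ((DCoh.LTensorCx F').map_isZero hK).of_iso e

theorem isQCohD_restrict_LTensor (j : X ⟶ Y) [IsOpenImmersion j]
    (F : CochainComplex Y.Modules ℤ) [DCoh.HasLTensorCx F]
    (hF : DCoh.IsQCohD ((DCoh.restrictD j).obj (DerivedCategory.Q.obj F))) {K : DCoh.D Y}
    (hK : DCoh.IsQCohD ((DCoh.restrictD j).obj K)) :
    DCoh.IsQCohD ((DCoh.restrictD j).obj ((DCoh.LTensorCx F).obj K)) := by
  obtain ⟨F', ⟨eF⟩, h⟩ := exists_restrict_LTensor j F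
  haveI := LeftExists.hasLTensorCx F'
  obtain ⟨e⟩ := h inferInstance K
  have hF' : DCoh.IsQCohD (DerivedCategory.Q.obj F') := fun n =>
    (WayOut.Scheme.qc X).prop_of_iso
      ((DerivedCategory.homologyFunctor X.Modules n).mapIso eF).symm (hF n)
  exact fun n => (WayOut.Scheme.qc X).prop_of_iso
    ((DerivedCategory.homologyFunctor X.Modules n).mapIso e).symm
    (QCohLocal.isQCohD_LTensorCx F' hF' hK n)

lemma preservesColimit_comp {C D E : Type*} [Category C] [Category D] [Category E] (F : C ⥤ D)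
    (G : D ⥤ E) {ι : Type u} (K : ι → C) [PreservesColimit (Discrete.functor K) F]
    [PreservesColimit (Discrete.functor fun i => F.obj (K i)) G] :
    PreservesColimit (Discrete.functor K) (F ⋙ G) := by
  haveI : PreservesColimit (Discrete.functor K ⋙ F) G :=
    preservesColimit_of_iso_diagram (K₁ := Discrete.functor fun i => F.obj (K i)) _
      (Discrete.compNatIsoDiscrete K F).symm
  infer_instance

section

variable (f : X ⟶ Y) [DCoh.HasLpull f] [DCoh.HasRpush f]
  {B : CochainComplex Y.Modules ℤ} {I : CochainComplex X.Modules ℤ}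
  (g : B ⟶ (GammaAcyclic.pushC f).obj I)
  [DCoh.HasLTensorCx B] [DCoh.HasLTensorCx I] (U : Y.Opens)

/-- Cohomology over `U`. -/
noncomputable abbrev HU (p : ℤ) : DCoh.D Y ⥤ (U : Scheme.{u}).Modules :=
  DCoh.restrictD U.ι ⋙ DerivedCategory.homologyFunctor (U : Scheme.{u}).Modules p

/-- The source. -/
noncomputable abbrev src (p : ℤ) : DCoh.D Y ⥤ (U : Scheme.{u}).Modules :=
  DCoh.LTensorCx B ⋙ HU U p

/-- The target. -/
noncomputable abbrev tgt (p : ℤ) : DCoh.D Y ⥤ (U : Scheme.{u}).Modules :=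
  (DCoh.Lpull f ⋙ DCoh.LTensorCx I ⋙ DCoh.Rpush f) ⋙ HU U p

/-- The projection map in cohomology over `U`. -/
noncomputable abbrev map (p : ℤ) : src (B := B) U p ⟶ tgt f (I := I) U p :=
  Functor.whiskerRight (projMap f g) (HU U p)

/-- The projection map is invertible over `U` at all shifts of `K`. -/
def Good (K : DCoh.D Y) : Prop := ∀ n p : ℤ, IsIso ((map f g U p).app (K⟦n⟧))

lemma exactOn_src (p : ℤ) : DerCat.ExactFun.ExactOn (src (B := B) U p) :=
  fun T hT => TensorExact.exact B (DCoh.restrictD U.ι) T hT p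

lemma exactOn_tgt (p : ℤ) : DerCat.ExactFun.ExactOn (tgt f (I := I) U p) := fun T hT =>
  TensorExact.exact I (DCoh.Rpush f ⋙ DCoh.restrictD U.ι) ((DCoh.Lpull f).mapTriangle.obj T)
    ((DCoh.Lpull f).map_distinguished T hT) p

variable {f g U}

lemma good_of_retract {K L : DCoh.D Y} (r : Retract K L) (h : Good f g U L) : Good f g U K :=
  fun n p =>
    haveI := h n p
    DerCat.ExactFun.isIso_of_retract (map f g U p) (r.map (shiftFunctor _ n))

lemma good_of_iso {K L : DCoh.D Y} (e : K ≅ L) (h : Good f g U L) : Good f g U K :=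
  good_of_retract ⟨e.hom, e.inv, e.hom_inv_id⟩ h

lemma good_shift {K : DCoh.D Y} (h : Good f g U K) (m : ℤ) : Good f g U (K⟦m⟧) := fun n p =>
  (NatTrans.isIso_app_iff_of_iso _ ((shiftFunctorAdd (DCoh.D Y) m n).app K)).1 (h (m + n) p)

lemma good_of_isIso_app {K : DCoh.D Y}
    (h : ∀ n : ℤ, IsIso ((DCoh.restrictD U.ι).map ((projMap f g).app (K⟦n⟧)))) : Good f g U K :=
  fun n p =>
    haveI := h n
    inferInstanceAs (IsIso ((DerivedCategory.homologyFunctor _ p).map _))

lemma good_ext₃ (T : Triangle (DCoh.D Y)) (hT : T ∈ distTriang _) (h₁ : Good f g U T.obj₁)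
    (h₂ : Good f g U T.obj₂) : Good f g U T.obj₃ := fun n p => by
  let T' := (Triangle.shiftFunctor (DCoh.D Y) n).obj T
  haveI : IsIso ((map f g U p).app T'.obj₁) := h₁ n p
  haveI : IsIso ((map f g U p).app T'.obj₂) := h₂ n p
  haveI : IsIso ((map f g U p).app (T'.obj₁⟦(1 : ℤ)⟧)) :=
    (NatTrans.isIso_app_iff_of_iso _ ((shiftFunctorAdd (DCoh.D Y) n 1).app T.obj₁)).1 (h₁ (n + 1) p)
  haveI : IsIso ((map f g U p).app (T'.obj₂⟦(1 : ℤ)⟧)) :=
    (NatTrans.isIso_app_iff_of_iso _ ((shiftFunctorAdd (DCoh.D Y) n 1).app T.obj₂)).1 (h₂ (n + 1) p)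
  exact DerCat.ExactFun.isIso₃ (exactOn_src U p) (exactOn_tgt f U p) (map f g U p) T'
    (Triangle.shift_distinguished T hT n)

/-- Good objects are where the projection map is invertible over `U`. -/
lemma isIso_restrict_of_good {K : DCoh.D Y} (h : Good f g U K) :
    IsIso ((DCoh.restrictD U.ι).map ((projMap f g).app K)) := by
  rw [DerivedCategory.isIso_iff]
  intro p
  exact (NatTrans.isIso_app_iff_of_iso (map f g U p)
    ((shiftFunctorZero (DCoh.D Y) ℤ).app K)).1 (h 0 p)

lemma isZero_src {C : DCoh.D Y} (hC : IsZero ((DCoh.restrictD U.ι).obj C)) (p : ℤ) :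
    IsZero ((src (B := B) U p).obj C) :=
  (DerivedCategory.homologyFunctor _ p).map_isZero (isZero_restrict_LTensor U.ι B hC)

lemma isZero_tgt {C : DCoh.D Y} (hC : IsZero ((DCoh.restrictD U.ι).obj C)) (p : ℤ) :
    IsZero ((tgt f (I := I) U p).obj C) := by
  haveI := LeftExists.hasLpull (f ∣_ U)
  haveI := Exists.hasRpush (f ∣_ U)
  obtain ⟨e⟩ := nonempty_restrict_Lpull f U C
  have h₁ : IsZero ((DCoh.restrictD (f ⁻¹ᵁ U).ι).obj ((DCoh.Lpull f).obj C)) :=
    ((DCoh.Lpull (f ∣_ U)).map_isZero hC).of_iso e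
  exact (DerivedCategory.homologyFunctor _ p).map_isZero
    (((DCoh.Rpush (f ∣_ U)).map_isZero (isZero_restrict_LTensor _ I h₁)).of_iso
      ((RestrictRpush.restrictD_Rpush_iso f U).app _))

/-- Good objects depend only on their restriction to `U`. -/
lemma good_of_restrict {K L : DCoh.D Y} (φ : K ⟶ L) [IsIso ((DCoh.restrictD U.ι).map φ)] :
    Good f g U K ↔ Good f g U L := by
  obtain ⟨C, a, b, hT⟩ := distinguished_cocone_triangle φ
  have hC : IsZero ((DCoh.restrictD U.ι).obj C) :=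
    (Triangle.isZero₃_iff_isIso₁ _ ((DCoh.restrictD U.ι).map_distinguished _ hT)).2
      (by assumption)
  have hCn : ∀ n : ℤ, IsZero ((DCoh.restrictD U.ι).obj (C⟦n⟧)) := fun n =>
    ((shiftFunctor _ n).map_isZero hC).of_iso (((DCoh.restrictD U.ι).commShiftIso n).app C)
  have key : ∀ n p : ℤ, IsIso ((map f g U p).app (K⟦n⟧)) ↔ IsIso ((map f g U p).app (L⟦n⟧)) := by
    intro n p
    let T' := (Triangle.shiftFunctor (DCoh.D Y) n).obj (Triangle.mk φ a b)
    have hT' := Triangle.shift_distinguished _ hT n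
    have hC' : IsZero ((DCoh.restrictD U.ι).obj (T'.obj₃⟦(-1 : ℤ)⟧)) :=
      ((shiftFunctor _ (-1 : ℤ)).map_isZero (hCn n)).of_iso
        (((DCoh.restrictD U.ι).commShiftIso (-1 : ℤ)).app _)
    have hs := DerCat.ExactFun.isIso_map_mor₁ (exactOn_src (B := B) U p) T' hT'
      (isZero_src (hCn n) p) (isZero_src hC' p)
    have ht := DerCat.ExactFun.isIso_map_mor₁ (exactOn_tgt f (I := I) U p) T' hT'
      (isZero_tgt (hCn n) p) (isZero_tgt hC' p)
    have hn := (map f g U p).naturality T'.mor₁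
    constructor
    · intro h
      have hc := @IsIso.comp_isIso _ _ _ _ _ _ _ h ht
      have hc' : IsIso ((src (B := B) U p).map T'.mor₁ ≫ (map f g U p).app T'.obj₂) :=
        hn.symm ▸ hc
      exact @IsIso.of_isIso_comp_left _ _ _ _ _ _ _ hs hc'
    · intro h
      have hc := @IsIso.comp_isIso _ _ _ _ _ _ _ hs h
      have hc' : IsIso ((map f g U p).app T'.obj₁ ≫ (tgt f (I := I) U p).map T'.mor₁) :=
        hn ▸ hc
      exact @IsIso.of_isIso_comp_right _ _ _ _ _ _ _ ht hc'
  exact ⟨fun h n p => (key n p).1 (h n p), fun h n p => (key n p).2 (h n p)⟩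

variable [I.IsKInjective] [QuasiIso g]

lemma good_oneD : Good f g U (oneD Y) := good_of_isIso_app fun n => by
  haveI : IsIso ((projMap f g).app ((oneD Y)⟦n⟧)) :=
    (NatTrans.isIso_app_iff_of_iso (projMap f g)
      (((DerivedCategory.singleFunctorIsoCompQ Y.Modules (-n)).app _).symm ≪≫
        (((DerivedCategory.singleFunctors Y.Modules).shiftIso n (-n) 0 (by omega)).app _).symm)).1
      (by exact isIso_projMap_one f g (-n))
  infer_instance

variable (f g U)

/-- `j_!L` is good. -/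
def GoodU (L : DCoh.D (U : Scheme.{u})) : Prop := Good f g U ((CxOX.extZeroD U.ι).obj L)

variable {f g U}

lemma goodU_of_retract {K L : DCoh.D (U : Scheme.{u})} (r : Retract K L) (h : GoodU f g U L) :
    GoodU f g U K :=
  good_of_retract (r.map _) h

lemma goodU_of_iso {K L : DCoh.D (U : Scheme.{u})} (e : K ≅ L) (h : GoodU f g U L) :
    GoodU f g U K :=
  good_of_iso ((CxOX.extZeroD U.ι).mapIso e) h

lemma goodU_shift {L : DCoh.D (U : Scheme.{u})} (h : GoodU f g U L) (m : ℤ) :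
    GoodU f g U (L⟦m⟧) :=
  good_of_iso (((CxOX.extZeroD U.ι).commShiftIso m).app L) (good_shift h m)

lemma goodU_ext₃ (T : Triangle (DCoh.D (U : Scheme.{u}))) (hT : T ∈ distTriang _)
    (h₁ : GoodU f g U T.obj₁) (h₂ : GoodU f g U T.obj₂) : GoodU f g U T.obj₃ :=
  good_ext₃ ((CxOX.extZeroD U.ι).mapTriangle.obj T)
    ((CxOX.extZeroD U.ι).map_distinguished _ hT) h₁ h₂

lemma isIso_restrict_counit (K : DCoh.D Y) :
    haveI : PreservesColimitsOfSize.{0, 0} (CxOX.extZero U.ι) :=
      (CxOX.extZeroAdj U.ι).leftAdjoint_preservesColimits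
    IsIso ((DCoh.restrictD U.ι).map
      ((RestrictRpush.derivedAdjExact (CxOX.extZeroAdj U.ι)).counit.app K)) := by
  haveI : PreservesColimitsOfSize.{0, 0} (CxOX.extZero U.ι) :=
    (CxOX.extZeroAdj U.ι).leftAdjoint_preservesColimits
  let adj := RestrictRpush.derivedAdjExact (CxOX.extZeroAdj U.ι)
  haveI : IsIso adj.unit := adj.isIso_unit_of_iso (KoszulOrth36.Counit.extZeroRestrictIso U)
  exact IsIso.of_isIso_fac_left (adj.right_triangle_components K)

/-- An object is good iff its restriction to `U` is. -/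
lemma good_iff_goodU (K : DCoh.D Y) : Good f g U K ↔ GoodU f g U ((DCoh.restrictD U.ι).obj K) := by
  haveI : PreservesColimitsOfSize.{0, 0} (CxOX.extZero U.ι) :=
    (CxOX.extZeroAdj U.ι).leftAdjoint_preservesColimits
  haveI := isIso_restrict_counit (U := U) K
  exact (good_of_restrict ((RestrictRpush.derivedAdjExact (CxOX.extZeroAdj U.ι)).counit.app K)).symm

lemma goodU_oneD : GoodU f g U (oneD (U : Scheme.{u})) :=
  goodU_of_iso (restrictOneIso U.ι).symm ((good_iff_goodU _).1 good_oneD)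

/-- Good objects of `D_QCoh(U)` are stable under direct sums. -/
lemma goodU_coproduct [QuasiCompact f] [QuasiSeparated f]
    (hI : DCoh.IsQCohD (DerivedCategory.Q.obj I)) {ι : Type u} (L : ι → DCoh.D (U : Scheme.{u}))
    (hL : ∀ i, DCoh.IsQCohD (L i)) (h : ∀ i, GoodU f g U (L i)) [HasCoproduct L] :
    GoodU f g U (∐ L) := fun n p => by
  haveI := LeftExists.hasLpull (f ∣_ U)
  haveI := Exists.hasRpush (f ∣_ U)
  haveI : PreservesColimitsOfSize.{0, 0} (CxOX.extZero U.ι) :=
    (CxOX.extZeroAdj U.ι).leftAdjoint_preservesColimits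
  let adj := RestrictRpush.derivedAdjExact (CxOX.extZeroAdj U.ι)
  let E := CxOX.extZeroD U.ι ⋙ shiftFunctor (DCoh.D Y) n
  haveI : PreservesColimitsOfSize.{u, u} (CxOX.extZeroD U.ι) := adj.leftAdjoint_preservesColimits
  haveI : PreservesColimitsOfSize.{u, u} (shiftFunctor (DCoh.D Y) n) :=
    (shiftEquiv (DCoh.D Y) n).toAdjunction.leftAdjoint_preservesColimits
  let M : ι → DCoh.D Y := fun i => E.obj (L i)
  haveI := hasCoproduct ι M
  haveI : PreservesColimit (Discrete.functor L) E :=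
    preservesColimit_comp (CxOX.extZeroD U.ι) (shiftFunctor (DCoh.D Y) n) L
  -- the source
  haveI := preservesColimits_restrictD U.ι ι
  haveI := TensorCoprod.preservesColimit_LTensorCx B M
  haveI := QCohCoprod.preservesColimit_homology
    (fun i => (DCoh.restrictD U.ι).obj ((DCoh.LTensorCx B).obj (M i))) p
  haveI : PreservesColimit (Discrete.functor fun i => (DCoh.LTensorCx B).obj (M i)) (HU U p) :=
    preservesColimit_comp (DCoh.restrictD U.ι) _ _
  haveI : PreservesColimit (Discrete.functor M) (src (B := B) U p) :=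
    preservesColimit_comp (DCoh.LTensorCx B) (HU U p) M
  -- the target
  haveI : PreservesColimitsOfSize.{u, u} (DCoh.Lpull f) :=
    (PullPushAdj.derivedAdjunction f).leftAdjoint_preservesColimits
  let N : ι → DCoh.D X := fun i => (DCoh.LTensorCx I).obj ((DCoh.Lpull f).obj (M i))
  have hN : ∀ i, DCoh.IsQCohD ((DCoh.restrictD (f ⁻¹ᵁ U).ι).obj (N i)) := fun i => by
    obtain ⟨e⟩ := nonempty_restrict_Lpull f U (M i)
    refine isQCohD_restrict_LTensor _ I (CompactUnit.isQCohD_restrictD _ hI) ?_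
    have hMi : DCoh.IsQCohD ((DCoh.restrictD U.ι).obj (M i)) := by
      haveI : IsIso adj.unit := adj.isIso_unit_of_iso (KoszulOrth36.Counit.extZeroRestrictIso U)
      exact fun k => (WayOut.Scheme.qc _).prop_of_iso
        ((DerivedCategory.homologyFunctor _ k).mapIso
          ((((DCoh.restrictD U.ι).commShiftIso n).app _) ≪≫
            (shiftFunctor _ n).mapIso (asIso (adj.unit.app (L i))).symm)).symm
        (qcD_shift (L i) n (hL i) k)
    exact fun k => (WayOut.Scheme.qc _).prop_of_iso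
      ((DerivedCategory.homologyFunctor _ k).mapIso e).symm
      (QCohLocal.isQCohD_Lpull (f ∣_ U) hMi k)
  haveI : PreservesColimit (Discrete.functor N) (DCoh.Rpush f ⋙ DCoh.restrictD U.ι) := by
    haveI := preservesColimits_restrictD (f ⁻¹ᵁ U).ι ι
    haveI := RpushCoprod.preservesColimit_Rpush (f ∣_ U) _ hN
    haveI : PreservesColimit (Discrete.functor N)
        (DCoh.restrictD (f ⁻¹ᵁ U).ι ⋙ DCoh.Rpush (f ∣_ U)) :=
      preservesColimit_comp _ _ N
    exact preservesColimit_of_natIso _ (RestrictRpush.restrictD_Rpush_iso f U).symm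
  haveI := QCohCoprod.preservesColimit_homology
    (fun i => (DCoh.Rpush f ⋙ DCoh.restrictD U.ι).obj (N i)) p
  haveI : PreservesColimit (Discrete.functor N)
      ((DCoh.Rpush f ⋙ DCoh.restrictD U.ι) ⋙ DerivedCategory.homologyFunctor _ p) :=
    preservesColimit_comp _ _ N
  haveI := TensorCoprod.preservesColimit_LTensorCx I fun i => (DCoh.Lpull f).obj (M i)
  haveI : PreservesColimit (Discrete.functor fun i => (DCoh.Lpull f).obj (M i))
      (DCoh.LTensorCx I ⋙ ((DCoh.Rpush f ⋙ DCoh.restrictD U.ι) ⋙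
        DerivedCategory.homologyFunctor _ p)) :=
    preservesColimit_comp _ _ _
  have htgt : PreservesColimit (Discrete.functor M) (tgt f (I := I) U p) := by
    have := preservesColimit_comp (DCoh.Lpull f)
      (DCoh.LTensorCx I ⋙ ((DCoh.Rpush f ⋙ DCoh.restrictD U.ι) ⋙
        DerivedCategory.homologyFunctor _ p)) M
    exact preservesColimit_of_natIso (F := DCoh.Lpull f ⋙ DCoh.LTensorCx I ⋙
      ((DCoh.Rpush f ⋙ DCoh.restrictD U.ι) ⋙ DerivedCategory.homologyFunctor _ p)) _ (Iso.refl _)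
  have key := @DerCat.ExactFun.isIso_of_coproduct _ _ _ _ _ _ (map f g U p) ι M (by infer_instance)
    (by assumption) htgt fun i => h i n p
  exact (NatTrans.isIso_app_iff_of_iso _ (PreservesCoproduct.iso E L).symm).1 key

end

end Groth.Agent.Lib.DerivedOX.ProjectionLocal
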