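import Groth.Agent.Lib.DerivedOX.OpenSupport

/-!
# Derived direct image along an arbitrary open immersion

* `preservesFiniteLimits_extZero'`: `j_!` is exact for every open immersion.
* `restrictPushAdj`: `j^* ⊣ Rj_*`, with invertible counit.
-/

set_option autoImplicit false

universe u

open CategoryTheory Limits AlgebraicGeometry Opposite Pretriangulated

attribute [local instance] HasDerivedCategory.standard

set_option linter.style.haveILetI false

namespace Groth.Agent.Lib.DerivedOX.OpenImm

open RightDerived

variable {U X : Scheme.{u}}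

/-- Restriction along an isomorphism is an equivalence. -/
noncomputable def isoEquiv {A B : Scheme.{u}} (e : A ≅ B) : A.Modules ≌ B.Modules :=
  CategoryTheory.Equivalence.mk (Scheme.Modules.restrictFunctor e.inv) (Scheme.Modules.restrictFunctor e.hom)
    (Scheme.Modules.restrictFunctorId.symm ≪≫ Scheme.Modules.restrictFunctorCongr e.hom_inv_id.symm ≪≫
      Scheme.Modules.restrictFunctorComp e.hom e.inv)
    ((Scheme.Modules.restrictFunctorComp e.inv e.hom).symm ≪≫
      Scheme.Modules.restrictFunctorCongr e.inv_hom_id ≪≫ Scheme.Modules.restrictFunctorId)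

variable (j : U ⟶ X) [IsOpenImmersion j]

/-- An exact extension by zero. -/
noncomputable abbrev ez : U.Modules ⥤ X.Modules :=
  (isoEquiv j.isoOpensRange).functor ⋙ RestrictKInj.extZero j.opensRange

/-- Its adjunction. -/
noncomputable def ezAdj : ez j ⊣ Scheme.Modules.restrictFunctor j :=
  ((isoEquiv j.isoOpensRange).toAdjunction.comp
    (RestrictKInj.extZeroAdj j.opensRange)).ofNatIsoRight
      ((Scheme.Modules.restrictFunctorComp j.isoOpensRange.hom j.opensRange.ι).symm ≪≫
        Scheme.Modules.restrictFunctorCongr j.isoOpensRange_hom_ι)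

instance preservesFiniteLimits_extZero' : PreservesFiniteLimits (CxOX.extZero j) :=
  haveI : PreservesFiniteLimits (isoEquiv j.isoOpensRange).functor := inferInstance
  haveI : PreservesFiniteLimits (ez j) := comp_preservesFiniteLimits _ _
  preservesFiniteLimits_of_natIso ((ezAdj j).leftAdjointUniq (CxOX.extZeroAdj j))

/-- Restriction along an open immersion preserves K-injective complexes. -/
theorem isKInjective_restrict {I : CochainComplex X.Modules ℤ} (hI : I.IsKInjective) :
    CochainComplex.IsKInjective
      (((Scheme.Modules.restrictFunctor j).mapHomologicalComplex (ComplexShape.up ℤ)).obj I) :=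
  RestrictKInj.isKInjective_of_adj (CxOX.extZeroAdj j) hI

lemma isIso_restrict_unit (M : X.Modules) :
    IsIso ((Scheme.Modules.restrictFunctor j).map ((Scheme.Modules.restrictAdjunction j).unit.app M)) :=
  IsIso.of_isIso_fac_right ((Scheme.Modules.restrictAdjunction j).left_triangle_components M)

variable [DCoh.HasRpush j]

/-- `j^* ⊣ Rj_*`. -/
noncomputable def restrictPushAdj : DCoh.restrictD j ⊣ DCoh.Rpush j :=
  (DerCat.DerAdj.derivedAdj (Scheme.Modules.restrictAdjunction j)).ofNatIsoRight
    (totalRightDerivedIso (DCoh.pushKh j))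

theorem isIso_restrictPushAdj_counit : IsIso (restrictPushAdj j).counit := by
  haveI : ∀ F, IsIso ((restrictPushAdj j).counit.app F) := fun F => by
    haveI := DerCat.DerAdj.isIso_derivedAdj_counit (Scheme.Modules.restrictAdjunction j)
      RestrictRpush.isIso_resAdj_counit F
    simp only [restrictPushAdj, Adjunction.ofNatIsoRight, Adjunction.mkOfHomEquiv_counit_app]
    simp [Adjunction.homEquiv_counit]
    infer_instance
  exact NatIso.isIso_of_isIso_app _

/-- `(Rj_* F)|_U ≅ F`. -/
noncomputable def counitIso : DCoh.Rpush j ⋙ DCoh.restrictD j ≅ 𝟭 (DCoh.D U) :=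
  haveI := isIso_restrictPushAdj_counit j
  asIso (restrictPushAdj j).counit

theorem isIso_counit (adj : DCoh.restrictD j ⊣ DCoh.Rpush j) : IsIso adj.counit :=
  adj.isIso_counit_of_iso (counitIso j)

/-- Morphisms from an object vanishing on `U` to `Rj_* F` vanish. -/
theorem eq_zero_of_isZero_restrict {K : DCoh.D X} (hK : IsZero ((DCoh.restrictD j).obj K))
    {F : DCoh.D U} {R : DCoh.D X} (e : R ≅ (DCoh.Rpush j).obj F) (f : K ⟶ R) : f = 0 := by
  have : f ≫ e.hom = 0 :=
    ((restrictPushAdj j).homEquiv K F).symm.injective (hK.eq_of_src _ _)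
  simpa using this =≫ e.inv

theorem isZero_of_supports {X : Scheme.{u}} {K : DCoh.D X}
    (h : ∀ (i : ℤ), CohB1.support (DCoh.HD K i) = ∅) : IsZero K :=
  OpenSupport.isZero_of_homology K fun n => Modules.Support.support_eq_empty_iff.1 (h n)

omit [DCoh.HasRpush j] in
theorem not_mem_support_of_isZero_restrict {K : DCoh.D X} (hK : IsZero ((DCoh.restrictD j).obj K))
    (i : ℤ) (w : U) : j w ∉ CohB1.support (DCoh.HD K i) := fun hw => by
  have h := Modules.Support.support_eq_empty_iff.2
    (((DerivedCategory.homologyFunctor U.Modules i).map_isZero hK).of_iso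
      (Perfect.Coherent.homologyIso j K i).symm)
  rw [Modules.Support.support_restrict] at h
  exact (Set.eq_empty_iff_forall_notMem.1 h w) hw

omit [DCoh.HasRpush j] in
theorem isSuppD_iff (K : DCoh.D X) : CxOX.IsSuppD j K ↔ IsZero ((DCoh.restrictD j).obj K) :=
  ⟨fun h => OpenSupport.isZero_restrictD_of_support j K fun i w hw => h i hw ⟨w, rfl⟩,
    fun h i x hx => by
      rintro ⟨w, rfl⟩
      exact not_mem_support_of_isZero_restrict j h i w hx⟩

end Groth.Agent.Lib.DerivedOX.OpenImm
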