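import Groth.Agent.Lib.CohDelta.BC.Lift

/-!
# One lift of the base change morphism for all degrees

`exists_lift_all`: the comparison `φ : I ⟶ g'_*J` of `CohDelta.BC.Lift.exists_lift` serves every
degree at once.
-/

set_option linter.style.haveILetI false
set_option linter.unusedSectionVars false
set_option maxHeartbeats 1000000

universe u

open CategoryTheory CategoryTheory.Limits AlgebraicGeometry AlgebraicGeometry.Scheme.Modules
open Groth.Agent.Lib.CohDelta.Syzygy
open Groth.Agent.Lib.CohDelta.BC.Lift

namespace Groth.Agent.Lib.DerivedOX.BCLiftAll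

variable {X S X' S' : Scheme.{u}} (f : X ⟶ S) (g : S' ⟶ S) (f' : X' ⟶ S') (g' : X' ⟶ X)
  (w : g' ≫ f = f' ≫ g) [HasInjectiveResolutions X.Modules] [HasInjectiveResolutions X'.Modules]
  [PreservesFiniteLimits (Scheme.Modules.pullback g')]

/-- `bcQAdj` through the chosen resolutions. -/
theorem exists_lift_all (M : X.Modules) :
    ∃ φ : (injectiveResolution M).cocomplex ⟶
        ((pushforward g').mapHomologicalComplex (ComplexShape.up ℕ)).obj
          (injectiveResolution ((Scheme.Modules.pullback g').obj M)).cocomplex,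
      (injectiveResolution M).ι.f 0 ≫ φ.f 0 =
          (pullbackPushforwardAdjunction g').unit.app M ≫
            (pushforward g').map ((injectiveResolution ((Scheme.Modules.pullback g').obj M)).ι.f 0) ∧
        ∀ n : ℕ, pR (injectiveResolution M) f n ≫ CohBC.bcQAdj f g f' g' w n M =
          comb f g f' g' w (ψ (injectiveResolution M) (injectiveResolution ((Scheme.Modules.pullback g').obj M)) φ n)
            (pR (injectiveResolution ((Scheme.Modules.pullback g').obj M)) f' n) := by
  let I := injectiveResolution M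
  let G := (Scheme.Modules.pullback g').obj M
  let J := injectiveResolution G
  let L := injectiveResolution ((pushforward g').obj G)
  let η : M ⟶ (pushforward g').obj G := (pullbackPushforwardAdjunction g').unit.app M
  let d₁ : I.cocomplex ⟶ L.cocomplex := InjectiveResolution.desc η L I
  let d₂ : L.cocomplex ⟶ ((pushforward g').mapHomologicalComplex (ComplexShape.up ℕ)).obj J.cocomplex :=
    RDer.descToInjectives (𝟙 ((pushforward g').obj G)) L.cocomplex L.ι
      (((pushforward g').mapHomologicalComplex _).obj J.cocomplex) (RDer.mapAug (pushforward g') J.ι)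
  have h1 : I.ι.f 0 ≫ d₁.f 0 = η ≫ L.ι.f 0 := InjectiveResolution.desc_commutes_zero η L I
  have h2 : L.ι.f 0 ≫ d₂.f 0 = (pushforward g').map (J.ι.f 0) := by
    refine (RDer.ι_descToInjectives_f_zero _ _ _ _ _).trans ((Category.id_comp _).trans ?_)
    simp [HomologicalComplex.singleMapHomologicalComplex_inv_app_self]
    exact Category.id_comp _
  refine ⟨d₁ ≫ d₂, ?_, ?_⟩
  · show I.ι.f 0 ≫ d₁.f 0 ≫ d₂.f 0 = η ≫ _
    refine (Category.assoc _ _ _).symm.trans ((congrArg (· ≫ d₂.f 0) h1).trans ?_)
    exact (Category.assoc _ _ _).trans (congrArg (η ≫ ·) h2)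
  · intro n
    let Φ₁ := ((pushforward f).mapHomologicalComplex (ComplexShape.up ℕ)).map d₁
    let Φ₂ := ((pushforward f).mapHomologicalComplex (ComplexShape.up ℕ)).map d₂
    let Φ₃ := (NatTrans.mapHomologicalComplex (sq f g f' g' w).hom (ComplexShape.up ℕ)).app J.cocomplex
    let F := fun m ↦ (HomologicalComplex.homologyFunctor S.Modules (ComplexShape.up ℕ) m)
    have hη : (Coh.Rpush f n).map η = (I.isoRightDerivedObj (pushforward f) n).hom ≫
        (F n).map Φ₁ ≫ (L.isoRightDerivedObj (pushforward f) n).inv := by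
      refine Eq.trans ?_ (Category.assoc _ _ _)
      rw [Iso.eq_comp_inv]
      exact InjectiveResolution.isoRightDerivedObj_hom_naturality η I L d₁ h1 (pushforward f) n
    have hsq : (CohBC.RpushSquareIso f g f' g' w n).hom.app G =
        (J.isoRightDerivedObj (pushforward g' ⋙ pushforward f) n).hom ≫ (F n).map Φ₃ ≫
          (J.isoRightDerivedObj (pushforward f' ⋙ pushforward g) n).inv :=
      InjectiveResolution.rightDerived_app_eq (sq f g f' g' w).hom J n
    have hbc : CohBC.bcQAdj f g f' g' w n M = (I.isoRightDerivedObj (pushforward f) n).hom ≫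
        (F n).map Φ₁ ≫ (F n).map Φ₂ ≫ (F n).map Φ₃ ≫
          RDer.homologyComparison (pushforward g) (K J f') n ≫
            (pushforward g).map (J.isoRightDerivedObj (pushforward f') n).inv := by
      unfold CohBC.bcQAdj RDer.edgeIn RDer.edgeOut
      rw [hη, hsq]
      simp only [I, J, L, G, η, F, Category.assoc, Iso.inv_hom_id_assoc]
      erw [Iso.inv_hom_id_assoc]
      rfl
    have hcyc : (cyc I f n).inv ≫ HomologicalComplex.cyclesMap Φ₁ n ≫
        HomologicalComplex.cyclesMap Φ₂ n ≫ HomologicalComplex.cyclesMap Φ₃ n ≫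
          RDer.cyclesComparison (pushforward g) (K J f') n =
        ((pushforward f).map (ψ I J (d₁ ≫ d₂) n) ≫ (sq f g f' g' w).hom.app (Z J n)) ≫
          (pushforward g).map (cyc J f' n).inv := by
      haveI : Mono ((pushforward g).map ((K J f').iCycles n)) := (pushforward g).map_mono _
      rw [← cancel_mono ((pushforward g).map ((K J f').iCycles n))]
      simp only [Category.assoc]
      refine (congrArg (fun k ↦ (cyc I f n).inv ≫ HomologicalComplex.cyclesMap Φ₁ n ≫
        HomologicalComplex.cyclesMap Φ₂ n ≫ HomologicalComplex.cyclesMap Φ₃ n ≫ k)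
          (RDer.cyclesComparison_i (pushforward g) (K J f') n)).trans ?_
      refine Eq.trans ?_ (congrArg (fun k ↦ (pushforward f).map (ψ I J (d₁ ≫ d₂) n) ≫
        (sq f g f' g' w).hom.app (Z J n) ≫ k)
          (((pushforward g).map_comp _ _).symm.trans
            (congrArg (pushforward g).map (cyc_inv_i J f' n)))).symm
      refine Eq.trans ?_ (congrArg ((pushforward f).map (ψ I J (d₁ ≫ d₂) n) ≫ ·)
        ((sq f g f' g' w).hom.naturality (kernel.ι (J.cocomplex.d n (n + 1)))))
      refine Eq.trans ?_ ((Category.assoc _ _ _).trans rfl)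
      refine (congrArg (fun k ↦ (cyc I f n).inv ≫ HomologicalComplex.cyclesMap Φ₁ n ≫
        HomologicalComplex.cyclesMap Φ₂ n ≫ k) (HomologicalComplex.cyclesMap_i Φ₃ n)).trans ?_
      refine (congrArg (fun k ↦ (cyc I f n).inv ≫ HomologicalComplex.cyclesMap Φ₁ n ≫ k)
        ((Category.assoc _ _ _).symm.trans ((congrArg (fun k ↦ k ≫ Φ₃.f n)
          (HomologicalComplex.cyclesMap_i Φ₂ n)).trans (Category.assoc _ _ _)))).trans ?_
      refine (congrArg (fun k ↦ (cyc I f n).inv ≫ k)
        ((Category.assoc _ _ _).symm.trans ((congrArg (fun k ↦ k ≫ Φ₂.f n ≫ Φ₃.f n)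
          (HomologicalComplex.cyclesMap_i Φ₁ n)).trans (Category.assoc _ _ _)))).trans ?_
      refine (Category.assoc _ _ _).symm.trans
        ((congrArg (fun k ↦ k ≫ Φ₁.f n ≫ Φ₂.f n ≫ Φ₃.f n) (cyc_inv_i I f n)).trans ?_)
      refine ((Category.assoc _ _ _).symm.trans ((Category.assoc _ _ _).symm.trans ?_))
      refine congrArg (fun k ↦ k ≫ Φ₃.f n) ?_
      refine Eq.trans ?_ (((pushforward f).map_comp _ _).symm.trans
        ((congrArg (pushforward f).map (ψ_ι I J (d₁ ≫ d₂) n)))).symm
      exact ((Category.assoc _ _ _).trans (congrArg ((pushforward f).map _ ≫ ·)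
        ((pushforward f).map_comp _ _).symm)).trans ((pushforward f).map_comp _ _).symm
    exact homology_chase (pushforward g) Φ₁ Φ₂ (D := K J f') Φ₃ n (cyc I f n).inv
      (I.isoRightDerivedObj (pushforward f) n) _ _ (cyc J f' n).inv _ hbc hcyc

end Groth.Agent.Lib.DerivedOX.BCLiftAll
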