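import Groth.Agent.Lib.DerivedOX.TildeEquiv
import Groth.Agent.Lib.DerivedOX.PullPushAdj
import Groth.Agent.Lib.DerivedOX.KFlatPullback
import Groth.Agent.Lib.DerivedOX.LeftExists
import Groth.Agent.Lib.DR.BaseChangeU
import Groth.Agent.Lib.Perfect.QCohD
import Groth.Agent.Lib.Perfect.Pullback
import Groth.Agent.S1055

/-!
# `Lf^*` preserves quasi-coherent cohomology
-/

set_option autoImplicit false
set_option linter.unusedSectionVars false
set_option linter.style.haveILetI false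

universe u

open CategoryTheory Limits AlgebraicGeometry

attribute [local instance] HasDerivedCategory.standard

namespace Groth.Agent.Lib.DerivedOX.LpullQCoh

open Groth.Agent.Lib Groth.Agent.Lib.Perfect.Basic Groth.Agent.Lib.Perfect.Pullback

variable {X Y : Scheme.{u}}

/-- `Lf^*` on a K-flat complex. -/
lemma nonempty_Lpull_iso (f : X ⟶ Y) [DCoh.HasLpull f] {P : CochainComplex Y.Modules ℤ}
    (hP : DCoh.IsKFlat P) :
    Nonempty ((DCoh.Lpull f).obj (DerivedCategory.Q.obj P) ≅ DerivedCategory.Q.obj ((pC f).obj P)) := by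
  haveI := PullPushAdj.isIso_counit_app_of_isKFlat f (DCoh.Lpull f)
    ((PullPushAdj.pullK f).totalLeftDerivedCounit DerivedCategory.Qh
      (HomotopyCategory.quasiIso Y.Modules (ComplexShape.up ℤ))) hP
  exact ⟨(DCoh.Lpull f).mapIso ((DerivedCategory.quotientCompQhIso Y.Modules).symm.app P) ≪≫
    asIso (((PullPushAdj.pullK f).totalLeftDerivedCounit DerivedCategory.Qh
      (HomotopyCategory.quasiIso Y.Modules (ComplexShape.up ℤ))).app
        ((HomotopyCategory.quotient Y.Modules (ComplexShape.up ℤ)).obj P)) ≪≫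
    DerivedCategory.Qh.mapIso
      (((Scheme.Modules.pullback f).mapHomotopyCategoryFactors (ComplexShape.up ℤ)).app P) ≪≫
    (DerivedCategory.quotientCompQhIso X.Modules).app _⟩

/-- The affine case. -/
lemma isQCohD_Lpull_spec {A B : Type u} [CommRing A] [CommRing B] (φ : A →+* B)
    [DCoh.HasLpull (Spec.map (CommRingCat.ofHom φ))]
    (K : DCoh.D (Spec (CommRingCat.of A))) (hK : DCoh.IsQCohD K) :
    DCoh.IsQCohD ((DCoh.Lpull (Spec.map (CommRingCat.ofHom φ))).obj K) := by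
  haveI : PreservesFiniteLimits (tilde.functor (CommRingCat.of A)) :=
    QCoh.Tilde.tildeFunctor_preservesFiniteLimits
  haveI : PreservesFiniteLimits (tilde.functor (CommRingCat.of B)) :=
    QCoh.Tilde.tildeFunctor_preservesFiniteLimits
  haveI : DRing.HasLBaseChange φ := DR.BaseChangeU.hasLBaseChange φ
  obtain ⟨M, ⟨e⟩⟩ := TildeEquiv.exists_preimage (CommRingCat.of A) K hK
  obtain ⟨θ⟩ := Groth.Agent.S1055.result φ
  intro i
  exact (WayOut.Scheme.qc _).prop_of_iso ((DerivedCategory.homologyFunctor _ i).mapIso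
    (θ.app M ≪≫ (DCoh.Lpull (Spec.map (CommRingCat.ofHom φ))).mapIso e))
    (TildeEquiv.isQCohD_obj (CommRingCat.of B) ((DRing.LBaseChange φ).obj M) i)

/-- `Lf^*` preserves `D_QCoh`. -/
theorem isQCohD_Lpull (f : Y ⟶ X) [DCoh.HasLpull f] (K : DCoh.D X) (hK : DCoh.IsQCohD K) :
    DCoh.IsQCohD ((DCoh.Lpull f).obj K) := fun i => Perfect.QCohD.isQCoh_of_cover fun y => by
  obtain ⟨V, hV, hxV, -⟩ := exists_isAffineOpen_mem_and_subset (X := X) (x := f y) (U := ⊤) trivial
  obtain ⟨W, hW, hyW, hWV⟩ := exists_isAffineOpen_mem_and_subset (X := Y) (x := y)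
    (U := f ⁻¹ᵁ V) hxV
  have e : W ≤ f ⁻¹ᵁ V := fun z hz => hWV hz
  obtain ⟨p, rfl⟩ : y ∈ Set.range hW.fromSpec := by rw [hW.range_fromSpec]; exact hyW
  let φ := (f.appLE V W e).hom
  let g : Spec (CommRingCat.of Γ(Y, W)) ⟶ Spec (CommRingCat.of Γ(X, V)) :=
    Spec.map (CommRingCat.ofHom φ)
  let j : Spec (CommRingCat.of Γ(X, V)) ⟶ X := hV.fromSpec
  let k : Spec (CommRingCat.of Γ(Y, W)) ⟶ Y := hW.fromSpec
  have hsq : g ≫ j = k ≫ f := IsAffineOpen.SpecMap_appLE_fromSpec f hV hW e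
  haveI := LeftExists.hasLpull g
  let E := DerivedCategory.Q.objPreimage K
  let P := (KFlat.res X).obj E
  have hP : DCoh.IsKFlat P := KFlat.isKFlat_res E
  haveI : QuasiIso ((KFlat.aug X).app E) := KFlat.quasiIso_aug E
  let eK : DerivedCategory.Q.obj P ≅ K :=
    asIso (DerivedCategory.Q.map ((KFlat.aug X).app E)) ≪≫ DerivedCategory.Q.objObjPreimageIso K
  obtain ⟨a⟩ := nonempty_Lpull_iso f hP
  obtain ⟨b⟩ := nonempty_Lpull_iso g (KFlatPullback.isKFlat_pullback j hP)
  have hK' : DCoh.IsQCohD (DerivedCategory.Q.obj ((pC j).obj P)) := fun n => by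
    haveI : (DCoh.HD K n).IsQuasicoherent := hK n
    exact (WayOut.Scheme.qc _).prop_of_iso ((Perfect.Coherent.homologyIso j K n).symm ≪≫
      (DerivedCategory.homologyFunctor _ n).mapIso ((RD j).mapIso eK.symm ≪≫ RDQ j P ≪≫
        DerivedCategory.Q.mapIso ((rCIso j).app P)))
      (inferInstanceAs (((Scheme.Modules.restrictFunctor j).obj (DCoh.HD K n)).IsQuasicoherent))
  have h := isQCohD_Lpull_spec φ _ hK' i
  refine ⟨_, k, inferInstance, p, rfl, (WayOut.Scheme.qc _).prop_of_iso ?_ h⟩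
  exact (DerivedCategory.homologyFunctor _ i).mapIso (b ≪≫
      DerivedCategory.Q.mapIso ((pCComp g j).app P ≪≫
        eqToIso (congrArg (fun h => (pC h).obj P) hsq) ≪≫ ((pCComp k f).app P).symm ≪≫
        ((rCIso k).app ((pC f).obj P)).symm) ≪≫ (RDQ k _).symm ≪≫
      (RD k).mapIso (a.symm ≪≫ (DCoh.Lpull f).mapIso eK)) ≪≫
    Perfect.Coherent.homologyIso k _ i

end Groth.Agent.Lib.DerivedOX.LpullQCoh
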