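import Groth.Agent.Lib.WayOut.Bounded
import Mathlib.CategoryTheory.Abelian.DiagramLemmas.Four
import Mathlib.Algebra.Homology.DerivedCategory.TStructure

/-!
# Way-out natural transformations

A natural transformation of triangulated functors which is invertible on objects concentrated in one
degree is invertible, if both functors are left exact and, after applying each member of a
conservative family of exact functors, of bounded cohomological amplitude.
-/

set_option autoImplicit false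
set_option linter.style.haveILetI false

universe w w' v v' v'' u u' u''

open CategoryTheory Limits Pretriangulated DerivedCategory

namespace Groth.Agent.Lib.DerivedOX.WayOutIso

open Groth.Agent.Lib.WayOut.Bounded

variable {A : Type u} [Category.{v} A] [Abelian A] [HasDerivedCategory.{w} A]
  {B : Type u'} [Category.{v'} B] [Abelian B] [HasDerivedCategory.{w'} B]
  {E : Type u''} [Category.{v''} E] [Abelian E]

/-- Five lemma for a natural transformation of homological functors. -/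
theorem isIso_app_of_triangle (H H' : DerivedCategory A ⥤ E) [H.IsHomological] [H'.IsHomological]
    (τ : H ⟶ H') (T : Triangle (DerivedCategory A)) (hT : T ∈ distTriang _)
    (h0 : Epi (τ.app (T.obj₃⟦(-1 : ℤ)⟧))) (h1 : IsIso (τ.app T.obj₁)) (h3 : IsIso (τ.app T.obj₃))
    (h4 : Mono (τ.app (T.obj₁⟦(1 : ℤ)⟧))) : IsIso (τ.app T.obj₂) := by
  have hr := inv_rot_of_distTriang T hT
  have ho := rot_of_distTriang T hT
  have row : ∀ (K : DerivedCategory A ⥤ E) [K.IsHomological],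
      (ComposableArrows.mk₄ (K.map T.invRotate.mor₁) (K.map T.mor₁) (K.map T.mor₂)
        (K.map T.mor₃)).Exact := fun K _ => by
    refine ComposableArrows.exact_of_δ₀ ?_ ?_
    · exact (ShortComplex.Exact.exact_toComposableArrows (K.map_distinguished_exact _ hr))
    refine ComposableArrows.exact_of_δ₀ ?_ ?_
    · exact (ShortComplex.Exact.exact_toComposableArrows (K.map_distinguished_exact _ hT))
    exact (ShortComplex.Exact.exact_toComposableArrows (K.map_distinguished_exact _ ho))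
  exact Abelian.isIso_of_epi_of_isIso_of_isIso_of_mono (row H) (row H')
    (ComposableArrows.homMk₄ (τ.app _) (τ.app _) (τ.app _) (τ.app _) (τ.app _)
      (τ.naturality _) (τ.naturality _) (τ.naturality _) (τ.naturality _)) h0 h1 h3 h4

variable [(DerivedCategory.Qh (C := A)).IsLeftAdjoint] {P : ObjectProperty A} [P.IsClosedUnderIsomorphisms] [P.ContainsZero]

theorem hasP_shift {Y : DerivedCategory A} (h : HasP P Y) (k : ℤ) : HasP P (Y⟦k⟧) := fun i =>
  P.prop_of_iso (((DerivedCategory.homologyFunctor A 0).shiftIso k i (k + i) rfl).app Y).symm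
    (h (k + i))

variable (F G : DerivedCategory A ⥤ DerivedCategory B) [F.CommShift ℤ] [G.CommShift ℤ]
  [F.IsTriangulated] [G.IsTriangulated] (τ : F ⟶ G)
  {ι : Type*} (st : ι → B ⥤ E) [∀ s, (st s).Additive] [∀ s, (st s).PreservesHomology]

theorem isIso_bounded
    (hsingle : ∀ (Y : DerivedCategory A) (q : ℤ), HasP P Y → Y.IsGE q → Y.IsLE q → IsIso (τ.app Y))
    (Y : DerivedCategory A) (hY : HasP P Y) (a b : ℤ) [Y.IsGE a] [Y.IsLE b] (n : ℤ) :
    IsIso ((homologyFunctor B n).map (τ.app Y)) := by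
  obtain ⟨k, hk⟩ : ∃ k : ℕ, k = (b - a + 1).toNat := ⟨_, rfl⟩
  induction k generalizing Y a b with
  | zero =>
    have hz := isZero_of_isGE_of_isLE_lt Y a b (by lia)
    exact ⟨0, (((F ⋙ homologyFunctor B n).map_isZero hz)).eq_of_src _ _,
      (((G ⋙ homologyFunctor B n).map_isZero hz)).eq_of_src _ _⟩
  | succ k ih =>
    haveI := isGE_truncLT Y b a
    haveI hl : ((TStructure.t.truncLT b).obj Y).IsLE (b - 1) :=
      (inferInstance : TStructure.t.IsLE ((TStructure.t.truncLT b).obj Y) (b - 1))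
    haveI := isLE_truncGE Y b b
    haveI hg : ((TStructure.t.truncGE b).obj Y).IsGE b :=
      (inferInstance : TStructure.t.IsGE ((TStructure.t.truncGE b).obj Y) b)
    have hP1 := hasP_truncLT (P := P) hY b
    have hP2 := hasP_truncGE (P := P) hY b
    let H := F ⋙ homologyFunctor B n
    let H' := G ⋙ homologyFunctor B n
    let τ' : H ⟶ H' := Functor.whiskerRight τ (homologyFunctor B n)
    have e3 : IsIso (τ.app ((TStructure.t.truncGE b).obj Y)) := hsingle _ b hP2 hg inferInstance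
    have g1 : (((TStructure.t.truncLT b).obj Y)⟦(1 : ℤ)⟧).IsGE (a - 1) :=
      TStructure.t.isGE_shift _ a 1 (a - 1) (by lia)
    have l1 : (((TStructure.t.truncLT b).obj Y)⟦(1 : ℤ)⟧).IsLE (b - 1 - 1) :=
      TStructure.t.isLE_shift _ (b - 1) 1 (b - 1 - 1) (by lia)
    have g0 : (((TStructure.t.truncGE b).obj Y)⟦(-1 : ℤ)⟧).IsGE (b + 1) :=
      TStructure.t.isGE_shift _ b (-1) (b + 1) (by lia)
    have l0 : (((TStructure.t.truncGE b).obj Y)⟦(-1 : ℤ)⟧).IsLE (b + 1) :=
      TStructure.t.isLE_shift _ b (-1) (b + 1) (by lia)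
    have e0 : IsIso (τ'.app (((TStructure.t.truncGE b).obj Y)⟦(-1 : ℤ)⟧)) :=
      @Functor.map_isIso _ _ _ _ _ _ (homologyFunctor B n) _
        (hsingle _ (b + 1) (hasP_shift hP2 (-1)) g0 l0)
    have e1 : IsIso (τ'.app ((TStructure.t.truncLT b).obj Y)) := ih _ hP1 a (b - 1) (by lia)
    have e4 : IsIso (τ'.app (((TStructure.t.truncLT b).obj Y)⟦(1 : ℤ)⟧)) :=
      ih _ (hasP_shift hP1 1) (a - 1) (b - 1 - 1) (by lia)
    exact isIso_app_of_triangle H H' τ' _ (TStructure.t.triangleLTGE_distinguished b Y)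
      (@IsIso.epi_of_iso _ _ _ _ _ e0) e1 (@Functor.map_isIso _ _ _ _ _ _ (homologyFunctor B n) _ e3)
      (@IsIso.mono_of_iso _ _ _ _ _ e4)

theorem isIso_of_isGE
    (hsingle : ∀ (Y : DerivedCategory A) (q : ℤ), HasP P Y → Y.IsGE q → Y.IsLE q → IsIso (τ.app Y))
    (hF : ∀ (Y : DerivedCategory A) (a : ℤ), Y.IsGE a → (F.obj Y).IsGE a)
    (hG : ∀ (Y : DerivedCategory A) (a : ℤ), Y.IsGE a → (G.obj Y).IsGE a)
    (Y : DerivedCategory A) (hY : HasP P Y) (a : ℤ) [Y.IsGE a] (n : ℤ) :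
    IsIso ((homologyFunctor B n).map (τ.app Y)) := by
  let b : ℤ := max a n + 2
  have hT := TStructure.t.triangleLTGE_distinguished b Y
  haveI := isGE_truncLT Y b a
  haveI : ((TStructure.t.truncLT b).obj Y).IsLE (b - 1) :=
    (inferInstance : TStructure.t.IsLE ((TStructure.t.truncLT b).obj Y) (b - 1))
  have hg : ((TStructure.t.truncGE b).obj Y).IsGE b :=
    (inferInstance : TStructure.t.IsGE ((TStructure.t.truncGE b).obj Y) b)
  have g0 : (((TStructure.t.truncGE b).obj Y)⟦(-1 : ℤ)⟧).IsGE (b + 1) :=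
    TStructure.t.isGE_shift _ b (-1) (b + 1) (by lia)
  let H := F ⋙ homologyFunctor B n
  let H' := G ⋙ homologyFunctor B n
  let τ' : H ⟶ H' := Functor.whiskerRight τ (homologyFunctor B n)
  have hlt := isIso_bounded F G τ hsingle _ (hasP_truncLT (P := P) hY b) a (b - 1) n
  have z3 : IsZero (H.obj ((TStructure.t.truncGE b).obj Y)) :=
    @isZero_of_isGE _ _ _ _ _ b n (by lia) (hF _ b hg)
  have z3' : IsZero (H'.obj ((TStructure.t.truncGE b).obj Y)) :=
    @isZero_of_isGE _ _ _ _ _ b n (by lia) (hG _ b hg)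
  have z0' : IsZero (H'.obj (((TStructure.t.truncGE b).obj Y)⟦(-1 : ℤ)⟧)) :=
    @isZero_of_isGE _ _ _ _ _ (b + 1) n (by lia) (hG _ (b + 1) g0)
  haveI g1 : (((TStructure.t.truncLT b).obj Y)⟦(1 : ℤ)⟧).IsGE (a - 1) :=
    TStructure.t.isGE_shift _ a 1 (a - 1) (by lia)
  haveI l1 : (((TStructure.t.truncLT b).obj Y)⟦(1 : ℤ)⟧).IsLE (b - 1 - 1) :=
    TStructure.t.isLE_shift _ (b - 1) 1 (b - 1 - 1) (by lia)
  have e4 : IsIso (τ'.app (((TStructure.t.truncLT b).obj Y)⟦(1 : ℤ)⟧)) :=
    isIso_bounded F G τ hsingle _ (hasP_shift (hasP_truncLT (P := P) hY b) 1) (a - 1) (b - 1 - 1) n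
  exact isIso_app_of_triangle H H' τ' _ hT ⟨fun _ _ _ => z0'.eq_of_src _ _⟩ hlt
    ⟨0, z3.eq_of_src _ _, z3'.eq_of_src _ _⟩ (@IsIso.mono_of_iso _ _ _ _ _ e4)

/-- The way-out criterion. -/
theorem isIso_app (hst : ∀ {M N : B} (φ : M ⟶ N), (∀ s, IsIso ((st s).map φ)) → IsIso φ)
    (hsingle : ∀ (Y : DerivedCategory A) (q : ℤ), HasP P Y → Y.IsGE q → Y.IsLE q → IsIso (τ.app Y))
    (hF : ∀ (Y : DerivedCategory A) (a : ℤ), Y.IsGE a → (F.obj Y).IsGE a)
    (hG : ∀ (Y : DerivedCategory A) (a : ℤ), Y.IsGE a → (G.obj Y).IsGE a)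
    (hbF : ∀ s, ∃ N : ℕ, ∀ (Y : DerivedCategory A) (b : ℤ), HasP P Y → Y.IsLE b → ∀ n, b + N + 1 ≤ n →
      IsZero ((st s).obj ((homologyFunctor B n).obj (F.obj Y))))
    (hbG : ∀ s, ∃ N : ℕ, ∀ (Y : DerivedCategory A) (b : ℤ), HasP P Y → Y.IsLE b → ∀ n, b + N + 1 ≤ n →
      IsZero ((st s).obj ((homologyFunctor B n).obj (G.obj Y))))
    (Y : DerivedCategory A) (hY : HasP P Y) : IsIso (τ.app Y) := by
  rw [DerivedCategory.isIso_iff]
  intro n
  refine hst _ fun s => ?_
  obtain ⟨N, hN⟩ := hbF s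
  obtain ⟨N', hN'⟩ := hbG s
  let a : ℤ := n - N - N' - 2
  have hT := TStructure.t.triangleLTGE_distinguished a Y
  have hP1 := hasP_truncLT (P := P) hY a
  have hle : ((TStructure.t.truncLT a).obj Y).IsLE (a - 1) :=
    (inferInstance : TStructure.t.IsLE ((TStructure.t.truncLT a).obj Y) (a - 1))
  have l1 : (((TStructure.t.truncLT a).obj Y)⟦(1 : ℤ)⟧).IsLE (a - 2) :=
    TStructure.t.isLE_shift _ (a - 1) 1 (a - 2) (by lia)
  haveI : ((TStructure.t.truncGE a).obj Y).IsGE a :=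
    (inferInstance : TStructure.t.IsGE ((TStructure.t.truncGE a).obj Y) a)
  haveI : (((TStructure.t.truncGE a).obj Y)⟦(-1 : ℤ)⟧).IsGE (a + 1) :=
    TStructure.t.isGE_shift _ a (-1) (a + 1) (by lia)
  have e3 := isIso_of_isGE F G τ hsingle hF hG _ (hasP_truncGE (P := P) hY a) a n
  have e0 := isIso_of_isGE F G τ hsingle hF hG _ (hasP_shift (hasP_truncGE (P := P) hY a) (-1)) (a + 1) n
  let H := F ⋙ homologyFunctor B n ⋙ st s
  let H' := G ⋙ homologyFunctor B n ⋙ st s
  let τ' : H ⟶ H' := Functor.whiskerRight τ (homologyFunctor B n ⋙ st s)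
  haveI : (homologyFunctor B n ⋙ st s).IsHomological :=
    { exact := fun T hT => ((homologyFunctor B n).map_distinguished_exact T hT).map (st s) }
  haveI : H.IsHomological := inferInstanceAs ((F ⋙ (homologyFunctor B n ⋙ st s)).IsHomological)
  haveI : H'.IsHomological := inferInstanceAs ((G ⋙ (homologyFunctor B n ⋙ st s)).IsHomological)
  have z4 : IsZero (H.obj (((TStructure.t.truncLT a).obj Y)⟦(1 : ℤ)⟧)) :=
    hN _ (a - 2) (hasP_shift hP1 1) l1 n (by lia)
  exact isIso_app_of_triangle H H' τ' _ hT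
    (@IsIso.epi_of_iso _ _ _ _ _ (@Functor.map_isIso _ _ _ _ _ _ (st s) _ e0))
    ⟨0, (hN _ (a - 1) hP1 hle n (by lia)).eq_of_src _ _,
      (hN' _ (a - 1) hP1 hle n (by lia)).eq_of_src _ _⟩
    (@Functor.map_isIso _ _ _ _ _ _ (st s) _ e3)
    ⟨fun _ _ _ => z4.eq_of_tgt _ _⟩

end Groth.Agent.Lib.DerivedOX.WayOutIso
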