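import Groth.Agent.Lib.DerivedOX.BCResolution
import Groth.Agent.Lib.DerivedOX.BCLiftAll
import Groth.Agent.Lib.DerivedOX.WayOutIso
import Groth.Agent.Lib.DerivedOX.RpushQCoh
import Groth.Agent.Lib.DerivedOX.RpushTriangulated
import Groth.Agent.Lib.DerivedOX.LpullQCoh
import Groth.Agent.Lib.DerivedOX.Exists
import Groth.Agent.Lib.DerivedOX.PullbackStalk

/-!
# Flat base change in derived categories of `O_X`-modules

`isIso_bcD`: for a cartesian square with `g` flat and `f` quasi-compact quasi-separated, the base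
change morphism is invertible on `D_QCoh`.
-/

set_option autoImplicit false
set_option linter.style.haveILetI false
set_option linter.unusedSectionVars false
set_option maxHeartbeats 1000000

universe u

open CategoryTheory Limits AlgebraicGeometry DerivedCategory

attribute [local instance] HasDerivedCategory.standard

namespace Groth.Agent.Lib.DerivedOX.BCFlat

open PullTranspose CohDelta.BC

section Flat

variable {X Y : Scheme.{u}} (g : X ⟶ Y) [Flat g]

lemma preservesFiniteColimits_pullback :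
    PreservesFiniteColimits (Scheme.Modules.pullback g) :=
  haveI : PreservesColimitsOfSize.{0, 0} (Scheme.Modules.pullback g) :=
    (Scheme.Modules.pullbackPushforwardAdjunction g).leftAdjoint_preservesColimits
  PreservesColimitsOfSize.preservesFiniteColimits.{0, 0} _

variable [DCoh.HasLpull g]

/-- `Lg^* = g^*` for flat `g`. -/
theorem isIso_counitCx (K : CochainComplex Y.Modules ℤ) : IsIso ((counitCx g).app K) := by
  haveI := Flat.preservesFiniteLimits_pullback g
  haveI := preservesFiniteColimits_pullback g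
  haveI := KFlat.quasiIso_aug K
  haveI := PullTranspose.isIso_counitCx g (KFlat.isKFlat_res K)
  haveI : QuasiIso ((pullC g).map ((KFlat.aug Y).app K)) := inferInstance
  haveI : IsIso (DerivedCategory.Q.map ((pullC g).map ((KFlat.aug Y).app K))) := inferInstance
  haveI : IsIso ((DCoh.Lpull g).map (DerivedCategory.Q.map ((KFlat.aug Y).app K))) := inferInstance
  have h := (counitCx g).naturality ((KFlat.aug Y).app K)
  dsimp at h
  haveI : IsIso ((DCoh.Lpull g).map (DerivedCategory.Q.map ((KFlat.aug Y).app K)) ≫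
      (counitCx g).app K) := by
    erw [h]; infer_instance
  exact IsIso.of_isIso_comp_left ((DCoh.Lpull g).map (DerivedCategory.Q.map ((KFlat.aug Y).app K))) _

/-- The cohomology of `Lg^*` for flat `g`. -/
theorem nonempty_HD_Lpull (K : DCoh.D Y) (n : ℤ) :
    Nonempty (DCoh.HD ((DCoh.Lpull g).obj K) n ≅ (Scheme.Modules.pullback g).obj (DCoh.HD K n)) := by
  haveI := Flat.preservesFiniteLimits_pullback g
  haveI := preservesFiniteColimits_pullback g
  let P := DerivedCategory.Q.objPreimage K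
  let e : DerivedCategory.Q.obj P ≅ K := DerivedCategory.Q.objObjPreimageIso K
  haveI := isIso_counitCx g P
  exact ⟨(homologyFunctor X.Modules n).mapIso ((DCoh.Lpull g).mapIso e.symm ≪≫
      asIso ((counitCx g).app P)) ≪≫
    (homologyFunctorFactors X.Modules n).app _ ≪≫
    (P.sc n).mapHomologyIso (Scheme.Modules.pullback g) ≪≫
    (Scheme.Modules.pullback g).mapIso (((homologyFunctorFactors Y.Modules n).app P).symm ≪≫
      (homologyFunctor Y.Modules n).mapIso e)⟩

theorem isGE_Lpull (K : DCoh.D Y) (a : ℤ) (h : K.IsGE a) : ((DCoh.Lpull g).obj K).IsGE a :=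
  (isGE_iff _ _).2 fun i hi => by
    obtain ⟨θ⟩ := nonempty_HD_Lpull g K i
    exact ((Scheme.Modules.pullback g).map_isZero (isZero_of_isGE K a i hi)).of_iso θ

theorem isLE_Lpull (K : DCoh.D Y) (b : ℤ) (h : K.IsLE b) : ((DCoh.Lpull g).obj K).IsLE b :=
  (isLE_iff _ _).2 fun i hi => by
    obtain ⟨θ⟩ := nonempty_HD_Lpull g K i
    exact ((Scheme.Modules.pullback g).map_isZero (isZero_of_isLE K b i hi)).of_iso θ

end Flat

section Push

open Groth.Agent.Lib.SpecSeq.RightHom Groth.Agent.Lib.SpecSeq.AcyclicComplex Groth.Agent.Lib.WayOut.Bounded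

variable {X S : Scheme.{u}} (f : X ⟶ S) [DCoh.HasRpush f]

theorem isGE_Rpush (K : DCoh.D X) (a : ℤ) (h : K.IsGE a) : ((DCoh.Rpush f).obj K).IsGE a :=
  (isGE_iff _ _).2 fun i hi => by
    haveI := h
    obtain ⟨θ⟩ := RpushQCoh.nonempty_HD_Rpush f K i
    exact (isZero_RH_of_isGE (RpushQCoh.P f) K a i hi).of_iso θ

/-- Local uniform vanishing. -/
theorem exists_bound_stalk [QuasiCompact f] [QuasiSeparated f] (s : S) :
    ∃ N : ℕ, ∀ (E : DCoh.D X) (b : ℤ), DCoh.IsQCohD E → E.IsLE b → ∀ m : ℤ, b + N + 1 ≤ m →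
      Subsingleton ((DCoh.HD ((DCoh.Rpush f).obj E) m).presheaf.stalk s) := by
  obtain ⟨V, hV, hsV, -⟩ := exists_isAffineOpen_mem_and_subset (X := S) (x := s) (U := ⊤) trivial
  obtain ⟨N, hN⟩ := RpushQCoh.exists_bound_RH (f ∣_ V) hV
  refine ⟨N, fun E b hE hEb m hm => ?_⟩
  haveI := hEb
  obtain ⟨θ⟩ := RpushQCoh.nonempty_restrict_HD f E V m
  have hle : ((Perfect.Basic.RD (f ⁻¹ᵁ V).ι).obj E).IsLE b := (isLE_iff _ _).2 fun i hi =>
    ((Scheme.Modules.restrictFunctor (f ⁻¹ᵁ V).ι).map_isZero (isZero_of_isLE E b i hi)).of_iso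
      (Perfect.Coherent.homologyIso _ E i)
  have hz := (hN _ b (RpushQCoh.isQCohD_restrict hE _) hle m hm).of_iso θ
  have h1 := Modules.Stalk.isZero_iff_stalk_subsingleton.1 hz ⟨s, hsV⟩
  exact (Modules.StalkRestrict.restrictStalkAddEquiv V.ι (DCoh.HD ((DCoh.Rpush f).obj E) m)
    ⟨s, hsV⟩).symm.injective.subsingleton

end Push

variable {X S S' X' : Scheme.{u}} (f : X ⟶ S) (g : S' ⟶ S) (f' : X' ⟶ S') (g' : X' ⟶ X)
  (w : g' ≫ f = f' ≫ g)
  [DCoh.HasLpull f] [DCoh.HasLpull g] [DCoh.HasLpull f'] [DCoh.HasLpull g']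
  [DCoh.HasRpush f] [DCoh.HasRpush g] [DCoh.HasRpush f'] [DCoh.HasRpush g']

/-- The criterion on K-injective complexes. -/
theorem isIso_bcD_of_quasiIso [Flat g] [Flat g'] (I : CochainComplex X.Modules ℤ) [I.IsKInjective]
    {J : CochainComplex X'.Modules ℤ} [J.IsKInjective] (t : (pullC g').obj I ⟶ J) [QuasiIso t]
    [QuasiIso (BCSquare.bcCx f g f' g' w I ≫ (GammaAcyclic.pushC f').map t)] :
    IsIso ((BCSquare.bcD f g f' g' w).app (DerivedCategory.Q.obj I)) := by
  have h := BCSquare.bcD_fac f g f' g' w I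
  haveI := UnitCx.isIso_unitCx_of_isKInjective f I
  haveI := UnitCx.isIso_unitCx_of_isKInjective f' J
  haveI := isIso_counitCx g ((GammaAcyclic.pushC f).obj I)
  haveI := isIso_counitCx g' I
  have hn := (UnitCx.unitCx f').naturality t
  dsimp at hn
  haveI : IsIso ((DCoh.Rpush f').map (DerivedCategory.Q.map t)) := inferInstance
  have h2 : IsIso (DerivedCategory.Q.map (BCSquare.bcCx f g f' g' w I) ≫
      (UnitCx.unitCx f').app ((pullC g').obj I)) := by
    have e : (DerivedCategory.Q.map (BCSquare.bcCx f g f' g' w I) ≫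
        (UnitCx.unitCx f').app ((pullC g').obj I)) ≫ (DCoh.Rpush f').map (DerivedCategory.Q.map t) =
        DerivedCategory.Q.map (BCSquare.bcCx f g f' g' w I ≫ (GammaAcyclic.pushC f').map t) ≫
          (UnitCx.unitCx f').app J := by
      rw [Category.assoc, Functor.map_comp, Category.assoc]
      exact congrArg (_ ≫ ·) hn.symm
    haveI : IsIso ((DerivedCategory.Q.map (BCSquare.bcCx f g f' g' w I) ≫
        (UnitCx.unitCx f').app ((pullC g').obj I)) ≫ (DCoh.Rpush f').map (DerivedCategory.Q.map t)) := by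
      rw [e]
      infer_instance
    exact IsIso.of_isIso_comp_right _ ((DCoh.Rpush f').map (DerivedCategory.Q.map t))
  have h3 : IsIso ((DCoh.Lpull g).map ((UnitCx.unitCx f).app I) ≫
      (BCSquare.bcD f g f' g' w).app (DerivedCategory.Q.obj I) ≫
      (DCoh.Rpush f').map ((counitCx g').app I)) := by
    rw [h]
    exact @IsIso.comp_isIso _ _ _ _ _ _ _ inferInstance h2
  haveI := h3
  haveI : IsIso ((BCSquare.bcD f g f' g' w).app (DerivedCategory.Q.obj I) ≫
      (DCoh.Rpush f').map ((counitCx g').app I)) :=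
    IsIso.of_isIso_comp_left ((DCoh.Lpull g).map ((UnitCx.unitCx f).app I)) _
  exact IsIso.of_isIso_comp_right _ ((DCoh.Rpush f').map ((counitCx g').app I))

variable [QuasiCompact f] [QuasiSeparated f] [Flat g]

/-- Objects concentrated in one degree. -/
theorem isIso_bcD_single (hsq : IsPullback g' f' f g) (Y : DCoh.D X) (hY : DCoh.IsQCohD Y) (q : ℤ)
    [Y.IsGE q] [Y.IsLE q] : IsIso ((BCSquare.bcD f g f' g' w).app Y) := by
  haveI : Flat g' := MorphismProperty.of_isPullback hsq.flip inferInstance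
  haveI := Flat.preservesFiniteLimits_pullback g'
  haveI := preservesFiniteColimits_pullback g'
  haveI : HasInjectiveResolutions X.Modules := inferInstance
  obtain ⟨M, ⟨e⟩⟩ := exists_iso_singleFunctor_obj_of_isGE_of_isLE Y q
  haveI hM : M.IsQuasicoherent := (Groth.Agent.Lib.WayOut.Scheme.qc X).prop_of_iso
    ((homologyFunctor _ q).mapIso e ≪≫ (singleFunctorCompHomologyFunctorIso _ q).app M) (hY q)
  let R := injectiveResolution M
  haveI := CochainComplex.isKInjective_of_injective R.cochainComplex 0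
  let R' := injectiveResolution ((Scheme.Modules.pullback g').obj M)
  haveI := CochainComplex.isKInjective_of_injective R'.cochainComplex 0
  haveI := (CochainComplex.isKInjective_shift_iff R.cochainComplex (-q)).2 inferInstance
  haveI := (CochainComplex.isKInjective_shift_iff R'.cochainComplex (-q)).2 inferInstance
  haveI : IsIso (DerivedCategory.Q.map R.ι') :=
    (DerivedCategory.isIso_Q_map_iff_quasiIso _ R.ι').2 inferInstance
  let eI : DerivedCategory.Q.obj (R.cochainComplex⟦-q⟧) ≅ Y :=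
    (DerivedCategory.Q.commShiftIso (-q)).app R.cochainComplex ≪≫
      (shiftFunctor (DCoh.D X) (-q)).mapIso ((asIso (DerivedCategory.Q.map R.ι')).symm ≪≫
        ((DerivedCategory.singleFunctorIsoCompQ X.Modules 0).app M).symm) ≪≫
      ((DerivedCategory.singleFunctors _).shiftIso (-q) q 0 (by lia)).app M ≪≫ e.symm
  obtain ⟨φ, h0, hbc⟩ := BCLiftAll.exists_lift_all f g f' g' w M
  haveI hqis : QuasiIso (BCResolution.χ0 f g f' w φ) := ⟨fun n => by
    rw [quasiIsoAt_iff_isIso_homologyMap]
    haveI := Flat.isIso_bcQ f g g' f' hsq M n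
    exact BCResolution.isIso_homologyMap_χ0 f g f' w φ n (hbc n)⟩
  haveI := BCResolution.quasiIso_θ φ h0
  haveI := BCResolution.quasiIso_χ f g f' w φ
  let t := ((pullC g').commShiftIso (-q)).hom.app R.cochainComplex ≫ (BCResolution.θ φ)⟦-q⟧'
  haveI : QuasiIso t :=
    BCResolution.quasiIso_iso_comp (((pullC g').commShiftIso (-q)).app R.cochainComplex) _
      ((CochainComplex.quasiIso_shift_iff (BCResolution.θ φ) (-q)).2 inferInstance)
  haveI := BCResolution.quasiIso_χ_shift f g f' w (BCResolution.θ φ) (-q)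
  exact (NatTrans.isIso_app_iff_of_iso (BCSquare.bcD f g f' g' w) eI).1
    (isIso_bcD_of_quasiIso f g f' g' w (R.cochainComplex⟦-q⟧) t)

/-- **Flat base change.** -/
theorem isIso_bcD (hsq : IsPullback g' f' f g) (E : DCoh.D X) (hE : DCoh.IsQCohD E) :
    IsIso ((BCSquare.bcD f g f' g' w).app E) := by
  haveI : Flat g' := MorphismProperty.of_isPullback hsq.flip inferInstance
  haveI : QuasiCompact f' := MorphismProperty.of_isPullback hsq inferInstance
  haveI : QuasiSeparated f' := MorphismProperty.of_isPullback hsq inferInstance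
  let ag := PullPushAdj.derivedAdjunction g
  letI : (DCoh.Lpull g).CommShift ℤ := ag.leftAdjointCommShift ℤ
  haveI : ag.CommShift ℤ := ag.commShift_of_rightAdjoint ℤ
  haveI : (DCoh.Lpull g).IsTriangulated := ag.isTriangulated_leftAdjoint
  let ag' := PullPushAdj.derivedAdjunction g'
  letI : (DCoh.Lpull g').CommShift ℤ := ag'.leftAdjointCommShift ℤ
  haveI : ag'.CommShift ℤ := ag'.commShift_of_rightAdjoint ℤ
  haveI : (DCoh.Lpull g').IsTriangulated := ag'.isTriangulated_leftAdjoint
  refine WayOutIso.isIso_app (P := Groth.Agent.Lib.WayOut.Scheme.qc X) (DCoh.Rpush f ⋙ DCoh.Lpull g)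
    (DCoh.Lpull g' ⋙ DCoh.Rpush f') (BCSquare.bcD f g f' g' w)
    (fun s : S' => Modules.Stalk.stalkFunctor S' s)
    (fun φ h => (Modules.Stalk.isIso_iff_stalk φ).2 h)
    (fun Y q hY h1 h2 => haveI := h1; haveI := h2; isIso_bcD_single f g f' g' w hsq Y hY q)
    (fun Y a h => isGE_Lpull g _ a (isGE_Rpush f Y a h))
    (fun Y a h => isGE_Rpush f' _ a (isGE_Lpull g' Y a h)) (fun s => ?_) (fun s => ?_) E hE
  · obtain ⟨N, hN⟩ := exists_bound_stalk f (g.base s)
    refine ⟨N, fun Y b hY hb n hn => ?_⟩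
    haveI := hN Y b hY hb n hn
    obtain ⟨θ⟩ := nonempty_HD_Lpull g ((DCoh.Rpush f).obj Y) n
    refine IsZero.of_iso ?_ ((Modules.Stalk.stalkFunctor S' s).mapIso θ)
    haveI : Subsingleton ((Modules.StalkModule.stalkModFunctor S (g.base s)).obj
        (DCoh.HD ((DCoh.Rpush f).obj Y) n)) := ‹_›
    have z := ((ModuleCat.extendScalars.{u, u, u} (g.stalkMap s).hom).map_isZero
      (ModuleCat.isZero_of_subsingleton _)).of_iso
        ((PullbackStalk.pullbackStalkIso g s).app (DCoh.HD ((DCoh.Rpush f).obj Y) n)).symm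
    exact (forget₂ (ModuleCat.{u} (S'.presheaf.stalk s)) AddCommGrpCat.{u}).map_isZero z
  · obtain ⟨N, hN⟩ := exists_bound_stalk f' s
    refine ⟨N, fun Y b hY hb n hn => ?_⟩
    haveI := hN _ b (LpullQCoh.isQCohD_Lpull g' Y hY) (isLE_Lpull g' Y b hb) n hn
    exact @AddCommGrpCat.isZero_of_subsingleton _ (hN _ b (LpullQCoh.isQCohD_Lpull g' Y hY) (isLE_Lpull g' Y b hb) n hn)

end Groth.Agent.Lib.DerivedOX.BCFlat
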