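import Groth.Prelude.Def_DTor2
import Mathlib.RingTheory.Flat.Stability
import Groth.Agent.Lib.DerivedOX.PullbackQis
import Groth.Agent.Lib.DerivedOX.PullPushAdj
import Groth.Agent.Lib.TensorCx.Vanish

/-!
# The derived tensor product with a module on bounded above flat complexes, tor amplitude
-/

universe u

open CategoryTheory Limits AlgebraicGeometry MonoidalCategory

attribute [local instance] HasDerivedCategory.standard

set_option linter.style.haveILetI false

namespace Groth.Agent.Lib.DerivedOX.Amplitude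

open Groth.Agent.Lib.Modules StalkModule StalkCx

variable {X Y : Scheme.{u}}

/-- Bounded above complexes of flat modules are K-flat. -/
theorem isKFlat_of_bounded (K : CochainComplex X.Modules ℤ) (b : ℤ)
    (hz : ∀ i, b < i → IsZero (K.X i)) (hflat : ∀ n, FlatMod.IsFlat (K.X n)) : DCoh.IsKFlat K := by
  refine (KFlatStalk.isKFlat_iff_stalk K).2 fun x => ?_
  refine (isKFlat_iff_left _).2 fun M hM q => ?_
  exact (HomologicalComplex.exactAt_iff_isZero_homology _ _).2
    (TensorCx.Vanish.isZero_homology_of_acyclic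
      (L := ((stalkModFunctor X x).mapHomologicalComplex (ComplexShape.up ℤ)).obj K)
      (fun i => hflat i x) b (fun i hi => (stalkModFunctor X x).map_isZero (hz i hi)) hM q)

/-- Termwise `- ⊗ F`. -/
noncomputable abbrev tens (F : X.Modules) :
    CochainComplex X.Modules ℤ ⥤ CochainComplex X.Modules ℤ :=
  (DCoh.tensorRightMod F).mapHomologicalComplex (ComplexShape.up ℤ)

/-- `- ⊗ F` preserves quasi-isomorphisms between K-flat complexes. -/
theorem quasiIso_tens (F : X.Modules) {P Q : CochainComplex X.Modules ℤ} (α : P ⟶ Q) [QuasiIso α]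
    (hP : DCoh.IsKFlat P) (hQ : DCoh.IsKFlat Q) : QuasiIso ((tens F).map α) := by
  rw [Qis.quasiIso_iff_forall_stalk]
  intro x
  let N := ModuleCat.of (X.presheaf.stalk x) (F.presheaf.stalk x)
  let e : DCoh.tensorRightMod F ⋙ stalkModFunctor X x ≅ stalkModFunctor X x ⋙ tensorLeft N :=
    (TensorSheaf.tensorRightStalkIso x F :) ≪≫
      Functor.isoWhiskerLeft _ (BraidedCategory.tensorLeftIsoTensorRight N).symm
  let ψ : (DCoh.tensorRightMod F ⋙ stalkModFunctor X x).mapHomologicalComplex (ComplexShape.up ℤ) ≅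
      (stalkModFunctor X x ⋙ tensorLeft N).mapHomologicalComplex (ComplexShape.up ℤ) :=
    NatIso.mapHomologicalComplex e _
  exact (quasiIso_iff_of_arrow_mk_iso _ _
    (Arrow.isoMk (ψ.app P) (ψ.app Q) (ψ.hom.naturality α).symm)).2
    (PullbackQis.quasiIso_tensorLeft_stalk α hP hQ x N)

theorem isAdapted_tensorModKh (F : X.Modules) :
    LeftDerived.IsAdapted (HomologicalComplex.quasiIso X.Modules (.up ℤ))
      (HomotopyCategory.quotient X.Modules (.up ℤ) ⋙ DCoh.tensorModKh F) (KFlat.res X) (KFlat.aug X) :=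
  LeftExists.isAdapted_onCx (DCoh.tensorRightMod F)
    fun hP hQ g _ => LeftExists.quasiIso_tensorRightMod F hP hQ g

/-- `- ⊗^L F` on a K-flat complex is computed termwise. -/
theorem nonempty_ltensor_iso (F : X.Modules) [DCoh.HasLTensorMod F]
    {E : CochainComplex X.Modules ℤ} (hE : DCoh.IsKFlat E) :
    Nonempty ((DCoh.LTensorMod F).obj (DCoh.toD X E) ≅ DCoh.toD X ((tens F).obj E)) := by
  haveI : QuasiIso ((KFlat.aug X).app E) := KFlat.quasiIso_aug E
  haveI := quasiIso_tens F ((KFlat.aug X).app E) (KFlat.isKFlat_res E) hE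
  haveI := LeftDerived.isIso_khCounit_app (isAdapted_tensorModKh F) (DCoh.LTensorMod F)
    ((DCoh.tensorModKh F).totalLeftDerivedCounit DerivedCategory.Qh
      (HomotopyCategory.quasiIso X.Modules (.up ℤ))) E
    (LeftExists.isIso_onCx_map (DCoh.tensorRightMod F) ((KFlat.aug X).app E))
  exact ⟨(DCoh.LTensorMod F).mapIso ((DerivedCategory.quotientCompQhIso X.Modules).app E).symm ≪≫
    asIso (((DCoh.tensorModKh F).totalLeftDerivedCounit DerivedCategory.Qh
      (HomotopyCategory.quasiIso X.Modules (.up ℤ))).app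
        ((HomotopyCategory.quotient X.Modules (.up ℤ)).obj E)) ≪≫
    (LeftExists.onCxIso (DCoh.tensorRightMod F)).app E⟩

/-- The cohomology sheaves of a complex. -/
noncomputable def hdQ (Z : CochainComplex X.Modules ℤ) (i : ℤ) :
    DCoh.HD (DCoh.toD X Z) i ≅ Z.homology i :=
  (DerivedCategory.homologyFunctorFactors X.Modules i).app Z

/-- Cohomology of `K ⊗^L F` from a K-flat representative. -/
theorem isZero_hd_ltensor_iff (F : X.Modules) [DCoh.HasLTensorMod F]
    {E : CochainComplex X.Modules ℤ} (hE : DCoh.IsKFlat E) {K : DCoh.D X} (e : DCoh.toD X E ≅ K) (i : ℤ) :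
    IsZero (DCoh.HD ((DCoh.LTensorMod F).obj K) i) ↔ ((tens F).obj E).ExactAt i := by
  obtain ⟨e'⟩ := nonempty_ltensor_iso F hE
  rw [HomologicalComplex.exactAt_iff_isZero_homology]
  exact Iso.isZero_iff ((DerivedCategory.homologyFunctor X.Modules i).mapIso
    ((DCoh.LTensorMod F).mapIso e.symm ≪≫ e') ≪≫ hdQ _ i)

/-- Flat amplitude implies tor amplitude. -/
theorem torAmp_of_flatAmp {K : DCoh.D X} {a b : ℤ} (h : DCoh.HasFlatAmplitudeIn a b K) :
    DCoh.HasTorAmplitudeIn a b K := by
  obtain ⟨E, hE, hflat, ⟨e⟩⟩ := h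
  intro F _ i hi
  refine (isZero_hd_ltensor_iff F (isKFlat_of_bounded E b (fun j hj => hE j (Or.inr hj)) hflat) e i).2 ?_
  exact HomologicalComplex.ExactAt.of_isZero ((DCoh.tensorRightMod F).map_isZero (hE i hi))

/-- Tor amplitude passes to retracts. -/
theorem torAmp_retract {K L : DCoh.D X} (r : Retract K L) {a b : ℤ}
    (h : DCoh.HasTorAmplitudeIn a b L) : DCoh.HasTorAmplitudeIn a b K := by
  intro F _ i hi
  let r' := (r.map (DCoh.LTensorMod F)).map (DerivedCategory.homologyFunctor X.Modules i)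
  rw [IsZero.iff_id_eq_zero, ← r'.retract, (h F i hi).eq_of_tgt r'.i 0, zero_comp]

/-- Stalkwise flat modules pull back to flat modules. -/
theorem isFlat_pullback (f : X ⟶ Y) {M : Y.Modules} (hM : FlatMod.IsFlat M) :
    FlatMod.IsFlat ((Scheme.Modules.pullback f).obj M) := fun x => by
  letI : Algebra (Y.presheaf.stalk (f.base x)) (X.presheaf.stalk x) := (f.stalkMap x).hom.toAlgebra
  haveI : Module.Flat (Y.presheaf.stalk (f.base x)) (M.presheaf.stalk (f.base x)) := hM (f.base x)
  haveI : Module.Flat (X.presheaf.stalk x)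
      (TensorProduct (Y.presheaf.stalk (f.base x)) (X.presheaf.stalk x) (M.presheaf.stalk (f.base x))) :=
    Module.Flat.baseChange ..
  let e : ((Scheme.Modules.pullback f).obj M).presheaf.stalk x ≃ₗ[X.presheaf.stalk x]
      TensorProduct (Y.presheaf.stalk (f.base x)) (X.presheaf.stalk x) (M.presheaf.stalk (f.base x)) :=
    ((PullbackStalk.pullbackStalkIso f x).app M).symm.toLinearEquiv
  exact Module.Flat.of_linearEquiv e

/-- The derived pullback preserves flat amplitude. -/
theorem flatAmp_Lpull (f : X ⟶ Y) [DCoh.HasLpull f] {K : DCoh.D Y} {a b : ℤ}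
    (h : DCoh.HasFlatAmplitudeIn a b K) : DCoh.HasFlatAmplitudeIn a b ((DCoh.Lpull f).obj K) := by
  obtain ⟨E, hE, hflat, ⟨e⟩⟩ := h
  have hK := isKFlat_of_bounded E b (fun j hj => hE j (Or.inr hj)) hflat
  haveI := PullPushAdj.isIso_counit_app_of_isKFlat f (DCoh.Lpull f)
    ((PullPushAdj.pullK f).totalLeftDerivedCounit DerivedCategory.Qh
      (HomotopyCategory.quasiIso Y.Modules (.up ℤ))) hK
  refine ⟨((Scheme.Modules.pullback f).mapHomologicalComplex (.up ℤ)).obj E,
    fun i hi => (Scheme.Modules.pullback f).map_isZero (hE i hi), fun i => isFlat_pullback f (hflat i),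
    ⟨((LeftExists.onCxIso (Scheme.Modules.pullback f)).app E).symm ≪≫
      (asIso (((PullPushAdj.pullK f).totalLeftDerivedCounit DerivedCategory.Qh
        (HomotopyCategory.quasiIso Y.Modules (.up ℤ))).app
          ((HomotopyCategory.quotient Y.Modules (.up ℤ)).obj E))).symm ≪≫
      (DCoh.Lpull f).mapIso ((DerivedCategory.quotientCompQhIso Y.Modules).app E ≪≫ e)⟩⟩

end Groth.Agent.Lib.DerivedOX.Amplitude
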