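import Groth.Agent.Lib.DerivedOX.BCMain
import Groth.Agent.Lib.DerivedOX.Amplitude
import Groth.Agent.Lib.DerivedOX.QCohLocal

/-!
# `- ⊗ G` on K-flat complexes: pullback, quasi-coherence, quasi-isomorphisms
-/

set_option autoImplicit false
set_option linter.style.haveILetI false
set_option linter.unusedSectionVars false
set_option maxHeartbeats 1000000

universe u

open CategoryTheory Limits AlgebraicGeometry

attribute [local instance] HasDerivedCategory.standard
attribute [local instance] Groth.Agent.Lib.DerivedOX.LeftExists.hasLpull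
  Groth.Agent.Lib.DerivedOX.Exists.hasRpush Groth.Agent.Lib.DerivedOX.LeftExists.hasLTensorMod

namespace Groth.Agent.Lib.DerivedOX.BCTens

open PullTranspose Amplitude

variable {X Y : Scheme.{u}}

/-- `a^*(- ⊗ G) ≅ a^*(-) ⊗ a^*G`. -/
noncomputable def pullTensNat (a : Y ⟶ X) (G : X.Modules) :
    DCoh.tensorRightMod G ⋙ Scheme.Modules.pullback a ≅
      Scheme.Modules.pullback a ⋙ DCoh.tensorRightMod ((Scheme.Modules.pullback a).obj G) :=
  (NatIso.ofComponents (fun M => (PullTensor.pullComparison a).iso M G)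
    (fun φ => (PullTensor.pullComparison a).natural₁ φ G)).symm

/-- The same on complexes. -/
noncomputable def pullTensC (a : Y ⟶ X) (G : X.Modules) (P : CochainComplex X.Modules ℤ) :
    (pullC a).obj ((tens G).obj P) ≅ (tens ((Scheme.Modules.pullback a).obj G)).obj ((pullC a).obj P) :=
  HomologicalComplex.Hom.isoOfComponents (fun i => (pullTensNat a G).app (P.X i))
    (fun i j _ => ((pullTensNat a G).hom.naturality (P.d i j)).symm)

theorem pullTensC_natural (a : Y ⟶ X) (G : X.Modules) {P Q : CochainComplex X.Modules ℤ} (s : P ⟶ Q) :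
    (pullC a).map ((tens G).map s) ≫ (pullTensC a G Q).hom =
      (pullTensC a G P).hom ≫ (tens ((Scheme.Modules.pullback a).obj G)).map ((pullC a).map s) := by
  ext i : 1
  exact (pullTensNat a G).hom.naturality (s.f i)

/-- `a^*(- ⊗ G)` preserves quasi-isomorphisms of K-flat complexes. -/
theorem quasiIso_pull_tens (a : Y ⟶ X) (G : X.Modules) {P Q : CochainComplex X.Modules ℤ} (s : P ⟶ Q)
    [QuasiIso s] (hP : DCoh.IsKFlat P) (hQ : DCoh.IsKFlat Q) :
    QuasiIso ((pullC a).map ((tens G).map s)) := by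
  haveI : QuasiIso ((pullC a).map s) := PullbackQis.quasiIso_pullback a s hP hQ
  haveI := quasiIso_tens ((Scheme.Modules.pullback a).obj G) ((pullC a).map s)
    (KFlatPullback.isKFlat_pullback a hP) (KFlatPullback.isKFlat_pullback a hQ)
  haveI : QuasiIso ((pullC a).map ((tens G).map s) ≫ (pullTensC a G Q).hom) := by
    rw [pullTensC_natural]
    infer_instance
  exact quasiIso_of_comp_right _ (pullTensC a G Q).hom

/-- Pullback of a K-flat complex with quasi-coherent cohomology. -/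
theorem isQCohD_pullC_of_isKFlat (a : Y ⟶ X) {P : CochainComplex X.Modules ℤ} (hP : DCoh.IsKFlat P)
    (h : DCoh.IsQCohD (DerivedCategory.Q.obj P)) :
    DCoh.IsQCohD (DerivedCategory.Q.obj ((pullC a).obj P)) := fun i => by
  haveI := PullTranspose.isIso_counitCx a hP
  exact (Groth.Agent.Lib.WayOut.Scheme.qc _).prop_of_iso
    ((DerivedCategory.homologyFunctor _ i).mapIso (asIso ((counitCx a).app P)))
    (QCohLocal.isQCohD_Lpull a h i)

/-- `Q(P ⊗ G)` only depends on the class of the K-flat complex `P`. -/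
theorem nonempty_tens_iso (G : X.Modules) {P Q : CochainComplex X.Modules ℤ} (hP : DCoh.IsKFlat P)
    (hQ : DCoh.IsKFlat Q) (e : DerivedCategory.Q.obj P ≅ DerivedCategory.Q.obj Q) :
    Nonempty (DerivedCategory.Q.obj ((tens G).obj P) ≅ DerivedCategory.Q.obj ((tens G).obj Q)) := by
  obtain ⟨eP⟩ := nonempty_ltensor_iso G hP
  obtain ⟨eQ⟩ := nonempty_ltensor_iso G hQ
  exact ⟨eP.symm ≪≫ (DCoh.LTensorMod G).mapIso e ≪≫ eQ⟩

open Perfect.Basic Perfect.Pullback in
/-- `P ⊗ G` has quasi-coherent cohomology. -/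
theorem isQCohD_tens (G : X.Modules) (hG : Coh.IsQCoh G) {P : CochainComplex X.Modules ℤ}
    (hP : DCoh.IsKFlat P) (hPq : DCoh.IsQCohD (DerivedCategory.Q.obj P)) :
    DCoh.IsQCohD (DerivedCategory.Q.obj ((tens G).obj P)) := fun i => by
  refine Perfect.QCohD.isQCoh_of_cover fun x => ?_
  obtain ⟨V, hV, hxV, -⟩ :=
    exists_isAffineOpen_mem_and_subset (X := X) (x := x) (U := ⊤) trivial
  let j := hV.fromSpec
  obtain ⟨P₁, hP₁, hq₁, ⟨e₁⟩⟩ := QCohLocal.exists_model _ _ (isQCohD_pullC_of_isKFlat j hP hPq)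
  obtain ⟨t⟩ := nonempty_tens_iso ((Scheme.Modules.pullback j).obj G) hP₁
    (KFlatPullback.isKFlat_pullback j hP) e₁
  let e : DerivedCategory.Q.obj ((tens ((Scheme.Modules.pullback j).obj G)).obj P₁) ≅
      (RD j).obj (DerivedCategory.Q.obj ((tens G).obj P)) :=
    t ≪≫ DerivedCategory.Q.mapIso (pullTensC j G P).symm ≪≫
      (DerivedCategory.Q.mapIso ((rCIso j).app _)).symm ≪≫ (RDQ j _).symm
  have hq : ∀ n, (((tens ((Scheme.Modules.pullback j).obj G)).obj P₁).X n).IsQuasicoherent := fun n => by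
    haveI := hq₁ n
    haveI : G.IsQuasicoherent := hG
    haveI := QCoh.Pullback.isQCoh_pullback j G
    exact TensorMod.TensorQCoh.isQCoh_tensorMod (P₁.X n) ((Scheme.Modules.pullback j).obj G)
  haveI : Coh.IsQCoh (DCoh.HD ((RD j).obj (DerivedCategory.Q.obj ((tens G).obj P))) i) :=
    QCohLocal.isQCoh_HD hq e i
  refine ⟨_, j, inferInstance, hV.isoSpec.hom ⟨x, hxV⟩, ?_,
    CohBasics.Closure.isQCoh_of_iso (Perfect.Coherent.homologyIso j _ i)⟩
  change (hV.isoSpec.hom ≫ hV.fromSpec) ⟨x, hxV⟩ = x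
  rw [hV.isoSpec_hom, IsAffineOpen.toSpecΓ_fromSpec]
  rfl

/-- Pullbacks of `P ⊗ G` have quasi-coherent cohomology. -/
theorem isQCohD_pull_tens (a : Y ⟶ X) (G : X.Modules) (hG : Coh.IsQCoh G)
    {P : CochainComplex X.Modules ℤ} (hP : DCoh.IsKFlat P)
    (hPq : DCoh.IsQCohD (DerivedCategory.Q.obj P)) :
    DCoh.IsQCohD (DerivedCategory.Q.obj ((pullC a).obj ((tens G).obj P))) := by
  haveI : G.IsQuasicoherent := hG
  exact BCMain.isQCohD_of_iso (pullTensC a G P).symm
    (isQCohD_tens _ (QCoh.Pullback.isQCoh_pullback a G) (KFlatPullback.isKFlat_pullback a hP)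
      (isQCohD_pullC_of_isKFlat a hP hPq))

/-- Isomorphic K-flat complexes in `D` are joined by quasi-isomorphisms of K-flat complexes. -/
theorem of_zigzag {P M : CochainComplex X.Modules ℤ} (hP : DCoh.IsKFlat P) (hM : DCoh.IsKFlat M)
    (e : DerivedCategory.Q.obj M ≅ DerivedCategory.Q.obj P)
    (C : CochainComplex X.Modules ℤ → Prop)
    (inv : ∀ {A B : CochainComplex X.Modules ℤ} (s : A ⟶ B), QuasiIso s → DCoh.IsKFlat A →
      DCoh.IsKFlat B → (C A ↔ C B))
    (h : C M) : C P := by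
  obtain ⟨I, i, hI, hi⟩ : ∃ (I : CochainComplex X.Modules ℤ) (i : P ⟶ I), I.IsKInjective ∧ QuasiIso i := by
    obtain ⟨I, hI, ⟨e'⟩⟩ := RightDerived.exists_resFunctor_obj_iso (DerivedCategory.Q.obj P)
    haveI := hI
    haveI := DerCat.HProd.isIso_counit (DerivedCategory.Q.obj P)
    let eI : DerivedCategory.Q.obj I ≅ DerivedCategory.Q.obj P :=
      (DerivedCategory.quotientCompQhIso _).symm.app I ≪≫ DerivedCategory.Qh.mapIso e' ≪≫
        asIso ((RightDerived.resAdj _).counit.app _)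
    obtain ⟨i, hi⟩ := TildeEquiv.exists_map_of_kinj eI.inv
    refine ⟨I, i, hI, (DerivedCategory.isIso_Q_map_iff_quasiIso _ i).1 ?_⟩
    rw [hi]
    infer_instance
  haveI := hI
  haveI := hi
  obtain ⟨b, hb⟩ := TildeEquiv.exists_map_of_kinj (e.hom ≫ DerivedCategory.Q.map i)
  haveI : QuasiIso b := (DerivedCategory.isIso_Q_map_iff_quasiIso _ b).1 (by rw [hb]; infer_instance)
  have hkf := fun K : CochainComplex X.Modules ℤ => KFlat.isKFlat_res (X := X) K
  refine (inv ((KFlat.aug X).app P) (KFlat.quasiIso_aug P) (hkf P) hP).1 ?_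
  refine (inv ((KFlat.res X).map i) (LeftExists.quasiIso_res_map i) (hkf P) (hkf I)).2 ?_
  refine (inv ((KFlat.res X).map b) (LeftExists.quasiIso_res_map b) (hkf M) (hkf I)).1 ?_
  exact (inv ((KFlat.aug X).app M) (KFlat.quasiIso_aug M) (hkf M) hM).2 h

end Groth.Agent.Lib.DerivedOX.BCTens
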