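import Groth.Agent.Lib.DerivedOX.TildeStalk
import Groth.Agent.Lib.Modules.TensorGen
import Groth.Agent.Lib.QCoh.Tilde
import Groth.Prelude.Def_DDual2
import Mathlib.LinearAlgebra.TensorProduct.Tower

/-!
# `tilde M ⊗ tilde G ≅ tilde (M ⊗ G)`, naturally in `M`
-/

set_option autoImplicit false
set_option linter.style.haveILetI false
set_option linter.unusedSectionVars false

universe u

open CategoryTheory Limits AlgebraicGeometry Opposite
open scoped TensorProduct

namespace Groth.Agent.Lib.DerivedOX.TildeTensor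

open Groth.Agent.Lib.Modules Groth.Agent.Lib.QCoh.Tilde

variable {R : CommRingCat.{u}} (G : ModuleCat.{u} R)

/-- The target functor. -/
noncomputable abbrev T : ModuleCat.{u} R ⥤ (Spec R).Modules :=
  tilde.functor R ⋙ DCoh.tensorRightMod ((tilde.functor R).obj G)

/-- Global sections of a pure tensor. -/
noncomputable def tm (M : ModuleCat.{u} R) (m : M) (y : G) : (specΓ R).obj ((T G).obj M) :=
  SecTwist.tmul (tilde M) ((tilde.functor R).obj G) ⊤ (tilde.toOpen M ⊤ m) (tilde.toOpen G ⊤ y)

/-- The scalar action on sections. -/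
noncomputable abbrev c (r : R) : Γ(Spec R, ⊤) := (Scheme.ΓSpecIso R).inv r

lemma smul_specΓ (P : (Spec R).Modules) (r : R) (t : (specΓ R).obj P) :
    r • t = (c r • (show Γ(P, ⊤) from t) : Γ(P, ⊤)) := rfl

lemma toOpen_smul (M : ModuleCat.{u} R) (r : R) (m : M) :
    (tilde.toOpen M ⊤ (r • m) : Γ(tilde M, ⊤)) = c r • (show Γ(tilde M, ⊤) from tilde.toOpen M ⊤ m) :=
  (tilde.toOpen M ⊤).hom.map_smul r m

lemma tm_add_left (M : ModuleCat.{u} R) (a b : M) (y : G) : tm G M (a + b) y = tm G M a y + tm G M b y := by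
  show (TensorGen.tg (tilde M) (P := (tilde.functor R).obj G) (U := ⊤) (tilde.toOpen G ⊤ y))
    ((tilde.toOpen M ⊤).hom (a + b)) = _
  exact (congrArg _ (map_add (tilde.toOpen M ⊤).hom a b)).trans (map_add _ _ _)

lemma tm_smul_left (M : ModuleCat.{u} R) (r : R) (a : M) (y : G) : tm G M (r • a) y = r • tm G M a y :=
  (congrArg (TensorGen.tg (tilde M) (P := (tilde.functor R).obj G) (U := ⊤) (tilde.toOpen G ⊤ y))
    (toOpen_smul M r a)).trans
    ((TensorGen.tg (tilde M) (P := (tilde.functor R).obj G) (U := ⊤) (tilde.toOpen G ⊤ y)).map_smul _ _)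

lemma tm_add_right (M : ModuleCat.{u} R) (m : M) (a b : G) : tm G M m (a + b) = tm G M m a + tm G M m b := by
  refine (congrArg (fun t => SecTwist.tmul (tilde M) ((tilde.functor R).obj G) ⊤ (tilde.toOpen M ⊤ m) t)
    (map_add (tilde.toOpen G ⊤).hom a b)).trans ?_
  rw [← Ample.GenLocus.pairM_id]
  erw [TensorMod.Pullback.pairM_add_right]
  rw [Ample.GenLocus.pairM_id, Ample.GenLocus.pairM_id]
  rfl

lemma tm_smul_right (M : ModuleCat.{u} R) (r : R) (m : M) (a : G) : tm G M m (r • a) = r • tm G M m a := by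
  refine (congrArg (fun t => SecTwist.tmul (tilde M) ((tilde.functor R).obj G) ⊤ (tilde.toOpen M ⊤ m) t)
    (toOpen_smul G r a)).trans ?_
  rw [← Ample.GenLocus.pairM_id]
  erw [TensorMod.Pullback.pairM_smul_right]
  rw [Ample.GenLocus.pairM_id]
  rfl

/-- The bilinear map to global sections. -/
noncomputable def bil (M : ModuleCat.{u} R) : M →ₗ[R] G →ₗ[R] ((specΓ R).obj ((T G).obj M)) :=
  LinearMap.mk₂ R (tm G M) (tm_add_left G M) (tm_smul_left G M) (tm_add_right G M) (tm_smul_right G M)

/-- Global sections of `M ⊗ G`. -/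
noncomputable def βlin (M : ModuleCat.{u} R) : M ⊗[R] G →ₗ[R] ((specΓ R).obj ((T G).obj M)) :=
  TensorProduct.lift (bil G M)

/-- The map to global sections of the tensor product. -/
noncomputable def β (M : ModuleCat.{u} R) :
    ((MonoidalCategory.tensorRight G).obj M) ⟶ (specΓ R).obj ((T G).obj M) :=
  ModuleCat.ofHom (X := M ⊗[R] G) (Y := (specΓ R).obj ((T G).obj M)) (βlin G M)

lemma β_tmul (M : ModuleCat.{u} R) (m : M) (y : G) :
    (β G M) (m ⊗ₜ[R] y) =
      SecTwist.tmul (tilde M) ((tilde.functor R).obj G) ⊤ (tilde.toOpen M ⊤ m) (tilde.toOpen G ⊤ y) := rfl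

/-- The comparison. -/
noncomputable def b (M : ModuleCat.{u} R) :
    (tilde.functor R).obj ((MonoidalCategory.tensorRight G).obj M) ⟶ (T G).obj M :=
  ((specAdj R).homEquiv _ _).symm (β G M)

lemma b_app (M : ModuleCat.{u} R) (z : ((MonoidalCategory.tensorRight G).obj M : ModuleCat.{u} R)) :
    (b G M).app ⊤ (tilde.toOpen _ ⊤ z) = (β G M) z :=
  ConcreteCategory.congr_hom ((((specAdj R).homEquiv_unit _ _ (b G M)).symm.trans
    (Equiv.apply_symm_apply _ _))) z

variable (x : Spec R)

lemma stalk_b (M : ModuleCat.{u} R) (m : M) (y : G) :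
    TensorSheaf.tensorStalk x (tilde M) ((tilde.functor R).obj G)
        (StalkModule.stalkMapₗ (b G M) x ((tilde.toStalk _ x).hom (m ⊗ₜ[R] y))) =
      (tilde.toStalk M x).hom m ⊗ₜ[TensorStalk.Ox x] (tilde.toStalk G x).hom y := by
  refine (congrArg _ ((StalkModule.stalkMapₗ_germ (b G M) (U := ⊤) (x := x) trivial
    (tilde.toOpen _ ⊤ (m ⊗ₜ[R] y))).trans (congrArg _ ((b_app G M _).trans (β_tmul G M m y))))).trans ?_
  exact TensorGen.tensorStalk_germ_tmul (M := tilde M) (P := (tilde.functor R).obj G) (x := x)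
    (U := ⊤) trivial (tilde.toOpen M ⊤ m) (tilde.toOpen G ⊤ y)

theorem bijective_stalk_b (M : ModuleCat.{u} R) :
    Function.Bijective (StalkModule.stalkMapₗ (b G M) x) := by
  letI : Algebra R ((Spec R).presheaf.stalk x) := StructureSheaf.stalkAlgebra R x
  haveI : IsLocalization.AtPrime ((Spec R).presheaf.stalk x) x.asIdeal :=
    StructureSheaf.IsLocalization.to_stalk R x
  have hst : ∀ N : ModuleCat.{u} R, IsScalarTower R ((Spec R).presheaf.stalk x) ((tilde N).presheaf.stalk x) :=
    fun N => .of_algebraMap_smul fun _ _ => rfl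
  haveI := hst M
  haveI := hst G
  haveI := hst ((MonoidalCategory.tensorRight G).obj M)
  have hb : ∀ (N : ModuleCat.{u} R) [IsScalarTower R ((Spec R).presheaf.stalk x) ((tilde N).presheaf.stalk x)],
      IsBaseChange ((Spec R).presheaf.stalk x) (tilde.toStalk N x).hom := fun N _ =>
    IsLocalizedModule.isBaseChange x.asIdeal.primeCompl ((Spec R).presheaf.stalk x) _
  let h₁ := hb ((MonoidalCategory.tensorRight G).obj M)
  let e : (tilde ((MonoidalCategory.tensorRight G).obj M)).presheaf.stalk x ≃ₗ[(Spec R).presheaf.stalk x]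
      (tilde M).presheaf.stalk x ⊗[(Spec R).presheaf.stalk x] (tilde G).presheaf.stalk x :=
    h₁.equiv.symm ≪≫ₗ
      TensorProduct.AlgebraTensorModule.distribBaseChange R ((Spec R).presheaf.stalk x) M G ≪≫ₗ
      TensorProduct.congr (hb M).equiv (hb G).equiv
  let L : (tilde ((MonoidalCategory.tensorRight G).obj M)).presheaf.stalk x →ₗ[(Spec R).presheaf.stalk x]
      (tilde M).presheaf.stalk x ⊗[(Spec R).presheaf.stalk x] (tilde G).presheaf.stalk x :=
    (TensorSheaf.tensorStalk x (tilde M) ((tilde.functor R).obj G)).toLinearMap.comp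
      (StalkModule.stalkMapₗ (b G M) x)
  have he : L = e.toLinearMap := h₁.algHom_ext _ _ fun z => by
    induction z using TensorProduct.induction_on with
    | zero => erw [map_zero, map_zero, map_zero]
    | tmul m y =>
      refine (stalk_b G x M m y).trans ?_
      have h2 : h₁.equiv.symm ((tilde.toStalk _ x).hom (m ⊗ₜ[R] y)) = 1 ⊗ₜ[R] (m ⊗ₜ[R] y) :=
        h₁.equiv_symm_apply _
      refine Eq.trans ?_ (congrArg (fun t => TensorProduct.congr (hb M).equiv (hb G).equiv
        (TensorProduct.AlgebraTensorModule.distribBaseChange R ((Spec R).presheaf.stalk x) M G t)) h2).symm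
      rw [TensorProduct.AlgebraTensorModule.distribBaseChange_tmul, TensorProduct.congr_tmul,
        IsBaseChange.equiv_tmul, IsBaseChange.equiv_tmul, one_smul, one_smul]
    | add a a' ha ha' => erw [map_add, map_add, map_add]; exact congrArg₂ (· + ·) ha ha'
  have hL : Function.Bijective L := by rw [he]; exact e.bijective
  exact (Function.Bijective.of_comp_iff'
    (TensorSheaf.tensorStalk x (tilde M) ((tilde.functor R).obj G)).bijective _).1 hL

theorem isIso_b (M : ModuleCat.{u} R) : IsIso (b G M) :=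
  (Modules.Stalk.isIso_iff_stalk _).2 fun x =>
    (ConcreteCategory.isIso_iff_bijective _).2 (bijective_stalk_b G x M)

theorem b_natural {M N : ModuleCat.{u} R} (φ : M ⟶ N) :
    (tilde.functor R).map ((MonoidalCategory.tensorRight G).map φ) ≫ b G N = b G M ≫ (T G).map φ := by
  refine Stalk.hom_ext_stalk fun x => ?_
  letI : Algebra R ((Spec R).presheaf.stalk x) := StructureSheaf.stalkAlgebra R x
  haveI : IsLocalization.AtPrime ((Spec R).presheaf.stalk x) x.asIdeal :=
    StructureSheaf.IsLocalization.to_stalk R x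
  haveI : IsScalarTower R ((Spec R).presheaf.stalk x)
      ((tilde ((MonoidalCategory.tensorRight G).obj M)).presheaf.stalk x) :=
    .of_algebraMap_smul fun _ _ => rfl
  have h₁ : IsBaseChange ((Spec R).presheaf.stalk x)
      (tilde.toStalk ((MonoidalCategory.tensorRight G).obj M) x).hom :=
    IsLocalizedModule.isBaseChange x.asIdeal.primeCompl ((Spec R).presheaf.stalk x) _
  let e := TensorSheaf.tensorStalk x (tilde N) ((tilde.functor R).obj G)
  suffices h : e.toLinearMap.comp (StalkModule.stalkMapₗ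
      ((tilde.functor R).map ((MonoidalCategory.tensorRight G).map φ) ≫ b G N) x) =
      e.toLinearMap.comp (StalkModule.stalkMapₗ (b G M ≫ (T G).map φ) x) from
    ConcreteCategory.hom_ext _ _ fun w => e.injective (LinearMap.congr_fun h w)
  refine h₁.algHom_ext _ _ fun z => ?_
  have e0 : ∀ (P : ModuleCat.{u} R) (Q : ModuleCat.{u} R) (ψ : P ⟶ Q) (w : P),
      StalkModule.stalkMapₗ ((tilde.functor R).map ψ) x ((tilde.toStalk P x).hom w) =
        (tilde.toStalk Q x).hom (ψ w) := fun P Q ψ w =>
    (StalkModule.stalkMapₗ_germ ((tilde.functor R).map ψ) (U := ⊤) (x := x) trivial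
      (tilde.toOpen P ⊤ w)).trans (congrArg ((tilde Q).presheaf.germ ⊤ x trivial)
        (ConcreteCategory.congr_hom (tilde.toOpen_map_app ψ ⊤) w))
  induction z using TensorProduct.induction_on with
  | zero => erw [map_zero, map_zero, map_zero]
  | tmul m y =>
    rw [StalkModule.stalkMapₗ_comp, StalkModule.stalkMapₗ_comp]
    refine (congrArg (fun t => e (StalkModule.stalkMapₗ (b G N) x t))
      (e0 _ _ ((MonoidalCategory.tensorRight G).map φ) (m ⊗ₜ[R] y))).trans ?_
    refine (stalk_b G x N (φ m) y).trans ?_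
    have hn := TensorSheaf.tensorStalk_natural x ((tilde.functor R).map φ)
      (𝟙 ((tilde.functor R).obj G))
      (StalkModule.stalkMapₗ (b G M) x ((tilde.toStalk _ x).hom (m ⊗ₜ[R] y)))
    rw [CategoryTheory.Functor.map_id, Category.comp_id, StalkModule.stalkMapₗ_id] at hn
    refine Eq.trans ?_ hn.symm
    refine Eq.trans ?_ (congrArg (TensorProduct.map (StalkModule.stalkMapₗ ((tilde.functor R).map φ) x)
      LinearMap.id) (stalk_b G x M m y)).symm
    exact congrArg (· ⊗ₜ[TensorStalk.Ox x] _) (e0 _ _ φ m).symm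
  | add a a' ha ha' => erw [map_add, map_add, map_add]; exact congrArg₂ (· + ·) ha ha'

/-- `tilde (M ⊗ G) ≅ tilde M ⊗ tilde G`. -/
noncomputable def tildeTensorIso :
    MonoidalCategory.tensorRight G ⋙ tilde.functor R ≅ T G :=
  haveI := fun M => isIso_b G M
  NatIso.ofComponents (fun M => asIso (b G M)) (fun φ => b_natural G φ)

end Groth.Agent.Lib.DerivedOX.TildeTensor
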