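import Groth.Agent.Lib.DerivedOX.BCBase
import Groth.Agent.Lib.DerivedOX.BCTens
import Groth.Agent.Lib.DerivedOX.TildeTensor

/-!
# Tor-independent base change on affine pieces

`isIso_ψ_tens`: the base change morphism at `P ⊗ G` is invertible for a K-flat complex `P` with
quasi-coherent cohomology and a quasi-coherent `G` tor independent of the base change.
-/

set_option autoImplicit false
set_option linter.style.haveILetI false
set_option linter.unusedSectionVars false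
set_option maxHeartbeats 1000000

universe u

open CategoryTheory Limits AlgebraicGeometry

attribute [local instance] HasDerivedCategory.standard
attribute [local instance] Groth.Agent.Lib.DerivedOX.LeftExists.hasLpull
  Groth.Agent.Lib.DerivedOX.Exists.hasRpush

namespace Groth.Agent.Lib.DerivedOX.BCLoc

open PullTranspose BCSquare BCCube Amplitude BCBase
open Groth.Agent.Lib.BettiExact.TorTensor Groth.Agent.Lib.DR

/-- Derived pullback along an isomorphism of schemes reflects isomorphisms. -/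
theorem isIso_of_map_Lpull {A B : Scheme.{u}} (k : A ⟶ B) [IsIso k] {E F : DCoh.D B} (φ : E ⟶ F)
    (h : IsIso ((DCoh.Lpull k).map φ)) : IsIso φ := by
  have w : 𝟙 B ≫ 𝟙 B = inv k ≫ k := (Category.id_comp _).trans (IsIso.inv_hom_id k).symm
  refine BCMV.isIso_of_isIso_map_id φ (BCMV.isIso_of_isIso_map_id _ ?_)
  refine (NatIso.isIso_map_iff (sqLeft (𝟙 B) k (inv k) (𝟙 B) w) φ).1 ?_
  dsimp only [Functor.comp_map]
  infer_instance

variable {X S S' X' : Scheme.{u}} (f : X ⟶ S) (g : S' ⟶ S) (f' : X' ⟶ S') (g' : X' ⟶ X)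

/-- Transport along a quasi-isomorphism preserved by `g'^*`. -/
theorem isIso_ψ_iff_of_qis (w : g' ≫ f = f' ≫ g) {A B : CochainComplex X.Modules ℤ} (s : A ⟶ B)
    [QuasiIso s] [QuasiIso ((pullC g').map s)] :
    IsIso ((ψ f g f' g' w).app A) ↔ IsIso ((ψ f g f' g' w).app B) := by
  haveI : IsIso (DerivedCategory.Q.map s) := inferInstance
  haveI : IsIso (DerivedCategory.Q.map ((pullC g').map s)) := inferInstance
  haveI h1 : IsIso ((DerivedCategory.Q ⋙ DCoh.Rpush f ⋙ DCoh.Lpull g).map s) := by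
    dsimp only [Functor.comp_map]; infer_instance
  haveI h2 : IsIso ((pullC g' ⋙ DerivedCategory.Q ⋙ DCoh.Rpush f').map s) := by
    dsimp only [Functor.comp_map]; infer_instance
  have h := (ψ f g f' g' w).naturality s
  exact (MorphismProperty.isomorphisms _).arrow_mk_iso_iff
    (Arrow.isoMk (asIso ((DerivedCategory.Q ⋙ DCoh.Rpush f ⋙ DCoh.Lpull g).map s))
      (asIso ((pullC g' ⋙ DerivedCategory.Q ⋙ DCoh.Rpush f').map s)) h)

/-- Transport along isomorphisms of schemes. -/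
theorem isIso_ψ_of_isos (hsq : IsPullback g' f' f g) [QuasiCompact f] [QuasiSeparated f]
    (F : CochainComplex X.Modules ℤ) (hF : DCoh.IsQCohD (DerivedCategory.Q.obj F))
    (hF' : DCoh.IsQCohD (DerivedCategory.Q.obj ((pullC g').obj F)))
    {X₀ S₀ S₀' : Scheme.{u}} (iX : X₀ ⟶ X) (iS : S₀ ⟶ S) (iS' : S₀' ⟶ S') [IsIso iX] [IsIso iS]
    [IsIso iS'] (f₀ : X₀ ⟶ S₀) (g₀ : S₀' ⟶ S₀) (w1 : iX ≫ f = f₀ ≫ iS) (w2 : g₀ ≫ iS = iS' ≫ g)
    (h : ∀ (f₀' : X' ⟶ S₀') (g₀' : X' ⟶ X₀) (sq : IsPullback g₀' f₀' f₀ g₀),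
      IsIso ((ψ f₀ g₀ f₀' g₀' sq.w).app ((pullC iX).obj F))) :
    IsIso ((ψ f g f' g' hsq.w).app F) := by
  haveI : QuasiCompact f' := MorphismProperty.of_isPullback hsq inferInstance
  haveI : QuasiSeparated f' := MorphismProperty.of_isPullback hsq inferInstance
  let f₀' : X' ⟶ S₀' := f' ≫ inv iS'
  let g₀' : X' ⟶ X₀ := g' ≫ inv iX
  have sq : IsPullback g₀' f₀' f₀ g₀ :=
    hsq.of_iso (Iso.refl _) (asIso iX).symm (asIso iS').symm (asIso iS).symm
      (by simp [g₀']) (by simp [f₀'])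
      (by simp [← cancel_mono iS, ← w1])
      (by simp [← cancel_mono iS, w2])
  have sqj : IsPullback iX f₀ f iS := IsPullback.of_horiz_isIso ⟨w1⟩
  have sqj' : IsPullback (𝟙 X') f₀' f' iS' := IsPullback.of_horiz_isIso ⟨by simp [f₀']⟩
  have wt : g₀' ≫ iX = 𝟙 X' ≫ g' := by simp [g₀']
  have c : Cube f g f' g' f₀ g₀ f₀' g₀' iS iS' iX (𝟙 X') :=
    ⟨hsq.w, sq.w, sqj.w, sqj'.w, w2, wt⟩
  have key := ψ_cube c F
  have i1 : IsIso ((ψ f iS f₀ iX sqj.w).app F) := by
    haveI := BCFlat.isIso_bcD f iS f₀ iX sqj.w sqj _ hF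
    haveI := BCFlat.isIso_counitCx iX F
    dsimp only [ψ]
    exact IsIso.comp_isIso' ‹IsIso ((bcD f iS f₀ iX sqj.w).app _)› inferInstance
  have i2 : IsIso ((ψ f' iS' f₀' (𝟙 X') sqj'.w).app ((pullC g').obj F)) := by
    haveI := BCFlat.isIso_bcD f' iS' f₀' (𝟙 X') sqj'.w sqj' _ hF'
    haveI := BCFlat.isIso_counitCx (𝟙 X') ((pullC g').obj F)
    dsimp only [ψ]
    exact IsIso.comp_isIso' ‹IsIso ((bcD f' iS' f₀' (𝟙 X') sqj'.w).app _)› inferInstance
  haveI := i1
  haveI := i2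
  haveI := h f₀' g₀' sq
  have h4 : IsIso ((DCoh.Lpull iS').map ((ψ f g f' g' c.w).app F) ≫
      (ψ f' iS' f₀' (𝟙 X') c.wj').app ((pullC g').obj F) ≫
      (DCoh.Rpush f₀').map (DerivedCategory.Q.map
        ((γC iX g' (𝟙 X') g₀' c.wt).hom.app F))) := by
    rw [key]
    infer_instance
  haveI := h4
  exact isIso_of_map_Lpull iS' _ (IsIso.of_isIso_comp_right _
    ((ψ f' iS' f₀' (𝟙 X') c.wj').app ((pullC g').obj F) ≫
    (DCoh.Rpush f₀').map (DerivedCategory.Q.map ((γC iX g' (𝟙 X') g₀' c.wt).hom.app F))))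

/-- The tor independence hypothesis on affine opens. -/
def TorLoc (G : X.Modules) : Prop :=
  ∀ (U : S.Opens) (_ : IsAffineOpen U) (U' : S'.Opens) (_ : IsAffineOpen U') (eU : U' ≤ g ⁻¹ᵁ U)
    (V : X.Opens) (hV : IsAffineOpen V) (eV : V ≤ f ⁻¹ᵁ U),
    ∃ N : ModuleCat.{u} Γ(X, V),
      Nonempty ((tilde.functor Γ(X, V)).obj N ≅ (Scheme.Modules.pullback hV.fromSpec).obj G) ∧
      BCAlg.TorInd (f.appLE U V eV).hom (g.appLE U U' eU).hom N

/-- An affine scheme mapped by an open immersion is the spectrum of the sections on its image. -/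
noncomputable def rangeChart {V Y : Scheme.{u}} [IsAffine V] (i : V ⟶ Y) [IsOpenImmersion i] :
    Spec Γ(Y, i.opensRange) ≅ V :=
  (isAffineOpen_opensRange i).isoSpec.symm ≪≫ i.isoOpensRange.symm

theorem rangeChart_hom_comp {V Y : Scheme.{u}} [IsAffine V] (i : V ⟶ Y) [IsOpenImmersion i] :
    (rangeChart i).hom ≫ i = (isAffineOpen_opensRange i).fromSpec := by
  rw [rangeChart, Iso.trans_hom, Iso.symm_hom, Iso.symm_hom, Category.assoc,
    Scheme.Hom.isoOpensRange_inv_comp, IsAffineOpen.isoSpec_inv_ι]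

theorem opensRange_le {V U Y Z : Scheme.{u}} (i : V ⟶ Y) [IsOpenImmersion i] (j : U ⟶ Z)
    [IsOpenImmersion j] (a : Y ⟶ Z) (b : V ⟶ U) (w : i ≫ a = b ≫ j) :
    i.opensRange ≤ a ⁻¹ᵁ j.opensRange := by
  rintro _ ⟨v, rfl⟩
  exact ⟨b v, by rw [← Scheme.Hom.comp_apply, ← w, Scheme.Hom.comp_apply]⟩

theorem rangeChart_square {V U Y Z : Scheme.{u}} [IsAffine V] [IsAffine U] (i : V ⟶ Y)
    [IsOpenImmersion i] (j : U ⟶ Z) [IsOpenImmersion j] (a : Y ⟶ Z) (b : V ⟶ U)
    (w : i ≫ a = b ≫ j) :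
    (rangeChart i).hom ≫ b =
      Spec.map (a.appLE j.opensRange i.opensRange (opensRange_le i j a b w)) ≫ (rangeChart j).hom := by
  rw [← cancel_mono j, Category.assoc, Category.assoc, rangeChart_hom_comp, ← w,
    reassoc_of% rangeChart_hom_comp i,
    IsAffineOpen.SpecMap_appLE_fromSpec a (isAffineOpen_opensRange j) (isAffineOpen_opensRange i)]

/-- `tilde M ⊗ tilde N = tilde (M ⊗ N)` on complexes. -/
noncomputable def tensTildeC {A : CommRingCat.{u}} (N : ModuleCat.{u} A)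
    (M : CochainComplex (ModuleCat.{u} A) ℤ) :
    (tildeC A).obj ((TorAmp.tens N).obj M) ≅ (tens ((tilde.functor A).obj N)).obj ((tildeC A).obj M) :=
  HomologicalComplex.Hom.isoOfComponents (fun i => (TildeTensor.tildeTensorIso N).app (M.X i))
    (fun i j _ => ((TildeTensor.tildeTensorIso N).hom.naturality (M.d i j)).symm)

/-- `- ⊗ G` only depends on `G` up to isomorphism. -/
noncomputable def tensModIso {Y : Scheme.{u}} {G G' : Y.Modules} (e : G ≅ G') :
    DCoh.tensorRightMod G ≅ DCoh.tensorRightMod G' :=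
  Functor.isoWhiskerLeft DCoh.toP (Functor.isoWhiskerRight
    ((MonoidalCategory.tensoringRight (CohB1.PMod Y)).mapIso (DCoh.toP.mapIso e)) DCoh.shP)

/-- The same on complexes. -/
noncomputable def tensCongr {Y : Scheme.{u}} {G G' : Y.Modules} (e : G ≅ G')
    (P : CochainComplex Y.Modules ℤ) : (tens G).obj P ≅ (tens G').obj P :=
  HomologicalComplex.Hom.isoOfComponents (fun i => (tensModIso e).app (P.X i))
    (fun i j _ => ((tensModIso e).hom.naturality (P.d i j)).symm)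

/-- On an affine piece, base change holds at `P ⊗ tilde N`. -/
theorem isIso_ψ_tilde_tens {R A R' : CommRingCat.{u}} (φ : R ⟶ A) (ψ₀ : R ⟶ R') {X' : Scheme.{u}}
    (f' : X' ⟶ Spec R') (g' : X' ⟶ Spec A) (sq : IsPullback g' f' (Spec.map φ) (Spec.map ψ₀))
    (N : ModuleCat.{u} A) (hN : BCAlg.TorInd φ.hom ψ₀.hom N)
    (P : CochainComplex (Spec A).Modules ℤ) (hP : DCoh.IsKFlat P)
    (hPq : DCoh.IsQCohD (DerivedCategory.Q.obj P)) :
    IsIso ((ψ (Spec.map φ) (Spec.map ψ₀) f' g' sq.w).app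
      ((tens ((tilde.functor A).obj N)).obj P)) := by
  obtain ⟨E₀, ⟨e₀⟩⟩ := TildeEquiv.exists_preimage A _ hPq
  let E := DerivedCategory.Q.objPreimage E₀
  haveI := KProjRes.quasiIso_aug A E
  let M := (KProjRes.res A).obj E
  let G₀ := (tilde.functor A).obj N
  let e : DerivedCategory.Q.obj ((tildeC A).obj M) ≅ DerivedCategory.Q.obj P :=
    ((tilde.functor A).mapDerivedCategoryFactors.app _).symm ≪≫
      (DCoh.tildeD A).mapIso (asIso (DerivedCategory.Q.map ((KProjRes.aug A).app E)) ≪≫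
        DerivedCategory.Q.objObjPreimageIso E₀) ≪≫ e₀
  refine BCTens.of_zigzag hP (TildeStalk.isKFlat_tilde A (DR.KFlat.isKFlat_res E)) e
    (fun Z => IsIso ((ψ (Spec.map φ) (Spec.map ψ₀) f' g' sq.w).app ((tens G₀).obj Z))) ?_ ?_
  · intro Z₁ Z₂ s hs hZ₁ hZ₂
    haveI := hs
    haveI := quasiIso_tens G₀ s hZ₁ hZ₂
    haveI := BCTens.quasiIso_pull_tens g' G₀ s hZ₁ hZ₂
    exact isIso_ψ_iff_of_qis _ _ _ _ sq.w ((tens G₀).map s)
  · refine (NatTrans.isIso_app_iff_of_iso (ψ (Spec.map φ) (Spec.map ψ₀) f' g' sq.w)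
      (tensTildeC N M)).1 ?_
    let C := (resC φ.hom).obj ((TorAmp.tens N).obj M)
    haveI : QuasiIso ((KProjRes.aug R).app C) := KProjRes.quasiIso_aug R C
    exact isIso_ψ_tilde φ ψ₀ f' g' sq _ (DR.KFlat.isKFlat_res C) ((KProjRes.aug R).app C)
      (BCAlg.quasiIso_extC hN (DR.KFlat.isKFlat_res E) (DR.KFlat.isKFlat_res C)
        ((KProjRes.aug R).app C))

variable {f g f' g'}

/-- Base change holds on all affine pieces. -/
theorem loc_tens (G : X.Modules) (hG : Coh.IsQCoh G) (hT : TorLoc f g G)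
    (P : CochainComplex X.Modules ℤ) (hP : DCoh.IsKFlat P)
    (hPq : DCoh.IsQCohD (DerivedCategory.Q.obj P)) : BCMain.Loc f g ((tens G).obj P) := by
  intro V U U' V' _ _ _ j j' jX _ _ _ fU gU fU' gU' w1 w2 sq
  have hF : DCoh.IsQCohD (DerivedCategory.Q.obj ((pullC jX).obj ((tens G).obj P))) :=
    BCTens.isQCohD_pull_tens jX G hG hP hPq
  have hF' : DCoh.IsQCohD (DerivedCategory.Q.obj
      ((pullC gU').obj ((pullC jX).obj ((tens G).obj P)))) :=
    BCMain.isQCohD_of_iso (BCMain.compC gU' jX _).symm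
      (BCTens.isQCohD_pull_tens (gU' ≫ jX) G hG hP hPq)
  refine isIso_ψ_of_isos fU gU fU' gU' sq _ hF hF' (rangeChart jX).hom (rangeChart j).hom
    (rangeChart j').hom _ _ (rangeChart_square jX j f fU w1)
    (rangeChart_square j' j g gU w2.symm).symm fun f₀' g₀' sq₀ => ?_
  obtain ⟨N, ⟨eN⟩, hN⟩ := hT j.opensRange (isAffineOpen_opensRange j) j'.opensRange
    (isAffineOpen_opensRange j') (opensRange_le j' j g gU w2.symm) jX.opensRange
    (isAffineOpen_opensRange jX) (opensRange_le jX j f fU w1)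
  let k := (rangeChart jX).hom ≫ jX
  let eN' : (tilde.functor Γ(X, jX.opensRange)).obj N ≅ (Scheme.Modules.pullback k).obj G :=
    eN ≪≫ (Scheme.Modules.pullbackCongr (rangeChart_hom_comp jX).symm).app G
  let eP : (tens ((tilde.functor Γ(X, jX.opensRange)).obj N)).obj ((pullC k).obj P) ≅
      (pullC (rangeChart jX).hom).obj ((pullC jX).obj ((tens G).obj P)) :=
    tensCongr eN' _ ≪≫
    (BCTens.pullTensC k G P).symm ≪≫ (BCMain.compC (rangeChart jX).hom jX _).symm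
  refine (NatTrans.isIso_app_iff_of_iso (ψ _ _ f₀' g₀' sq₀.w) eP).1 ?_
  exact isIso_ψ_tilde_tens _ _ f₀' g₀' sq₀ N hN _ (KFlatPullback.isKFlat_pullback k hP)
    (BCTens.isQCohD_pullC_of_isKFlat k hP hPq)

/-- **Tor-independent base change.** -/
theorem isIso_ψ_tens (hsq : IsPullback g' f' f g) [QuasiCompact f] [QuasiSeparated f] (G : X.Modules)
    (hG : Coh.IsQCoh G) (hT : TorLoc f g G) (P : CochainComplex X.Modules ℤ) (hP : DCoh.IsKFlat P)
    (hPq : DCoh.IsQCohD (DerivedCategory.Q.obj P)) :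
    IsIso ((ψ f g f' g' hsq.w).app ((tens G).obj P)) :=
  BCMain.isIso_ψ hsq _ (BCTens.isQCohD_tens G hG hP hPq) (BCTens.isQCohD_pull_tens g' G hG hP hPq)
    (loc_tens G hG hT P hP hPq)

end Groth.Agent.Lib.DerivedOX.BCLoc
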