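import Groth.Agent.Lib.DerivedOX.BCAlg
import Groth.Agent.Lib.DMod.TorIndepData

/-!
# Criteria for tor independence

`TorInd φ ψ N` holds when `N` is flat over `R`, and for `N = A` when the higher `Tor^R(R', A)` vanish.
-/

set_option autoImplicit false
set_option linter.style.haveILetI false
set_option linter.unusedSectionVars false
set_option maxHeartbeats 1000000

universe u

open CategoryTheory Limits HomologicalComplex MonoidalCategory

attribute [local instance] HasDerivedCategory.standard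

namespace Groth.Agent.Lib.DerivedOX.BCAlg

open Groth.Agent.Lib Groth.Agent.Lib.DR Groth.Agent.Lib.BettiExact.TorTensor
open Groth.Agent.Lib.DerivedOX.KFlatBaseChange Groth.Agent.Lib.DerivedOX.BifunctorMap

variable {R A R' : Type u} [CommRing R] [CommRing A] [CommRing R']

theorem comp' {C : Type*} [Category C] [Abelian C] {K L M : CochainComplex C ℤ} (a : K ⟶ L)
    (b : L ⟶ M) (_ : QuasiIso a) (_ : QuasiIso b) : QuasiIso (a ≫ b) :=
  quasiIso_comp a b

/-- A module flat over `R` is tor independent of everything. -/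
theorem torInd_of_flat (φ : R →+* A) (ψ : R →+* R') (N : ModuleCat.{u} A)
    (h : Module.Flat R ((resF φ).obj N)) : TorInd φ ψ N := by
  intro Q q _ hq
  refine LTensorCx.quasiIso_tensor_left ?_ q
  refine KFlat.isKFlat_of_iso
    ((singleMapHomologicalComplex (resF φ) (ComplexShape.up ℤ) 0).app N).symm ?_
  refine KFlat.isKFlat_of_flat _ 0 (fun i hi => isZero_single_obj_X _ 0 _ i (by omega)) fun i => ?_
  by_cases hi : i = 0
  · subst hi
    exact Module.Flat.of_linearEquiv
      (singleObjXSelf (ComplexShape.up ℤ) 0 ((resF φ).obj N)).toLinearEquiv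
  · haveI := ModuleCat.subsingleton_of_isZero
      (isZero_single_obj_X (ComplexShape.up ℤ) 0 ((resF φ).obj N) i hi)
    exact Module.Flat.of_linearEquiv (M := PUnit.{u + 1})
      (LinearEquiv.ofSubsingleton (R := R) (((single (ModuleCat.{u} R) (ComplexShape.up ℤ) 0).obj
        ((resF φ).obj N)).X i) PUnit.{u + 1})

/-- Vanishing of `Tor^R(R', A)` gives tor independence. -/
theorem torInd_of_tor (φ : R →+* A) (ψ : R →+* R')
    (h : ∀ p : ℕ, 1 ≤ p →
      Subsingleton (@DRing.Tor R _ p R' A _ ψ.toModule _ φ.toModule)) :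
    TorInd φ ψ (ModuleCat.of A A) := by
  intro Q q hQ hq
  letI : Algebra R R' := ψ.toAlgebra
  letI : Module R A := φ.toModule
  let R₁ : ModuleCat.{u} R := (resF ψ).obj (ModuleCat.of R' R')
  let X : ModuleCat.{u} R := ModuleCat.of R A
  let P : ProjectiveResolution X := projectiveResolution X
  haveI := DMod.TorIndepData.quasiIso_ext_π' (A := R') A P h
  haveI : QuasiIso ((extC ψ).map P.π') :=
    inferInstanceAs (QuasiIso ((DTen.extCx (algebraMap R R')).map P.π'))
  haveI : QuasiIso ((resC ψ).map ((extC ψ).map P.π')) := (quasiIso_resC_iff ψ _).2 inferInstance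
  let θ := NatIso.mapHomologicalComplex (resExtIso ψ) (ComplexShape.up ℤ)
  haveI : QuasiIso ((TorAmp.tens R₁).map P.π') := by
    have hn : (resC ψ).map ((extC ψ).map P.π') ≫ θ.hom.app (s₀ X) =
        θ.hom.app P.cochainComplex ≫ (TorAmp.tens R₁).map P.π' := θ.hom.naturality P.π'
    haveI : QuasiIso (θ.hom.app P.cochainComplex) :=
      inferInstanceAs (QuasiIso (θ.app P.cochainComplex).hom)
    have hθ : QuasiIso (θ.hom.app (s₀ X)) := inferInstanceAs (QuasiIso (θ.app (s₀ X)).hom)
    haveI : QuasiIso (θ.hom.app P.cochainComplex ≫ (TorAmp.tens R₁).map P.π') :=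
      hn ▸ comp' ((resC ψ).map ((extC ψ).map P.π')) (θ.hom.app (s₀ X)) inferInstance hθ
    exact quasiIso_of_comp_left (θ.hom.app P.cochainComplex) _
  haveI : QuasiIso (P.π' ▷ s₀ R₁) := by
    haveI : QuasiIso ((DComp.tensSingleIso R₁ P.cochainComplex).hom ≫ P.π' ▷ s₀ R₁) := by
      rw [← DComp.tensSingleIso_naturality]
      infer_instance
    exact quasiIso_of_comp_left (DComp.tensSingleIso R₁ P.cochainComplex).hom _
  haveI : P.cochainComplex.IsKProjective := CochainComplex.isKProjective_of_projective _ 0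
  haveI : QuasiIso (P.cochainComplex ◁ q) :=
    LTensorCx.quasiIso_tensor_left (KFlat.isKFlat_of_isKProjective P.cochainComplex) q
  haveI : QuasiIso (P.π' ▷ Q) := quasiIso_whiskerRight hQ P.π'
  haveI : QuasiIso (s₀ X ◁ q) := by
    let π : P.cochainComplex ⟶ s₀ X := P.π'
    haveI : QuasiIso (π ▷ Q) := ‹QuasiIso (P.π' ▷ Q)›
    haveI : QuasiIso (π ▷ s₀ R₁) := ‹QuasiIso (P.π' ▷ s₀ R₁)›
    have hw : π ▷ Q ≫ s₀ X ◁ q = P.cochainComplex ◁ q ≫ π ▷ s₀ R₁ := (whisker_exchange π q).symm
    haveI : QuasiIso (π ▷ Q ≫ s₀ X ◁ q) := hw ▸ quasiIso_comp (P.cochainComplex ◁ q) (π ▷ s₀ R₁)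
    exact quasiIso_of_comp_left (π ▷ Q) _
  let u0 : (resF φ).obj (ModuleCat.of A A) ≅ X :=
    (show ((resF φ).obj (ModuleCat.of A A) : ModuleCat.{u} R) ≃ₗ[R] A from
      { AddEquiv.refl A with map_smul' := fun _ _ => rfl }).toModuleIso
  let e : (resC φ).obj (s₀ (ModuleCat.of A A)) ≅ s₀ X :=
    (singleMapHomologicalComplex (resF φ) (ComplexShape.up ℤ) 0).app (ModuleCat.of A A) ≪≫
      (single (ModuleCat.{u} R) (ComplexShape.up ℤ) 0).mapIso u0
  haveI : QuasiIso ((resC φ).obj (s₀ (ModuleCat.of A A)) ◁ q ≫ e.hom ▷ s₀ R₁) := by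
    rw [whisker_exchange]
    infer_instance
  exact quasiIso_of_comp_right _ (e.hom ▷ s₀ R₁)

end Groth.Agent.Lib.DerivedOX.BCAlg
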