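import Groth.Agent.Lib.DerivedOX.PullTensor
import Groth.Agent.Lib.DerivedOX.StalkCx
import Mathlib.Algebra.Homology.BifunctorFlip

/-!
# Symmetry of the tensor product of complexes of `𝒪_X`-modules
-/

set_option autoImplicit false
set_option linter.style.haveILetI false

universe u

open CategoryTheory Limits AlgebraicGeometry HomologicalComplex

namespace Groth.Agent.Lib.DerivedOX.TensorSymm

open BifunctorMap

variable {X : Scheme.{u}}

/-- The symmetry of `⊗`, as a comparison of bifunctors. -/
noncomputable def braid :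
    Comparison (DCoh.tensorBi (X := X)) (DCoh.tensorBi (X := X)).flip (𝟭 _) (𝟭 _) (𝟭 _) where
  iso M N := TensorMod.Basic.comm N M
  natural₁ {M M'} f N := by
    dsimp
    rw [PullTensor.tensorBi_map_app, PullTensor.tensorBi_obj_map]
    exact TensorMod.Basic.comm_natural (𝟙 N) f
  natural₂ M {N N'} g := by
    dsimp
    rw [PullTensor.tensorBi_map_app, PullTensor.tensorBi_obj_map]
    exact TensorMod.Basic.comm_natural g (𝟙 M)

instance : ((DCoh.tensorBi (X := X)).flip).Additive where
  map_add {N N' g h} := by
    ext1; ext1 M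
    exact ((DCoh.tensorBi (X := X)).obj M).map_add

/-- `K ⊗ L ≅ L ⊗ K`. -/
noncomputable def commCx (K L : CochainComplex X.Modules ℤ) :
    (DCoh.tensorCx.obj K).obj L ≅ (DCoh.tensorCx.obj L).obj K :=
  (mapBifunctorFlipIso K L (DCoh.tensorBi (X := X)) (.up ℤ)).symm ≪≫ totalIso braid L K

end Groth.Agent.Lib.DerivedOX.TensorSymm
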