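import Groth.Agent.Lib.DerivedOX.DualCompare
import Groth.Agent.Lib.DerCat.KInjExists
import Mathlib.CategoryTheory.Adjunction.PartialAdjoint

/-!
# The derived internal Hom exists
-/

universe u

open CategoryTheory Limits AlgebraicGeometry HomologicalComplex

attribute [local instance] HasDerivedCategory.standard

set_option linter.style.haveILetI false

namespace Groth.Agent.Lib.DerivedOX.DualHomExists

open DualHom DualCompare

variable {X : Scheme.{u}}

/-- Maps into `Hom^•(P, J)` in the derived category are maps out of `- ⊗^L P`. -/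
theorem bijective_map {P J : CochainComplex X.Modules ℤ} (hP : DCoh.IsKFlat P) [J.IsKInjective]
    (hJ : InjTerms J) [DCoh.HasLTensorCx P] (T : CochainComplex X.Modules ℤ) :
    Function.Bijective fun φ : DerivedCategory.Q.obj T ⟶ DerivedCategory.Q.obj ((Hc P).obj J) =>
      (DCoh.LTensorCx P).map φ ≫ ((DCoh.tensorCxQ P).totalLeftDerivedCounit DerivedCategory.Q
        (HomologicalComplex.quasiIso X.Modules (.up ℤ))).app ((Hc P).obj J) ≫
          DerivedCategory.Q.map (ev P J) := by
  haveI := isKInjective_Hc hP hJ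
  let c := (DCoh.tensorCxQ P).totalLeftDerivedCounit DerivedCategory.Q
    (HomologicalComplex.quasiIso X.Modules (.up ℤ))
  haveI : IsIso (c.app T) := isIso_counit hP T
  have key : ∀ g : T ⟶ (Hc P).obj J, (DCoh.LTensorCx P).map (DerivedCategory.Q.map g) ≫
      c.app ((Hc P).obj J) ≫ DerivedCategory.Q.map (ev P J) =
      c.app T ≫ DerivedCategory.Q.map (((adj P).homEquiv T J).symm g) := fun g => by
    rw [Adjunction.homEquiv_counit, Functor.map_comp]
    exact c.naturality_assoc g _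
  have hTH := Q_map_bijective_aux (T := T) (J := (Hc P).obj J)
  have hTPJ := Q_map_bijective_aux (T := (Tc P).obj T) (J := J)
  constructor
  · intro φ φ' h
    obtain ⟨g, rfl⟩ := hTH.1 φ
    obtain ⟨g', rfl⟩ := hTH.1 φ'
    have h' := (cancel_epi (c.app T)).1 ((key g).symm.trans (h.trans (key g')))
    have h'' := (quotient_map_eq_iff P hJ g g').2 (hTPJ.2 _ _ h')
    exact DerivedCategory.Q_map_eq_of_homotopy _ (HomotopyCategory.homotopyOfEq _ _ h'')
  · intro ψ
    obtain ⟨χ, hχ⟩ := hTPJ.1 (inv (c.app T) ≫ ψ)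
    refine ⟨DerivedCategory.Q.map ((adj P).homEquiv T J χ), (key _).trans ?_⟩
    rw [Equiv.symm_apply_apply, hχ, IsIso.hom_inv_id_assoc]

theorem isLeftAdjoint_of_isKFlat {P : CochainComplex X.Modules ℤ} (hP : DCoh.IsKFlat P)
    [DCoh.HasLTensorCx P] : (DCoh.LTensorCx P).IsLeftAdjoint := by
  apply Functor.isLeftAdjoint_of_rightAdjointObjIsDefined_eq_top
  ext M
  simp only [Pi.top_apply, Prop.top_eq_true, iff_true]
  let M₀ := DerivedCategory.Q.objPreimage M
  obtain ⟨J, i, hJ, hi, -, hinj⟩ := DerCat.KInjExists.exists_kInjective_resolution M₀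
  haveI := hJ
  haveI := hi
  let eM : DerivedCategory.Q.obj J ≅ M :=
    (asIso (DerivedCategory.Q.map i)).symm ≪≫ DerivedCategory.Q.objObjPreimageIso M
  let u := ((DCoh.tensorCxQ P).totalLeftDerivedCounit DerivedCategory.Q
      (HomologicalComplex.quasiIso X.Modules (.up ℤ))).app ((Hc P).obj J) ≫
        DerivedCategory.Q.map (ev P J)
  have hb : ∀ S, Function.Bijective fun φ : S ⟶ DerivedCategory.Q.obj ((Hc P).obj J) =>
      (DCoh.LTensorCx P).map φ ≫ u := fun S => by
    let e := DerivedCategory.Q.objObjPreimageIso S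
    obtain ⟨hin, hsu⟩ := bijective_map hP hinj (DerivedCategory.Q.objPreimage S)
    refine ⟨fun φ φ' h => (cancel_epi e.hom).1 (hin ?_), fun ψ => ?_⟩
    · change (DCoh.LTensorCx P).map (e.hom ≫ φ) ≫ u = (DCoh.LTensorCx P).map (e.hom ≫ φ') ≫ u
      rw [Functor.map_comp, Functor.map_comp, Category.assoc, Category.assoc]
      exact congrArg (_ ≫ ·) h
    · obtain ⟨φ, hφ⟩ := hsu ((DCoh.LTensorCx P).map e.hom ≫ ψ)
      refine ⟨e.inv ≫ φ, ?_⟩
      change (DCoh.LTensorCx P).map (e.inv ≫ φ) ≫ u = ψ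
      change (DCoh.LTensorCx P).map φ ≫ u = _ at hφ
      rw [Functor.map_comp, Category.assoc, hφ, ← Category.assoc, ← Functor.map_comp,
        Iso.inv_hom_id, CategoryTheory.Functor.map_id, Category.id_comp]
  let r : ((DCoh.LTensorCx P).op ⋙ yoneda.obj M).RepresentableBy
      (DerivedCategory.Q.obj ((Hc P).obj J)) :=
    { homEquiv := fun {S} => (Equiv.ofBijective _ (hb S)).trans eM.homToEquiv
      homEquiv_comp := fun {S S'} g g' => by
        change ((DCoh.LTensorCx P).map (g ≫ g') ≫ u) ≫ eM.hom =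
          (DCoh.LTensorCx P).map g ≫ ((DCoh.LTensorCx P).map g' ≫ u) ≫ eM.hom
        simp }
  exact r.isRepresentable

/-- `RHom(K, -)` exists for every complex `K`. -/
theorem hasRSheafHom (K : CochainComplex X.Modules ℤ) [DCoh.HasLTensorCx K] : DCoh.HasRSheafHom K := by
  let P := (KFlat.res X).obj K
  haveI : QuasiIso ((KFlat.aug X).app K) := KFlat.quasiIso_aug K
  haveI := LeftExists.hasLTensorCx P
  haveI := isLeftAdjoint_of_isKFlat (KFlat.isKFlat_res K)
  obtain ⟨e⟩ := nonempty_ltensor_iso (K := K) (KFlat.isKFlat_res K) ((KFlat.aug X).app K)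
  exact ((Adjunction.ofIsLeftAdjoint (DCoh.LTensorCx P)).ofNatIsoLeft e).isLeftAdjoint

/-- `RHom(-, M)` respects isomorphisms in the derived category. -/
theorem nonempty_RSheafHom_congr {K L : CochainComplex X.Modules ℤ}
    (e : DerivedCategory.Q.obj K ≅ DerivedCategory.Q.obj L)
    [DCoh.HasLTensorCx K] [DCoh.HasRSheafHom K] [DCoh.HasLTensorCx L] [DCoh.HasRSheafHom L] :
    Nonempty (DCoh.RSheafHom K ≅ DCoh.RSheafHom L) := by
  obtain ⟨B, s, hs, g, hg⟩ := DerivedCategory.right_fac e.hom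
  haveI : QuasiIso s := (DerivedCategory.isIso_Q_map_iff_quasiIso _ _).1 hs
  haveI : IsIso (inv (DerivedCategory.Q.map s) ≫ DerivedCategory.Q.map g) := hg ▸ inferInstance
  haveI : IsIso (DerivedCategory.Q.map g) :=
    IsIso.of_isIso_comp_left (inv (DerivedCategory.Q.map s)) _
  haveI : QuasiIso g := (DerivedCategory.isIso_Q_map_iff_quasiIso _ _).1 inferInstance
  let P := (KFlat.res X).obj B
  haveI : QuasiIso ((KFlat.aug X).app B) := KFlat.quasiIso_aug B
  haveI := LeftExists.hasLTensorCx P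
  obtain ⟨e₁⟩ := nonempty_ltensor_iso (K := K) (KFlat.isKFlat_res B) ((KFlat.aug X).app B ≫ s)
  obtain ⟨e₂⟩ := nonempty_ltensor_iso (K := L) (KFlat.isKFlat_res B) ((KFlat.aug X).app B ≫ g)
  exact ⟨(DCoh.RSheafHomAdj K).rightAdjointUniq
    ((DCoh.RSheafHomAdj L).ofNatIsoLeft (e₂.symm ≪≫ e₁))⟩

end Groth.Agent.Lib.DerivedOX.DualHomExists
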