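import Groth.Agent.Lib.DerivedOX.Exists
import Groth.Agent.Lib.PushClosed.Basic

/-!
# `Rf_*` for an exact `f_*`
-/

universe u

open CategoryTheory Limits AlgebraicGeometry

attribute [local instance] HasDerivedCategory.standard

set_option linter.style.haveILetI false

namespace Groth.Agent.Lib.DerivedOX.PushExact

variable {X Y : Scheme.{u}} (f : X ⟶ Y) [DCoh.HasRpush f]

/-- If `f_*` preserves finite colimits, it computes `Rf_*` on every complex. -/
theorem isIso_unit_app [PreservesFiniteColimits (Scheme.Modules.pushforward f)]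
    (K : CochainComplex X.Modules ℤ) :
    IsIso (((DCoh.pushKh f).totalRightDerivedUnit DerivedCategory.Qh
      (HomotopyCategory.quasiIso X.Modules (ComplexShape.up ℤ))).app
        ((HomotopyCategory.quotient X.Modules (ComplexShape.up ℤ)).obj K)) := by
  obtain ⟨I, i, hI, hi⟩ := DerCat.KInjExists.hasKInjRes K
  haveI := hI
  haveI := hi
  haveI : PreservesFiniteLimits (Scheme.Modules.pushforward f) :=
    haveI : PreservesLimitsOfSize.{0, 0} (Scheme.Modules.pushforward f) :=
      (Scheme.Modules.pullbackPushforwardAdjunction f).rightAdjoint_preservesLimits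
    PreservesLimitsOfSize.preservesFiniteLimits.{0, 0} _
  let F := DCoh.pushKh f
  let W := HomotopyCategory.quasiIso X.Modules (ComplexShape.up ℤ)
  let q := HomotopyCategory.quotient X.Modules (ComplexShape.up ℤ)
  let η := F.totalRightDerivedUnit DerivedCategory.Qh W
  haveI h1 : IsIso (η.app (q.obj I)) :=
    RightDerived.isIso_totalRightDerivedUnit_app_of_isKInjective F I
  haveI : QuasiIso (((Scheme.Modules.pushforward f).mapHomologicalComplex (ComplexShape.up ℤ)).map i) :=
    inferInstance
  haveI h2 : IsIso (F.map (q.map i)) :=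
    Localization.inverts DerivedCategory.Qh (HomotopyCategory.quasiIso Y.Modules (.up ℤ))
      ((HomotopyCategory.quotient Y.Modules (ComplexShape.up ℤ)).map
        (((Scheme.Modules.pushforward f).mapHomologicalComplex (ComplexShape.up ℤ)).map i))
      ((HomotopyCategory.quotient_map_mem_quasiIso_iff _).2 ‹_›)
  haveI := Localization.inverts DerivedCategory.Qh W (q.map i)
    ((HomotopyCategory.quotient_map_mem_quasiIso_iff _).2 hi)
  have h3 : IsIso ((F.totalRightDerived DerivedCategory.Qh W).map (DerivedCategory.Qh.map (q.map i))) :=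
    Functor.map_isIso _ _
  have hnat := η.naturality (q.map i)
  have h4 : IsIso (η.app (q.obj K) ≫ (DerivedCategory.Qh ⋙ F.totalRightDerived DerivedCategory.Qh W).map
      (q.map i)) := by
    rw [← hnat]
    infer_instance
  exact @IsIso.of_isIso_comp_right _ _ _ _ _ (η.app (q.obj K))
    ((DerivedCategory.Qh ⋙ F.totalRightDerived DerivedCategory.Qh W).map (q.map i)) h3 h4

/-- `Rf_* (K) ≅ f_* K` for an exact `f_*`. -/
theorem nonempty_iso [PreservesFiniteColimits (Scheme.Modules.pushforward f)]
    (K : CochainComplex X.Modules ℤ) :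
    Nonempty ((DCoh.Rpush f).obj (DerivedCategory.Q.obj K) ≅
      DerivedCategory.Q.obj (((Scheme.Modules.pushforward f).mapHomologicalComplex (ComplexShape.up ℤ)).obj K)) := by
  haveI := isIso_unit_app f K
  exact ⟨(DCoh.Rpush f).mapIso ((DerivedCategory.quotientCompQhIso X.Modules).app K).symm ≪≫
    (asIso (((DCoh.pushKh f).totalRightDerivedUnit DerivedCategory.Qh
      (HomotopyCategory.quasiIso X.Modules (ComplexShape.up ℤ))).app
        ((HomotopyCategory.quotient X.Modules (ComplexShape.up ℤ)).obj K))).symm ≪≫
    (DerivedCategory.quotientCompQhIso Y.Modules).app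
      (((Scheme.Modules.pushforward f).mapHomologicalComplex (ComplexShape.up ℤ)).obj K)⟩

theorem preservesFiniteColimits_pushforward (i : X ⟶ Y) [IsClosedImmersion i] :
    PreservesFiniteColimits (Scheme.Modules.pushforward i) :=
  PreservesColimitsOfSize.preservesFiniteColimits _

end Groth.Agent.Lib.DerivedOX.PushExact
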