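import Groth.Agent.Lib.DerivedOX.Amplitude
import Groth.Agent.Lib.DerivedOX.FlatResolve
import Groth.Agent.Lib.DR.TorAmp
import Groth.Agent.Lib.Modules.Stalk

/-!
# Tor amplitude on stalks, and flat amplitude
-/

universe u

open CategoryTheory Limits AlgebraicGeometry MonoidalCategory

attribute [local instance] HasDerivedCategory.standard

set_option linter.style.haveILetI false

namespace Groth.Agent.Lib.DerivedOX.Amplitude

open Groth.Agent.Lib.Modules StalkModule

variable {X : Scheme.{u}}

/-- Exactness in one degree is detected on stalks. -/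
theorem exactAt_iff_stalk (Z : CochainComplex X.Modules ℤ) (i : ℤ) :
    Z.ExactAt i ↔ ∀ x : X,
      (((stalkModFunctor X x).mapHomologicalComplex (ComplexShape.up ℤ)).obj Z).ExactAt i := by
  rw [HomologicalComplex.exactAt_iff, Stalk.exact_iff_stalk]
  exact forall_congr' fun x => ShortComplex.exact_map_iff_of_faithful
    ((Z.sc i).map (stalkModFunctor X x)) (forget₂ (ModuleCat.{u} (X.presheaf.stalk x)) AddCommGrpCat.{u})

section

variable {E : CochainComplex X.Modules ℤ} (hE : DCoh.IsKFlat E) {K : DCoh.D X}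
  (e : DCoh.toD X E ≅ K) (hL : ∀ G : X.Modules, DCoh.HasLTensorMod G) {i : ℤ}
  (hi : ∀ (G : X.Modules) [DCoh.HasLTensorMod G],
    IsZero (DCoh.HD ((DCoh.LTensorMod G).obj K) i))
include hE e hL hi

/-- The stalks of a K-flat representative tensored with a module are exact where the cohomology
of `K ⊗^L -` vanishes. -/
theorem exactAt_stalk_tens_of_isZero (x : X) (N : ModuleCat.{u} (X.presheaf.stalk x)) :
    (((tensorRight N).mapHomologicalComplex (ComplexShape.up ℤ)).obj
      (((stalkModFunctor X x).mapHomologicalComplex (ComplexShape.up ℤ)).obj E)).ExactAt i := by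
  let G := (KFlatStalk.skyF x).obj N
  haveI := hL G
  have h₁ : (((stalkModFunctor X x).mapHomologicalComplex (ComplexShape.up ℤ)).obj
      ((tens G).obj E)).ExactAt i :=
    (exactAt_iff_stalk _ i).1 ((isZero_hd_ltensor_iff G hE e i).1 (hi G)) x
  let ψ : DCoh.tensorRightMod G ⋙ stalkModFunctor X x ≅ stalkModFunctor X x ⋙ tensorRight N :=
    (TensorSheaf.tensorRightStalkIso x G :) ≪≫
      Functor.isoWhiskerLeft _ ((curriedTensor _).flip.mapIso ((KFlatStalk.skyStalkIso x).app N))
  exact h₁.of_iso ((NatIso.mapHomologicalComplex ψ (ComplexShape.up ℤ)).app E)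

omit hi in
/-- The cokernel is flat if `H^{a-1}(K ⊗^L -)` vanishes. -/
theorem isFlat_cokernel_of_isZero (a : ℤ) (hflat : FlatMod.IsFlat (E.X a))
    (ha : ∀ (G : X.Modules) [DCoh.HasLTensorMod G],
      IsZero (DCoh.HD ((DCoh.LTensorMod G).obj K) (a - 1))) :
    FlatMod.IsFlat (cokernel (E.d (a - 1) a)) := fun x => by
  let P := ((stalkModFunctor X x).mapHomologicalComplex (ComplexShape.up ℤ)).obj E
  haveI := DR.TorAmp.flat_coker_of_exactAt P a (hflat x)
    fun N => exactAt_stalk_tens_of_isZero hE e hL ha x N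
  haveI : PreservesFiniteColimits (stalkModFunctor X x) :=
    PreservesColimitsOfSize.preservesFiniteColimits _
  exact Module.Flat.of_linearEquiv (PreservesCokernel.iso (stalkModFunctor X x) (E.d (a - 1) a) ≪≫
    ModuleCat.cokernelIsoRangeQuotient (P.d (a - 1) a)).toLinearEquiv

end

section

variable {E : CochainComplex X.Modules ℤ} (hE : DCoh.IsKFlat E) {K : DCoh.D X}
  (e : DCoh.toD X E ≅ K) {a b : ℤ} (h : DCoh.HasTorAmplitudeIn a b K)
  (hL : ∀ G : X.Modules, DCoh.HasLTensorMod G)
include hE e h hL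

/-- The stalks of a K-flat representative tensored with a module are exact outside the amplitude. -/
theorem exactAt_stalk_tens (x : X) (N : ModuleCat.{u} (X.presheaf.stalk x)) {i : ℤ}
    (hi : i < a ∨ b < i) :
    (((tensorRight N).mapHomologicalComplex (ComplexShape.up ℤ)).obj
      (((stalkModFunctor X x).mapHomologicalComplex (ComplexShape.up ℤ)).obj E)).ExactAt i :=
  exactAt_stalk_tens_of_isZero hE e hL (fun G _ => h G i hi) x N

/-- A K-flat representative is exact outside the amplitude. -/
theorem exactAt_of_torAmp {i : ℤ} (hi : i < a ∨ b < i) : E.ExactAt i := by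
  refine (exactAt_iff_stalk E i).2 fun x => ?_
  exact (exactAt_stalk_tens hE e h hL x (𝟙_ (ModuleCat.{u} (X.presheaf.stalk x))) hi).of_iso
    ((NatIso.mapHomologicalComplex (rightUnitorNatIso (ModuleCat.{u} (X.presheaf.stalk x)))
      (ComplexShape.up ℤ)).app _)

/-- The cokernel at the bottom of the amplitude is flat. -/
theorem isFlat_cokernel (hflat : ∀ n, FlatMod.IsFlat (E.X n)) :
    FlatMod.IsFlat (cokernel (E.d (a - 1) a)) :=
  isFlat_cokernel_of_isZero hE e hL a (hflat a) fun G _ => h G (a - 1) (Or.inl (by omega))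

end

/-- Tor amplitude gives flat amplitude. -/
theorem flatAmp_of_torAmp {K : DCoh.D X} {a b : ℤ} (hab : a ≤ b)
    (hL : ∀ G : X.Modules, DCoh.HasLTensorMod G) (h : DCoh.HasTorAmplitudeIn a b K) :
    DCoh.HasFlatAmplitudeIn a b K := by
  let K' := (KFlat.res X).obj (DerivedCategory.Q.objPreimage K)
  let eK : DCoh.toD X K' ≅ K :=
    asIso (DerivedCategory.Q.map ((KFlat.aug X).app (DerivedCategory.Q.objPreimage K))) ≪≫
      DerivedCategory.Q.objObjPreimageIso K
  obtain ⟨G, s, hG, hflat, hs⟩ := FlatResolve.exists_flat_resolution K' b fun i hi =>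
    exactAt_of_torAmp (KFlat.isKFlat_res _) eK h hL (Or.inr hi)
  haveI := hs
  let eG : DCoh.toD X G ≅ K := asIso (DerivedCategory.Q.map s) ≪≫ eK
  have hK := isKFlat_of_bounded G b hG hflat
  haveI : G.IsGE a := (CochainComplex.isGE_iff G a).2 fun i hi =>
    exactAt_of_torAmp hK eG h hL (Or.inl hi)
  haveI : QuasiIso (G.πTruncGE a) := (G.quasiIso_πTruncGE_iff a).2 inferInstance
  have hop : FlatMod.IsFlat (G.opcycles a) :=
    FlatResolve.good_isFlat.iso (IsColimit.coconePointUniqueUpToIso (cokernelIsCokernel _)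
      (G.opcyclesIsCokernel (a - 1) a (by simp))) (isFlat_cokernel hK eG h hL hflat)
  refine ⟨G.truncGE a, fun i hi => ?_, fun i => ?_,
    ⟨(asIso (DerivedCategory.Q.map (G.πTruncGE a))).symm ≪≫ eG⟩⟩
  · rcases hi with hi | hi
    · exact (G.truncGE a).isZero_of_isStrictlyGE a i hi
    · exact (hG i hi).of_iso (G.truncGEXIso a i (lt_of_le_of_lt hab hi))
  · rcases lt_trichotomy i a with h' | h' | h'
    · exact FlatResolve.good_isFlat.zero ((G.truncGE a).isZero_of_isStrictlyGE a i h')
    · subst h'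
      exact FlatResolve.good_isFlat.iso (G.truncGEXIsoOpcycles i).symm hop
    · exact FlatResolve.good_isFlat.iso (G.truncGEXIso a i h').symm (hflat i)

/-- A module all whose first Tor sheaves vanish is flat. -/
theorem isFlat_of_tor_one (F : X.Modules) (hL : ∀ G : X.Modules, DCoh.HasLTensorMod G)
    (h : ∀ (G : X.Modules) [DCoh.HasLTensorMod G],
      IsZero (DCoh.HD ((DCoh.LTensorMod G).obj (DCoh.inD X F)) (-1))) : FlatMod.IsFlat F := by
  let S := (HomologicalComplex.single X.Modules (ComplexShape.up ℤ) 0).obj F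
  obtain ⟨G, s, hG, hflat, hs⟩ := FlatResolve.exists_flat_resolution S 0 fun i hi =>
    HomologicalComplex.ExactAt.of_isZero (HomologicalComplex.isZero_single_obj_X _ _ _ _ (ne_of_gt hi))
  haveI := hs
  let e : DCoh.toD X G ≅ DCoh.inD X F := asIso (DerivedCategory.Q.map s) ≪≫
    ((DerivedCategory.singleFunctorIsoCompQ X.Modules 0).app F).symm
  have hc := isFlat_cokernel_of_isZero (isKFlat_of_bounded G 0 hG hflat) e hL 0 (hflat 0)
    fun G' _ => h G'
  haveI : IsIso (G.homologyι 0) :=
    G.isIso_homologyι 0 1 (by simp) ((hG 1 one_pos).eq_of_tgt _ _)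
  exact FlatResolve.good_isFlat.iso
    (IsColimit.coconePointUniqueUpToIso (cokernelIsCokernel _)
      (G.opcyclesIsCokernel (0 - 1) 0 (by simp)) ≪≫ (asIso (G.homologyι 0)).symm ≪≫
      asIso (HomologicalComplex.homologyMap s 0) ≪≫
      HomologicalComplex.singleObjHomologySelfIso (ComplexShape.up ℤ) 0 F) hc

/-- A flat module has tor amplitude in `[0, 0]`. -/
theorem flatAmp_inD {F : X.Modules} (hF : FlatMod.IsFlat F) :
    DCoh.HasFlatAmplitudeIn 0 0 (DCoh.inD X F) := by
  refine ⟨(HomologicalComplex.single X.Modules (ComplexShape.up ℤ) 0).obj F,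
    fun i hi => HomologicalComplex.isZero_single_obj_X _ _ _ _ (by omega), fun i => ?_,
    ⟨((DerivedCategory.singleFunctorIsoCompQ X.Modules 0).app F).symm⟩⟩
  by_cases hi : i = 0
  · subst hi
    exact FlatResolve.good_isFlat.iso (HomologicalComplex.singleObjXSelf _ _ F).symm hF
  · exact FlatResolve.good_isFlat.zero (HomologicalComplex.isZero_single_obj_X _ _ _ _ hi)

end Groth.Agent.Lib.DerivedOX.Amplitude
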