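import Groth.Agent.Lib.DerivedOX.MVTriangle
import Groth.Agent.Lib.Perfect.Coherent
import Groth.Agent.Lib.Modules.Support
import Groth.Agent.Lib.DerivedOX.RpushTriangulated
import Mathlib.CategoryTheory.Adjunction.Triple
import Groth.Prelude.Def_CxOX

/-!
# Objects of D(O_X) supported in an open

* `isIso_of_restrictD`: being an isomorphism is local.
* `nonempty_iso_Rpush`: objects supported on a closed subset of an open are pushed forward from it.
-/

set_option autoImplicit false

universe u v w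

open CategoryTheory Limits AlgebraicGeometry Opposite Pretriangulated

attribute [local instance] HasDerivedCategory.standard

set_option linter.style.haveILetI false

namespace Groth.Agent.Lib.DerivedOX.OpenSupport

open Perfect.Basic Perfect.Coherent

theorem isIso_of_zero {C : Type u} [Category.{v} C] {A B : C} (f : A ⟶ B) (hA : IsZero A)
    (hB : IsZero B) : IsIso f :=
  ⟨hB.to_ A, hA.eq_of_src _ _, hB.eq_of_src _ _⟩

theorem isZero_of_homology {C : Type u} [Category.{v} C] [Abelian C] [HasDerivedCategory.{w} C]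
    (K : DerivedCategory C) (h : ∀ n, IsZero ((DerivedCategory.homologyFunctor C n).obj K)) :
    IsZero K := by
  obtain ⟨Z, hZ⟩ := HasZeroObject.zero (C := DerivedCategory C)
  haveI : IsIso (0 : K ⟶ Z) := (DerivedCategory.isIso_iff C _).2 fun n =>
    isIso_of_zero _ (h n) (Functor.map_isZero _ hZ)
  exact hZ.of_iso (asIso (0 : K ⟶ Z))

variable {X : Scheme.{u}}

theorem isZero_of_restrictD {ι : Type*} (U : ι → X.Opens) (hU : ⨆ i, U i = ⊤) (K : DCoh.D X)
    (h : ∀ i, IsZero ((DCoh.restrictD (U i).ι).obj K)) : IsZero K :=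
  isZero_of_homology K fun n => Modules.Local.isZero_of_restrict U hU fun i =>
    ((DerivedCategory.homologyFunctor _ n).map_isZero (h i)).of_iso (homologyIso (U i).ι K n).symm

theorem isIso_of_restrictD {ι : Type*} (U : ι → X.Opens) (hU : ⨆ i, U i = ⊤) {K L : DCoh.D X}
    (φ : K ⟶ L) (h : ∀ i, IsIso ((DCoh.restrictD (U i).ι).map φ)) : IsIso φ := by
  obtain ⟨C, g, k, hT⟩ := distinguished_cocone_triangle φ
  refine (Triangle.isZero₃_iff_isIso₁ _ hT).1 (isZero_of_restrictD U hU C fun i => ?_)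
  exact (Triangle.isZero₃_iff_isIso₁ _ ((DCoh.restrictD (U i).ι).map_distinguished _ hT)).2 (h i)

theorem isZero_restrictD_of_support {W : Scheme.{u}} (j : W ⟶ X) [IsOpenImmersion j] (K : DCoh.D X)
    (h : ∀ (i : ℤ) (w : W), j w ∉ CohB1.support (DCoh.HD K i)) :
    IsZero ((DCoh.restrictD j).obj K) :=
  isZero_of_homology _ fun n => IsZero.of_iso (Modules.Support.support_eq_empty_iff.1
    ((Modules.Support.support_restrict j _).trans (Set.eq_empty_of_forall_notMem fun w hw => h n w hw)))
    (homologyIso j K n)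

variable (U : X.Opens) (T : Set X) (hT : IsClosed T) (hTU : T ⊆ (U : Set X))

/-- The open complement of `T`. -/
abbrev compl : X.Opens := ⟨Tᶜ, hT.isOpen_compl⟩

/-- The two opens. -/
abbrev pair : Bool → X.Opens := fun b => bif b then U else compl T hT

include hTU in
theorem iSup_pair : ⨆ b, pair U T hT b = ⊤ := by
  rw [iSup_bool_eq]
  refine eq_top_iff.2 fun x _ => ?_
  rw [TopologicalSpace.Opens.mem_sup]
  by_cases hx : x ∈ T
  · exact Or.inl (hTU hx)
  · exact Or.inr hx

theorem isZero_restrictD_compl {E : DCoh.D X} (hE : ∀ i : ℤ, CohB1.support (DCoh.HD E i) ⊆ T) :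
    IsZero ((DCoh.restrictD (compl T hT).ι).obj E) :=
  isZero_restrictD_of_support _ _ fun i (w : (compl T hT : Scheme.{u})) hw => w.2 (hE i hw)

theorem isZero_restrictD_compl_Rpush [DCoh.HasRpush U.ι] {F : DCoh.D (U : Scheme.{u})}
    (hF : ∀ i : ℤ, (fun x : (U : Scheme.{u}) => U.ι.base x) '' CohB1.support (DCoh.HD F i) ⊆ T) :
    IsZero ((DCoh.restrictD (compl T hT).ι).obj ((DCoh.Rpush U.ι).obj F)) := by
  haveI := Exists.hasRpush (U.ι ∣_ compl T hT)
  exact IsZero.of_iso (Functor.map_isZero _ (isZero_restrictD_of_support _ _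
    fun i (w : ((U.ι ⁻¹ᵁ compl T hT) : Scheme.{u})) hw => w.2 (hF i ⟨_, hw, rfl⟩)))
    ((RestrictRpush.restrictD_Rpush_iso U.ι (compl T hT)).app F)

include hT hTU in
/-- An object supported on a closed subset of `U` is the direct image of its restriction. -/
theorem nonempty_iso_Rpush [DCoh.HasRpush U.ι] (E : DCoh.D X)
    (hE : ∀ i : ℤ, CohB1.support (DCoh.HD E i) ⊆ T) :
    Nonempty (E ≅ (DCoh.Rpush U.ι).obj ((DCoh.restrictD U.ι).obj E)) := by
  let K := DerivedCategory.Q.objPreimage E
  obtain ⟨I, i, hI, hi⟩ := DerCat.KInjExists.hasKInjRes K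
  haveI := hI
  haveI := hi
  let eE : E ≅ DerivedCategory.Q.obj I :=
    (DerivedCategory.Q.objObjPreimageIso E).symm ≪≫ asIso (DerivedCategory.Q.map i)
  obtain ⟨eU⟩ := MVTriangle.nonempty_RC_iso U I
  let φ : E ⟶ (DCoh.Rpush U.ι).obj ((DCoh.restrictD U.ι).obj E) :=
    eE.hom ≫ DerivedCategory.Q.map (MVTriangle.ηC U I) ≫
      ((DCoh.Rpush U.ι).mapIso ((DCoh.restrictD U.ι).mapIso eE) ≪≫ eU).inv
  suffices IsIso φ from ⟨asIso φ⟩
  refine isIso_of_restrictD _ (iSup_pair U T hT hTU) φ fun b => ?_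
  cases b
  · exact isIso_of_zero _ (isZero_restrictD_compl T hT hE)
      (isZero_restrictD_compl_Rpush U T hT fun n => by
        rintro _ ⟨w, hw, rfl⟩
        refine hE n ?_
        rw [Modules.Support.support_congr (homologyIso U.ι E n), Modules.Support.support_restrict] at hw
        exact hw)
  · change IsIso ((DCoh.restrictD U.ι).map φ)
    haveI : IsIso (((Scheme.Modules.restrictFunctor U.ι).mapHomologicalComplex (ComplexShape.up ℤ)).map
        (MVTriangle.ηC U I)) :=
      haveI : ∀ n, IsIso (((((Scheme.Modules.restrictFunctor U.ι).mapHomologicalComplex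
          (ComplexShape.up ℤ)).map (MVTriangle.ηC U I))).f n) := fun n =>
        MVTriangle.isIso_restrict_η (I.X n)
      HomologicalComplex.Hom.isIso_of_components _
    haveI : IsIso ((DCoh.restrictD U.ι).map (DerivedCategory.Q.map (MVTriangle.ηC U I))) :=
      (NatIso.isIso_map_iff (Scheme.Modules.restrictFunctor U.ι).mapDerivedCategoryFactors
        (MVTriangle.ηC U I)).2 (by
          change IsIso (DerivedCategory.Q.map (((Scheme.Modules.restrictFunctor U.ι).mapHomologicalComplex
            (ComplexShape.up ℤ)).map (MVTriangle.ηC U I)))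
          infer_instance)
    simp only [φ, Functor.map_comp]
    infer_instance

section ExtZero

theorem isIso_unit_extZeroAdj (M : (U : Scheme.{u}).Modules) :
    IsIso ((CxOX.extZeroAdj U.ι).unit.app M) := by
  let t : Adjunction.Triple (CxOX.extZero U.ι) (Scheme.Modules.restrictFunctor U.ι)
    (Scheme.Modules.pushforward U.ι) :=
    ⟨CxOX.extZeroAdj U.ι, Scheme.Modules.restrictAdjunction U.ι⟩
  haveI : IsIso t.adj₁.unit := t.isIso_unit_iff_isIso_counit.2 inferInstance
  exact inferInstanceAs (IsIso (t.adj₁.unit.app M))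

include hT in
theorem isZero_restrict_extZero (M : (U : Scheme.{u}).Modules)
    (hM : (fun x : (U : Scheme.{u}) => U.ι.base x) '' CohB1.support M ⊆ T) :
    IsZero (((CxOX.extZero U.ι).obj M).restrict (compl T hT).ι) := by
  let P := (CxOX.extZero U.ι).obj M
  let W := compl T hT
  let N := (MVTriangle.R W).obj P
  haveI := isIso_unit_extZeroAdj U M
  have hP : ∀ (x : X), x ∈ U → x ∉ T → x ∉ CohB1.support P := fun x hxU hxT h => by
    have e : M ≅ P.restrict U.ι := asIso ((CxOX.extZeroAdj U.ι).unit.app M)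
    have h' : (⟨x, hxU⟩ : (U : Scheme.{u})) ∈ CohB1.support M := by
      rw [Modules.Support.support_congr e, Modules.Support.support_restrict]
      exact h
    exact hxT (hM ⟨_, h', rfl⟩)
  have hN : IsZero (N.restrict U.ι) := by
    rw [IsZero.iff_id_eq_zero]
    refine Scheme.Modules.hom_ext _ _ fun O => AddCommGrpCat.ext fun s => ?_
    exact Modules.Support.eq_zero_of_germ_eq_zero (M := P) (U := W.ι ''ᵁ (W.ι ⁻¹ᵁ (U.ι ''ᵁ O))) s fun x hx hs =>
      absurd hs (hP x
        (U.ι_image_le O ((W.ι.image_preimage_le _) hx)) ((W.ι_image_le _) hx))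
  have h0 : (MVTriangle.η W).app P = 0 :=
    ((CxOX.extZeroAdj U.ι).homEquiv M N).injective (hN.eq_of_tgt _ _)
  haveI := MVTriangle.isIso_restrict_η (W := W) P
  have h1 : (Scheme.Modules.restrictFunctor W.ι).map ((MVTriangle.η W).app P) = 0 := by
    rw [h0]; exact Functor.map_zero _ _ _
  exact IsZero.of_iso (IsZero.of_mono_eq_zero _ h1) (Iso.refl _)

theorem nonempty_restrictD_extZeroD [PreservesFiniteLimits (CxOX.extZero U.ι)]
    (F : DCoh.D (U : Scheme.{u})) :
    Nonempty (F ≅ (DCoh.restrictD U.ι).obj ((CxOX.extZeroD U.ι).obj F)) := by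
  let K := DerivedCategory.Q.objPreimage F
  let e := DerivedCategory.Q.objObjPreimageIso F
  let u : K ⟶ ((Scheme.Modules.restrictFunctor U.ι).mapHomologicalComplex (ComplexShape.up ℤ)).obj
      (((CxOX.extZero U.ι).mapHomologicalComplex (ComplexShape.up ℤ)).obj K) :=
    { f := fun n => (CxOX.extZeroAdj U.ι).unit.app (K.X n)
      comm' := fun a b _ => ((CxOX.extZeroAdj U.ι).unit.naturality (K.d a b)).symm }
  haveI : ∀ n, IsIso (u.f n) := fun n => isIso_unit_extZeroAdj U (K.X n)
  haveI := HomologicalComplex.Hom.isIso_of_components u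
  exact ⟨e.symm ≪≫ DerivedCategory.Q.mapIso (asIso u) ≪≫
    ((Scheme.Modules.restrictFunctor U.ι).mapDerivedCategoryFactors.app _).symm ≪≫
    (DCoh.restrictD U.ι).mapIso (((CxOX.extZero U.ι).mapDerivedCategoryFactors.app K).symm) ≪≫
    (DCoh.restrictD U.ι).mapIso ((CxOX.extZeroD U.ι).mapIso e)⟩

include hT in
theorem support_extZeroD [PreservesFiniteLimits (CxOX.extZero U.ι)] (F : DCoh.D (U : Scheme.{u}))
    (hF : ∀ i : ℤ, (fun x : (U : Scheme.{u}) => U.ι.base x) '' CohB1.support (DCoh.HD F i) ⊆ T)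
    (n : ℤ) : CohB1.support (DCoh.HD ((CxOX.extZeroD U.ι).obj F) n) ⊆ T := by
  intro x hx
  by_contra hxT
  let K := DerivedCategory.Q.objPreimage F
  let e := DerivedCategory.Q.objObjPreimageIso F
  let eH : DCoh.HD ((CxOX.extZeroD U.ι).obj F) n ≅ (CxOX.extZero U.ι).obj (DCoh.HD F n) :=
    (DerivedCategory.homologyFunctor X.Modules n).mapIso
      ((CxOX.extZeroD U.ι).mapIso e.symm ≪≫ (CxOX.extZero U.ι).mapDerivedCategoryFactors.app K) ≪≫
    (DerivedCategory.homologyFunctorFactors X.Modules n).app _ ≪≫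
    (K.sc n).mapHomologyIso (CxOX.extZero U.ι) ≪≫
    (CxOX.extZero U.ι).mapIso (((DerivedCategory.homologyFunctorFactors _ n).app K).symm ≪≫
      (DerivedCategory.homologyFunctor _ n).mapIso e)
  rw [Modules.Support.support_congr eH] at hx
  have := Modules.Support.support_eq_empty_iff.2 (isZero_restrict_extZero U T hT _ (hF n))
  rw [Modules.Support.support_restrict] at this
  exact (Set.eq_empty_iff_forall_notMem.1 this ⟨x, hxT⟩) hx

instance preservesFiniteLimits_extZero : PreservesFiniteLimits (CxOX.extZero U.ι) :=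
  preservesFiniteLimits_of_natIso
    ((RestrictKInj.extZeroAdj U).leftAdjointUniq (CxOX.extZeroAdj U.ι))

include hT hTU in
/-- For objects supported on a closed subset of `U`, `j_! = Rj_*`. -/
theorem nonempty_extZeroD_iso_Rpush [DCoh.HasRpush U.ι] [PreservesFiniteLimits (CxOX.extZero U.ι)]
    (F : DCoh.D (U : Scheme.{u}))
    (hF : ∀ i : ℤ, (fun x : (U : Scheme.{u}) => U.ι.base x) '' CohB1.support (DCoh.HD F i) ⊆ T) :
    Nonempty ((CxOX.extZeroD U.ι).obj F ≅ (DCoh.Rpush U.ι).obj F) := by
  obtain ⟨e₁⟩ := nonempty_iso_Rpush U T hT hTU _ (support_extZeroD U T hT F hF)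
  obtain ⟨e₂⟩ := nonempty_restrictD_extZeroD U F
  exact ⟨e₁ ≪≫ (DCoh.Rpush U.ι).mapIso e₂.symm⟩

end ExtZero

end Groth.Agent.Lib.DerivedOX.OpenSupport
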