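import Groth.Agent.Lib.DerivedOX.AffinePush
import Groth.Agent.Lib.QCoh.Pullback
import Groth.Prelude.Def_DDual2

/-!
# `Rf_*` on `D(B)` for a map of affine schemes is restriction of scalars
-/

set_option autoImplicit false
set_option linter.unusedSectionVars false
set_option linter.style.haveILetI false

universe u

open CategoryTheory Limits AlgebraicGeometry

attribute [local instance] HasDerivedCategory.standard

namespace Groth.Agent.Lib.DerivedOX.AffinePush

open Groth.Agent.Lib.QCoh.Tilde Groth.Agent.Lib.QCoh.Pullback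

variable {R S : CommRingCat.{u}} (φ : R ⟶ S)

/-- The direct image of `M~` along `Spec φ` is `(restrictScalars φ M)~`. -/
noncomputable def pushTildeIso :
    tilde.functor S ⋙ Scheme.Modules.pushforward (Spec.map φ) ≅
      ModuleCat.restrictScalars φ.hom ⋙ tilde.functor R :=
  haveI : IsIso (Functor.whiskerLeft (tilde.functor S ⋙ Scheme.Modules.pushforward (Spec.map φ))
      (specAdj R).counit) := by
    haveI : ∀ M, IsIso ((Functor.whiskerLeft (tilde.functor S ⋙ Scheme.Modules.pushforward (Spec.map φ))
        (specAdj R).counit).app M) := fun M => by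
      haveI : IsIso ((tilde.functor S).obj M).fromTildeΓ :=
        inferInstanceAs (IsIso (tilde M).fromTildeΓ)
      exact isIso_fromTildeΓ_pushforward φ ((tilde.functor S).obj M)
    exact NatIso.isIso_of_isIso_app _
  (asIso (Functor.whiskerLeft (tilde.functor S ⋙ Scheme.Modules.pushforward (Spec.map φ))
      (specAdj R).counit)).symm ≪≫
    Functor.isoWhiskerRight (Functor.isoWhiskerLeft (tilde.functor S) (pushforwardSpecΓIso φ))
      (tilde.functor R) ≪≫
    Functor.isoWhiskerRight (Functor.isoWhiskerRight sectionsTildeIso.symm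
      (ModuleCat.restrictScalars φ.hom)) (tilde.functor R)

variable [PreservesFiniteLimits (tilde.functor R)] [PreservesFiniteLimits (tilde.functor S)]
  [DCoh.HasRpush (Spec.map φ)]

/-- The unit, invertible on quasi-coherent complexes of the form `E~`. -/
noncomputable def unitIso :
    (tilde.functor S).mapHomologicalComplex (ComplexShape.up ℤ) ⋙
        (Scheme.Modules.pushforward (Spec.map φ)).mapHomologicalComplex (ComplexShape.up ℤ) ⋙
        DerivedCategory.Q ≅
      (tilde.functor S).mapHomologicalComplex (ComplexShape.up ℤ) ⋙ DerivedCategory.Q ⋙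
        DCoh.Rpush (Spec.map φ) :=
  let f := Spec.map φ
  let η := (DCoh.pushKh f).totalRightDerivedUnit DerivedCategory.Qh
    (HomotopyCategory.quasiIso (Spec S).Modules (ComplexShape.up ℤ))
  let w := Functor.whiskerLeft ((tilde.functor S).mapHomologicalComplex (ComplexShape.up ℤ) ⋙
    HomotopyCategory.quotient _ _) η
  haveI : IsIso w := by
    haveI : ∀ E, IsIso (w.app E) := fun E =>
      isIso_unit f (((tilde.functor S).mapHomologicalComplex (ComplexShape.up ℤ)).obj E)
        fun n => (inferInstance : (tilde (E.X n)).IsQuasicoherent)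
    exact NatIso.isIso_of_isIso_app _
  Functor.isoWhiskerLeft _ (Functor.isoWhiskerLeft _
      (DerivedCategory.quotientCompQhIso (Spec R).Modules).symm) ≪≫
    Functor.isoWhiskerLeft _ (Functor.isoWhiskerRight
      ((Scheme.Modules.pushforward f).mapHomotopyCategoryFactors (ComplexShape.up ℤ)).symm
      DerivedCategory.Qh) ≪≫
    asIso w ≪≫
    Functor.isoWhiskerLeft _ (Functor.isoWhiskerRight
      (DerivedCategory.quotientCompQhIso (Spec S).Modules) (DCoh.Rpush f))

/-- `Rf_*(M~) = (M|_R)~` on derived categories. -/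
noncomputable def tildeD_Rpush_iso :
    DCoh.tildeD S ⋙ DCoh.Rpush (Spec.map φ) ≅
      DRing.restrictD φ.hom ⋙ DCoh.tildeD R :=
  let W := HomologicalComplex.quasiIso (ModuleCat.{u} S) (ComplexShape.up ℤ)
  letI : Localization.Lifting DerivedCategory.Q W
      (DerivedCategory.Q ⋙ DCoh.tildeD S ⋙ DCoh.Rpush (Spec.map φ))
      (DCoh.tildeD S ⋙ DCoh.Rpush (Spec.map φ)) := ⟨Iso.refl _⟩
  letI : Localization.Lifting DerivedCategory.Q W
      (DerivedCategory.Q ⋙ DRing.restrictD φ.hom ⋙ DCoh.tildeD R)
      (DRing.restrictD φ.hom ⋙ DCoh.tildeD R) := ⟨Iso.refl _⟩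
  Localization.liftNatIso DerivedCategory.Q W _ _ _ _
    ((Functor.associator _ _ _).symm ≪≫
      Functor.isoWhiskerRight (tilde.functor S).mapDerivedCategoryFactors _ ≪≫
      Functor.associator _ _ _ ≪≫ (unitIso φ).symm ≪≫
      (Functor.associator _ _ _).symm ≪≫
      (show (((tilde.functor S).mapHomologicalComplex (ComplexShape.up ℤ) ⋙
          (Scheme.Modules.pushforward (Spec.map φ)).mapHomologicalComplex (ComplexShape.up ℤ)) ⋙
            DerivedCategory.Q) ≅
        (((ModuleCat.restrictScalars φ.hom).mapHomologicalComplex (ComplexShape.up ℤ) ⋙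
          (tilde.functor R).mapHomologicalComplex (ComplexShape.up ℤ)) ⋙ DerivedCategory.Q)
        from Functor.isoWhiskerRight (NatIso.mapHomologicalComplex (pushTildeIso φ) (ComplexShape.up ℤ))
          DerivedCategory.Q) ≪≫
      Functor.associator _ _ _ ≪≫
      Functor.isoWhiskerLeft _ (tilde.functor R).mapDerivedCategoryFactors.symm ≪≫
      (Functor.associator _ _ _).symm ≪≫
      Functor.isoWhiskerRight (ModuleCat.restrictScalars φ.hom).mapDerivedCategoryFactors.symm _ ≪≫
      Functor.associator _ _ _)

end Groth.Agent.Lib.DerivedOX.AffinePush
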