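import Groth.Agent.Lib.DerivedOX.AmplitudeStalk
import Groth.Agent.Lib.QCoh.Pushforward
import Groth.Agent.Lib.DerivedOX.LeftExists
import Mathlib.AlgebraicGeometry.Morphisms.QuasiSeparated
import Mathlib.AlgebraicGeometry.Stalk

/-!
# Quasi-coherent modules with prescribed stalk at a point; tor amplitude by quasi-coherent tests
-/

set_option autoImplicit false

universe u

open CategoryTheory Limits AlgebraicGeometry Opposite MonoidalCategory TopologicalSpace

attribute [local instance] HasDerivedCategory.standard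

set_option linter.style.haveILetI false

namespace Groth.Agent.Lib.DerivedOX.QCohSky

open Groth.Agent.Lib.Modules StalkModule

variable {X : Scheme.{u}} (x : X)

/-- The pushforward of `N~` along `Spec O_x → X`. -/
noncomputable abbrev G (N : ModuleCat.{u} (X.presheaf.stalk x)) : X.Modules :=
  (Scheme.Modules.pushforward (X.fromSpecStalk x)).obj (tilde N)

lemma preimage_eq_top {V : X.Opens} (hx : x ∈ V) : X.fromSpecStalk x ⁻¹ᵁ V = ⊤ := by
  refine eq_top_iff.2 fun p _ => ?_
  have h : X.fromSpecStalk x p ⤳ x := by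
    have h' : X.fromSpecStalk x p ∈ Set.range (X.fromSpecStalk x) := ⟨p, rfl⟩
    rwa [Scheme.range_fromSpecStalk] at h'
  exact h.mem_open V.2 hx

variable (N : ModuleCat.{u} (X.presheaf.stalk x))

/-- `N → G_x`. -/
noncomputable def toStalkG : N →+ (G x N).presheaf.stalk x :=
  ((G x N).presheaf.germ ⊤ x trivial).hom.comp (tilde.toOpen N (X.fromSpecStalk x ⁻¹ᵁ ⊤)).hom.toAddMonoidHom

lemma toStalkG_eq (n : N) {V : X.Opens} (hx : x ∈ V) :
    toStalkG x N n = (G x N).presheaf.germ V x hx (tilde.toOpen N (X.fromSpecStalk x ⁻¹ᵁ V) n) :=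
  (TopCat.Presheaf.germ_res_apply (G x N).presheaf (homOfLE le_top) x hx
    (tilde.toOpen N (X.fromSpecStalk x ⁻¹ᵁ ⊤) n :)).symm

lemma toStalkG_smul (r : X.presheaf.stalk x) (n : N) :
    toStalkG x N (r • n) = r • (toStalkG x N n : (G x N).presheaf.stalk x) := by
  obtain ⟨V, hx, r₀, rfl⟩ := X.presheaf.germ_exist r
  rw [toStalkG_eq x N _ hx, toStalkG_eq x N n hx]
  refine Eq.trans (congrArg ((G x N).presheaf.germ V x hx) ?_) (germ_smul hx r₀ _)
  refine (map_smul (tilde.toOpen N (X.fromSpecStalk x ⁻¹ᵁ V)).hom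
    (X.presheaf.germ V x hx r₀) n).trans ?_
  exact congrArg (fun t : Γ(Spec (X.presheaf.stalk x), X.fromSpecStalk x ⁻¹ᵁ V) =>
      t • (show Γ(tilde N, X.fromSpecStalk x ⁻¹ᵁ V) from tilde.toOpen N (X.fromSpecStalk x ⁻¹ᵁ V) n))
    (ConcreteCategory.congr_hom (Scheme.fromSpecStalk_app hx) r₀).symm

lemma toOpen_bijective {W : (Spec (X.presheaf.stalk x)).Opens} (hW : W = ⊤) :
    Function.Bijective (tilde.toOpen N W) := by
  subst hW
  exact (ConcreteCategory.isIso_iff_bijective _).1 inferInstance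

theorem bijective_toStalkG : Function.Bijective (toStalkG x N) := by
  refine ⟨(injective_iff_map_eq_zero _).2 fun n hn => ?_, fun a => ?_⟩
  · obtain ⟨V, hx, i, i', h⟩ := TopCat.Presheaf.germ_eq (G x N).presheaf x (U := (⊤ : X.Opens)) (V := (⊤ : X.Opens)) trivial trivial _ 0
      (hn.trans (map_zero _).symm)
    refine (toOpen_bijective x N (preimage_eq_top x hx)).1 (Eq.trans ?_ (map_zero _).symm)
    exact h.trans (map_zero _)
  · obtain ⟨V, hx, s, rfl⟩ := (G x N).presheaf.germ_exist a
    obtain ⟨n, rfl⟩ := (toOpen_bijective x N (preimage_eq_top x hx)).2 s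
    exact ⟨n, toStalkG_eq x N n hx⟩

/-- The stalk of `G` at `x` is `N`. -/
noncomputable def stalkIso : N ≅ (stalkModFunctor X x).obj (G x N) :=
  (LinearEquiv.ofBijective
    ({ toFun := toStalkG x N
       map_add' := map_add _
       map_smul' := toStalkG_smul x N } :
      N →ₗ[X.presheaf.stalk x] (stalkModFunctor X x).obj (G x N))
    (bijective_toStalkG x N)).toModuleIso

theorem isQCoh_G [QuasiSeparatedSpace X] : Coh.IsQCoh (G x N) := by
  haveI : QuasiSeparated (X.fromSpecStalk x) := inferInstance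
  haveI : QuasiCompact (X.fromSpecStalk x) := inferInstance
  haveI : (tilde N).IsQuasicoherent := inferInstance
  exact QCoh.Pushforward.isQCoh_pushforward (f := X.fromSpecStalk x) (M := tilde N)

/-- Tor amplitude can be tested on quasi-coherent modules. -/
theorem hasTorAmplitudeIn_of_qcoh [QuasiSeparatedSpace X] {K : DCoh.D X} {a b : ℤ}
    (h : ∀ (F : X.Modules), Coh.IsQCoh F → ∀ [DCoh.HasLTensorMod F] (i : ℤ), (i < a ∨ b < i) →
      IsZero (DCoh.HD ((DCoh.LTensorMod F).obj K) i)) :
    DCoh.HasTorAmplitudeIn a b K := by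
  intro F _ i hi
  let E := (KFlat.res X).obj (DerivedCategory.Q.objPreimage K)
  have hE : DCoh.IsKFlat E := KFlat.isKFlat_res _
  let e : DCoh.toD X E ≅ K :=
    asIso (DerivedCategory.Q.map ((KFlat.aug X).app (DerivedCategory.Q.objPreimage K))) ≪≫
      DerivedCategory.Q.objObjPreimageIso K
  refine (Amplitude.isZero_hd_ltensor_iff F hE e i).2 ((Amplitude.exactAt_iff_stalk _ i).2 fun x => ?_)
  let N := (stalkModFunctor X x).obj F
  haveI := LeftExists.hasLTensorMod (G x N)
  have h₁ := (Amplitude.exactAt_iff_stalk _ i).1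
    ((Amplitude.isZero_hd_ltensor_iff (G x N) hE e i).1 (h (G x N) (isQCoh_G x N) i hi)) x
  let ψ : DCoh.tensorRightMod (G x N) ⋙ stalkModFunctor X x ≅
      DCoh.tensorRightMod F ⋙ stalkModFunctor X x :=
    (TensorSheaf.tensorRightStalkIso x (G x N) :) ≪≫
      Functor.isoWhiskerLeft _ ((curriedTensor _).flip.mapIso (stalkIso x N).symm) ≪≫
      (TensorSheaf.tensorRightStalkIso x F).symm
  exact h₁.of_iso ((NatIso.mapHomologicalComplex ψ (ComplexShape.up ℤ)).app E)

end Groth.Agent.Lib.DerivedOX.QCohSky
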