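import Groth.Agent.Lib.DerivedOX.Bifunctor

/-!
# Tensoring with an object in degree zero
-/

open CategoryTheory Limits HomologicalComplex

namespace Groth.Agent.Lib.DerivedOX.SingleTensor

open Bifunctor

variable {C₁ C₂ D : Type*} [Category C₁] [Category C₂] [Category D] [Abelian C₁] [Abelian C₂]
  [Abelian D] (F : C₁ ⥤ C₂ ⥤ D) [F.Additive] [∀ X₁, (F.obj X₁).Additive]
  [∀ (K₁ : CochainComplex C₁ ℤ) (K₂ : CochainComplex C₂ ℤ), HasMapBifunctor K₁ K₂ F (.up ℤ)]
  (A : C₁)

/-- `A[0] ⊗ L` is `A ⊗ L` termwise. -/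
noncomputable def singleZeroIso :
    (F.obj A).mapHomologicalComplex (.up ℤ) ≅
      F.map₂CochainComplex.obj ((single C₁ (.up ℤ) 0).obj A) :=
  NatIso.ofComponents
    (fun L => HomologicalComplex.Hom.isoOfComponents
      (fun m => @asIso _ _ _ _ (singleHom₁ F A 0 L m m (zero_add m))
        (isIso_singleHom₁ F A 0 L m m (zero_add m)))
      (fun m m' (h : m + 1 = m') => by
        refine (singleHom₁_d F A 0 L m m' m m' (zero_add m) (zero_add m') h).trans ?_
        simp
        rfl))
    (fun {L L'} g => by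
      ext m
      simp only [Functor.map₂HomologicalComplex_obj_map, HomologicalComplex.comp_f,
        Hom.isoOfComponents_hom_f, asIso_hom, Functor.mapHomologicalComplex_map_f]
      dsimp only [singleHom₁]
      refine Eq.trans ?_ (Category.assoc _ _ _).symm
      refine Eq.trans ?_ (congrArg _ (ι_mapBifunctorMap (𝟙 _) g F (.up ℤ) 0 m m (zero_add m)).symm)
      simp only [HomologicalComplex.id_f, F.map_id, NatTrans.id_app, Category.id_comp]
      exact NatTrans.naturality_assoc _ (g.f m) _)

end Groth.Agent.Lib.DerivedOX.SingleTensor
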