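import Groth.Agent.S1066
import Groth.Agent.S11109
import Groth.Agent.Lib.DerCat.TStruct
import Groth.Agent.Lib.ExchangeFP29.LocusD
import Groth.Agent.Lib.TensorMod.QCohInv
import Groth.Agent.Lib.SchColim29.ProperFlatPerfect
import Groth.Agent.Lib.SchColim29.TensorVanish

/-!
# The cone of `O ⟶ Rf_* O` on fibres

For `f` proper flat with `H⁰` of a fibre equal to the residue field, the cone of the unit `O ⟶ Rf_*O`
has no cohomology in degrees `≤ 0` on that fibre.
-/

set_option autoImplicit false
set_option linter.style.haveILetI false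
set_option linter.unusedSectionVars false
set_option maxHeartbeats 1000000

universe u

open CategoryTheory Limits AlgebraicGeometry Pretriangulated

attribute [local instance] HasDerivedCategory.standard
attribute [local instance] Groth.Agent.Lib.DerivedOX.LeftExists.hasLpull
  Groth.Agent.Lib.DerivedOX.Exists.hasRpush

namespace Groth.Agent.Lib.DerivedOX.SplitFibre

open Groth.Agent.Lib PullTranspose BCSquare

/-- A map from an object in degrees `≤ 0` to one in degrees `≥ 0` is determined by `H⁰`. -/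
theorem eq_zero_of_homology {C : Type*} [Category C] [Abelian C] [HasDerivedCategory C]
    {A Y : DerivedCategory C} [A.IsLE 0] [A.IsGE 0] [Y.IsGE 0] (φ : A ⟶ Y)
    (h : (DerivedCategory.homologyFunctor C 0).map φ = 0) : φ = 0 := by
  let t := DerivedCategory.TStructure.t (C := C)
  have hT := t.triangleLTGE_distinguished 1 Y
  haveI hge : ((t.truncGE 1).obj Y).IsGE 1 := (inferInstance : t.IsGE ((t.truncGE 1).obj Y) 1)
  have h0 : φ ≫ (t.truncGEπ 1).app Y = 0 := t.zero _ 0 1 (by lia)
  obtain ⟨φ', hφ⟩ : ∃ φ' : A ⟶ (t.truncLT 1).obj Y, φ = φ' ≫ (t.truncLTι 1).app Y :=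
    Triangle.coyoneda_exact₂ _ hT φ h0
  haveI : DerivedCategory.IsLE ((t.truncLT 1).obj Y) 0 := t.isLE_truncLT_obj Y 1 0
  have hι : ∀ i : ℤ, i < 1 → IsIso ((DerivedCategory.homologyFunctor C i).map ((t.truncLTι 1).app Y)) :=
    fun i hi => @DerCat.TStruct.isIso_homologyMap_mor₁ _ _ _ _ _ hT 1 hge i hi
  haveI : DerivedCategory.IsGE ((t.truncLT 1).obj Y) 0 := (DerivedCategory.isGE_iff _ _).2 fun i hi => by
    haveI := hι i (by omega)
    exact (DerivedCategory.isZero_of_isGE Y 0 i hi).of_iso
      (asIso ((DerivedCategory.homologyFunctor C i).map ((t.truncLTι 1).app Y)))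
  haveI := hι 0 (by omega)
  have h1 : (DerivedCategory.homologyFunctor C 0).map φ' = 0 := by
    rw [← cancel_mono ((DerivedCategory.homologyFunctor C 0).map ((t.truncLTι 1).app Y)), zero_comp]
    exact ((Functor.map_comp _ _ _).symm.trans (congrArg _ hφ.symm)).trans h
  rw [hφ, DerCat.TStruct.eq_zero_of_homologyMap_eq_zero 0 φ' h1, zero_comp]

variable {X S : Scheme.{u}}

/-- `O` in degree zero. -/
noncomputable abbrev one (S : Scheme.{u}) : CochainComplex S.Modules ℤ :=
  (HomologicalComplex.single S.Modules (ComplexShape.up ℤ) 0).obj (Coh.structureModule S)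

/-- `O` in degree zero of the derived category. -/
noncomputable def oneIso (S : Scheme.{u}) :
    DerivedCategory.Q.obj (one S) ≅ DCoh.inD S (Coh.structureModule S) :=
  ((DerivedCategory.singleFunctorIsoCompQ _ 0).app (Coh.structureModule S)).symm

theorem isKFlat_one (S : Scheme.{u}) : DCoh.IsKFlat (one S) := by
  refine Amplitude.isKFlat_of_bounded _ 0
    (fun i hi => HomologicalComplex.isZero_single_obj_X _ 0 _ i (by omega)) fun i x => ?_
  by_cases hi : i = 0
  · subst hi
    haveI : Module.Flat (S.presheaf.stalk x) ((Coh.structureModule S).presheaf.stalk x) :=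
      SchColim29.TensorVanish.isFlat_structureModule x
    exact Module.Flat.of_linearEquiv (Modules.StalkModule.stalkLinearEquiv
      (HomologicalComplex.singleObjXSelf (ComplexShape.up ℤ) 0 (Coh.structureModule S)) x)
  · haveI : Subsingleton (((one S).X i).presheaf.stalk x) :=
      Modules.Stalk.isZero_iff_stalk_subsingleton.1
        (HomologicalComplex.isZero_single_obj_X (ComplexShape.up ℤ) 0 (Coh.structureModule S) i hi) x
    show Module.Flat (S.presheaf.stalk x) (((one S).X i).presheaf.stalk x)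
    infer_instance

/-- `f^* O = O` on complexes. -/
noncomputable def pullOne (f : X ⟶ S) : (pullC f).obj (one S) ≅ one X :=
  (HomologicalComplex.singleMapHomologicalComplex (Scheme.Modules.pullback f) _ 0).app _ ≪≫
    (HomologicalComplex.single X.Modules (ComplexShape.up ℤ) 0).mapIso (PicLoc.pullbackStructureIso f)

/-- `Lf^* O = O`. -/
noncomputable def lpullOne (f : X ⟶ S) :
    (DCoh.Lpull f).obj (DerivedCategory.Q.obj (one S)) ≅ DerivedCategory.Q.obj (one X) :=
  haveI := PullTranspose.isIso_counitCx f (isKFlat_one S)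
  asIso ((counitCx f).app (one S)) ≪≫ DerivedCategory.Q.mapIso (pullOne f)

/-- A nonempty scheme has nonzero `O`. -/
theorem not_isZero_one [Nonempty X] : ¬ IsZero (DerivedCategory.Q.obj (one X)) := by
  intro h
  have h1 : IsZero (Coh.structureModule X) :=
    ((DerivedCategory.homologyFunctor _ 0).map_isZero h).of_iso
      ((HomologicalComplex.singleObjHomologySelfIso (ComplexShape.up ℤ) 0 _).symm ≪≫
        ((DerivedCategory.homologyFunctorFactors _ 0).app _).symm)
  obtain ⟨x⟩ := ‹Nonempty X›
  haveI : Subsingleton Γ(X, ⊤) :=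
    AddCommGrpCat.subsingleton_of_isZero ((DCoh.gammaAb X).map_isZero h1)
  haveI : Nonempty (⊤ : X.Opens) := ⟨⟨x, trivial⟩⟩
  exact false_of_nontrivial_of_subsingleton Γ(X, ⊤)

/-- `O` in degree zero has quasi-coherent cohomology. -/
theorem isQCohD_one (X : Scheme.{u}) : DCoh.IsQCohD (DerivedCategory.Q.obj (one X)) := fun i => by
  haveI := TensorMod.QCohInv.isQCoh_structureModule X
  refine QCohLocal.isQCoh_HD (fun n => ?_) (Iso.refl _) i
  by_cases hn : n = 0
  · subst hn
    exact (Groth.Agent.Lib.WayOut.Scheme.qc X).prop_of_iso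
      (HomologicalComplex.singleObjXSelf (ComplexShape.up ℤ) 0 (Coh.structureModule X)).symm ‹_›
  · exact (Groth.Agent.Lib.WayOut.Scheme.qc X).prop_of_isZero
      (HomologicalComplex.isZero_single_obj_X (ComplexShape.up ℤ) 0 (Coh.structureModule X) n hn)

variable (f : X ⟶ S)

/-- The unit `O ⟶ Rf_* Lf^* O`. -/
noncomputable abbrev unitOne : DerivedCategory.Q.obj (one S) ⟶
    (DCoh.Rpush f).obj ((DCoh.Lpull f).obj (DerivedCategory.Q.obj (one S))) :=
  (PullPushAdj.derivedAdjunction f).unit.app _

variable {T X' : Scheme.{u}} (σ : T ⟶ S) (f' : X' ⟶ T) (g' : X' ⟶ X) (hsq : IsPullback g' f' f σ)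

include hsq in
/-- The unit is nonzero on a nonempty fibre. -/
theorem map_unitOne_ne_zero [Nonempty X'] : (DCoh.Lpull σ).map (unitOne f) ≠ 0 := by
  intro h
  let D := PullPushAdj.derivedAdjunction f
  let A := DerivedCategory.Q.obj (one S)
  have h1 : (DCoh.Lpull g').map ((DCoh.Lpull f).map (unitOne f)) = 0 := by
    have hn := (sqLeft f σ f' g' hsq.w).hom.naturality (unitOne f)
    dsimp only [Functor.comp_map, Functor.comp_obj] at hn
    rw [h, Functor.map_zero, zero_comp] at hn
    exact (cancel_epi ((sqLeft f σ f' g' hsq.w).hom.app A)).1 (hn.symm.trans comp_zero.symm)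
  have h2 : 𝟙 ((DCoh.Lpull g').obj ((DCoh.Lpull f).obj A)) = 0 := by
    rw [← CategoryTheory.Functor.map_id, ← D.left_triangle_components A, Functor.map_comp]
    exact (congrArg (· ≫ _) h1).trans zero_comp
  exact not_isZero_one (((IsZero.iff_id_eq_zero _).2 h2).of_iso
    ((lpullOne g').symm ≪≫ (DCoh.Lpull g').mapIso (lpullOne f).symm))

/-- Base change at `O` for flat `f`. -/
theorem isIso_bcD_one [QuasiCompact f] [QuasiSeparated f] [Flat f] (w : g' ≫ f = f' ≫ σ)
    (sq : IsPullback g' f' f σ) :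
    IsIso ((bcD f σ f' g' w).app (DerivedCategory.Q.obj (one X))) := by
  have hflat : FlatMod.IsFlatOver f (Coh.structureModule X) :=
    SchColim29.ProperFlatPerfect.isFlatOver_of_isFlat f SchColim29.TensorVanish.isFlat_structureModule
  haveI : IsIso ((BCCube.ψ f σ f' g' w).app ((Amplitude.tens (Coh.structureModule X)).obj (one X))) :=
    BCLoc.isIso_ψ_tens sq _ (TensorMod.QCohInv.isQCoh_structureModule X)
      (S1066.torLoc_of_isFlatOver f σ _ (TensorMod.QCohInv.isQCoh_structureModule X) hflat) (one X)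
      (isKFlat_one X) (isQCohD_one X)
  haveI h1 : IsIso ((BCCube.ψ f σ f' g' w).app (one X)) :=
    (NatTrans.isIso_app_iff_of_iso (BCCube.ψ f σ f' g' w) (S11109.tensUnit X (one X))).1 inferInstance
  haveI := PullTranspose.isIso_counitCx g' (isKFlat_one X)
  dsimp only [BCCube.ψ] at h1
  exact @IsIso.of_isIso_comp_right _ _ _ _ _ _
    ((DCoh.Rpush f').map ((counitCx g').app (one X))) inferInstance h1

variable {k : Type u} [Field k]

/-- A nonzero endomorphism of `O` of the spectrum of a field is invertible. -/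
theorem isIso_of_ne_zero {M N : (Spec (CommRingCat.of k)).Modules}
    (eM : M ≅ Coh.structureModule _) (eN : N ≅ Coh.structureModule _) (φ : M ⟶ N) (hφ : φ ≠ 0) :
    IsIso φ := by
  let R := CommRingCat.of k
  let F := tilde.functor R
  haveI : F.Full := (tilde.fullyFaithfulFunctor (R := R)).full
  let a : F.obj (ModuleCat.of R R) ≅ M := tildeSelf ≪≫ eM.symm
  let b : F.obj (ModuleCat.of R R) ≅ N := tildeSelf ≪≫ eN.symm
  let ψ : F.obj (ModuleCat.of R R) ⟶ F.obj (ModuleCat.of R R) := a.hom ≫ φ ≫ b.inv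
  obtain ⟨v, hv⟩ := F.map_surjective ψ
  have hv0 : v ≠ 0 := by
    rintro rfl
    apply hφ
    rw [Functor.map_zero] at hv
    rw [← cancel_epi a.hom, ← cancel_mono b.inv, Category.assoc, comp_zero, zero_comp]
    exact hv.symm
  haveI : IsIso v := by
    rw [ConcreteCategory.isIso_iff_bijective]
    let L : k →ₗ[k] k := v.hom
    have hinj : Function.Injective L := by
      rw [← LinearMap.ker_eq_bot]
      refine (Submodule.eq_bot_iff _).2 fun x hx => ?_
      by_contra hne
      refine hv0 (ModuleCat.hom_ext (LinearMap.ext_ring ?_))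
      have h2 : L x = x * L 1 := by
        rw [← smul_eq_mul, ← map_smul, smul_eq_mul, mul_one]
      rw [LinearMap.mem_ker.1 hx] at h2
      exact (mul_eq_zero.1 h2.symm).resolve_left hne
    exact ⟨hinj, LinearMap.surjective_of_injective hinj⟩
  haveI : IsIso ψ := hv ▸ inferInstance
  have : φ = a.inv ≫ ψ ≫ b.hom := by simp [ψ]
  rw [this]
  infer_instance

/-- `f'_* O = O` when the functions are `k`. -/
theorem nonempty_push_one (f' : X' ⟶ Spec (CommRingCat.of k)) [QuasiCompact f'] [QuasiSeparated f']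
    (h : IsIso f'.appTop) :
    Nonempty ((Coh.push f').obj (Coh.structureModule X') ≅ Coh.structureModule _) := by
  let R := CommRingCat.of k
  let M := (Coh.push f').obj (Coh.structureModule X')
  haveI := TensorMod.QCohInv.isQCoh_structureModule X'
  haveI : M.IsQuasicoherent := QCoh.Pushforward.isQCoh_pushforward f' (M := Coh.structureModule X')
  let N := (QCoh.Tilde.specΓ R).obj M
  let θ : k →+* Γ(X', ⊤) := f'.appTop.hom.comp (Scheme.ΓSpecIso R).inv.hom
  have hθ : Function.Bijective θ := (ConcreteCategory.bijective_of_isIso f'.appTop).comp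
    (ConcreteCategory.bijective_of_isIso (Scheme.ΓSpecIso R).inv)
  let e : (ModuleCat.of R R : ModuleCat.{u} R) ≃ₗ[R] N :=
    LinearEquiv.ofBijective
      ({ toFun := fun r => (show Γ(X', ⊤) from θ r)
         map_add' := map_add θ
         map_smul' := fun r s => map_mul θ r s } : (ModuleCat.of R R : ModuleCat.{u} R) →ₗ[R] N) hθ
  exact ⟨(QCoh.Tilde.isoTildeSections M).symm ≪≫ (tilde.functor R).mapIso e.toModuleIso.symm ≪≫
    tildeSelf⟩

/-- The cone of the unit has no fibre cohomology in degrees `≤ 0`. -/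
theorem isZero_HD_cone [QuasiCompact f] [QuasiSeparated f] [Flat f]
    (σ : Spec (CommRingCat.of k) ⟶ S) (f' : X' ⟶ Spec (CommRingCat.of k)) (g' : X' ⟶ X)
    (hsq : IsPullback g' f' f σ) (hH : IsIso f'.appTop) {C : DCoh.D S}
    (c : (DCoh.Rpush f).obj ((DCoh.Lpull f).obj (DerivedCategory.Q.obj (one S))) ⟶ C)
    (δ : C ⟶ (DerivedCategory.Q.obj (one S))⟦(1 : ℤ)⟧)
    (hT : Triangle.mk (unitOne f) c δ ∈ distTriang (DCoh.D S)) (i : ℤ) (hi : i ≤ 0) :
    IsZero (DCoh.HD ((DCoh.Lpull σ).obj C) i) := by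
  haveI : QuasiCompact f' := MorphismProperty.of_isPullback hsq inferInstance
  haveI : QuasiSeparated f' := MorphismProperty.of_isPullback hsq inferInstance
  haveI : Nonempty X' := by
    by_contra hne
    haveI : IsEmpty X' := not_nonempty_iff.1 hne
    haveI : Subsingleton Γ(X', ⊤) := inferInstance
    haveI := ((ConcreteCategory.bijective_of_isIso f'.appTop).1.comp
      (ConcreteCategory.bijective_of_isIso (Scheme.ΓSpecIso (CommRingCat.of k)).inv).1).subsingleton
    exact false_of_nontrivial_of_subsingleton k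
  let T' := (DCoh.Lpull σ).mapTriangle.obj (Triangle.mk (unitOne f) c δ)
  have hT' : T' ∈ distTriang _ := (DCoh.Lpull σ).map_distinguished _ hT
  haveI := isIso_bcD_one f σ f' g' hsq.w hsq
  let eB : T'.obj₂ ≅ (DCoh.Rpush f').obj (DCoh.inD X' (Coh.structureModule X')) :=
    (DCoh.Lpull σ).mapIso ((DCoh.Rpush f).mapIso (lpullOne f)) ≪≫
      asIso ((bcD f σ f' g' hsq.w).app (DerivedCategory.Q.obj (one X))) ≪≫
      (DCoh.Rpush f').mapIso (lpullOne g' ≪≫ oneIso X')
  let eA : T'.obj₁ ≅ DCoh.inD _ (Coh.structureModule (Spec (CommRingCat.of k))) :=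
    lpullOne σ ≪≫ oneIso _
  let H := fun n : ℤ => DerivedCategory.homologyFunctor (Spec (CommRingCat.of k)).Modules n
  haveI : (DCoh.inD (Spec (CommRingCat.of k)) (Coh.structureModule _)).IsGE 0 :=
    inferInstanceAs (((DerivedCategory.singleFunctor _ 0).obj _).IsGE 0)
  haveI : (DCoh.inD (Spec (CommRingCat.of k)) (Coh.structureModule _)).IsLE 0 :=
    inferInstanceAs (((DerivedCategory.singleFunctor _ 0).obj _).IsLE 0)
  haveI : T'.obj₁.IsGE 0 := DerivedCategory.TStructure.t.isGE_of_iso eA.symm 0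
  haveI : T'.obj₁.IsLE 0 := DerivedCategory.TStructure.t.isLE_of_iso eA.symm 0
  haveI : T'.obj₂.IsGE 0 := (DerivedCategory.isGE_iff _ _).2 fun n hn =>
    (ExchangeFP29.LocusD.isZero_HD_neg f' (Coh.structureModule X') n hn).of_iso ((H n).mapIso eB)
  haveI : IsIso ((H 0).map T'.mor₁) := by
    haveI : HasInjectiveResolutions X'.Modules := inferInstance
    obtain ⟨a⟩ := ExchangeFP29.LocusD.nonempty_HD_iso f' (Coh.structureModule X') 0
    obtain ⟨b⟩ := ExchangeFP29.Main.nonempty_zeroIso f' (Coh.structureModule X')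
    obtain ⟨p⟩ := nonempty_push_one f' hH
    refine isIso_of_ne_zero ((H 0).mapIso eA ≪≫
      (DerivedCategory.singleFunctorCompHomologyFunctorIso _ 0).app _)
      ((H 0).mapIso eB ≪≫ a ≪≫ b ≪≫ p) _ fun h0 => ?_
    exact map_unitOne_ne_zero f σ f' g' hsq (eq_zero_of_homology T'.mor₁ h0)
  rcases lt_or_eq_of_le hi with hi | rfl
  · have h2 : (H i).map T'.mor₂ = 0 :=
      (DerivedCategory.isZero_of_isGE T'.obj₂ 0 i hi).eq_of_src _ _
    rcases lt_or_eq_of_le (show i + 1 ≤ 0 by omega) with h | h
    · refine ShortComplex.Exact.isZero_X₂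
        (DerivedCategory.HomologySequence.exact₃ T' hT' i (i + 1) rfl) h2 ?_
      exact (DerivedCategory.isZero_of_isGE T'.obj₁ 0 (i + 1) h).eq_of_tgt _ _
    · haveI : Mono ((H (i + 1)).map T'.mor₁) := by rw [h]; infer_instance
      refine ShortComplex.Exact.isZero_X₂
        (DerivedCategory.HomologySequence.exact₃ T' hT' i (i + 1) rfl) h2 ?_
      exact (DerivedCategory.HomologySequence.mono_homologyMap_mor₁_iff T' hT' i (i + 1) rfl).1 ‹_›
  · refine ShortComplex.Exact.isZero_X₂
      (DerivedCategory.HomologySequence.exact₃ T' hT' 0 1 rfl) ?_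
      ((DerivedCategory.isZero_of_isLE T'.obj₁ 0 1 (by omega)).eq_of_tgt _ _)
    exact (DerivedCategory.HomologySequence.epi_homologyMap_mor₁_iff T' hT' 0).1 inferInstance

end Groth.Agent.Lib.DerivedOX.SplitFibre
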