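import Groth.Agent.Lib.DerivedOX.MVTriangle
import Groth.Agent.Lib.DerivedOX.OpenSupport
import Mathlib.CategoryTheory.Adjunction.Mates

/-!
# The Mayer–Vietoris triangle for extension by zero
-/

set_option autoImplicit false

universe u v w

open CategoryTheory Limits AlgebraicGeometry Opposite Pretriangulated HomologicalComplex

attribute [local instance] HasDerivedCategory.standard

set_option linter.style.haveILetI false

namespace Groth.Agent.Lib.DerivedOX.MVExtZero

open MVTriangle

variable {X : Scheme.{u}}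

/-- `j_! j^*` for an open. -/
noncomputable abbrev L (W : X.Opens) : X.Modules ⥤ X.Modules :=
  Scheme.Modules.restrictFunctor W.ι ⋙ CxOX.extZero W.ι

/-- `j_! j^* ⊣ j_* j^*`. -/
noncomputable def adjW (W : X.Opens) : L W ⊣ R W :=
  (Scheme.Modules.restrictAdjunction W.ι).comp (CxOX.extZeroAdj W.ι)

variable {W W' : X.Opens} (h : W' ≤ W)

/-- `j'_! j'^* ⟶ j_! j^*` for a smaller open. -/
noncomputable def σ : L W' ⟶ L W := (conjugateEquiv (adjW W) (adjW W')).symm (ρ h)

/-- `j_! j^* M ⟶ M`. -/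
noncomputable def ε (W : X.Opens) : L W ⟶ 𝟭 X.Modules :=
  (conjugateEquiv Adjunction.id (adjW W)).symm (η W)

lemma σ_ε (M : X.Modules) : (σ h).app M ≫ (ε W).app M = (ε W').app M := by
  have e : η W ≫ ρ h = η W' := by ext N : 2; exact η_ρ h N
  have := conjugateEquiv_symm_comp Adjunction.id (adjW W) (adjW W') (η W) (ρ h)
  rw [e] at this
  exact congrArg (fun t => NatTrans.app t M) this

lemma isIso_restrict_σ {T : X.Opens} (hT : W ⊓ T ≤ W') (M : X.Modules) :
    IsIso ((Scheme.Modules.restrictFunctor T.ι).map ((σ h).app M)) := by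
  let aT := Scheme.Modules.restrictAdjunction T.ι
  let τ := Functor.whiskerRight (σ h) (Scheme.Modules.restrictFunctor T.ι)
  haveI : ∀ N, IsIso ((Functor.whiskerLeft (Scheme.Modules.pushforward T.ι) (ρ h)).app N) := fun N => by
    refine Scheme.Modules.Hom.isIso_iff_isIso_app.2 fun O => ?_
    have hle : T.ι ⁻¹ᵁ (W.ι ''ᵁ (W.ι ⁻¹ᵁ O)) ≤ T.ι ⁻¹ᵁ (W'.ι ''ᵁ (W'.ι ⁻¹ᵁ O)) := by
      rw [Scheme.Hom.image_preimage_eq_opensRange_inf, Scheme.Hom.image_preimage_eq_opensRange_inf,
        Scheme.Opens.opensRange_ι, Scheme.Opens.opensRange_ι]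
      intro t ht
      exact ⟨hT ⟨ht.1, t.2⟩, ht.2⟩
    haveI : IsIso ((TopologicalSpace.Opens.map T.ι.base).map (homOfLE (image_preimage_mono h O))) :=
      ⟨homOfLE hle, Subsingleton.elim _ _, Subsingleton.elim _ _⟩
    change IsIso (N.presheaf.map
      ((TopologicalSpace.Opens.map T.ι.base).map (homOfLE (image_preimage_mono h O))).op)
    infer_instance
  haveI : IsIso (Functor.whiskerLeft (Scheme.Modules.pushforward T.ι) (ρ h)) :=
    NatIso.isIso_of_isIso_app _
  haveI : IsIso (conjugateEquiv ((adjW W).comp aT) ((adjW W').comp aT) τ) := by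
    rw [conjugateEquiv_whiskerRight, show conjugateEquiv (adjW W) (adjW W') (σ h) = ρ h from
      Equiv.apply_symm_apply _ _]
    infer_instance
  haveI := conjugateEquiv_of_iso ((adjW W).comp aT) ((adjW W').comp aT) τ
  exact inferInstanceAs (IsIso (τ.app M))

lemma isIso_restrict_ε (M : X.Modules) :
    IsIso ((Scheme.Modules.restrictFunctor W.ι).map ((ε W).app M)) := by
  let aT := Scheme.Modules.restrictAdjunction W.ι
  let τ := Functor.whiskerRight (ε W) (Scheme.Modules.restrictFunctor W.ι)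
  haveI : ∀ N, IsIso ((Functor.whiskerLeft (Scheme.Modules.pushforward W.ι) (η W)).app N) := fun N =>
    IsIso.of_isIso_fac_right (aT.right_triangle_components N)
  haveI : IsIso (Functor.whiskerLeft (Scheme.Modules.pushforward W.ι) (η W)) :=
    NatIso.isIso_of_isIso_app _
  haveI : IsIso (conjugateEquiv (Adjunction.id.comp aT) ((adjW W).comp aT) τ) := by
    rw [conjugateEquiv_whiskerRight, show conjugateEquiv Adjunction.id (adjW W) (ε W) = η W from
      Equiv.apply_symm_apply _ _]
    infer_instance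
  haveI := conjugateEquiv_of_iso (Adjunction.id.comp aT) ((adjW W).comp aT) τ
  exact inferInstanceAs (IsIso (τ.app M))

variable (U V : X.Opens)

/-- The Mayer–Vietoris sequence of extensions by zero of a module. -/
noncomputable abbrev seq (M : X.Modules) : ShortComplex X.Modules :=
  ShortComplex.mk
    (biprod.lift ((σ (inf_le_left : U ⊓ V ≤ U)).app M) ((σ (inf_le_right : U ⊓ V ≤ V)).app M))
    (biprod.desc ((ε U).app M) (-(ε V).app M))
    (by
      rw [biprod.lift_desc, Preadditive.comp_neg, add_neg_eq_zero]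
      exact (σ_ε _ M).trans (σ_ε _ M).symm)

theorem shortExact_seq (hUV : U ⊔ V = ⊤) (M : X.Modules) : (seq U V M).ShortExact := by
  have h1 := shortExact_map_of_right (Scheme.Modules.restrictFunctor U.ι)
    ((σ (inf_le_left : U ⊓ V ≤ U)).app M) ((σ (inf_le_right : U ⊓ V ≤ V)).app M)
    ((ε U).app M) ((ε V).app M) ((σ_ε _ M).trans (σ_ε _ M).symm)
    (isIso_restrict_σ _ (by rw [inf_comm]) M) (isIso_restrict_ε M)
  have h2 := shortExact_map_of_left (Scheme.Modules.restrictFunctor V.ι)
    ((σ (inf_le_left : U ⊓ V ≤ U)).app M) ((σ (inf_le_right : U ⊓ V ≤ V)).app M)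
    ((ε U).app M) ((ε V).app M) ((σ_ε _ M).trans (σ_ε _ M).symm)
    (isIso_restrict_σ _ le_rfl M) (isIso_restrict_ε M)
  let 𝒰 : Bool → X.Opens := fun b => bif b then U else V
  have h𝒰 : ⨆ b, 𝒰 b = ⊤ := by rw [iSup_bool_eq]; exact hUV
  exact
    { exact := Modules.Local.exact_of_restrict 𝒰 h𝒰 _ fun b => by cases b; exacts [h2.exact, h1.exact]
      mono_f := Modules.Local.mono_of_restrict 𝒰 h𝒰 _ fun b => by cases b; exacts [h2.mono_f, h1.mono_f]
      epi_g := Modules.Local.epi_of_restrict 𝒰 h𝒰 _ fun b => by cases b; exacts [h2.epi_g, h1.epi_g] }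

instance : (L W).Additive := inferInstance

/-- `L W` termwise. -/
noncomputable abbrev LC (W : X.Opens) : CochainComplex X.Modules ℤ ⥤ CochainComplex X.Modules ℤ :=
  (L W).mapHomologicalComplex (ComplexShape.up ℤ)

/-- `j_! j^* K ⟶ K`. -/
noncomputable def εC (W : X.Opens) (K : CochainComplex X.Modules ℤ) : (LC W).obj K ⟶ K where
  f n := (ε W).app (K.X n)
  comm' i j _ := ((ε W).naturality (K.d i j)).symm

/-- `j'_! j'^* K ⟶ j_! j^* K`. -/
noncomputable def σC (K : CochainComplex X.Modules ℤ) : (LC W').obj K ⟶ (LC W).obj K :=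
  ((σ h).mapHomologicalComplex (ComplexShape.up ℤ)).app K

/-- The sequence for a complex. -/
noncomputable abbrev seqC (K : CochainComplex X.Modules ℤ) : ShortComplex (CochainComplex X.Modules ℤ) :=
  ShortComplex.mk (biprod.lift (σC (inf_le_left : U ⊓ V ≤ U) K) (σC (inf_le_right : U ⊓ V ≤ V) K))
    (biprod.desc (εC U K) (-εC V K))
    (by
      rw [biprod.lift_desc, Preadditive.comp_neg, add_neg_eq_zero]
      exact HomologicalComplex.hom_ext _ _ fun n => (σ_ε _ (K.X n)).trans (σ_ε _ (K.X n)).symm)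

theorem shortExact_seqC (hUV : U ⊔ V = ⊤) (K : CochainComplex X.Modules ℤ) :
    (seqC U V K).ShortExact := by
  refine shortExact_of_degreewise_shortExact _ fun n => ?_
  refine ShortComplex.shortExact_of_iso ?_ (shortExact_seq U V hUV (K.X n))
  refine ShortComplex.isoMk (Iso.refl _) (biprodXIso ((LC U).obj K) ((LC V).obj K) n).symm (Iso.refl _) ?_ ?_
  · simp only [ShortComplex.map_f, Iso.refl_hom, Iso.symm_hom]
    refine (Category.id_comp _).trans ((Iso.comp_inv_eq _).2 ?_).symm
    refine biprod.hom_ext _ _ ?_ ?_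
    · exact (biprod.lift_fst _ _).trans (((Category.assoc _ _ _).trans
        ((congrArg (_ ≫ ·) (biprodXIso_hom_fst ((LC U).obj K) ((LC V).obj K) n)).trans
          (congrArg (fun t => HomologicalComplex.Hom.f t n)
            (biprod.lift_fst (σC (inf_le_left : U ⊓ V ≤ U) K)
              (σC (inf_le_right : U ⊓ V ≤ V) K))))).symm)
    · exact (biprod.lift_snd _ _).trans (((Category.assoc _ _ _).trans
        ((congrArg (_ ≫ ·) (biprodXIso_hom_snd ((LC U).obj K) ((LC V).obj K) n)).trans
          (congrArg (fun t => HomologicalComplex.Hom.f t n)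
            (biprod.lift_snd (σC (inf_le_left : U ⊓ V ≤ U) K)
              (σC (inf_le_right : U ⊓ V ≤ V) K))))).symm)
  · simp only [ShortComplex.map_g, Iso.refl_hom, Iso.symm_hom]
    refine Eq.trans ?_ (Category.comp_id _).symm
    refine biprod.hom_ext' _ _ ?_ ?_
    · exact ((Category.assoc _ _ _).symm.trans ((congrArg (· ≫ _) (inl_biprodXIso_inv ((LC U).obj K) ((LC V).obj K) n)).trans
        (congrArg (fun t => HomologicalComplex.Hom.f t n)
          (biprod.inl_desc (εC U K) (-εC V K))))).trans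
        (biprod.inl_desc _ _).symm
    · exact ((Category.assoc _ _ _).symm.trans ((congrArg (· ≫ _) (inr_biprodXIso_inv ((LC U).obj K) ((LC V).obj K) n)).trans
        (congrArg (fun t => HomologicalComplex.Hom.f t n)
          (biprod.inr_desc (εC U K) (-εC V K))))).trans
        (biprod.inr_desc _ _).symm

/-- `j_! j^*` on the derived category is computed termwise. -/
noncomputable def LCIso (W : X.Opens) [PreservesFiniteLimits (CxOX.extZero W.ι)]
    (K : CochainComplex X.Modules ℤ) :
    (CxOX.extZeroD W.ι).obj ((DCoh.restrictD W.ι).obj (DerivedCategory.Q.obj K)) ≅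
      DerivedCategory.Q.obj ((LC W).obj K) :=
  (CxOX.extZeroD W.ι).mapIso ((Scheme.Modules.restrictFunctor W.ι).mapDerivedCategoryFactors.app K) ≪≫
    (CxOX.extZero W.ι).mapDerivedCategoryFactors.app _

/-- The Mayer–Vietoris triangle for extension by zero. -/
theorem exists_mv_triangle (hUV : U ⊔ V = ⊤)
    [PreservesFiniteLimits (CxOX.extZero U.ι)] [PreservesFiniteLimits (CxOX.extZero V.ι)]
    [PreservesFiniteLimits (CxOX.extZero (U ⊓ V).ι)] (E : DCoh.D X) :
    ∃ (a : (CxOX.extZeroD (U ⊓ V).ι).obj ((DCoh.restrictD (U ⊓ V).ι).obj E) ⟶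
        ((CxOX.extZeroD U.ι).obj ((DCoh.restrictD U.ι).obj E) ⊞
          (CxOX.extZeroD V.ι).obj ((DCoh.restrictD V.ι).obj E)))
      (b : ((CxOX.extZeroD U.ι).obj ((DCoh.restrictD U.ι).obj E) ⊞
          (CxOX.extZeroD V.ι).obj ((DCoh.restrictD V.ι).obj E)) ⟶ E)
      (c : E ⟶ ((CxOX.extZeroD (U ⊓ V).ι).obj ((DCoh.restrictD (U ⊓ V).ι).obj E))⟦(1 : ℤ)⟧),
      Triangle.mk a b c ∈ distinguishedTriangles := by
  let K := DerivedCategory.Q.objPreimage E
  let e : E ≅ DerivedCategory.Q.obj K := (DerivedCategory.Q.objObjPreimageIso E).symm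
  haveI := preservesBinaryBiproducts_of_preservesBiproducts
    (DerivedCategory.Q : CochainComplex X.Modules ℤ ⥤ _)
  exact MVTriangle.exists_triangle (DerivedCategory.triangleOfSES_distinguished (shortExact_seqC U V hUV K))
    ((CxOX.extZeroD _).mapIso ((DCoh.restrictD _).mapIso e) ≪≫ LCIso (U ⊓ V) K)
    (biprod.mapIso ((CxOX.extZeroD U.ι).mapIso ((DCoh.restrictD U.ι).mapIso e) ≪≫ LCIso U K)
      ((CxOX.extZeroD V.ι).mapIso ((DCoh.restrictD V.ι).mapIso e) ≪≫ LCIso V K) ≪≫
      (DerivedCategory.Q.mapBiprod ((LC U).obj K) ((LC V).obj K)).symm) e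

end Groth.Agent.Lib.DerivedOX.MVExtZero
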