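import Groth.Agent.Lib.DerCat.FixCoprod
import Groth.Agent.Lib.DerCat.ModGen
import Groth.Agent.Lib.DerivedOX.MVExtZero
import Groth.Agent.Lib.DerivedOX.OpenImm
import Groth.Agent.Lib.DerivedOX.QCohCoprod
import Groth.Agent.Lib.DerivedOX.RpushQCoh
import Groth.Agent.Lib.DerivedOX.TildeEquiv

/-!
# The structure sheaf is compact with respect to `D_QCoh`

On a quasi-compact quasi-separated scheme a map from `𝒪_X` (or one of its shifts) to a direct sum of
objects of `D_QCoh(𝒪_X)` is fixed by a finite cut: the affine case is `D(R)`, and one passes to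
general `X` by Mayer–Vietoris.
-/

set_option autoImplicit false
set_option linter.unusedSectionVars false
set_option linter.style.haveILetI false

universe u

open CategoryTheory Limits AlgebraicGeometry Pretriangulated DerivedCategory

attribute [local instance] HasDerivedCategory.standard

namespace Groth.Agent.Lib.DerivedOX.CompactUnit

open Groth.Agent.Lib.DerCat FixCoprod

variable {X Y : Scheme.{u}}

theorem hasCoproduct (ι : Type u) (K : ι → DCoh.D X) : HasCoproduct K :=
  haveI := RightDerived.isLeftAdjoint_Qh (A := X.Modules) KInjExists.hasKInjRes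
  haveI : HasColimitsOfShape (Discrete ι) (DCoh.D X) :=
    HProd.hasColimitsOfShape_derivedCategory (C := X.Modules)
  inferInstance

/-- `D_QCoh`, as a property of objects. -/
abbrev qcD (X : Scheme.{u}) : ObjectProperty (DCoh.D X) := fun K => DCoh.IsQCohD K

lemma qcD_shift (K : DCoh.D X) (n : ℤ) (hK : DCoh.IsQCohD K) : DCoh.IsQCohD (K⟦n⟧) := fun i => by
  exact (WayOut.Scheme.qc X).prop_of_iso
    (((DerivedCategory.homologyFunctor X.Modules 0).shiftIso n i (n + i) rfl).app K).symm (hK _)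

/-- `𝒪_X` as an object of `D(𝒪_X)`. -/
noncomputable abbrev oneD (X : Scheme.{u}) : DCoh.D X :=
  DCoh.inD X (SheafOfModules.unit X.ringCatSheaf)

/-- `𝒪_X` is compact with respect to `D_QCoh`. -/
def Good (X : Scheme.{u}) : Prop := Fix.{u} (qcD X) (oneD X)

lemma isQCohD_restrictD (j : X ⟶ Y) [IsOpenImmersion j] {K : DCoh.D Y} (hK : DCoh.IsQCohD K) :
    DCoh.IsQCohD ((DCoh.restrictD j).obj K) := fun n => by
  haveI : (DCoh.HD K n).IsQuasicoherent := hK n
  exact (WayOut.Scheme.qc _).prop_of_iso (Perfect.Coherent.homologyIso j K n).symm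
    (inferInstanceAs (((Scheme.Modules.restrictFunctor j).obj (DCoh.HD K n)).IsQuasicoherent))

/-- `j^*𝒪 ≅ 𝒪`. -/
noncomputable def restrictOneIso (j : X ⟶ Y) [IsOpenImmersion j] :
    (DCoh.restrictD j).obj (oneD Y) ≅ oneD X :=
  ((Scheme.Modules.restrictFunctor j).mapDerivedCategorySingleFunctor 0).app _ ≪≫
    (DerivedCategory.singleFunctor X.Modules 0).mapIso (Scheme.Modules.restrictUnitIso j)

lemma preservesColimits_restrictD (j : X ⟶ Y) [IsOpenImmersion j] (ι : Type u) :
    PreservesColimitsOfShape (Discrete ι) (DCoh.restrictD j) :=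
  haveI := Exists.hasRpush j
  (OpenImm.restrictPushAdj j).leftAdjoint_preservesColimits.preservesColimitsOfShape

/-- Extension by zero of a compact object is compact. -/
lemma fix_extZero (j : X ⟶ Y) [IsOpenImmersion j] {K : DCoh.D X} (hK : Fix.{u} (qcD X) K) :
    Fix.{u} (qcD Y) ((CxOX.extZeroD j).obj K) :=
  haveI : PreservesColimitsOfSize.{0, 0} (CxOX.extZero j) :=
    (CxOX.extZeroAdj j).leftAdjoint_preservesColimits
  haveI : PreservesFiniteColimits (CxOX.extZero j) :=
    PreservesColimitsOfSize.preservesFiniteColimits _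
  haveI := preservesColimits_restrictD j
  fix_adj (RestrictRpush.derivedAdjExact (CxOX.extZeroAdj j)) hasCoproduct
    (fun _ hM => isQCohD_restrictD j hM) hK

lemma good_of_iso (e : X ≅ Y) (h : Good X) : Good Y :=
  haveI := preservesColimits_restrictD e.hom
  let adj : Scheme.Modules.restrictFunctor e.inv ⊣ Scheme.Modules.restrictFunctor e.hom :=
    (OpenImm.isoEquiv e).toAdjunction
  fix_of_iso (restrictOneIso e.inv)
    (fix_adj (RestrictRpush.derivedAdjExact adj) hasCoproduct
      (fun _ hM => isQCohD_restrictD e.hom hM) h)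

lemma good_of_isEmpty (X : Scheme.{u}) [IsEmpty X] : Good X :=
  fix_of_isZero (OpenImm.isZero_of_supports fun _ => Set.eq_empty_of_isEmpty _)

/-- Mayer–Vietoris. -/
lemma good_of_cover (U V : X.Opens) (hUV : U ⊔ V = ⊤) (hU : Good U) (hV : Good V)
    (hUV' : Good (U ⊓ V : X.Opens)) : Good X := by
  obtain ⟨a, b, c, hT⟩ := MVExtZero.exists_mv_triangle U V hUV (oneD X)
  refine fix_ext₃ qcD_shift hasCoproduct (Triangle.mk a b c) hT
    (fix_extZero _ (fix_of_iso (restrictOneIso _).symm hUV'))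
    (fix_biprod (fix_extZero _ (fix_of_iso (restrictOneIso _).symm hU))
      (fix_extZero _ (fix_of_iso (restrictOneIso _).symm hV)))

section Spec

variable (R : CommRingCat.{u})

/-- `R` in degree `0`. -/
noncomputable abbrev sing : CochainComplex (ModuleCat.{u} R) ℤ := ModGen.sing (↑R) 0

lemma exists_cut_fix {ι : Type u} (L : ι → CochainComplex (ModuleCat.{u} R) ℤ)
    (φ : sing R ⟶ ∐ L) : ∃ s : Finset ι, φ ≫ cut L s = φ := by
  let c : Cofan fun i => (L i).X 0 := Cofan.mk ((∐ L).X 0) fun i => (Sigma.ι L i).f 0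
  have hc : IsColimit c := isColimitCofanMkObjOfIsColimit
    (HomologicalComplex.eval (ModuleCat.{u} R) (ComplexShape.up ℤ) 0) L (Sigma.ι L)
    (coproductIsCoproduct L)
  let t := (HomologicalComplex.singleObjXSelf (ComplexShape.up ℤ) 0 (ModuleCat.of R R)).inv
  obtain ⟨s, hs⟩ := ModGen.exists_finite_support (↑R) hc ((t ≫ φ.f 0).hom (1 : R))
  refine ⟨s, ?_⟩
  apply HomologicalComplex.from_single_hom_ext
  rw [HomologicalComplex.comp_f, ← cancel_epi t]
  ext
  simp only [ModuleCat.hom_comp, LinearMap.coe_comp, Function.comp_apply]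
  refine hs ((cut L s).f 0) fun j hj => ?_
  change (Sigma.ι L j).f 0 ≫ (cut L s).f 0 = (Sigma.ι L j).f 0
  classical
  rw [← HomologicalComplex.comp_f, ι_cut, if_pos hj]

/-- `M ↦ M~` on complexes, then to the derived category. -/
noncomputable abbrev Φ : CochainComplex (ModuleCat.{u} R) ℤ ⥤ DCoh.D (Spec (CommRingCat.of R)) :=
  DerivedCategory.Q ⋙ DCoh.tildeD R

lemma preservesColimit_Φ {ι : Type u} (L : ι → CochainComplex (ModuleCat.{u} R) ℤ) :
    PreservesColimit (Discrete.functor L) (Φ R) := by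
  let F' := (TildeEquiv.F R).mapHomologicalComplex (ComplexShape.up ℤ)
  haveI : PreservesColimitsOfShape (Discrete ι) F' :=
    (TildeEquiv.adjC R).leftAdjoint_preservesColimits.preservesColimitsOfShape
  haveI := TensorCoprod.preservesColimit_Q fun i => F'.obj (L i)
  haveI : PreservesColimit (Discrete.functor L ⋙ F')
      (DerivedCategory.Q (C := (Spec (CommRingCat.of R)).Modules)) :=
    preservesColimit_of_iso_diagram (K₁ := Discrete.functor fun i => F'.obj (L i)) _
      (Discrete.compNatIsoDiscrete L F').symm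
  exact preservesColimit_of_natIso _ (TildeEquiv.F R).mapDerivedCategoryFactors.symm

lemma fix_Φ_sing : Fix.{u} (qcD _) ((Φ R).obj (sing R)) := by
  intro ι K _ hK h
  classical
  have hM : ∀ i, ∃ L, Nonempty ((Φ R).obj L ≅ K i) := fun i => by
    obtain ⟨M, ⟨e⟩⟩ := TildeEquiv.exists_preimage R (K i) (hK i)
    exact ⟨_, ⟨(DCoh.tildeD R).mapIso (DerivedCategory.Q.objObjPreimageIso M) ≪≫ e⟩⟩
  choose L hL using hM
  let e := fun i => (hL i).some
  haveI := preservesColimit_Φ R L
  have hc := isColimitCofanMkObjOfIsColimit (Φ R) L (Sigma.ι L) (coproductIsCoproduct L)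
  let a : (∐ K) ⟶ (Φ R).obj (∐ L) := Sigma.desc fun i => (e i).inv ≫ (Φ R).map (Sigma.ι L i)
  let b : (Φ R).obj (∐ L) ⟶ ∐ K := Cofan.IsColimit.desc hc fun i => (e i).hom ≫ Sigma.ι K i
  have hb : ∀ i, (Φ R).map (Sigma.ι L i) ≫ b = (e i).hom ≫ Sigma.ι K i := fun i =>
    Cofan.IsColimit.fac hc _ i
  have ha : ∀ i, Sigma.ι K i ≫ a = (e i).inv ≫ (Φ R).map (Sigma.ι L i) := fun i =>
    Sigma.ι_desc _ _
  have hab : a ≫ b = 𝟙 _ := Sigma.hom_ext _ _ fun i => by
    rw [← Category.assoc, ha, Category.assoc, hb]; simp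
  haveI := TildeEquiv.full R
  obtain ⟨g, hg⟩ := (DCoh.tildeD R).map_surjective (h ≫ a)
  let q := DerivedCategory.quotientCompQhIso (ModuleCat.{u} R)
  obtain ⟨φ', hφ'⟩ := (CochainComplex.IsKProjective.Qh_map_bijective (sing R)
    ((HomotopyCategory.quotient _ (ComplexShape.up ℤ)).obj (∐ L))).2
      (q.hom.app _ ≫ g ≫ q.inv.app _)
  obtain ⟨φ, rfl⟩ := (HomotopyCategory.quotient _ _).map_surjective φ'
  have hφ : g = DerivedCategory.Q.map φ := by
    have := q.hom.naturality φ
    change DerivedCategory.Qh.map ((HomotopyCategory.quotient _ _).map φ) ≫ q.hom.app _ =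
      q.hom.app _ ≫ DerivedCategory.Q.map φ at this
    rw [hφ'] at this
    rw [← cancel_epi (q.hom.app (sing R)), ← this]
    simp
  obtain ⟨s, hs⟩ := exists_cut_fix R L φ
  refine ⟨s, ?_⟩
  have key : a ≫ (Φ R).map (cut L s) = cut K s ≫ a := by
    refine Sigma.hom_ext _ _ fun i => ?_
    rw [← Category.assoc, ha, Category.assoc, ← Functor.map_comp, ι_cut, ← Category.assoc, ι_cut]
    split_ifs
    · exact (ha i).symm
    · simp
  haveI : Mono a := SplitMono.mono ⟨b, hab⟩
  rw [← cancel_mono a, Category.assoc, ← key, ← Category.assoc, ← hg, hφ]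
  change (Φ R).map φ ≫ (Φ R).map (cut L s) = (Φ R).map φ
  rw [← Functor.map_comp, hs]

/-- The affine case. -/
theorem good_spec : Good (Spec (CommRingCat.of R)) :=
  fix_of_iso ((DCoh.tildeD R).mapIso
      ((DerivedCategory.singleFunctorIsoCompQ (ModuleCat.{u} R) 0).app _).symm ≪≫
    ((TildeEquiv.F R).mapDerivedCategorySingleFunctor 0).app _ ≪≫
    (DerivedCategory.singleFunctor _ 0).mapIso (tildeSelf (R := R)))
    (fix_Φ_sing R)

end Spec

lemma good_of_isAffine (X : Scheme.{u}) [IsAffine X] : Good X :=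
  good_of_iso X.isoSpec.symm (good_spec Γ(X, ⊤))

/-- Open subschemes with the same underlying open are isomorphic. -/
lemma good_of_range (j : X ⟶ Y) [IsOpenImmersion j] (U : Y.Opens) (hr : j.opensRange = U)
    (h : Good U) : Good X := by
  subst hr
  exact good_of_iso j.isoOpensRange.symm h

lemma good_sup (S U : X.Opens) (hS : Good S) (hU : Good U) (hSU : Good (S ⊓ U : X.Opens)) :
    Good (S ⊔ U : X.Opens) := by
  let W : X.Opens := S ⊔ U
  have hm : ∀ T : X.Opens, T ≤ W → Good T → Good (W.ι ⁻¹ᵁ T : (W : Scheme.{u}).Opens) := fun T hT h => by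
    refine good_of_range ((W.ι ⁻¹ᵁ T).ι ≫ W.ι) T ?_ h
    rw [Scheme.Hom.opensRange_comp, Scheme.Opens.opensRange_ι,
      Scheme.Hom.image_preimage_eq_opensRange_inf, Scheme.Opens.opensRange_ι, inf_eq_right.2 hT]
  refine good_of_cover (W.ι ⁻¹ᵁ S) (W.ι ⁻¹ᵁ U) ?_ (hm _ le_sup_left hS) (hm _ le_sup_right hU) ?_
  · rw [← Scheme.Hom.preimage_sup]
    exact eq_top_iff.2 fun x _ => x.2
  · rw [← Scheme.Hom.preimage_inf]
    exact hm _ (inf_le_left.trans le_sup_left) hSU

lemma good_bot : Good ((⊥ : X.Opens) : Scheme.{u}) :=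
  haveI : IsEmpty ((⊥ : X.Opens) : Scheme.{u}) := ⟨fun x => x.2.elim⟩
  good_of_isEmpty _

lemma good_of_separated [X.IsSeparated] (S : X.Opens) (hS : IsCompact (S : Set X)) : Good S := by
  suffices Good S ∧ ∀ W : X.affineOpens, Good (S ⊓ W.1 : X.Opens) from this.1
  refine compact_open_induction_on (P := fun S => Good S ∧
    ∀ W : X.affineOpens, Good (S ⊓ W.1 : X.Opens)) S hS ?_ ?_
  · exact ⟨good_bot, fun W => by rw [bot_inf_eq]; exact good_bot⟩
  · intro S hS U ih
    haveI : IsAffine (U.1 : Scheme.{u}) := U.2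
    refine ⟨good_sup _ _ ih.1 (good_of_isAffine _) (ih.2 U), fun W => ?_⟩
    have hUW : IsAffineOpen (U.1 ⊓ W.1) := U.2.inf W.2
    haveI : IsAffine ((U.1 ⊓ W.1 : X.Opens) : Scheme.{u}) := hUW
    rw [inf_sup_right]
    refine good_sup _ _ (ih.2 W) (good_of_isAffine _) ?_
    have : S ⊓ W.1 ⊓ (U.1 ⊓ W.1) = S ⊓ (U.1 ⊓ W.1) := by
      rw [inf_assoc, inf_left_comm W.1 U.1, inf_idem]
    rw [this]
    exact ih.2 ⟨_, hUW⟩

/-- The structure sheaf of a quasi-compact quasi-separated scheme is compact for `D_QCoh`. -/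
theorem good (X : Scheme.{u}) [CompactSpace X] [QuasiSeparatedSpace X] : Good X := by
  suffices ∀ S : X.Opens, IsCompact (S : Set X) → Good S from
    good_of_range (𝟙 X) ⊤ (Scheme.Hom.opensRange_of_isIso _) (this ⊤ isCompact_univ)
  intro S hS
  refine compact_open_induction_on (P := fun S => Good S) S hS ?_ ?_
  · exact good_bot
  · intro S hS U ih
    haveI : IsAffine (U.1 : Scheme.{u}) := U.2
    refine good_sup _ _ ih (good_of_isAffine _) ?_
    have hc : IsCompact (((U.1).ι ⁻¹ᵁ S : (U.1 : Scheme.{u}).Opens) : Set (U.1 : Scheme.{u})) := by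
      rw [Topology.IsInducing.isCompact_iff (U.1).ι.isOpenEmbedding.isInducing]
      have : ((U.1).ι '' ((U.1).ι ⁻¹' (S : Set X))) = (U.1 : Set X) ∩ S := by
        rw [Set.image_preimage_eq_range_inter, Scheme.Opens.range_ι]
      change IsCompact ((U.1).ι '' ((U.1).ι ⁻¹' (S : Set X)))
      rw [this]
      exact QuasiSeparatedSpace.inter_isCompact _ _ U.1.2 U.2.isCompact S.2 hS
    refine good_of_iso ?_ (good_of_separated ((U.1).ι ⁻¹ᵁ S) hc)
    exact IsOpenImmersion.isoOfRangeEq (((U.1).ι ⁻¹ᵁ S).ι ≫ (U.1).ι) (S ⊓ U.1).ι (by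
      rw [← Scheme.Hom.coe_opensRange, Scheme.Hom.opensRange_comp, Scheme.Opens.opensRange_ι,
        Scheme.Hom.image_preimage_eq_opensRange_inf, Scheme.Opens.opensRange_ι, inf_comm,
        Scheme.Opens.range_ι])

end Groth.Agent.Lib.DerivedOX.CompactUnit
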