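import Groth.Agent.Lib.DerivedOX.ProjectionMap
import Groth.Agent.Lib.DerivedOX.TensorSymm
import Groth.Agent.Lib.DerivedOX.QCohLocal
import Groth.Agent.Lib.DerivedOX.RpushTriangulated
import Groth.Agent.Lib.DerCat.KInjExists

/-!
# The projection formula, from the projection map
-/

set_option autoImplicit false
set_option linter.unusedSectionVars false
set_option linter.style.haveILetI false

universe u

open CategoryTheory Limits AlgebraicGeometry HomologicalComplex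

attribute [local instance] HasDerivedCategory.standard

namespace Groth.Agent.Lib.DerivedOX.ProjectionFormula

open ProjectionMap PullTranspose UnitTensor

variable {X Y : Scheme.{u}}

/-- The data of a projection map for `E`. -/
theorem exists_data (f : X ⟶ Y) [DCoh.HasRpush f] (E : DCoh.D X) :
    ∃ (B : CochainComplex Y.Modules ℤ) (I : CochainComplex X.Modules ℤ)
      (g : B ⟶ (GammaAcyclic.pushC f).obj I), DCoh.IsKFlat B ∧ I.IsKInjective ∧ QuasiIso g ∧
      Nonempty (DerivedCategory.Q.obj I ≅ E) ∧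
      Nonempty (DerivedCategory.Q.obj B ≅ (DCoh.Rpush f).obj E) := by
  obtain ⟨I, s, hI, hs⟩ := DerCat.KInjExists.hasKInjRes (DerivedCategory.Q.objPreimage E)
  haveI := hI
  let eI : DerivedCategory.Q.obj I ≅ E :=
    (asIso (DerivedCategory.Q.map s)).symm ≪≫ DerivedCategory.Q.objObjPreimageIso E
  let B := (KFlat.res Y).obj ((GammaAcyclic.pushC f).obj I)
  let g : B ⟶ (GammaAcyclic.pushC f).obj I := (KFlat.aug Y).app _
  haveI hg : QuasiIso g := KFlat.quasiIso_aug _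
  let qI := (HomotopyCategory.quotient X.Modules (.up ℤ)).obj I
  haveI := RightDerived.isIso_totalRightDerivedUnit_app_of_isKInjective (DCoh.pushKh f) I
  exact ⟨B, I, g, KFlat.isKFlat_res _, hI, hg, ⟨eI⟩,
    ⟨asIso (DerivedCategory.Q.map g) ≪≫
      ((DerivedCategory.quotientCompQhIso Y.Modules).app _).symm ≪≫
      DerivedCategory.Qh.mapIso (((Scheme.Modules.pushforward f).mapHomotopyCategoryFactors
        (ComplexShape.up ℤ)).app I).symm ≪≫
      asIso (((DCoh.pushKh f).totalRightDerivedUnit DerivedCategory.Qh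
        (HomotopyCategory.quasiIso X.Modules (ComplexShape.up ℤ))).app qI) ≪≫
      (DCoh.Rpush f).mapIso ((DerivedCategory.quotientCompQhIso X.Modules).app I ≪≫ eI)⟩⟩

/-- The projection formula holds when the projection map is invertible. -/
theorem nonempty_iso (f : X ⟶ Y) [DCoh.HasRpush f] [DCoh.HasLpull f] (E : DCoh.D X)
    (K : CochainComplex Y.Modules ℤ) [DCoh.HasLTensorCx K]
    (M : CochainComplex X.Modules ℤ) [DCoh.HasLTensorCx M]
    (hM : Nonempty (DerivedCategory.Q.obj M ≅ (DCoh.Lpull f).obj (DerivedCategory.Q.obj K)))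
    (h : ∀ (B : CochainComplex Y.Modules ℤ) (I : CochainComplex X.Modules ℤ)
      (g : B ⟶ (GammaAcyclic.pushC f).obj I) [DCoh.HasLTensorCx B] [DCoh.HasLTensorCx I],
      I.IsKInjective → QuasiIso g → Nonempty (DerivedCategory.Q.obj I ≅ E) →
      IsIso ((projMap f g).app (DerivedCategory.Q.obj K))) :
    Nonempty ((DCoh.LTensorCx K).obj ((DCoh.Rpush f).obj E) ≅
      (DCoh.Rpush f).obj ((DCoh.LTensorCx M).obj E)) := by
  obtain ⟨eM⟩ := hM
  obtain ⟨B, I, g, hB, hI, hg, ⟨eI⟩, ⟨eB⟩⟩ := exists_data f E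
  haveI := LeftExists.hasLTensorCx B
  haveI := LeftExists.hasLTensorCx I
  haveI := h B I g hI hg ⟨eI⟩
  obtain ⟨P, hP, ⟨eP⟩⟩ := QCohLocal.exists_kflat (DerivedCategory.Q.obj K)
  -- the left-hand side
  obtain ⟨a₁⟩ := QCohLocal.nonempty_LTensorCx_iso K hB
  obtain ⟨a₂⟩ := QCohLocal.nonempty_tensor_iso hB eP.symm
  obtain ⟨a₃⟩ := QCohLocal.nonempty_LTensorCx_iso B hP
  let eL : (DCoh.LTensorCx K).obj ((DCoh.Rpush f).obj E) ≅
      (DCoh.LTensorCx B).obj (DerivedCategory.Q.obj K) :=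
    (DCoh.LTensorCx K).mapIso eB.symm ≪≫ a₁ ≪≫ a₂ ≪≫
      DerivedCategory.Q.mapIso (TensorSymm.commCx B P) ≪≫ a₃.symm ≪≫
        (DCoh.LTensorCx B).mapIso eP
  -- the right-hand side
  let P' := (pullC f).obj P
  have hP' : DCoh.IsKFlat P' := KFlatPullback.isKFlat_pullback f hP
  obtain ⟨c₁⟩ := QCohLocal.nonempty_Lpull_iso f hP
  let eM' : DerivedCategory.Q.obj M ≅ DerivedCategory.Q.obj P' :=
    eM ≪≫ (DCoh.Lpull f).mapIso eP.symm ≪≫ c₁
  let J := (KFlat.res X).obj I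
  have hJ : DCoh.IsKFlat J := KFlat.isKFlat_res I
  haveI : QuasiIso ((KFlat.aug X).app I) := KFlat.quasiIso_aug I
  let eJ : DerivedCategory.Q.obj J ≅ DerivedCategory.Q.obj I :=
    asIso (DerivedCategory.Q.map ((KFlat.aug X).app I))
  obtain ⟨b₁⟩ := QCohLocal.nonempty_LTensorCx_iso M hJ
  obtain ⟨b₂⟩ := QCohLocal.nonempty_tensor_iso hJ eM'
  obtain ⟨b₃⟩ := QCohLocal.nonempty_tensor_iso hP' eJ
  obtain ⟨b₄⟩ := QCohLocal.nonempty_LTensorCx_iso I hP'
  let eR : (DCoh.LTensorCx M).obj E ≅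
      (DCoh.LTensorCx I).obj ((DCoh.Lpull f).obj (DerivedCategory.Q.obj K)) :=
    (DCoh.LTensorCx M).mapIso (eI.symm ≪≫ eJ.symm) ≪≫ b₁ ≪≫ b₂ ≪≫
      DerivedCategory.Q.mapIso (TensorSymm.commCx J P') ≪≫ b₃ ≪≫ b₄.symm ≪≫
        (DCoh.LTensorCx I).mapIso (c₁.symm ≪≫ (DCoh.Lpull f).mapIso eP)
  exact ⟨eL ≪≫ asIso ((projMap f g).app (DerivedCategory.Q.obj K)) ≪≫
    (DCoh.Rpush f).mapIso eR.symm⟩

end Groth.Agent.Lib.DerivedOX.ProjectionFormula
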