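import Groth.Agent.Lib.DerCat.ModGen
import Groth.Agent.Lib.DerCat.Hocolim
import Groth.Agent.Lib.DerCat.HocolimQ
import Groth.Agent.Lib.DerivedOX.TildeEquiv
import Groth.Agent.Lib.DerivedOX.CompactUnit

/-!
# `𝒪` generates `D_QCoh` of an affine scheme as a localizing subcategory
-/

set_option autoImplicit false
set_option linter.unusedSectionVars false
set_option linter.style.haveILetI false

universe u

open CategoryTheory Limits AlgebraicGeometry Pretriangulated

namespace Groth.Agent.Lib.DerivedOX.AffineGenerate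

open Groth.Agent.Lib.DerCat

/-- A class of objects containing the generators and closed under triangles and direct sums is
everything. -/
theorem mem_of_generators {D : Type*} [Category.{u} D] [Preadditive D] [HasZeroObject D]
    [HasShift D ℤ] [∀ n : ℤ, (shiftFunctor D n).Additive] [Pretriangulated D]
    [HasCoproducts.{u} D] [HasColimitsOfShape (Discrete ℕ) D] {J : Type u} {E : J → D}
    (hE : Brown.PerfGen E) (C : ObjectProperty D) [C.IsClosedUnderIsomorphisms]
    (hgen : ∀ j, C (E j))
    (hcop : ∀ (ι : Type u) (X : ι → D), (∀ i, C (X i)) → C (∐ X))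
    (hext : ∀ T : Triangle D, T ∈ distTriang D → C T.obj₁ → C T.obj₂ → C T.obj₃) (X : D) : C X := by
  obtain ⟨S, p, c, hT⟩ := Hocolim.exists_hocolim hE X
  have hX : ∀ n, C (S.X n) := by
    intro n
    induction n with
    | zero => exact C.prop_of_iso S.e₀.symm (hcop _ _ fun k => hgen _)
    | succ n ih => exact hext _ (S.dist n) (hcop _ _ fun k => hgen _) ih
  have hsum : C (∐ S.X) := by
    let X' : ULift.{u} ℕ → D := fun k => S.X k.down
    exact C.prop_of_iso
      ((Sigma.whiskerEquiv (f := X') (g := S.X) Equiv.ulift fun k => Iso.refl _))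
      (hcop _ X' fun k => hX _)
  exact hext _ hT hsum hsum

section Small

/-- The standard derived category, for modules over schemes only. -/
@[instance_reducible]
noncomputable def standardX (X : Scheme.{u}) : HasDerivedCategory X.Modules :=
  HasDerivedCategory.standard _

attribute [local instance] standardX

variable (R : CommRingCat.{u}) [HasDerivedCategory.{u} (ModuleCat.{u} R)]
  [PreservesFiniteLimits (tilde.functor R)]

/-- The class pulled back to a derived category of modules with small morphisms. -/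
theorem mem_small (C : ObjectProperty (DCoh.D (Spec (CommRingCat.of R))))
    [C.IsClosedUnderIsomorphisms]
    (hshift : ∀ (K : DCoh.D (Spec (CommRingCat.of R))) (n : ℤ), DCoh.IsQCohD K → C K → C (K⟦n⟧))
    (hext : ∀ T : Triangle (DCoh.D (Spec (CommRingCat.of R))), T ∈ distTriang _ →
      C T.obj₁ → C T.obj₂ → C T.obj₃)
    (hcop : ∀ (ι : Type u) (L : ι → DCoh.D (Spec (CommRingCat.of R))) [HasCoproduct L],
      (∀ i, DCoh.IsQCohD (L i)) → (∀ i, C (L i)) → C (∐ L))
    (h1 : C (CompactUnit.oneD (Spec (CommRingCat.of R))))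
    (hqc' : ∀ M : CochainComplex (ModuleCat.{u} R) ℤ, DCoh.IsQCohD (DerivedCategory.Q.obj
      (((TildeEquiv.F R).mapHomologicalComplex (ComplexShape.up ℤ)).obj M)))
    (hpres : ∀ {ι : Type u} (L : ι → CochainComplex (ModuleCat.{u} R) ℤ),
      PreservesColimit (Discrete.functor L) ((TildeEquiv.F R).mapHomologicalComplex (ComplexShape.up ℤ) ⋙
        DerivedCategory.Q))
    (M : CochainComplex (ModuleCat.{u} R) ℤ) :
    C (DerivedCategory.Q.obj (((TildeEquiv.F R).mapHomologicalComplex (ComplexShape.up ℤ)).obj M)) := by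
  let Q₀ : CochainComplex (ModuleCat.{u} R) ℤ ⥤ DerivedCategory (ModuleCat.{u} R) := DerivedCategory.Q
  let Ψ := (TildeEquiv.F R).mapDerivedCategory
  let e₀ : Q₀ ⋙ Ψ ≅ (TildeEquiv.F R).mapHomologicalComplex _ ⋙ DerivedCategory.Q :=
    (TildeEquiv.F R).mapDerivedCategoryFactors
  have hqc : ∀ Z, DCoh.IsQCohD (Ψ.obj Z) := fun Z n =>
    (WayOut.Scheme.qc _).prop_of_iso
      ((DerivedCategory.homologyFunctor _ n).mapIso
        ((e₀.app _).symm ≪≫ Ψ.mapIso (Q₀.objObjPreimageIso Z)))
      (hqc' (Q₀.objPreimage Z) n)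
  haveI := RightDerived.isLeftAdjoint_Qh (A := ModuleCat.{u} R) KInjExists.hasKInjRes
  haveI hcp : HasCoproducts.{u} (DerivedCategory (ModuleCat.{u} R)) := fun J =>
    HProd.hasColimitsOfShape_derivedCategory
  haveI : HasColimitsOfShape (Discrete ℕ) (DerivedCategory (ModuleCat.{u} R)) :=
    hasColimitsOfShape_of_equivalence (Discrete.equivalence (Equiv.ulift.{u}))
  haveI := fun J : Type u => HocolimQ.preservesColimitsOfShape_Q (A := ModuleCat.{u} R) J
  haveI : ∀ J : Type u, PreservesColimitsOfShape (Discrete J) Ψ := fun J => by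
    refine ⟨fun {G} => ?_⟩
    let L : J → CochainComplex (ModuleCat.{u} R) ℤ := fun j => Q₀.objPreimage (G.obj ⟨j⟩)
    haveI := hpres L
    haveI : PreservesColimit (Discrete.functor L) (Q₀ ⋙ Ψ) :=
      preservesColimit_of_natIso _ e₀.symm
    haveI : PreservesColimit (Discrete.functor L ⋙ Q₀) Ψ :=
      preservesColimit_of_preserves_colimit_cocone
        (isColimitOfPreserves Q₀ (coproductIsCoproduct L))
        (isColimitOfPreserves (Q₀ ⋙ Ψ) (coproductIsCoproduct L))
    exact preservesColimit_of_iso_diagram _ (K₁ := Discrete.functor L ⋙ Q₀)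
      (Discrete.natIso fun j => Q₀.objObjPreimageIso (G.obj j))
  let C₀ : ObjectProperty (DerivedCategory (ModuleCat.{u} R)) := fun Z => C (Ψ.obj Z)
  haveI : C₀.IsClosedUnderIsomorphisms := ⟨fun e h => C.prop_of_iso (Ψ.mapIso e) h⟩
  have hC₀ : ∀ Z, C₀ Z := by
    refine mem_of_generators (E := BrownGen.shifts (ModGen.gen (↑R)))
      (BrownGen.perfGen_of_compact _ (ModGen.isCompactObject_gen (↑R))
        (ModGen.generates_gen (↑R))) C₀ ?_ ?_ ?_
    · rintro ⟨⟨n⟩, ⟨m⟩⟩
      refine C.prop_of_iso ((Ψ.commShiftIso m).app _).symm (hshift _ m (hqc _) ?_)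
      have hone : DCoh.IsQCohD (CompactUnit.oneD (Spec (CommRingCat.of R))) := fun i =>
        (WayOut.Scheme.qc _).prop_of_iso
          ((DerivedCategory.homologyFunctor _ i).mapIso
            ((e₀.app _).symm ≪≫
              Ψ.mapIso ((DerivedCategory.singleFunctorIsoCompQ (ModuleCat.{u} R) 0).app
                (ModuleCat.of R R)).symm ≪≫
              ((TildeEquiv.F R).mapDerivedCategorySingleFunctor 0).app _ ≪≫
              (DerivedCategory.singleFunctor _ 0).mapIso (tildeSelf (R := R))))
          (hqc' _ i)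
      refine C.prop_of_iso ?_ (hshift (CompactUnit.oneD _) (-n) hone h1)
      exact ((DerivedCategory.singleFunctors _).shiftIso (-n) n 0 (by omega)).app _ ≪≫
        (DerivedCategory.singleFunctor _ n).mapIso (tildeSelf (R := R)).symm ≪≫
        (((TildeEquiv.F R).mapDerivedCategorySingleFunctor n).app _).symm ≪≫
        Ψ.mapIso (((DerivedCategory.singleFunctorIsoCompQ (ModuleCat.{u} R) n).app (ModuleCat.of R R)) ≪≫
          ((DerivedCategory.quotientCompQhIso (ModuleCat.{u} R)).app (ModGen.sing (↑R) n)).symm)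
    · intro ι Z hZ
      haveI := CompactUnit.hasCoproduct ι fun i => Ψ.obj (Z i)
      exact C.prop_of_iso (PreservesCoproduct.iso Ψ Z).symm (hcop ι _ (fun i => hqc _) hZ)
    · exact fun T hT h₁ h₂ => hext _ (Ψ.map_distinguished T hT) h₁ h₂
  exact C.prop_of_iso (e₀.app M) (hC₀ (Q₀.obj M))

end Small

attribute [local instance] HasDerivedCategory.standard

/-- `D_QCoh(Spec R)` is generated by `𝒪`. -/
theorem mem_of_isQCohD (R : CommRingCat.{u})
    (C : ObjectProperty (DCoh.D (Spec (CommRingCat.of R)))) [C.IsClosedUnderIsomorphisms]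
    (hshift : ∀ (K : DCoh.D (Spec (CommRingCat.of R))) (n : ℤ), DCoh.IsQCohD K → C K → C (K⟦n⟧))
    (hext : ∀ T : Triangle (DCoh.D (Spec (CommRingCat.of R))), T ∈ distTriang _ →
      C T.obj₁ → C T.obj₂ → C T.obj₃)
    (hcop : ∀ (ι : Type u) (L : ι → DCoh.D (Spec (CommRingCat.of R))) [HasCoproduct L],
      (∀ i, DCoh.IsQCohD (L i)) → (∀ i, C (L i)) → C (∐ L))
    (h1 : C (CompactUnit.oneD (Spec (CommRingCat.of R))))
    {K : DCoh.D (Spec (CommRingCat.of R))} (hK : DCoh.IsQCohD K) : C K := by
  haveI : PreservesFiniteLimits (tilde.functor R) := QCoh.Tilde.tildeFunctor_preservesFiniteLimits ..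
  obtain ⟨M, ⟨e⟩⟩ := TildeEquiv.exists_preimage R K hK
  let L := DerivedCategory.Q.objPreimage M
  refine C.prop_of_iso ((TildeEquiv.F R).mapDerivedCategoryFactors.symm.app L ≪≫
    (DCoh.tildeD R).mapIso (DerivedCategory.Q.objObjPreimageIso M) ≪≫ e) ?_
  refine @mem_small R ModGen.hasDerivedCategory _ C _ hshift hext hcop h1 (fun M n => ?_)
    (fun {ι} L' => ?_) L
  · exact (WayOut.Scheme.qc _).prop_of_iso ((DerivedCategory.homologyFunctor _ n).mapIso
      ((TildeEquiv.F R).mapDerivedCategoryFactors.app M))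
      (TildeEquiv.isQCohD_obj R (DerivedCategory.Q.obj M) n)
  · haveI := CompactUnit.preservesColimit_Φ R L'
    exact preservesColimit_of_natIso _ (TildeEquiv.F R).mapDerivedCategoryFactors

end Groth.Agent.Lib.DerivedOX.AffineGenerate
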