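import Groth.Agent.Lib.DerivedOX.ProjectionLocal
import Groth.Agent.Lib.DerivedOX.AffineGenerate
import Groth.Agent.Lib.Perfect.Triangle

/-!
# The projection map at objects of `D_QCoh`
-/

set_option autoImplicit false
set_option linter.unusedSectionVars false
set_option linter.style.haveILetI false

universe u

open CategoryTheory Limits AlgebraicGeometry Pretriangulated HomologicalComplex

attribute [local instance] HasDerivedCategory.standard

namespace Groth.Agent.Lib.DerivedOX.ProjectionQCoh

open ProjectionMap ProjectionLocal CompactUnit Perfect.Basic Perfect.Triangle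

variable {X Y : Scheme.{u}} {f : X ⟶ Y} [QuasiCompact f] [QuasiSeparated f]
  [DCoh.HasLpull f] [DCoh.HasRpush f]
  {B : CochainComplex Y.Modules ℤ} {I : CochainComplex X.Modules ℤ}
  {g : B ⟶ (GammaAcyclic.pushC f).obj I}
  [DCoh.HasLTensorCx B] [DCoh.HasLTensorCx I] [I.IsKInjective] [QuasiIso g] {U : Y.Opens}

/-- On an affine open every object of `D_QCoh` is good. -/
theorem goodU_of_isQCohD (hU : IsAffineOpen U) (hI : DCoh.IsQCohD (DerivedCategory.Q.obj I))
    {L : DCoh.D (U : Scheme.{u})} (hL : DCoh.IsQCohD L) : GoodU f g U L := by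
  haveI : IsAffine (U : Scheme.{u}) := hU
  let e := (U : Scheme.{u}).isoSpec
  let C : ObjectProperty (DCoh.D (Spec (CommRingCat.of Γ((U : Scheme.{u}), ⊤)))) :=
    fun M => GoodU f g U ((RD e.hom).obj M)
  haveI : C.IsClosedUnderIsomorphisms :=
    ⟨fun i h => goodU_of_iso ((RD e.hom).mapIso i).symm h⟩
  have hC := AffineGenerate.mem_of_isQCohD _ C
    (fun M n _ h => goodU_of_iso (((RD e.hom).commShiftIso n).app M) (goodU_shift h n))
    (fun T hT h₁ h₂ => goodU_ext₃ ((RD e.hom).mapTriangle.obj T)
      ((RD e.hom).map_distinguished _ hT) h₁ h₂)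
    (fun ι M _ hM h => by
      haveI := preservesColimits_restrictD e.hom ι
      haveI := hasCoproduct ι fun i => (RD e.hom).obj (M i)
      exact goodU_of_iso (PreservesCoproduct.iso (RD e.hom) M)
        (goodU_coproduct hI _ (fun i => CompactUnit.isQCohD_restrictD e.hom (hM i)) h))
    (goodU_of_iso (restrictOneIso e.hom) goodU_oneD)
    (K := (RD e.inv).obj L) (CompactUnit.isQCohD_restrictD e.inv hL)
  refine goodU_of_iso ?_ hC
  exact (DerivedCategory.Q.objObjPreimageIso L).symm ≪≫
      DerivedCategory.Q.mapIso ((rCId (U : Scheme.{u})).app _).symm ≪≫ (RDQ _ _).symm ≪≫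
      (RD (𝟙 (U : Scheme.{u}))).mapIso (DerivedCategory.Q.objObjPreimageIso L) ≪≫
      RDCongr e.hom_inv_id.symm L ≪≫ RDComp e.hom e.inv L

/-- The projection map is invertible at objects of `D_QCoh`. -/
theorem isIso_projMap_of_isQCohD (hI : DCoh.IsQCohD (DerivedCategory.Q.obj I)) {K : DCoh.D Y}
    (hK : DCoh.IsQCohD K) : IsIso ((projMap f g).app K) := by
  choose V hV hyV _ using fun y : Y =>
    exists_isAffineOpen_mem_and_subset (X := Y) (x := y) (U := ⊤) trivial
  refine OpenSupport.isIso_of_restrictD V (eq_top_iff.2 fun y _ =>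
    TopologicalSpace.Opens.mem_iSup.2 ⟨y, hyV y⟩) _ fun y => ?_
  exact isIso_restrict_of_good ((good_iff_goodU K).2
    (goodU_of_isQCohD (hV y) hI (CompactUnit.isQCohD_restrictD (V y).ι hK)))

end Groth.Agent.Lib.DerivedOX.ProjectionQCoh
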