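import Mathlib.Algebra.Homology.BifunctorAssociator
import Groth.Agent.Lib.DerivedOX.TensorCoprod
import Groth.Agent.Lib.DerivedOX.PullTensor

/-!
# Associativity of the tensor product of complexes of O_X-modules, underived and derived
-/

universe u

open CategoryTheory Limits AlgebraicGeometry HomologicalComplex

attribute [local instance] HasDerivedCategory.standard

set_option linter.style.haveILetI false

namespace Groth.Agent.Lib.DerivedOX.TensorAssoc

variable {X : Scheme.{u}}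

/-- The associator of the tensor product of O_X-modules, naturally. -/
noncomputable def assocNatIso :
    bifunctorComp₁₂ (DCoh.tensorBi (X := X)) (DCoh.tensorBi (X := X)) ≅
      bifunctorComp₂₃ (DCoh.tensorBi (X := X)) (DCoh.tensorBi (X := X)) :=
  NatIso.ofComponents
    (fun L => NatIso.ofComponents
      (fun M => NatIso.ofComponents (fun N => TensorMod.Basic.assoc L M N)
        (fun {N N'} h => by
          have e := TensorMod.Basic.assoc_natural (𝟙 L) (𝟙 M) h
          rw [TensorMod.Basic.tmap_id] at e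
          dsimp [bifunctorComp₁₂, bifunctorComp₁₂Obj, bifunctorComp₂₃, bifunctorComp₂₃Obj]
          rw [PullTensor.tensorBi_obj_map, PullTensor.tensorBi_obj_map, PullTensor.tensorBi_obj_map]
          exact e))
      (fun {M M'} g => by
        ext1; ext1 N
        have e := TensorMod.Basic.assoc_natural (𝟙 L) g (𝟙 N)
        dsimp [bifunctorComp₁₂, bifunctorComp₁₂Obj, bifunctorComp₂₃, bifunctorComp₂₃Obj]
        rw [PullTensor.tensorBi_obj_map, PullTensor.tensorBi_map_app, PullTensor.tensorBi_map_app,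
          PullTensor.tensorBi_obj_map]
        exact e))
    (fun {L L'} f => by
      ext1; ext1 M; ext1; ext1 N
      have e := TensorMod.Basic.assoc_natural f (𝟙 M) (𝟙 N)
      rw [TensorMod.Basic.tmap_id] at e
      dsimp [bifunctorComp₁₂, bifunctorComp₁₂Obj, bifunctorComp₂₃, bifunctorComp₂₃Obj]
      rw [PullTensor.tensorBi_map_app, PullTensor.tensorBi_map_app, PullTensor.tensorBi_map_app]
      exact e)

instance preservesSmallColimits_left (M : X.Modules) :
    PreservesColimitsOfSize.{0, 0} ((DCoh.tensorBi (X := X)).obj M) :=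
  preservesSmallestColimits_of_preservesColimits _

instance preservesSmallColimits_right (N : X.Modules) :
    PreservesColimitsOfSize.{0, 0} ((DCoh.tensorBi (X := X)).flip.obj N) :=
  preservesSmallestColimits_of_preservesColimits _

instance good₁₂ (K₁ K₂ K₃ : CochainComplex X.Modules ℤ) :
    HasGoodTrifunctor₁₂Obj (DCoh.tensorBi (X := X)) (DCoh.tensorBi (X := X)) K₁ K₂ K₃ (.up ℤ) (.up ℤ) :=
  fun _ _ => inferInstance

instance good₂₃ (K₁ K₂ K₃ : CochainComplex X.Modules ℤ) :
    HasGoodTrifunctor₂₃Obj (DCoh.tensorBi (X := X)) (DCoh.tensorBi (X := X)) K₁ K₂ K₃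
      (.up ℤ) (.up ℤ) (.up ℤ) :=
  fun _ _ => inferInstance

/-- The associator of total tensor products. -/
noncomputable def assocCx (E K L : CochainComplex X.Modules ℤ) :
    (DCoh.tensorCx.obj ((DCoh.tensorCx.obj E).obj K)).obj L ≅
      (DCoh.tensorCx.obj E).obj ((DCoh.tensorCx.obj K).obj L) :=
  mapBifunctorAssociator assocNatIso E K L (.up ℤ) (.up ℤ) (.up ℤ)

lemma assocCx_natural_left {E E' : CochainComplex X.Modules ℤ} (φ : E ⟶ E')
    (K L : CochainComplex X.Modules ℤ) :
    (DCoh.tensorCx.map ((DCoh.tensorCx.map φ).app K)).app L ≫ (assocCx E' K L).hom =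
      (assocCx E K L).hom ≫ (DCoh.tensorCx.map φ).app ((DCoh.tensorCx.obj K).obj L) := by
  refine HomologicalComplex.hom_ext _ _ fun j => mapBifunctor₁₂.hom_ext fun i₁ i₂ i₃ h => ?_
  let B := DCoh.tensorBi (X := X)
  have hmap : ∀ {M₀ M₁ M₂ M₃ : X.Modules} {a : M₀ ⟶ M₁} {b : M₁ ⟶ M₃} {c : M₀ ⟶ M₂} {d : M₂ ⟶ M₃}
      (_ : a ≫ b = c ≫ d) (N : X.Modules),
      (B.map a).app N ≫ (B.map b).app N = (B.map c).app N ≫ (B.map d).app N := by
    intro _ _ _ _ a b c d e N
    rw [← NatTrans.comp_app, ← NatTrans.comp_app, ← Functor.map_comp, ← Functor.map_comp, e]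
  have hl : mapBifunctor₁₂.ι B B E K L (.up ℤ) (.up ℤ) i₁ i₂ i₃ j h ≫
      ((DCoh.tensorCx.map ((DCoh.tensorCx.map φ).app K)).app L).f j =
      (B.map ((B.map (φ.f i₁)).app (K.X i₂))).app (L.X i₃) ≫
        mapBifunctor₁₂.ι B B E' K L (.up ℤ) (.up ℤ) i₁ i₂ i₃ j h := by
    rw [mapBifunctor₁₂.ι_eq B B E K L (.up ℤ) (.up ℤ) i₁ i₂ i₃ (i₁ + i₂) j rfl h,
      mapBifunctor₁₂.ι_eq B B E' K L (.up ℤ) (.up ℤ) i₁ i₂ i₃ (i₁ + i₂) j rfl h]
    refine (Category.assoc _ _ _).trans ?_
    erw [ι_mapBifunctorMap]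
    simp only [HomologicalComplex.id_f, CategoryTheory.Functor.map_id, Category.id_comp]
    refine (Category.assoc _ _ _).symm.trans (Eq.trans (congrArg (· ≫ _) (hmap ?_ (L.X i₃)))
      (Category.assoc _ _ _))
    erw [ι_mapBifunctorMap]
    simp only [HomologicalComplex.id_f, CategoryTheory.Functor.map_id, Category.id_comp]
    rfl
  have hr : mapBifunctor₂₃.ι B B E K L (.up ℤ) (.up ℤ) (.up ℤ) i₁ i₂ i₃ j h ≫
      ((DCoh.tensorCx.map φ).app ((DCoh.tensorCx.obj K).obj L)).f j =
      (B.map (φ.f i₁)).app ((B.obj (K.X i₂)).obj (L.X i₃)) ≫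
        mapBifunctor₂₃.ι B B E' K L (.up ℤ) (.up ℤ) (.up ℤ) i₁ i₂ i₃ j h := by
    have h' : i₁ + (i₂ + i₃) = j := by
      rw [← add_assoc]; exact h
    rw [mapBifunctor₂₃.ι_eq B B E K L (.up ℤ) (.up ℤ) (.up ℤ) i₁ i₂ i₃ (i₂ + i₃) j rfl h',
      mapBifunctor₂₃.ι_eq B B E' K L (.up ℤ) (.up ℤ) (.up ℤ) i₁ i₂ i₃ (i₂ + i₃) j rfl h']
    refine (Category.assoc _ _ _).trans ?_
    erw [ι_mapBifunctorMap]
    simp only [HomologicalComplex.id_f]
    erw [CategoryTheory.Functor.map_id, Category.id_comp]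
    exact NatTrans.naturality_assoc (B.map (φ.f i₁)) _ _
  have hn := NatTrans.naturality_app_app (assocNatIso (X := X)).hom (φ.f i₁) (K.X i₂) (L.X i₃)
  have hE := ι_mapBifunctorAssociatorX_hom assocNatIso E K L (.up ℤ) (.up ℤ) (.up ℤ) i₁ i₂ i₃ j h
  have hE' := ι_mapBifunctorAssociatorX_hom assocNatIso E' K L (.up ℤ) (.up ℤ) (.up ℤ) i₁ i₂ i₃ j h
  exact (Category.assoc _ _ _).symm.trans ((congrArg (· ≫ _) hl).trans ((Category.assoc _ _ _).trans
    ((congrArg (_ ≫ ·) hE').trans (((Category.assoc _ _ _).symm.trans (congrArg (· ≫ _) hn)).trans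
      ((Category.assoc _ _ _).trans ((congrArg (_ ≫ ·) hr.symm).trans
        ((Category.assoc _ _ _).symm.trans ((congrArg (· ≫ _) hE.symm).trans
          (Category.assoc _ _ _)))))))))

/-- `(- ⊗ K) ⊗ L ≅ - ⊗ (K ⊗ L)`. -/
noncomputable def flipAssocIso (K L : CochainComplex X.Modules ℤ) :
    (DCoh.tensorCx (X := X)).flip.obj K ⋙ (DCoh.tensorCx (X := X)).flip.obj L ≅
      (DCoh.tensorCx (X := X)).flip.obj ((DCoh.tensorCx.obj K).obj L) :=
  NatIso.ofComponents (fun E => assocCx E K L) fun φ => assocCx_natural_left φ K L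

section Derived

variable (K L : CochainComplex X.Modules ℤ) [DCoh.HasLTensorCx K] [DCoh.HasLTensorCx L]

/-- The counit of the composite `(- ⊗^L K) ⊗^L L`. -/
noncomputable def compCounit : DerivedCategory.Q ⋙ (DCoh.LTensorCx K ⋙ DCoh.LTensorCx L) ⟶
    DCoh.tensorCxQ ((DCoh.tensorCx.obj K).obj L) :=
  (Functor.associator _ _ _).inv ≫
    Functor.whiskerRight ((DCoh.tensorCxQ K).totalLeftDerivedCounit DerivedCategory.Q
      (HomologicalComplex.quasiIso X.Modules (.up ℤ))) (DCoh.LTensorCx L) ≫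
    (Functor.associator _ _ _).hom ≫
    Functor.whiskerLeft _ ((DCoh.tensorCxQ L).totalLeftDerivedCounit DerivedCategory.Q
      (HomologicalComplex.quasiIso X.Modules (.up ℤ))) ≫
    (Functor.associator _ _ _).inv ≫
    Functor.whiskerRight (flipAssocIso K L).hom DerivedCategory.Q

variable {L} (hL : DCoh.IsKFlat L)

include hL in
theorem isLeftDerived_compCounit :
    (DCoh.LTensorCx K ⋙ DCoh.LTensorCx L).IsLeftDerivedFunctor (compCounit K L)
      (HomologicalComplex.quasiIso X.Modules (.up ℤ)) := by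
  refine LeftDerived.isLeftDerivedFunctor_of_isIso
    (LeftExists.isAdapted_tensorCxQ ((DCoh.tensorCx.obj K).obj L)) DerivedCategory.Q _ _ fun P => ?_
  haveI h1 := TensorCoprod.isIso_counit_app_of_isKFlat K (DCoh.LTensorCx K)
    ((DCoh.tensorCxQ K).totalLeftDerivedCounit DerivedCategory.Q
      (HomologicalComplex.quasiIso X.Modules (.up ℤ))) (KFlat.isKFlat_res P)
  let Z := (DCoh.tensorCx.obj ((KFlat.res X).obj P)).obj K
  haveI : QuasiIso ((KFlat.aug X).app Z) := KFlat.quasiIso_aug Z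
  haveI : IsIso ((DCoh.tensorCxQ L).map ((KFlat.aug X).app Z)) :=
    Localization.inverts DerivedCategory.Q (HomologicalComplex.quasiIso X.Modules (.up ℤ)) _
      (LeftExists.quasiIso_tensor_right hL _)
  haveI h2 := LeftDerived.isIso_counit_app (LeftExists.isAdapted_tensorCxQ L) DerivedCategory.Q
    (DCoh.LTensorCx L) ((DCoh.tensorCxQ L).totalLeftDerivedCounit DerivedCategory.Q
      (HomologicalComplex.quasiIso X.Modules (.up ℤ))) Z
  have h2' : IsIso (((DCoh.tensorCxQ L).totalLeftDerivedCounit DerivedCategory.Q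
      (HomologicalComplex.quasiIso X.Modules (.up ℤ))).app
        (((DCoh.tensorCx (X := X)).flip.obj K).obj ((KFlat.res X).obj P))) := h2
  simp only [compCounit, NatTrans.comp_app, Functor.whiskerRight_app, Functor.whiskerLeft_app,
    Functor.associator_hom_app, Functor.associator_inv_app]
  erw [Category.id_comp, Category.id_comp, Category.id_comp]
  infer_instance

/-- `(- ⊗^L K) ⊗^L L ≅ - ⊗^L (K ⊗ L)` for `L` K-flat. -/
noncomputable def ltensorAssocIso [DCoh.HasLTensorCx ((DCoh.tensorCx.obj K).obj L)] :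
    DCoh.LTensorCx K ⋙ DCoh.LTensorCx L ≅ DCoh.LTensorCx ((DCoh.tensorCx.obj K).obj L) :=
  haveI := isLeftDerived_compCounit K hL
  Functor.leftDerivedUnique (LF := DCoh.LTensorCx K ⋙ DCoh.LTensorCx L)
    (LF' := DCoh.LTensorCx ((DCoh.tensorCx.obj K).obj L)) (α := compCounit K L)
    (α'₂ := (DCoh.tensorCxQ ((DCoh.tensorCx.obj K).obj L)).totalLeftDerivedCounit DerivedCategory.Q
      (HomologicalComplex.quasiIso X.Modules (.up ℤ)))
    (W := HomologicalComplex.quasiIso X.Modules (.up ℤ))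

end Derived

end Groth.Agent.Lib.DerivedOX.TensorAssoc
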