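import Groth.Agent.Lib.DerivedOX.ProjectionLocal
import Groth.Agent.Lib.Perfect.Triangle
import Groth.Agent.Lib.Perfect.Stupid
import Groth.Agent.Lib.Modules.Free

/-!
# The projection map at perfect objects
-/

set_option autoImplicit false
set_option linter.unusedSectionVars false
set_option linter.style.haveILetI false

universe u

open CategoryTheory Limits AlgebraicGeometry Pretriangulated HomologicalComplex

attribute [local instance] HasDerivedCategory.standard

namespace Groth.Agent.Lib.DerivedOX.ProjectionPerfect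

open ProjectionMap ProjectionLocal CompactUnit Perfect.Basic Perfect.Triangle

variable {X Y : Scheme.{u}}

/-- Near every point a perfect object is a bounded complex of finite free modules. -/
theorem exists_free {K : DCoh.D Y} (hK : DCoh.IsPerfect K) (y : Y) :
    ∃ (U : Y.Opens) (E : CochainComplex (U : Scheme.{u}).Modules ℤ) (a b : ℤ), y ∈ U ∧
      (∀ i, i < a ∨ b < i → IsZero (E.X i)) ∧
      (∀ i, a ≤ i → i ≤ b → ∃ n, Nonempty (E.X i ≅ FlatMod.freeMod (U : Scheme.{u}) n)) ∧
      Nonempty ((DCoh.restrictD U.ι).obj K ≅ DerivedCategory.Q.obj E) := by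
  classical
  obtain ⟨U₀, j, _, z, E, hz, ⟨⟨a, b, hv⟩, hlf⟩, ⟨e⟩⟩ := (isPerfect_iff K).1 hK y
  have key : ∀ s : Finset ℤ, ∃ V : U₀.Opens, z ∈ V ∧
      ∀ i ∈ s, ∃ n, Nonempty ((E.X i).restrict V.ι ≅ FlatMod.freeMod (V : Scheme.{u}) n) := by
    intro s
    induction s using Finset.induction with
    | empty => exact ⟨⊤, trivial, fun i hi => absurd hi (Finset.notMem_empty i)⟩
    | insert i s _ ih =>
      obtain ⟨V, hV, hs⟩ := ih
      obtain ⟨W, n, hW, hWV, hn⟩ := Modules.Free.exists_free_le (hlf i) hV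
      refine ⟨W, hW, fun k hk => ?_⟩
      rcases Finset.mem_insert.1 hk with rfl | hk
      · exact ⟨n, hn⟩
      · obtain ⟨m, ⟨g⟩⟩ := hs k hk
        exact ⟨m, ⟨Modules.Free.freeOfLE hWV g⟩⟩
  obtain ⟨V, hzV, hVf⟩ := key (Finset.Icc a b)
  let k : (V : Scheme.{u}) ⟶ Y := V.ι ≫ j
  let t := k.isoOpensRange.inv
  refine ⟨k.opensRange, (rC t).obj ((rC V.ι).obj E), a, b, ⟨⟨z, hzV⟩, hz⟩, fun i hi => ?_,
    fun i hia hib => ?_, ⟨?_⟩⟩
  · exact (Scheme.Modules.restrictFunctor t).map_isZero
      ((Scheme.Modules.restrictFunctor V.ι).map_isZero (hv i hi))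
  · obtain ⟨n, ⟨g⟩⟩ := hVf i (Finset.mem_Icc.2 ⟨hia, hib⟩)
    exact ⟨n, ⟨(Scheme.Modules.restrictFunctor t).mapIso g ≪≫ Modules.Free.restrictFreeIso t n⟩⟩
  · exact RDCongr (Scheme.Hom.isoOpensRange_inv_comp k).symm K ≪≫ RDComp t k K ≪≫
      (RD t).mapIso (RDComp V.ι j K ≪≫ (RD V.ι).mapIso e ≪≫ RDQ _ _) ≪≫ RDQ _ _

variable {f : X ⟶ Y} [DCoh.HasLpull f] [DCoh.HasRpush f]
  {B : CochainComplex Y.Modules ℤ} {I : CochainComplex X.Modules ℤ}
  {g : B ⟶ (GammaAcyclic.pushC f).obj I}
  [DCoh.HasLTensorCx B] [DCoh.HasLTensorCx I] [I.IsKInjective] [QuasiIso g] {U : Y.Opens}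

lemma goodU_free (n : ℕ) (m : ℤ) :
    GoodU f g U ((DerivedCategory.singleFunctor (U : Scheme.{u}).Modules m).obj
      (FlatMod.freeMod (U : Scheme.{u}) n)) := by
  classical
  intro k p
  let F := DerivedCategory.singleFunctor (U : Scheme.{u}).Modules m ⋙ CxOX.extZeroD U.ι ⋙
    shiftFunctor (DCoh.D Y) k
  have hO : IsIso ((map f g U p).app (F.obj (Coh.structureModule (U : Scheme.{u})))) :=
    (goodU_of_iso (((DerivedCategory.singleFunctors (U : Scheme.{u}).Modules).shiftIso (-m) m 0
      (by omega)).app _).symm (goodU_shift goodU_oneD (-m))) k p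
  let C := fun _ : Fin n => Coh.structureModule (U : Scheme.{u})
  let b : ∀ i, FlatMod.freeMod (U : Scheme.{u}) n ⟶ C i := fun i => Sigma.π C i
  have hab : ∑ i, b i ≫ Sigma.ι C i = 𝟙 (∐ C) := by
    refine Sigma.hom_ext _ _ fun j => ?_
    rw [Preadditive.comp_sum, Category.comp_id, Finset.sum_eq_single j]
    · exact (Category.assoc _ _ _).symm.trans
        ((congrArg (· ≫ Sigma.ι C j) (Sigma.ι_π_eq_id C j)).trans (Category.id_comp _))
    · intro i _ hi
      exact (Category.assoc _ _ _).symm.trans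
        ((congrArg (· ≫ Sigma.ι C i) (Sigma.ι_π_of_ne C (Ne.symm hi))).trans zero_comp)
    · exact fun h => (h (Finset.mem_univ j)).elim
  haveI : ∀ i, IsIso ((map f g U p).app (F.obj (C i))) := fun _ => hO
  exact DerCat.ExactFun.isIso_of_sum (map f g U p) (fun i => F.obj (C i)) _
    (fun i => F.map (Sigma.ι C i)) (fun i => F.map (b i))
    (by simp only [← Functor.map_comp, ← Functor.map_sum]; exact (congrArg F.map hab).trans (F.map_id _))

lemma goodU_of_isZero {L : DCoh.D (U : Scheme.{u})} (hL : IsZero L) : GoodU f g U L :=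
  goodU_of_retract ⟨0, 0, hL.eq_of_src _ _⟩ goodU_oneD

/-- Bounded complexes of finite free modules are good. -/
theorem goodU_of_free (E : CochainComplex (U : Scheme.{u}).Modules ℤ) (a b : ℤ)
    (hv : ∀ i, i < a ∨ b < i → IsZero (E.X i))
    (hf : ∀ i, a ≤ i → i ≤ b → ∃ n, Nonempty (E.X i ≅ FlatMod.freeMod (U : Scheme.{u}) n)) :
    GoodU f g U (DerivedCategory.Q.obj E) := by
  obtain ⟨w, hw⟩ : ∃ w : ℕ, b < a + w := ⟨(b - a).toNat + 1, by omega⟩
  induction w generalizing E b with
  | zero =>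
    refine goodU_of_isZero (DerivedCategory.Q.map_isZero ((IsZero.iff_id_eq_zero _).2
      (HomologicalComplex.hom_ext _ _ fun i => (hv i (by omega)).eq_of_src _ _)))
  | succ w ih =>
    rcases lt_or_ge b a with hba | hab
    · exact ih E b hv hf (by omega)
    let S := Perfect.Stupid.trunc E b
    let ι : S ⟶ E := Perfect.Stupid.ι E b
    haveI : ∀ i, Mono (ι.f i) := fun i => inferInstanceAs (Mono (kernel.ι _))
    haveI : Mono ι := HomologicalComplex.mono_of_mono_f _ inferInstance
    let T := ShortComplex.mk ι (cokernel.π ι) (cokernel.condition ι)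
    have hT : T.ShortExact := ShortComplex.ShortExact.mk'
      (ShortComplex.exact_cokernel ι) inferInstance inferInstance
    have hTi : ∀ i, (T.map (HomologicalComplex.eval _ _ i)).ShortExact :=
      fun i => hT.map_of_exact _
    have hSz : ∀ i, i ≠ b → IsZero (S.X i) := fun i hi => by
      rcases lt_or_gt_of_ne hi with h | h
      · exact Perfect.Stupid.isZero_trunc E b i h
      · exact IsZero.of_mono (ι.f i) (hv i (Or.inr h))
    have hC0 : ∀ i, b ≤ i → IsZero ((cokernel ι).X i) := fun i hi => by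
      haveI := Perfect.Stupid.isIso_ι E b i hi
      exact (hTi i).isIso_f_iff.1 this
    have hC1 : ∀ i, i < b → IsIso ((cokernel.π ι).f i) := fun i hi =>
      (hTi i).isIso_g_iff.2 (hSz i (by omega))
    have hCz : ∀ i, i < a ∨ b - 1 < i → IsZero ((cokernel ι).X i) := fun i hi => by
      by_cases h : b ≤ i
      · exact hC0 i h
      · exact (hv i (by omega)).of_iso (@asIso _ _ _ _ _ (hC1 i (by omega))).symm
    have hC : GoodU f g U (DerivedCategory.Q.obj (cokernel ι)) :=
      ih (cokernel ι) (b - 1) hCz (fun i hia hib => by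
        obtain ⟨n, ⟨e⟩⟩ := hf i hia (by omega)
        exact ⟨n, ⟨(@asIso _ _ _ _ _ (hC1 i (by omega))).symm ≪≫ e⟩⟩) (by omega)
    haveI : S.IsStrictlyLE b := (CochainComplex.isStrictlyLE_iff S b).2 fun i hi => hSz i (by omega)
    haveI : S.IsStrictlyGE b := (CochainComplex.isStrictlyGE_iff S b).2 fun i hi => hSz i (by omega)
    obtain ⟨M, ⟨e⟩⟩ := S.exists_iso_single b
    obtain ⟨n, ⟨eb⟩⟩ := hf b hab le_rfl
    let eM : M ≅ FlatMod.freeMod (U : Scheme.{u}) n :=
      (HomologicalComplex.singleObjXSelf (ComplexShape.up ℤ) b M).symm ≪≫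
        (HomologicalComplex.eval _ (ComplexShape.up ℤ) b).mapIso e.symm ≪≫
        @asIso _ _ _ _ _ (Perfect.Stupid.isIso_ι E b b le_rfl) ≪≫ eb
    have hS : GoodU f g U (DerivedCategory.Q.obj S) :=
      goodU_of_iso (DerivedCategory.Q.mapIso e ≪≫
        ((DerivedCategory.singleFunctorIsoCompQ _ b).app M).symm ≪≫
        (DerivedCategory.singleFunctor _ b).mapIso eM) (goodU_free n b)
    let D := DerivedCategory.triangleOfSES hT
    exact goodU_ext₃ D.invRotate (inv_rot_of_distTriang _
      (DerivedCategory.triangleOfSES_distinguished hT)) (goodU_shift hC (-1)) hS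

/-- The projection map is invertible at perfect objects. -/
theorem isIso_projMap_of_isPerfect {K : DCoh.D Y} (hK : DCoh.IsPerfect K) :
    IsIso ((projMap f g).app K) := by
  choose U E a b hyU hv hf he using exists_free hK
  refine OpenSupport.isIso_of_restrictD U (eq_top_iff.2 fun y _ =>
    TopologicalSpace.Opens.mem_iSup.2 ⟨y, hyU y⟩) _ fun y => ?_
  exact isIso_restrict_of_good ((good_iff_goodU K).2
    (goodU_of_iso (he y).some (goodU_of_free (E y) (a y) (b y) (hv y) (hf y))))

end Groth.Agent.Lib.DerivedOX.ProjectionPerfect
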