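import Groth.Agent.Lib.DerivedOX.DualGood
import Groth.Agent.Lib.DerivedOX.SingleTensor
import Groth.Agent.Lib.TensorMod.LocFree
import Groth.Prelude.Def_PicLoc

/-!
# The structure sheaf, its shifts and free modules are good
-/

universe u v w

open CategoryTheory Limits AlgebraicGeometry HomologicalComplex
open ZeroObject

attribute [local instance] HasDerivedCategory.standard

set_option linter.style.haveILetI false

namespace Groth.Agent.Lib.DerivedOX.DualFree

open Groth.Agent.Lib.Modules DualHom DualQis DualExact DualGood TrivCof LeftRes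
open Groth.Agent.Lib.Perfect

variable {X : Scheme.{u}}

local notation "O" => Coh.structureModule X

/-- `O` in degree zero. -/
noncomputable abbrev one (X : Scheme.{u}) : CochainComplex X.Modules ℤ :=
  (single X.Modules (ComplexShape.up ℤ) 0).obj (Coh.structureModule X)

/-- The component of the right unit. -/
noncomputable def unitX (T : CochainComplex X.Modules ℤ) (m : ℤ) :
    T.X m ≅ ((DCoh.tensorCx.obj T).obj (one X)).X m :=
  (TensorMod.Basic.rightUnit (T.X m)).symm ≪≫
    @asIso _ _ _ _ (Bifunctor.singleHom₂ (DCoh.tensorBi (X := X)) T 0 O m m (add_zero m))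
      (Bifunctor.isIso_singleHom₂ (DCoh.tensorBi (X := X)) T 0 O m m (add_zero m))

lemma unitX_hom (T : CochainComplex X.Modules ℤ) (m : ℤ) :
    (unitX T m).hom = (TensorMod.Basic.rightUnit (T.X m)).inv ≫
      Bifunctor.singleHom₂ (DCoh.tensorBi (X := X)) T 0 O m m (add_zero m) := rfl

lemma rightUnit_inv_natural {M N : X.Modules} (f : M ⟶ N) :
    f ≫ (TensorMod.Basic.rightUnit N).inv =
      (TensorMod.Basic.rightUnit M).inv ≫ ((DCoh.tensorBi (X := X)).map f).app O := by
  refine Eq.trans ?_ (congrArg ((TensorMod.Basic.rightUnit M).inv ≫ ·)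
    (PullTensor.tensorBi_map_app f O).symm)
  change f ≫ (TensorMod.Basic.rightUnit N).inv =
    (TensorMod.Basic.rightUnit M).inv ≫ TensorMod.Basic.tmap f (𝟙 O)
  rw [Iso.eq_inv_comp, ← Category.assoc, Iso.comp_inv_eq]
  exact (TensorMod.Basic.rightUnit_natural f).symm

lemma unitX_d (T : CochainComplex X.Modules ℤ) (m m' : ℤ) (h : m + 1 = m') :
    (unitX T m).hom ≫ ((DCoh.tensorCx.obj T).obj (one X)).d m m' = T.d m m' ≫ (unitX T m').hom := by
  rw [unitX_hom, unitX_hom]
  refine (Category.assoc _ _ _).trans ((congrArg (_ ≫ ·)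
    (Bifunctor.singleHom₂_d (DCoh.tensorBi (X := X)) T 0 O m m' m m' (add_zero m) (add_zero m') h)).trans ?_)
  exact (Category.assoc _ _ _).symm.trans ((congrArg (· ≫ _) (rightUnit_inv_natural (T.d m m')).symm).trans
    (Category.assoc _ _ _))

lemma unitX_natural {T T' : CochainComplex X.Modules ℤ} (g : T ⟶ T') (m : ℤ) :
    g.f m ≫ (unitX T' m).hom = (unitX T m).hom ≫ ((DCoh.tensorCx.map g).app (one X)).f m := by
  let B := DCoh.tensorBi (X := X)
  rw [unitX_hom, unitX_hom]
  refine (Category.assoc _ _ _).symm.trans ((congrArg (· ≫ _) (rightUnit_inv_natural (g.f m))).trans ?_)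
  refine (Category.assoc _ _ _).trans (Eq.trans ?_ (Category.assoc _ _ _).symm)
  refine congrArg (_ ≫ ·) ?_
  dsimp only [Bifunctor.singleHom₂]
  refine Eq.trans ?_ (Category.assoc _ _ _).symm
  refine Eq.trans ?_ (congrArg (_ ≫ ·)
    (ι_mapBifunctorMap g (𝟙 (one X)) B (.up ℤ) m 0 m (add_zero m)).symm)
  simp only [HomologicalComplex.id_f, CategoryTheory.Functor.map_id, Category.id_comp]
  exact ((B.map (g.f m)).naturality_assoc _ _).symm

/-- `T ⊗ O ≅ T`, naturally. -/
noncomputable def unitIso : 𝟭 (CochainComplex X.Modules ℤ) ≅ Tc (one X) :=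
  NatIso.ofComponents
    (fun T => HomologicalComplex.Hom.isoOfComponents (unitX T) (fun m m' h => unitX_d T m m' h))
    (fun g => HomologicalComplex.hom_ext _ _ fun m => unitX_natural g m)

/-- `Hom(O, J) ≅ J`. -/
noncomputable def hcOneIso : Hc (one X) ≅ 𝟭 (CochainComplex X.Modules ℤ) :=
  (adj (one X)).rightAdjointUniq (Adjunction.id.ofNatIsoLeft unitIso)

theorem isIso_ev_one (J : CochainComplex X.Modules ℤ) : IsIso (ev (one X) J) := by
  haveI := (adj (one X)).isIso_counit_of_iso
    (NatIso.hcomp hcOneIso unitIso.symm ≪≫ Functor.leftUnitor _)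
  infer_instance

variable {d : Data X} {V : X.Opens}

theorem perfAt_structure (x : X) : Triangle.PerfAt (DCoh.inD X O) x :=
  Triangle.PerfAt.of_iso (((DerivedCategory.singleFunctorIsoCompQ X.Modules 0).app O).symm)
    ((Triangle.isPerfect_iff _).1
      (fun y => ⟨⊤, trivial, fun F ⟨e⟩ => ⟨_,
        Basic.isStrictlyPerfect_map (⊤ : X.Opens).ι (Amplitude.isStrictlyPerfect_single
          (TensorMod.LocFree.of_isInvertible (PicLoc.isInvertible_structureModule X)) 0),
        ⟨(Basic.RDQ _ F).symm ≪≫ (Basic.RD _).mapIso e ≪≫ Basic.RDQ _ (one X)⟩⟩⟩) x)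

/-- The structure sheaf in degree zero is good. -/
theorem good_one : Good d V (one X) := by
  haveI := d.qis
  haveI : ∀ J, IsIso (ev (one X) J) := isIso_ev_one
  refine ⟨?_, fun x _ => ?_⟩
  · have h : (Tc (one X)).map (ψ d (one X)) ≫ ev (one X) d.J =
        asc d.A ((Hc (one X)).obj d.J₀) (one X) ≫
          (DCoh.tensorCx.obj d.A).map ((adj (one X)).counit.app d.J₀) ≫ d.c :=
      (Adjunction.homEquiv_counit _ _ _ _).symm.trans (homEquiv_symm_ψ d (one X))
    haveI : IsIso (asc d.A ((Hc (one X)).obj d.J₀) (one X)) :=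
      inferInstanceAs (IsIso (TensorAssoc.assocCx d.A ((Hc (one X)).obj d.J₀) (one X)).hom)
    haveI : IsIso ((DCoh.tensorCx.obj d.A).map ((adj (one X)).counit.app d.J₀)) :=
      haveI : IsIso ((adj (one X)).counit.app d.J₀) := isIso_ev_one d.J₀
      Functor.map_isIso _ _
    haveI : QuasiIso ((Tc (one X)).map (ψ d (one X)) ≫ ev (one X) d.J) := by rw [h]; infer_instance
    haveI : QuasiIso ((Tc (one X)).map (ψ d (one X))) := quasiIso_of_comp_right _ (ev (one X) d.J)
    haveI : QuasiIso (ψ d (one X)) := ((MorphismProperty.arrow_mk_iso_iff (HomologicalComplex.quasiIso _ _)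
      (Arrow.isoMk (unitIso.app _) (unitIso.app _) (unitIso.hom.naturality (ψ d (one X))).symm))).2 this
    exact QisAt.of_quasiIso _
  · exact (perfAt_structure x).of_iso
      (d.e₀.symm ≪≫ (DerivedCategory.Q.mapIso (hcOneIso.app d.J₀)).symm)

/-- A short complex in which one map is an isomorphism and the other object is zero is split. -/
noncomputable def splitting₁ {C : Type*} [Category C] [Preadditive C] (S : ShortComplex C)
    [IsIso S.f] (h : IsZero S.X₃) : S.Splitting where
  r := inv S.f
  s := 0
  f_r := by simp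
  s_g := h.eq_of_src _ _
  id := by simp

/-- A short complex in which one map is an isomorphism and the other object is zero is split. -/
noncomputable def splitting₃ {C : Type*} [Category C] [Preadditive C] (S : ShortComplex C)
    [IsIso S.g] (h : IsZero S.X₁) : S.Splitting where
  r := 0
  s := inv S.g
  f_r := h.eq_of_src _ _
  s_g := by simp
  id := by simp

/-- Two out of three, from degreewise splittings. -/
theorem good_two_of_three' (S : ShortComplex (CochainComplex X.Modules ℤ))
    (σ : ∀ n, (S.map (HomologicalComplex.eval X.Modules (ComplexShape.up ℤ) n)).Splitting) :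
    (Good d V S.X₁ → Good d V S.X₂ → Good d V S.X₃) ∧ (Good d V S.X₁ → Good d V S.X₃ → Good d V S.X₂) ∧
      (Good d V S.X₂ → Good d V S.X₃ → Good d V S.X₁) :=
  good_two_of_three (HomologicalComplex.shortExact_of_degreewise_shortExact S fun n => (σ n).shortExact)
    fun n => IsSplitMono.mk' ⟨(σ n).r, (σ n).f_r⟩

/-- Goodness is invariant under isomorphisms. -/
theorem good_of_iso {P P' : CochainComplex X.Modules ℤ} (e : P' ≅ P) (h : Good d V P) : Good d V P' :=
  (good_iff_of_qisAt e.hom (QisAt.of_quasiIso _)).1 h

/-- Shifting a single object does not change goodness. -/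
theorem good_single_iff_succ (A : X.Modules) (n : ℤ) :
    Good d V ((single X.Modules (ComplexShape.up ℤ) n).obj A) ↔
      Good d V ((single X.Modules (ComplexShape.up ℤ) (n + 1)).obj A) := by
  let S := ShortComplex.mk (singleToDisk A n) (diskToSingle A n) (by
    apply from_single_hom_ext
    exact (isZero_single_obj_X (ComplexShape.up ℤ) n A (n + 1) (by omega)).eq_of_tgt _ _)
  have σ : ∀ k, (S.map (HomologicalComplex.eval X.Modules (ComplexShape.up ℤ) k)).Splitting := fun k => by
    by_cases h₁ : k = n + 1
    · subst h₁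
      haveI : IsIso (S.map (HomologicalComplex.eval X.Modules (ComplexShape.up ℤ) (n + 1))).f := by
        change IsIso ((singleToDisk A n).f (n + 1))
        simp [singleToDisk]
        infer_instance
      exact splitting₁ _ (isZero_single_obj_X (ComplexShape.up ℤ) n A (n + 1) (by omega))
    · haveI : IsIso (S.map (HomologicalComplex.eval X.Modules (ComplexShape.up ℤ) k)).g := by
        change IsIso ((diskToSingle A n).f k)
        by_cases h₀ : k = n
        · subst h₀
          simp [diskToSingle]
          infer_instance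
        · exact OpenSupport.isIso_of_zero _ (disk_isZero A n k h₀ h₁)
            (isZero_single_obj_X (ComplexShape.up ℤ) n A k h₀)
      exact splitting₃ _ (isZero_single_obj_X (ComplexShape.up ℤ) (n + 1) A k h₁)
  obtain ⟨t₃, -, t₁⟩ := good_two_of_three' (d := d) (V := V) S σ
  have hD : Good d V (disk A n) := good_of_acyclic V (disk_acyclic A n)
  exact ⟨fun h => t₁ hD h, fun h => t₃ h hD⟩

theorem good_single_iff (A : X.Modules) (n : ℤ) :
    Good d V ((single X.Modules (ComplexShape.up ℤ) n).obj A) ↔
      Good d V ((single X.Modules (ComplexShape.up ℤ) 0).obj A) := by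
  induction n using Int.induction_on with
  | zero => rfl
  | succ k ih => exact (good_single_iff_succ A k).symm.trans ih
  | pred k ih =>
    refine Iff.trans ?_ ih
    have h := good_single_iff_succ (d := d) (V := V) A (-(k : ℤ) - 1)
    rwa [sub_add_cancel] at h

/-- The split short complex `A^k ⟶ A^(k+1) ⟶ A`. -/
noncomputable def coprodSC {C : Type*} [Category C] [Preadditive C] (A : C)
    [∀ n : ℕ, HasCoproduct fun _ : Fin n => A] (k : ℕ) : ShortComplex C :=
  ShortComplex.mk (Sigma.desc fun i : Fin k => Sigma.ι (fun _ : Fin (k + 1) => A) i.succ)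
    (Sigma.desc (Fin.cases (𝟙 A) fun _ => 0))
    (Sigma.hom_ext _ _ fun i => by simp)

/-- The splitting. -/
noncomputable def coprodSplitting {C : Type*} [Category C] [Preadditive C] (A : C)
    [∀ n : ℕ, HasCoproduct fun _ : Fin n => A] (k : ℕ) : (coprodSC A k).Splitting where
  r := Sigma.desc (Fin.cases 0 fun i => Sigma.ι (fun _ : Fin k => A) i)
  s := Sigma.ι (fun _ : Fin (k + 1) => A) 0
  f_r := Sigma.hom_ext _ _ fun i => by simp [coprodSC]
  s_g := by simp [coprodSC]
  id := by
    change (Sigma.desc (Fin.cases 0 fun i => Sigma.ι (fun _ : Fin k => A) i) ≫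
        Sigma.desc (fun i : Fin k => Sigma.ι (fun _ : Fin (k + 1) => A) i.succ) +
      Sigma.desc (Fin.cases (𝟙 A) fun _ => 0) ≫ Sigma.ι (fun _ : Fin (k + 1) => A) 0 :
        (∐ fun _ : Fin (k + 1) => A) ⟶ ∐ fun _ : Fin (k + 1) => A) = 𝟙 _
    refine Sigma.hom_ext _ _ fun i => ?_
    refine Fin.cases ?_ (fun j => ?_) i <;> simp [Preadditive.comp_add]

/-- Free modules in any degree are good. -/
theorem good_free (k : ℕ) (n : ℤ) :
    Good d V ((single X.Modules (ComplexShape.up ℤ) n).obj (FlatMod.freeMod X k)) := by
  induction k with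
  | zero =>
    exact good_of_isZero V (Functor.map_isZero _ ((IsZero.iff_id_eq_zero _).2
      (Sigma.hom_ext _ _ fun a => a.elim0)))
  | succ k ih =>
    let F := single X.Modules (ComplexShape.up ℤ) n
    let S := (coprodSC O k).map F
    refine (good_two_of_three' (d := d) (V := V) S fun m => ?_).2.1 ih
      ((good_single_iff O n).2 good_one)
    exact ((coprodSplitting O k).map F).map (HomologicalComplex.eval X.Modules (ComplexShape.up ℤ) m)

/-- A bounded complex all of whose terms are good in their degree is good. -/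
theorem good_of_terms (F : CochainComplex X.Modules ℤ)
    (hg : ∀ i, Good d V ((single X.Modules (ComplexShape.up ℤ) i).obj (F.X i))) (b : ℤ) (m : ℕ)
    (hz : ∀ i, i < b - m ∨ b ≤ i → IsZero (F.X i)) : Good d V F := by
  induction m generalizing F with
  | zero =>
    refine good_of_isZero V ((IsZero.iff_id_eq_zero F).2 (HomologicalComplex.hom_ext _ _ fun i =>
      (hz i (by omega)).eq_of_src _ _))
  | succ m ih =>
    let a := b - (m + 1 : ℕ)
    let T := Stupid.trunc F (a + 1)
    let π : F ⟶ (single X.Modules (ComplexShape.up ℤ) a).obj (F.X a) :=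
      mkHomToSingle (𝟙 _) (fun i (hi : i + 1 = a) => (hz i (by omega)).eq_of_src _ _)
    let S := ShortComplex.mk (Stupid.ι F (a + 1)) π (by
      apply HomologicalComplex.to_single_hom_ext
      exact (Stupid.isZero_trunc F (a + 1) a (by omega)).eq_of_src _ _)
    have σ : ∀ k, (S.map (HomologicalComplex.eval X.Modules (ComplexShape.up ℤ) k)).Splitting := fun k => by
      by_cases hk : a + 1 ≤ k
      · haveI : IsIso (S.map (HomologicalComplex.eval X.Modules (ComplexShape.up ℤ) k)).f :=
          Stupid.isIso_ι F (a + 1) k hk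
        exact splitting₁ _ (isZero_single_obj_X (ComplexShape.up ℤ) a (F.X a) k (by omega))
      · haveI : IsIso (S.map (HomologicalComplex.eval X.Modules (ComplexShape.up ℤ) k)).g := by
          change IsIso (π.f k)
          by_cases h₀ : k = a
          · subst h₀
            simp [π]
            infer_instance
          · exact OpenSupport.isIso_of_zero _ (hz k (by omega))
              (isZero_single_obj_X (ComplexShape.up ℤ) a (F.X a) k h₀)
        exact splitting₃ _ (Stupid.isZero_trunc F (a + 1) k (by omega))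
    refine (good_two_of_three' (d := d) (V := V) S σ).2.1 (ih T (fun i => ?_) fun i hi => ?_) (hg a)
    · by_cases hi : a + 1 ≤ i
      · haveI := Stupid.isIso_ι F (a + 1) i hi
        exact good_of_iso ((single X.Modules (ComplexShape.up ℤ) i).mapIso (asIso ((Stupid.ι F (a + 1)).f i)))
          (hg i)
      · exact good_of_isZero V (Functor.map_isZero _ (Stupid.isZero_trunc F (a + 1) i (by omega)))
    · by_cases hi' : a + 1 ≤ i
      · haveI := Stupid.isIso_ι F (a + 1) i hi'
        exact (hz i (by omega)).of_iso (asIso ((Stupid.ι F (a + 1)).f i))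
      · exact Stupid.isZero_trunc F (a + 1) i (by omega)

end Groth.Agent.Lib.DerivedOX.DualFree
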