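import Groth.Agent.Lib.DerivedOX.DualHom
import Groth.Agent.Lib.DerivedOX.TensorCoprod

/-!
# `RHom(K, -)` is computed by the internal Hom complex of a K-flat replacement
-/

universe u

open CategoryTheory Limits AlgebraicGeometry HomologicalComplex

attribute [local instance] HasDerivedCategory.standard

set_option linter.style.haveILetI false

namespace Groth.Agent.Lib.DerivedOX.DualCompare

open DualHom

variable {X : Scheme.{u}}

/-- The counit of `- ⊗^L P` composed with a map of the second variable. -/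
noncomputable def counitMap {P K : CochainComplex X.Modules ℤ} (r : P ⟶ K) [DCoh.HasLTensorCx P] :
    DerivedCategory.Q ⋙ DCoh.LTensorCx P ⟶ DCoh.tensorCxQ K :=
  (DCoh.tensorCxQ P).totalLeftDerivedCounit DerivedCategory.Q
      (HomologicalComplex.quasiIso X.Modules (.up ℤ)) ≫
    Functor.whiskerRight ((DCoh.tensorCx (X := X)).flip.map r) DerivedCategory.Q

/-- For K-flat `P` the counit of `- ⊗^L P` is invertible everywhere. -/
theorem isIso_counit {P : CochainComplex X.Modules ℤ} (hP : DCoh.IsKFlat P) [DCoh.HasLTensorCx P]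
    (T : CochainComplex X.Modules ℤ) :
    IsIso (((DCoh.tensorCxQ P).totalLeftDerivedCounit DerivedCategory.Q
      (HomologicalComplex.quasiIso X.Modules (.up ℤ))).app T) := by
  haveI : QuasiIso ((KFlat.aug X).app T) := KFlat.quasiIso_aug T
  haveI : IsIso ((DCoh.tensorCxQ P).map ((KFlat.aug X).app T)) :=
    Localization.inverts DerivedCategory.Q (HomologicalComplex.quasiIso X.Modules (.up ℤ)) _
      (LeftExists.quasiIso_tensor_right hP _)
  exact LeftDerived.isIso_counit_app (LeftExists.isAdapted_tensorCxQ P) DerivedCategory.Q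
    (DCoh.LTensorCx P) _ T

/-- A quasi-isomorphism from a K-flat complex identifies the derived tensor products. -/
theorem nonempty_ltensor_iso {P K : CochainComplex X.Modules ℤ} (hP : DCoh.IsKFlat P) (r : P ⟶ K)
    [QuasiIso r] [DCoh.HasLTensorCx P] [DCoh.HasLTensorCx K] :
    Nonempty (DCoh.LTensorCx P ≅ DCoh.LTensorCx K) := by
  haveI : (DCoh.LTensorCx P).IsLeftDerivedFunctor (counitMap r)
      (HomologicalComplex.quasiIso X.Modules (.up ℤ)) :=
    LeftDerived.isLeftDerivedFunctor_of_isIso (LeftExists.isAdapted_tensorCxQ K) DerivedCategory.Q _ _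
      fun T => by
        haveI := isIso_counit hP ((KFlat.res X).obj T)
        haveI : IsIso (DerivedCategory.Q.map (((DCoh.tensorCx (X := X)).flip.map r).app
            ((KFlat.res X).obj T))) :=
          Localization.inverts DerivedCategory.Q (HomologicalComplex.quasiIso X.Modules (.up ℤ)) _
            (TensorQis.quasiIso_left (KFlat.isKFlat_res T) r)
        simp only [counitMap, NatTrans.comp_app, Functor.whiskerRight_app]
        infer_instance
  exact ⟨Functor.leftDerivedUnique (LF := DCoh.LTensorCx P) (LF' := DCoh.LTensorCx K)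
    (α := counitMap r)
    (α'₂ := (DCoh.tensorCxQ K).totalLeftDerivedCounit DerivedCategory.Q
      (HomologicalComplex.quasiIso X.Modules (.up ℤ)))
    (W := HomologicalComplex.quasiIso X.Modules (.up ℤ))⟩

/-- For a K-injective complex maps in the derived category are homotopy classes. -/
theorem Q_map_bijective_aux {T J : CochainComplex X.Modules ℤ} [J.IsKInjective] :
    (∀ f : DerivedCategory.Q.obj T ⟶ DerivedCategory.Q.obj J,
      ∃ g : T ⟶ J, DerivedCategory.Q.map g = f) ∧
    ∀ g g' : T ⟶ J, DerivedCategory.Q.map g = DerivedCategory.Q.map g' →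
      (qK X).map g = (qK X).map g' := by
  let e := DerivedCategory.quotientCompQhIso X.Modules
  refine ⟨fun f => ?_, fun g g' h => (CochainComplex.IsKInjective.Qh_map_bijective _ J).1 ?_⟩
  · obtain ⟨φ, hφ⟩ := (CochainComplex.IsKInjective.Qh_map_bijective _ J).2
      ((e.app T).hom ≫ f ≫ (e.app J).inv)
    obtain ⟨g, rfl⟩ := (qK X).map_surjective φ
    refine ⟨g, (cancel_epi (e.app T).hom).1 ((e.hom.naturality g).symm.trans ?_)⟩
    exact (congrArg (· ≫ e.hom.app J) hφ).trans (by simp)
  · exact (cancel_mono (e.app J).hom).1 ((e.hom.naturality g).trans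
      ((congrArg (e.hom.app T ≫ ·) h).trans (e.hom.naturality g').symm))

/-- Postcomposition with `u'` is bijective on maps out of every object. -/
theorem bijective_key {P J : CochainComplex X.Modules ℤ} (hP : DCoh.IsKFlat P) [J.IsKInjective]
    (hJ : InjTerms J) [DCoh.HasLTensorCx P] {R : DCoh.D X ⥤ DCoh.D X} (A : DCoh.LTensorCx P ⊣ R)
    (T : CochainComplex X.Modules ℤ) :
    Function.Bijective fun φ : DerivedCategory.Q.obj T ⟶ DerivedCategory.Q.obj ((Hc P).obj J) =>
      φ ≫ A.homEquiv _ _ (((DCoh.tensorCxQ P).totalLeftDerivedCounit DerivedCategory.Q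
        (HomologicalComplex.quasiIso X.Modules (.up ℤ))).app ((Hc P).obj J) ≫
          DerivedCategory.Q.map (ev P J)) := by
  haveI := isKInjective_Hc hP hJ
  let c := (DCoh.tensorCxQ P).totalLeftDerivedCounit DerivedCategory.Q
    (HomologicalComplex.quasiIso X.Modules (.up ℤ))
  haveI : IsIso (c.app T) := isIso_counit hP T
  let w := A.homEquiv (DerivedCategory.Q.obj ((Hc P).obj J)) (DerivedCategory.Q.obj J)
    (c.app ((Hc P).obj J) ≫ DerivedCategory.Q.map (ev P J))
  have key : ∀ g : T ⟶ (Hc P).obj J, DerivedCategory.Q.map g ≫ w = A.homEquiv _ _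
      (c.app T ≫ DerivedCategory.Q.map (((adj P).homEquiv T J).symm g)) := fun g => by
    refine (A.homEquiv_naturality_left _ _).symm.trans (congrArg (A.homEquiv _ _) ?_)
    rw [Adjunction.homEquiv_counit, Functor.map_comp]
    exact c.naturality_assoc g _
  have hTJ := Q_map_bijective_aux (T := T) (J := J)
  have hTH := Q_map_bijective_aux (T := T) (J := (Hc P).obj J)
  have hTPJ := Q_map_bijective_aux (T := (Tc P).obj T) (J := J)
  constructor
  · intro φ φ' h
    obtain ⟨g, rfl⟩ := hTH.1 φ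
    obtain ⟨g', rfl⟩ := hTH.1 φ'
    have h' := (cancel_epi (c.app T)).1 ((A.homEquiv _ _).injective ((key g).symm.trans (h.trans (key g'))))
    have h'' := (quotient_map_eq_iff P hJ g g').2 (hTPJ.2 _ _ h')
    exact DerivedCategory.Q_map_eq_of_homotopy _ (HomotopyCategory.homotopyOfEq _ _ h'')
  · intro ψ
    obtain ⟨χ, hχ⟩ := hTPJ.1 (inv (c.app T) ≫ (A.homEquiv _ _).symm ψ)
    refine ⟨DerivedCategory.Q.map ((adj P).homEquiv T J χ), (key _).trans ?_⟩
    rw [Equiv.symm_apply_apply, hχ, IsIso.hom_inv_id_assoc, Equiv.apply_symm_apply]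

/-- `RHom(P, J) = Hom^•(P, J)` for K-flat `P` and any right adjoint of `- ⊗^L P`. -/
theorem nonempty_iso_of_adjunction {P J : CochainComplex X.Modules ℤ} (hP : DCoh.IsKFlat P)
    [J.IsKInjective] (hJ : InjTerms J) [DCoh.HasLTensorCx P] {R : DCoh.D X ⥤ DCoh.D X}
    (A : DCoh.LTensorCx P ⊣ R) :
    Nonempty (DerivedCategory.Q.obj ((Hc P).obj J) ≅ R.obj (DerivedCategory.Q.obj J)) := by
  let w := A.homEquiv (DerivedCategory.Q.obj ((Hc P).obj J)) (DerivedCategory.Q.obj J)
    (((DCoh.tensorCxQ P).totalLeftDerivedCounit DerivedCategory.Q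
      (HomologicalComplex.quasiIso X.Modules (.up ℤ))).app ((Hc P).obj J) ≫
        DerivedCategory.Q.map (ev P J))
  have hb : ∀ S, Function.Bijective fun φ : S ⟶ DerivedCategory.Q.obj ((Hc P).obj J) => φ ≫ w := fun S => by
    let e := DerivedCategory.Q.objObjPreimageIso S
    obtain ⟨hi, hs⟩ := bijective_key hP hJ A (DerivedCategory.Q.objPreimage S)
    refine ⟨fun φ φ' h => (cancel_epi e.hom).1 (hi ?_), fun ψ => ?_⟩
    · change (e.hom ≫ φ) ≫ w = (e.hom ≫ φ') ≫ w
      rw [Category.assoc, Category.assoc]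
      exact congrArg (e.hom ≫ ·) h
    · obtain ⟨φ, hφ⟩ := hs (e.hom ≫ ψ)
      refine ⟨e.inv ≫ φ, ?_⟩
      change (e.inv ≫ φ) ≫ w = ψ
      change φ ≫ w = e.hom ≫ ψ at hφ
      rw [Category.assoc, hφ, Iso.inv_hom_id_assoc]
  obtain ⟨v, hv⟩ := (hb (R.obj (DerivedCategory.Q.obj J))).2 (𝟙 _)
  exact ⟨⟨w, v, (hb _).1 (by
    change (w ≫ v) ≫ w = 𝟙 _ ≫ w
    rw [Category.assoc, show v ≫ w = 𝟙 _ from hv, Category.comp_id, Category.id_comp]), hv⟩⟩

/-- `RHom(K, J) = Hom^•(P, J)` for a K-flat `P` quasi-isomorphic to `K`. -/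
theorem nonempty_RSheafHom_iso {P K J : CochainComplex X.Modules ℤ} (hP : DCoh.IsKFlat P) (r : P ⟶ K)
    [QuasiIso r] [J.IsKInjective] (hJ : InjTerms J) [DCoh.HasLTensorCx K] [DCoh.HasRSheafHom K] :
    Nonempty (DerivedCategory.Q.obj ((Hc P).obj J) ≅
      (DCoh.RSheafHom K).obj (DerivedCategory.Q.obj J)) := by
  haveI := LeftExists.hasLTensorCx P
  obtain ⟨e⟩ := nonempty_ltensor_iso hP r
  exact nonempty_iso_of_adjunction hP hJ ((DCoh.RSheafHomAdj K).ofNatIsoLeft e.symm)

end Groth.Agent.Lib.DerivedOX.DualCompare
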