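import Groth.Agent.Lib.DerivedOX.PullTranspose

/-!
# The unit `f_*K ⟶ Rf_*K` on complexes and the counit of `Lf^* ⊣ Rf_*`
-/

set_option autoImplicit false
set_option linter.style.haveILetI false

universe u

open CategoryTheory Limits AlgebraicGeometry

attribute [local instance] HasDerivedCategory.standard

namespace Groth.Agent.Lib.DerivedOX.UnitCx

variable {X Y : Scheme.{u}} (f : X ⟶ Y) [DCoh.HasRpush f]

/-- The unit `f_*K ⟶ Rf_*K` on complexes. -/
noncomputable def unitCx : GammaAcyclic.pushC f ⋙ DerivedCategory.Q ⟶ DerivedCategory.Q ⋙ DCoh.Rpush f :=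
  Functor.whiskerLeft (GammaAcyclic.pushC f) (DerivedCategory.quotientCompQhIso Y.Modules).inv ≫
    (Functor.associator _ _ _).inv ≫
    Functor.whiskerRight ((Scheme.Modules.pushforward f).mapHomotopyCategoryFactors (.up ℤ)).inv
      DerivedCategory.Qh ≫
    (Functor.associator _ _ _).hom ≫
    Functor.whiskerLeft (HomotopyCategory.quotient X.Modules (.up ℤ))
      ((DCoh.pushKh f).totalRightDerivedUnit DerivedCategory.Qh
        (HomotopyCategory.quasiIso X.Modules (.up ℤ))) ≫
    (Functor.associator _ _ _).inv ≫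
    Functor.whiskerRight (DerivedCategory.quotientCompQhIso X.Modules).hom (DCoh.Rpush f)

lemma unitCx_app (K : CochainComplex X.Modules ℤ) :
    (unitCx f).app K =
      (DerivedCategory.quotientCompQhIso Y.Modules).inv.app ((GammaAcyclic.pushC f).obj K) ≫
        DerivedCategory.Qh.map
          (((Scheme.Modules.pushforward f).mapHomotopyCategoryFactors (.up ℤ)).inv.app K) ≫
        ((DCoh.pushKh f).totalRightDerivedUnit DerivedCategory.Qh
          (HomotopyCategory.quasiIso X.Modules (.up ℤ))).app
            ((HomotopyCategory.quotient X.Modules (.up ℤ)).obj K) ≫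
        (DCoh.Rpush f).map ((DerivedCategory.quotientCompQhIso X.Modules).hom.app K) := by
  simp only [unitCx, NatTrans.comp_app, Functor.whiskerLeft_app, Functor.whiskerRight_app,
    Functor.associator_inv_app, Functor.associator_hom_app]
  exact congrArg (_ ≫ ·) ((Category.id_comp _).trans (congrArg (_ ≫ ·)
    ((Category.id_comp _).trans (congrArg (_ ≫ ·) (Category.id_comp _)))))

theorem isIso_unitCx_app_iff (K : CochainComplex X.Modules ℤ) :
    IsIso ((unitCx f).app K) ↔ IsIso (((DCoh.pushKh f).totalRightDerivedUnit DerivedCategory.Qh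
      (HomotopyCategory.quasiIso X.Modules (.up ℤ))).app
        ((HomotopyCategory.quotient X.Modules (.up ℤ)).obj K)) := by
  rw [unitCx_app, isIso_comp_left_iff, isIso_comp_left_iff, isIso_comp_right_iff]

/-- The unit is invertible at K-injective complexes. -/
theorem isIso_unitCx_of_isKInjective (I : CochainComplex X.Modules ℤ) [I.IsKInjective] :
    IsIso ((unitCx f).app I) :=
  (isIso_unitCx_app_iff f I).2
    (RightDerived.isIso_totalRightDerivedUnit_app_of_isKInjective (DCoh.pushKh f) I)

variable [DCoh.HasLpull f]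

/-- The counit of `Lf^* ⊣ Rf_*` on complexes. -/
theorem counit_fac (K : CochainComplex X.Modules ℤ) :
    (DCoh.Lpull f).map ((unitCx f).app K) ≫
        (PullPushAdj.derivedAdjunction f).counit.app (DerivedCategory.Q.obj K) =
      (PullTranspose.counitCx f).app ((GammaAcyclic.pushC f).obj K) ≫
        DerivedCategory.Q.map ((PullTranspose.adjCx f).counit.app K) := by
  let W₁ := HomotopyCategory.quasiIso Y.Modules (ComplexShape.up ℤ)
  let W₂ := HomotopyCategory.quasiIso X.Modules (ComplexShape.up ℤ)
  let qX := HomotopyCategory.quotient X.Modules (ComplexShape.up ℤ)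
  let α : DerivedCategory.Qh ⋙ DCoh.Lpull f ⟶ PullPushAdj.pullK f :=
    (PullPushAdj.pullK f).totalLeftDerivedCounit DerivedCategory.Qh W₁
  let β : DCoh.pushKh f ⟶ DerivedCategory.Qh ⋙ DCoh.Rpush f :=
    (DCoh.pushKh f).totalRightDerivedUnit DerivedCategory.Qh W₂
  let adjK := DerCat.DerAdj.adjK (Scheme.Modules.pullbackPushforwardAdjunction f) (ComplexShape.up ℤ)
  let D := PullPushAdj.derivedAdjunction f
  haveI : (DCoh.Rpush f ⋙ DCoh.Lpull f).IsRightDerivedFunctor
      (Functor.whiskerRight β (DCoh.Lpull f) ≫
        (Functor.associator DerivedCategory.Qh (DCoh.Rpush f) (DCoh.Lpull f)).hom) W₂ := by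
    let e := (Functor.associator (RightDerived.resFunctor X.Modules) (DCoh.pushKh f) (DCoh.Lpull f)).symm ≪≫
      Functor.isoWhiskerRight (RightDerived.totalRightDerivedIso (DCoh.pushKh f)) (DCoh.Lpull f)
    refine (Functor.isRightDerivedFunctor_iff_of_iso (RF := RightDerived.resFunctor X.Modules ⋙
      DCoh.pushKh f ⋙ DCoh.Lpull f) (α := RightDerived.derivedUnit (DCoh.pushKh f ⋙ DCoh.Lpull f))
      (e := e) (W := W₂) (comm := ?_)).1 inferInstance
    ext K
    simp only [e, NatTrans.comp_app, Functor.whiskerLeft_app, Iso.trans_hom, Iso.symm_hom,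
      Functor.isoWhiskerRight_hom, Functor.whiskerRight_app, Functor.associator_inv_app,
      Functor.associator_hom_app, RightDerived.derivedUnit_app]
    erw [Category.id_comp, Category.comp_id]
    refine ((DCoh.Lpull f).map_comp _ _).symm.trans (congrArg (DCoh.Lpull f).map ?_)
    exact (congrArg (· ≫ _) (RightDerived.derivedUnit_app (DCoh.pushKh f) K).symm).trans
      (RightDerived.derivedUnit_comp_totalRightDerivedIso_hom (DCoh.pushKh f) K)
  have h1 : (DCoh.Lpull f).map (β.app (qX.obj K)) ≫ D.counit.app (DerivedCategory.Qh.obj (qX.obj K)) =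
      α.app (((Scheme.Modules.pushforward f).mapHomotopyCategory (.up ℤ)).obj (qX.obj K)) ≫
        DerivedCategory.Qh.map (adjK.counit.app (qX.obj K)) :=
    Adjunction.derivedε_fac_app adjK W₂ α β (qX.obj K)
  have h2 := α.naturality (((Scheme.Modules.pushforward f).mapHomotopyCategoryFactors (.up ℤ)).inv.app K)
  have h3 := D.counit.naturality ((DerivedCategory.quotientCompQhIso X.Modules).hom.app K)
  rw [unitCx_app]
  simp only [Functor.map_comp, Category.assoc]
  erw [h3, reassoc_of% h1, reassoc_of% h2]
  dsimp [PullTranspose.counitCx, LeftExists.onCxIso, PullPushAdj.pullK, adjK, qX]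
  simp only [Category.assoc, Category.id_comp]
  refine congrArg (fun t => (DCoh.Lpull f).map _ ≫ α.app _ ≫ t) ?_
  have h4 := (DerivedCategory.quotientCompQhIso X.Modules).hom.naturality
    ((PullTranspose.adjCx f).counit.app K)
  dsimp at h4
  erw [← h4]
  refine congrArg (· ≫ _) ?_
  refine congrArg (fun t => DerivedCategory.Qh.map t) ?_
  exact (((Scheme.Modules.pullback f).mapHomotopyCategory (.up ℤ)).map_id _).trans rfl

end Groth.Agent.Lib.DerivedOX.UnitCx
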