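import Mathlib.AlgebraicGeometry.Morphisms.Flat
import Mathlib.Algebra.Homology.HomotopyCategory.KInjective
import Groth.Agent.Lib.DerivedOX.PullbackStalk
import Groth.Agent.Lib.DerivedOX.StalkCx
import Groth.Agent.Lib.DerCat.DerAdj

/-!
# Pushforward along flat morphisms preserves K-injective complexes
-/

universe u

open CategoryTheory Limits AlgebraicGeometry HomologicalComplex

set_option linter.style.haveILetI false

namespace Groth.Agent.Lib.DerivedOX.KInjAdj

open Groth.Agent.Lib.Modules StalkModule StalkCx

/-- Flat base change of an acyclic complex is acyclic. -/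
theorem acyclic_extendScalars {R S : Type u} [CommRing R] [CommRing S] (φ : R →+* S)
    (hφ : φ.Flat) {Z : CochainComplex (ModuleCat.{u} R) ℤ} (hZ : Z.Acyclic) :
    (((ModuleCat.extendScalars.{u, u, u} φ).mapHomologicalComplex (.up ℤ)).obj Z).Acyclic := fun n => by
  letI := φ.toAlgebra
  haveI : Module.Flat R S := hφ
  have e := hZ n
  rw [exactAt_iff, ShortComplex.ShortExact.moduleCat_exact_iff_function_exact] at e ⊢
  exact Module.Flat.lTensor_exact S e

variable {X Y : Scheme.{u}} (f : X ⟶ Y)

/-- The pullback along a flat morphism preserves acyclic complexes. -/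
theorem acyclic_pullback [Flat f] {Z : CochainComplex Y.Modules ℤ} (hZ : Z.Acyclic) :
    (((Scheme.Modules.pullback f).mapHomologicalComplex (.up ℤ)).obj Z).Acyclic :=
  (acyclic_iff_stalk _).2 fun x => by
    let St := (stalkModFunctor Y (f.base x)).mapHomologicalComplex (ComplexShape.up ℤ)
    have h₁ : (St.obj Z).Acyclic := acyclic_stalk (f.base x) hZ
    have h₂ := acyclic_extendScalars (f.stalkMap x).hom (Flat.stalkMap f x) h₁
    let e : (stalkModFunctor Y (f.base x) ⋙
        ModuleCat.extendScalars.{u, u, u} (f.stalkMap x).hom).mapHomologicalComplex (ComplexShape.up ℤ) ≅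
        (Scheme.Modules.pullback f ⋙ stalkModFunctor X x).mapHomologicalComplex (ComplexShape.up ℤ) :=
      NatIso.mapHomologicalComplex (PullbackStalk.pullbackStalkIso f x) _
    exact acyclic_of_iso (e.app Z) h₂

/-- Pushforward along a flat morphism preserves K-injective complexes. -/
theorem isKInjective_pushforward [Flat f] {I : CochainComplex X.Modules ℤ} (hI : I.IsKInjective) :
    CochainComplex.IsKInjective
      (((Scheme.Modules.pushforward f).mapHomologicalComplex (ComplexShape.up ℤ)).obj I) where
  nonempty_homotopy_zero {K} φ hK := by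
    let adj := DerCat.DerAdj.adjC (Scheme.Modules.pullbackPushforwardAdjunction f) (ComplexShape.up ℤ)
    let h := CochainComplex.IsKInjective.homotopyZero ((adj.homEquiv K I).symm φ) (acyclic_pullback f hK)
    let h' := (((Scheme.Modules.pushforward f).mapHomotopy h).compLeft (adj.unit.app K))
    exact ⟨((Homotopy.ofEq (((adj.homEquiv K I).apply_symm_apply φ).symm.trans
      (adj.homEquiv_unit _ _ _))).trans h').trans (Homotopy.ofEq (by simp))⟩

end Groth.Agent.Lib.DerivedOX.KInjAdj
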