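import Groth.Agent.Lib.DerivedOX.PullPushAdj
import Groth.Agent.Lib.DerivedOX.GammaAcyclic

/-!
# Transposes of chain maps under `Lf^* ⊣ Rf_*`

If `γ : f^*X ⟶ I` is adjoint to a quasi-isomorphism `X ⟶ f_*I`, with `I` K-injective, then the
transpose of `Lf^*X ⟶ f^*X ⟶ I` is an isomorphism `X ≅ Rf_*I`.
-/

set_option autoImplicit false
set_option linter.style.haveILetI false

universe u

open CategoryTheory Limits AlgebraicGeometry

attribute [local instance] HasDerivedCategory.standard

namespace Groth.Agent.Lib.DerivedOX.PullTranspose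

variable {X Y : Scheme.{u}} (f : X ⟶ Y)

/-- `f^*` on complexes. -/
noncomputable abbrev pullC : CochainComplex Y.Modules ℤ ⥤ CochainComplex X.Modules ℤ :=
  (Scheme.Modules.pullback f).mapHomologicalComplex (ComplexShape.up ℤ)

/-- The adjunction on complexes. -/
noncomputable abbrev adjCx : pullC f ⊣ GammaAcyclic.pushC f :=
  DerCat.DerAdj.adjC (Scheme.Modules.pullbackPushforwardAdjunction f) (ComplexShape.up ℤ)

variable [DCoh.HasLpull f]

/-- The counit `Lf^*(K) ⟶ f^*K`, on complexes. -/
noncomputable def counitCx : DerivedCategory.Q ⋙ DCoh.Lpull f ⟶ pullC f ⋙ DerivedCategory.Q :=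
  Functor.whiskerRight (DerivedCategory.quotientCompQhIso Y.Modules).inv (DCoh.Lpull f) ≫
    Functor.whiskerLeft (HomotopyCategory.quotient Y.Modules (.up ℤ))
      ((PullPushAdj.pullK f).totalLeftDerivedCounit DerivedCategory.Qh
        (HomotopyCategory.quasiIso Y.Modules (.up ℤ))) ≫
    (LeftExists.onCxIso (Scheme.Modules.pullback f)).hom

theorem isIso_counitCx {K : CochainComplex Y.Modules ℤ} (hK : DCoh.IsKFlat K) :
    IsIso ((counitCx f).app K) := by
  haveI := PullPushAdj.isIso_counit_app_of_isKFlat f (DCoh.Lpull f)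
    ((PullPushAdj.pullK f).totalLeftDerivedCounit DerivedCategory.Qh _) hK
  simp only [counitCx, NatTrans.comp_app, Functor.whiskerRight_app, Functor.whiskerLeft_app]
  infer_instance

variable [DCoh.HasRpush f]

theorem isIso_transpose {K : CochainComplex Y.Modules ℤ} {I : CochainComplex X.Modules ℤ}
    [I.IsKInjective] (γ : (pullC f).obj K ⟶ I) [QuasiIso ((adjCx f).homEquiv K I γ)] :
    IsIso ((PullPushAdj.derivedAdjunction f).homEquiv (DerivedCategory.Q.obj K) _
      ((counitCx f).app K ≫ DerivedCategory.Q.map γ)) := by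
  let W₁ := HomotopyCategory.quasiIso Y.Modules (ComplexShape.up ℤ)
  let W₂ := HomotopyCategory.quasiIso X.Modules (ComplexShape.up ℤ)
  let qY := HomotopyCategory.quotient Y.Modules (ComplexShape.up ℤ)
  let qX := HomotopyCategory.quotient X.Modules (ComplexShape.up ℤ)
  let α : DerivedCategory.Qh ⋙ DCoh.Lpull f ⟶ PullPushAdj.pullK f :=
    (PullPushAdj.pullK f).totalLeftDerivedCounit DerivedCategory.Qh W₁
  let β : DCoh.pushKh f ⟶ DerivedCategory.Qh ⋙ DCoh.Rpush f :=
    (DCoh.pushKh f).totalRightDerivedUnit DerivedCategory.Qh W₂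
  let adjK := DerCat.DerAdj.adjK (Scheme.Modules.pullbackPushforwardAdjunction f) (ComplexShape.up ℤ)
  let D := PullPushAdj.derivedAdjunction f
  -- rewrite the map through the homotopy category
  let γ' : ((Scheme.Modules.pullback f).mapHomotopyCategory (ComplexShape.up ℤ)).obj (qY.obj K) ⟶
      qX.obj I := ((Scheme.Modules.pullback f).mapHomotopyCategoryFactors _).hom.app K ≫ qX.map γ
  have hγ : (counitCx f).app K ≫ DerivedCategory.Q.map γ =
      (DCoh.Lpull f).map ((DerivedCategory.quotientCompQhIso Y.Modules).inv.app K) ≫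
        (α.app (qY.obj K) ≫ DerivedCategory.Qh.map γ') ≫
          (DerivedCategory.quotientCompQhIso X.Modules).hom.app I := by
    have h := (DerivedCategory.quotientCompQhIso X.Modules).hom.naturality γ
    simp only [Functor.comp_map] at h
    dsimp [counitCx, LeftExists.onCxIso, γ', α, qX, qY, W₁]
    simp only [Category.assoc, Category.id_comp, Functor.map_comp]
    erw [h]
  rw [hγ, Adjunction.homEquiv_naturality_left, Adjunction.homEquiv_naturality_right]
  haveI : (DCoh.Lpull f ⋙ DCoh.Rpush f).IsLeftDerivedFunctor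
      ((Functor.associator DerivedCategory.Qh (DCoh.Lpull f) (DCoh.Rpush f)).inv ≫
        Functor.whiskerRight α (DCoh.Rpush f)) W₁ :=
    LeftDerived.isLeftDerivedFunctor_postcomp (PullPushAdj.isAdapted_pullK f) (DCoh.Lpull f) α
      (DCoh.Rpush f)
  haveI : IsIso (D.homEquiv _ _ (α.app (qY.obj K) ≫ DerivedCategory.Qh.map γ')) := by
    rw [Adjunction.homEquiv_unit, Functor.map_comp]
    have h1 : D.unit.app (DerivedCategory.Qh.obj (qY.obj K)) ≫ (DCoh.Rpush f).map (α.app (qY.obj K)) =
        DerivedCategory.Qh.map (adjK.unit.app (qY.obj K)) ≫ β.app _ :=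
      Adjunction.derivedη_fac_app adjK W₁ α β (qY.obj K)
    have h2 := β.naturality γ'
    rw [← Category.assoc]
    erw [h1]
    rw [Category.assoc]
    erw [← h2]
    haveI : IsIso (β.app (qX.obj I)) :=
      RightDerived.isIso_totalRightDerivedUnit_app_of_isKInjective (DCoh.pushKh f) I
    have hq : IsIso (DerivedCategory.Qh.map (qY.map ((adjCx f).homEquiv K I γ))) := by
      haveI : IsIso (DerivedCategory.Q.map ((adjCx f).homEquiv K I γ)) := inferInstance
      exact (NatIso.isIso_map_iff (DerivedCategory.quotientCompQhIso Y.Modules) _).2 inferInstance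
    rw [Adjunction.homEquiv_unit, Functor.map_comp, Functor.map_comp] at hq
    rw [← Category.assoc]
    haveI : IsIso (DerivedCategory.Qh.map (adjK.unit.app (qY.obj K)) ≫ (DCoh.pushKh f).map γ') := by
      refine Eq.mpr (congrArg IsIso ?_) hq
      refine congrArg (DerivedCategory.Qh.map (adjK.unit.app (qY.obj K)) ≫ ·) ?_
      change DerivedCategory.Qh.map
        (((Scheme.Modules.pushforward f).mapHomotopyCategory (ComplexShape.up ℤ)).map γ') = _
      refine congrArg (fun t => DerivedCategory.Qh.map t) ?_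
      simp [γ']
      rfl
    exact inferInstanceAs (IsIso ((DerivedCategory.Qh.map (adjK.unit.app (qY.obj K)) ≫
      (DCoh.pushKh f).map γ') ≫ β.app (qX.obj I)))
  refine @IsIso.comp_isIso _ _ _ _ _ _ _ inferInstance ?_
  exact @IsIso.comp_isIso _ _ _ _ _ _ _ (by assumption) inferInstance

end Groth.Agent.Lib.DerivedOX.PullTranspose
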