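import Groth.Agent.Lib.DerivedOX.PullTensor
import Groth.Agent.Lib.DerivedOX.SingleTensor
import Groth.Agent.Lib.DerivedOX.PullTranspose
import Groth.Agent.Lib.BettiExact.TorProduct

/-!
# `𝒪[-n] ⊗ L` and its pullback

* `unitShiftIso n L : 𝒪[-n] ⊗ L ≅ L⟦-n⟧`;
* `corr f M : f^*M ≅ f^*M`, comparing the two unit isomorphisms on `f^*(𝒪 ⊗ M)`;
* `pull_unitShiftIso`: compatibility of the three.
-/

set_option autoImplicit false
set_option linter.unusedSectionVars false
set_option linter.style.haveILetI false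

universe u

open CategoryTheory Limits AlgebraicGeometry HomologicalComplex

attribute [local instance] HasDerivedCategory.standard

namespace Groth.Agent.Lib.DerivedOX.UnitTensor

open TensorMod.Basic

variable {X Y : Scheme.{u}}

/-- `K ⊗ L`. -/
noncomputable abbrev tC (K L : CochainComplex X.Modules ℤ) : CochainComplex X.Modules ℤ :=
  (DCoh.tensorCx.obj K).obj L

/-- `𝒪` in degree `n`. -/
noncomputable abbrev one (X : Scheme.{u}) (n : ℤ) : CochainComplex X.Modules ℤ :=
  (single X.Modules (ComplexShape.up ℤ) n).obj (Coh.structureModule X)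

/-- The summand in degree `m`. -/
noncomputable abbrev incl (n : ℤ) (L : CochainComplex X.Modules ℤ) (m : ℤ) :
    ((DCoh.tensorBi (X := X)).obj (Coh.structureModule X)).obj (L.X (m + -n)) ⟶
      (tC (one X n) L).X m :=
  Bifunctor.singleHom₁ (DCoh.tensorBi (X := X)) (Coh.structureModule X) n L m (m + -n) (by omega)

instance isIso_incl (n : ℤ) (L : CochainComplex X.Modules ℤ) (m : ℤ) : IsIso (incl n L m) :=
  Bifunctor.isIso_singleHom₁ (DCoh.tensorBi (X := X)) (Coh.structureModule X) n L m (m + -n) _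

/-- `𝒪 ⊗ M ≅ M`. -/
noncomputable abbrev lu (M : X.Modules) :
    ((DCoh.tensorBi (X := X)).obj (Coh.structureModule X)).obj M ≅ M :=
  leftUnit M

lemma lu_natural {M N : X.Modules} (g : M ⟶ N) :
    ((DCoh.tensorBi (X := X)).obj (Coh.structureModule X)).map g ≫ (lu N).hom = (lu M).hom ≫ g := by
  rw [PullTensor.tensorBi_obj_map]
  exact leftUnit_natural g

/-- `𝒪[-n] ⊗ L ≅ L⟦-n⟧`. -/
noncomputable def unitShiftIso (n : ℤ) (L : CochainComplex X.Modules ℤ) :
    tC (one X n) L ≅ L⟦-n⟧ :=
  HomologicalComplex.Hom.isoOfComponents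
    (fun m => (asIso (incl n L m)).symm ≪≫ lu (L.X (m + -n)))
    (fun m m' (h : m + 1 = m') => by
      have h' : (m + -n) + 1 = m' + -n := by omega
      rw [← cancel_epi (incl n L m)]
      simp only [Iso.trans_hom, Iso.symm_hom, asIso_inv, IsIso.hom_inv_id_assoc, Category.assoc,
        CochainComplex.shiftFunctor_obj_d']
      refine Eq.trans ?_ ((reassoc_of% (Bifunctor.singleHom₁_d (DCoh.tensorBi (X := X))
        (Coh.structureModule X) n L m m' (m + -n) (m' + -n) (by omega) (by omega) h)) _).symm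
      simp only [Int.negOnePow_neg, Units.smul_def, Preadditive.zsmul_comp, Category.assoc]
      refine (Preadditive.comp_zsmul ..).trans (congrArg (_ • ·) ?_)
      exact (lu_natural _).symm.trans (congrArg (_ ≫ ·) (IsIso.hom_inv_id_assoc (incl n L m') _).symm))

@[reassoc]
lemma incl_unitShiftIso (n : ℤ) (L : CochainComplex X.Modules ℤ) (m : ℤ) :
    incl n L m ≫ (unitShiftIso n L).hom.f m = (lu (L.X (m + -n))).hom := by
  simp [unitShiftIso]

@[reassoc]
lemma incl_natural (n : ℤ) {L L' : CochainComplex X.Modules ℤ} (g : L ⟶ L') (m : ℤ) :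
    incl n L m ≫ ((DCoh.tensorCx.obj (one X n)).map g).f m =
      ((DCoh.tensorBi (X := X)).obj (Coh.structureModule X)).map (g.f (m + -n)) ≫ incl n L' m := by
  dsimp only [incl, Bifunctor.singleHom₁]
  refine (Category.assoc _ _ _).trans ?_
  refine (congrArg _ (ι_mapBifunctorMap (𝟙 (one X n)) g (DCoh.tensorBi (X := X)) (.up ℤ) n (m + -n) m
    (show n + (m + -n) = m by omega))).trans ?_
  simp only [HomologicalComplex.id_f, CategoryTheory.Functor.map_id, NatTrans.id_app,
    Category.id_comp]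
  exact (NatTrans.naturality_assoc _ _ _).symm

lemma unitShiftIso_natural (n : ℤ) {L L' : CochainComplex X.Modules ℤ} (g : L ⟶ L') :
    (DCoh.tensorCx.obj (one X n)).map g ≫ (unitShiftIso n L').hom =
      (unitShiftIso n L).hom ≫ g⟦-n⟧' := by
  refine HomologicalComplex.hom_ext _ _ fun m => ?_
  rw [← cancel_epi (incl n L m), HomologicalComplex.comp_f, HomologicalComplex.comp_f,
    incl_natural_assoc, incl_unitShiftIso, incl_unitShiftIso_assoc]
  exact lu_natural _

variable (f : X ⟶ Y)

/-- Comparison of the two ways to remove `𝒪` from `f^*(𝒪 ⊗ M)`. -/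
noncomputable def corr (M : Y.Modules) :
    (Scheme.Modules.pullback f).obj M ≅ (Scheme.Modules.pullback f).obj M :=
  (Scheme.Modules.pullback f).mapIso (lu M).symm ≪≫
    ((PullTensor.pullComparison f).iso (Coh.structureModule Y) M).symm ≪≫
    ((DCoh.tensorBi (X := X)).mapIso (PicLoc.pullbackStructureIso f)).app
      ((Scheme.Modules.pullback f).obj M) ≪≫
    lu ((Scheme.Modules.pullback f).obj M)

lemma corr_natural {M N : Y.Modules} (g : M ⟶ N) :
    (Scheme.Modules.pullback f).map g ≫ (corr f N).hom =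
      (corr f M).hom ≫ (Scheme.Modules.pullback f).map g := by
  have h1 : g ≫ (lu N).inv = (lu M).inv ≫
      ((DCoh.tensorBi (X := Y)).obj (Coh.structureModule Y)).map g := by
    rw [Iso.comp_inv_eq, Category.assoc, lu_natural, Iso.inv_hom_id_assoc]
  simp only [corr, Iso.trans_hom, Functor.mapIso_hom, Iso.symm_hom, Iso.app_hom, Category.assoc,
    ← Functor.map_comp_assoc, h1]
  simp only [Functor.map_comp, Category.assoc]
  congr 1
  have h2 := (PullTensor.pullComparison f).natural₂ (Coh.structureModule Y) g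
  have h2' : (Scheme.Modules.pullback f).map (((DCoh.tensorBi (X := Y)).obj (Coh.structureModule Y)).map g) ≫
      ((PullTensor.pullComparison f).iso (Coh.structureModule Y) N).inv =
      ((PullTensor.pullComparison f).iso (Coh.structureModule Y) M).inv ≫
        ((DCoh.tensorBi (X := X)).obj ((Scheme.Modules.pullback f).obj (Coh.structureModule Y))).map
          ((Scheme.Modules.pullback f).map g) := by
    rw [Iso.comp_inv_eq, Category.assoc, h2, Iso.inv_hom_id_assoc]
  rw [reassoc_of% h2']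
  congr 1
  rw [NatTrans.naturality_assoc, lu_natural]

/-- `corr`, termwise. -/
noncomputable def corrC (L : CochainComplex Y.Modules ℤ) :
    (PullTranspose.pullC f).obj L ≅ (PullTranspose.pullC f).obj L :=
  HomologicalComplex.Hom.isoOfComponents (fun m => corr f (L.X m))
    fun i j _ => (corr_natural f (L.d i j)).symm

/-- The pullback of a tensor product. -/
noncomputable abbrev pullIso (K L : CochainComplex Y.Modules ℤ) :
    (PullTranspose.pullC f).obj (tC K L) ≅
      tC ((PullTranspose.pullC f).obj K) ((PullTranspose.pullC f).obj L) :=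
  (PullTensor.pullTensorIso f K L).symm

/-- `f^*(𝒪[-n]) ≅ 𝒪[-n]`. -/
noncomputable def pullOneIso (n : ℤ) : (PullTranspose.pullC f).obj (one Y n) ≅ one X n :=
  (singleMapHomologicalComplex (Scheme.Modules.pullback f) (ComplexShape.up ℤ) n).app _ ≪≫
    (single X.Modules (ComplexShape.up ℤ) n).mapIso (PicLoc.pullbackStructureIso f)

lemma pullOneIso_hom_f (n : ℤ) :
    (pullOneIso f n).hom.f n =
      (Scheme.Modules.pullback f).map (singleObjXSelf (.up ℤ) n (Coh.structureModule Y)).hom ≫
        (PicLoc.pullbackStructureIso f).hom ≫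
          (singleObjXSelf (.up ℤ) n (Coh.structureModule X)).inv := by
  simp [pullOneIso, single_map_f_self]
  exact (Category.assoc _ _ _).trans (congrArg (_ ≫ ·) (Iso.inv_hom_id_assoc _ _))

lemma map_app_comp {A B C : Type*} [Category A] [Category B] [Category C] (F : A ⥤ B ⥤ C)
    {P Q Q' R : A} {a : P ⟶ Q} {b : Q ⟶ R} {c : P ⟶ Q'} {d : Q' ⟶ R} (h : a ≫ b = c ≫ d) (M : B) :
    (F.map a).app M ≫ (F.map b).app M = (F.map c).app M ≫ (F.map d).app M := by
  rw [← NatTrans.comp_app, ← NatTrans.comp_app, ← F.map_comp, ← F.map_comp, h]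

lemma map_inv_hom_assoc {A B : Type*} [Category A] [Category B] (F : A ⥤ B) {P Q : A} (c : P ≅ Q)
    {R : B} (r : F.obj Q ⟶ R) : F.map c.inv ≫ F.map c.hom ≫ r = r := by
  rw [← F.map_comp_assoc, c.inv_hom_id, F.map_id, Category.id_comp]

lemma chain {C : Type*} [Category C] {A A₁ A₁' A₂ A₂' A₃ B₁ B₂ B₃ Z : C}
    {a : A ⟶ A₁} {ι : A₁ ⟶ B₁} {P : B₁ ⟶ B₂} {T : B₂ ⟶ B₃} {U : B₃ ⟶ Z} {i : A₁ ⟶ A₂}
    {ι' : A₂ ⟶ B₂} {t : A₂ ⟶ A₃} {ι'' : A₃ ⟶ B₃} {j : A ⟶ A₁'} {a' : A₁' ⟶ A₂} {e : A₁' ⟶ A₂'}
    {b : A₂' ⟶ A₃} {l : A₂' ⟶ Z} (ha : a ≫ i = j ≫ a') (h1 : ι ≫ P = i ≫ ι')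
    (h2 : ι' ≫ T = t ≫ ι'') (ht : a' ≫ t = e ≫ b) (h3 : (b ≫ ι'') ≫ U = l) :
    (a ≫ ι) ≫ P ≫ T ≫ U = j ≫ e ≫ l := by
  rw [← h3, Category.assoc, reassoc_of% h1, reassoc_of% h2, reassoc_of% ha, reassoc_of% ht,
    Category.assoc]

/-- The pullback of `unitShiftIso`. -/
lemma pull_unitShiftIso (n : ℤ) (L : CochainComplex Y.Modules ℤ) (m : ℤ) :
    (Scheme.Modules.pullback f).map ((unitShiftIso n L).hom.f m) ≫ (corr f (L.X (m + -n))).hom =
      (pullIso f (one Y n) L).hom.f m ≫
        ((DCoh.tensorCx.map (pullOneIso f n).hom).app ((PullTranspose.pullC f).obj L)).f m ≫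
          (unitShiftIso n ((PullTranspose.pullC f).obj L)).hom.f m := by
  let pb := Scheme.Modules.pullback f
  rw [← cancel_epi (pb.map (incl n L m)), ← Category.assoc, ← Functor.map_comp, incl_unitShiftIso]
  let cY := singleObjXSelf (.up ℤ) n (Coh.structureModule Y)
  let cX := singleObjXSelf (.up ℤ) n (Coh.structureModule X)
  let M : Y.Modules := L.X (m + -n)
  let θ := PullTensor.pullComparison f
  have hι : pb.map (ιMapBifunctor (one Y n) L (DCoh.tensorBi (X := Y)) (.up ℤ) n (m + -n) m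
        (show n + (m + -n) = m by omega)) ≫ (pullIso f (one Y n) L).hom.f m =
      (θ.iso ((one Y n).X n) M).inv ≫
        ιMapBifunctor ((PullTranspose.pullC f).obj (one Y n)) ((PullTranspose.pullC f).obj L)
          (DCoh.tensorBi (X := X)) (.up ℤ) n (m + -n) m (show n + (m + -n) = m by omega) := by
    refine (Iso.comp_inv_eq (HomologicalComplex.Hom.isoApp
      (PullTensor.pullTensorIso f (one Y n) L) m)).2 ?_
    exact ((Category.assoc _ _ _).trans ((congrArg (_ ≫ ·)
      (BifunctorMap.ι_homX θ (one Y n) L n (m + -n) m (show n + (m + -n) = m by omega))).trans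
        (Iso.inv_hom_id_assoc _ _))).symm
  have ha : pb.map (((DCoh.tensorBi (X := Y)).map cY.inv).app M) ≫ (θ.iso ((one Y n).X n) M).inv =
      (θ.iso (Coh.structureModule Y) M).inv ≫
        ((DCoh.tensorBi (X := X)).map (pb.map cY.inv)).app (pb.obj M) := by
    rw [Iso.comp_inv_eq, Category.assoc, θ.natural₁, Iso.inv_hom_id_assoc]
  have h2 : ιMapBifunctor ((PullTranspose.pullC f).obj (one Y n)) ((PullTranspose.pullC f).obj L)
        (DCoh.tensorBi (X := X)) (.up ℤ) n (m + -n) m (show n + (m + -n) = m by omega) ≫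
      ((DCoh.tensorCx.map (pullOneIso f n).hom).app ((PullTranspose.pullC f).obj L)).f m =
      ((DCoh.tensorBi (X := X)).map ((pullOneIso f n).hom.f n)).app (pb.obj M) ≫
        ιMapBifunctor (one X n) ((PullTranspose.pullC f).obj L)
          (DCoh.tensorBi (X := X)) (.up ℤ) n (m + -n) m (show n + (m + -n) = m by omega) := by
    refine (ι_mapBifunctorMap (pullOneIso f n).hom (𝟙 ((PullTranspose.pullC f).obj L))
      (DCoh.tensorBi (X := X)) (.up ℤ) n (m + -n) m (show n + (m + -n) = m by omega)).trans ?_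
    simp only [HomologicalComplex.id_f, CategoryTheory.Functor.map_id, Category.id_comp]
    rfl
  have ht : ((DCoh.tensorBi (X := X)).map (pb.map cY.inv)).app (pb.obj M) ≫
      ((DCoh.tensorBi (X := X)).map ((pullOneIso f n).hom.f n)).app (pb.obj M) =
      ((DCoh.tensorBi (X := X)).map (PicLoc.pullbackStructureIso f).hom).app (pb.obj M) ≫
        ((DCoh.tensorBi (X := X)).map cX.inv).app (pb.obj M) := by
    refine map_app_comp (DCoh.tensorBi (X := X)) ?_ (pb.obj M)
    exact (congrArg (pb.map cY.inv ≫ ·) (pullOneIso_hom_f f n)).trans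
      (map_inv_hom_assoc pb cY _)
  have hL : pb.map (lu M).hom ≫ (corr f M).hom = (θ.iso (Coh.structureModule Y) M).inv ≫
      ((DCoh.tensorBi (X := X)).map (PicLoc.pullbackStructureIso f).hom).app (pb.obj M) ≫
        (lu (pb.obj M)).hom := by
    simp [corr, pb, θ, ← Functor.map_comp_assoc]
  refine hL.trans ((congrArg (· ≫ _) (pb.map_comp _ _)).trans ?_).symm
  exact chain ha hι h2 ht (incl_unitShiftIso n ((PullTranspose.pullC f).obj L) m)

end Groth.Agent.Lib.DerivedOX.UnitTensor
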