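import Mathlib.Algebra.Homology.DerivedCategory.ShortExact
import Mathlib.Algebra.Homology.HomologicalComplexBiprod
import Groth.Agent.Lib.DerivedOX.RestrictRpush
import Groth.Agent.Lib.Modules.Local

/-!
# Mayer–Vietoris triangles in D(O_X)
-/

set_option autoImplicit false

universe u v w

open CategoryTheory Limits AlgebraicGeometry Opposite Pretriangulated HomologicalComplex

attribute [local instance] HasDerivedCategory.standard

set_option linter.style.haveILetI false

namespace Groth.Agent.Lib.DerivedOX.MVTriangle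

open RestrictRpush

section General

variable {C D : Type*} [Category C] [Abelian C] [Category D] [Abelian D] (F : C ⥤ D) [F.Additive]

/-- `M → A ⊞ B → P` becomes short exact under `F` if one leg of each map does. -/
theorem shortExact_map_of_left {M A B P : C} (a : M ⟶ A) (b : M ⟶ B) (p : A ⟶ P) (q : B ⟶ P)
    (h : a ≫ p = b ≫ q) (ha : IsIso (F.map a)) (hq : IsIso (F.map q)) :
    ((ShortComplex.mk (biprod.lift a b) (biprod.desc p (-q)) (by simp [h])).map F).ShortExact := by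
  let S := (ShortComplex.mk (biprod.lift a b) (biprod.desc p (-q)) (by simp [h]))
  let r : F.obj (A ⊞ B) ⟶ F.obj M := F.map biprod.fst ≫ inv (F.map a)
  have hr : F.map (biprod.lift a b) ≫ r = 𝟙 _ := by
    simp only [r, ← Category.assoc, ← F.map_comp, biprod.lift_fst, IsIso.hom_inv_id]
  have hs : (-(inv (F.map q) ≫ F.map biprod.inr)) ≫ F.map (biprod.desc p (-q)) = 𝟙 _ := by
    rw [Preadditive.neg_comp, Category.assoc, ← F.map_comp, biprod.inr_desc, F.map_neg,
      Preadditive.comp_neg, neg_neg, IsIso.inv_hom_id]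
  haveI : Mono (F.map (biprod.lift a b)) := mono_of_mono_fac hr
  haveI : Epi (F.map (biprod.desc p (-q))) := epi_of_epi_fac hs
  haveI : Mono (S.map F).f := ‹_›
  suffices key : ∀ {T : D} (t : T ⟶ F.obj (A ⊞ B)), t ≫ F.map (biprod.desc p (-q)) = 0 →
      (t ≫ r) ≫ F.map (biprod.lift a b) = t from
    { exact := ShortComplex.exact_of_f_is_kernel _
        (KernelFork.IsLimit.ofι' _ _ fun t ht => ⟨t ≫ r, key t ht⟩)
      mono_f := ‹Mono (S.map F).f›, epi_g := ‹Epi (F.map (biprod.desc p (-q)))› }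
  intro T t ht
  have tot : 𝟙 (F.obj (A ⊞ B)) = F.map biprod.fst ≫ F.map biprod.inl + F.map biprod.snd ≫ F.map biprod.inr := by
    rw [← F.map_comp, ← F.map_comp, ← F.map_add, biprod.total, F.map_id]
  have jm : ∀ {T : D} (x y : T ⟶ F.obj (A ⊞ B)), x ≫ F.map biprod.fst = y ≫ F.map biprod.fst →
      x ≫ F.map biprod.snd = y ≫ F.map biprod.snd → x = y := fun {T} x y h1 h2 => by
    rw [← Category.comp_id x, ← Category.comp_id y, tot]
    simp only [Preadditive.comp_add, ← Category.assoc, h1, h2]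
  have ht' : t ≫ F.map biprod.fst ≫ F.map p = t ≫ F.map biprod.snd ≫ F.map q := by
    have e : F.map (biprod.desc p (-q)) = F.map biprod.fst ≫ F.map p - F.map biprod.snd ≫ F.map q := by
      rw [← F.map_comp, ← F.map_comp, ← F.map_sub, biprod.desc_eq, Preadditive.comp_neg, sub_eq_add_neg]
    rwa [e, Preadditive.comp_sub, sub_eq_zero] at ht
  refine jm _ _ ?_ ?_
  · simp only [r, Category.assoc, ← F.map_comp, biprod.lift_fst, IsIso.inv_hom_id, Category.comp_id]
  · rw [← cancel_mono (F.map q)]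
    simp only [r, Category.assoc, ← F.map_comp, biprod.lift_snd_assoc, ← h]
    rw [F.map_comp, IsIso.inv_hom_id_assoc, F.map_comp]
    exact ht'

/-- The other order. -/
theorem shortExact_map_of_right {M A B P : C} (a : M ⟶ A) (b : M ⟶ B) (p : A ⟶ P) (q : B ⟶ P)
    (h : a ≫ p = b ≫ q) (hb : IsIso (F.map b)) (hp : IsIso (F.map p)) :
    ((ShortComplex.mk (biprod.lift a b) (biprod.desc p (-q)) (by simp [h])).map F).ShortExact := by
  have hS := shortExact_map_of_left F b a q p h.symm hb hp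
  refine ShortComplex.shortExact_of_iso ?_ hS
  refine ShortComplex.isoMk (Iso.refl _) (F.mapIso (biprod.braiding B A))
    (F.mapIso ⟨-𝟙 P, -𝟙 P, by simp, by simp⟩) ?_ ?_
  · change 𝟙 (F.obj M) ≫ F.map (biprod.lift a b) = F.map (biprod.lift b a) ≫ F.map (biprod.braiding B A).hom
    rw [Category.id_comp, ← F.map_comp]
    exact congrArg F.map (by ext <;> simp)
  · change F.map (biprod.braiding B A).hom ≫ F.map (biprod.desc p (-q)) =
      F.map (biprod.desc q (-p)) ≫ F.map (-𝟙 P)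
    rw [← F.map_comp, ← F.map_comp]
    exact congrArg F.map (by ext <;> simp)

theorem exists_triangle {E : Type u} [Category.{v} E] [Preadditive E] [HasZeroObject E] [HasShift E ℤ]
    [∀ n : ℤ, (shiftFunctor E n).Additive] [Pretriangulated E]
    {T : Triangle E} (hT : T ∈ distTriang E) {A B P : E}
    (e₁ : A ≅ T.obj₁) (e₂ : B ≅ T.obj₂) (e₃ : P ≅ T.obj₃) :
    ∃ (a : A ⟶ B) (b : B ⟶ P) (c : P ⟶ A⟦(1 : ℤ)⟧), Triangle.mk a b c ∈ distTriang E :=
  ⟨e₁.hom ≫ T.mor₁ ≫ e₂.inv, e₂.hom ≫ T.mor₂ ≫ e₃.inv, e₃.hom ≫ T.mor₃ ≫ e₁.inv⟦(1 : ℤ)⟧',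
    isomorphic_distinguished _ hT _ (Triangle.isoMk _ _ e₁ e₂ e₃
      (by change (e₁.hom ≫ T.mor₁ ≫ e₂.inv) ≫ e₂.hom = e₁.hom ≫ T.mor₁; simp)
      (by change (e₂.hom ≫ T.mor₂ ≫ e₃.inv) ≫ e₃.hom = e₂.hom ≫ T.mor₂; simp)
      (by change (e₃.hom ≫ T.mor₃ ≫ e₁.inv⟦(1 : ℤ)⟧') ≫ e₁.hom⟦(1 : ℤ)⟧' = e₃.hom ≫ T.mor₃
          simp [← Functor.map_comp]))⟩

end General

variable {X : Scheme.{u}}

/-- `j_* j^*` for an open. -/
noncomputable abbrev R (W : X.Opens) : X.Modules ⥤ X.Modules :=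
  Scheme.Modules.restrictFunctor W.ι ⋙ Scheme.Modules.pushforward W.ι

lemma scal_eq (W : X.Opens) (O : X.Opens) (r : Γ(X, O)) :
    (W.ι.appIso (W.ι ⁻¹ᵁ O)).inv (W.ι.app O r) =
      X.presheaf.map (homOfLE (W.ι.image_preimage_le O)).op r := by
  rw [Scheme.Opens.ι_appIso, Scheme.Opens.ι_app]
  rfl

variable {W W' : X.Opens} (h : W' ≤ W)

include h in
lemma image_preimage_mono (O : X.Opens) : W'.ι ''ᵁ (W'.ι ⁻¹ᵁ O) ≤ W.ι ''ᵁ (W.ι ⁻¹ᵁ O) := by
  rw [Scheme.Hom.image_preimage_eq_opensRange_inf, Scheme.Hom.image_preimage_eq_opensRange_inf,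
    Scheme.Opens.opensRange_ι, Scheme.Opens.opensRange_ι]
  exact inf_le_inf_right _ h

/-- The restriction map underlying `ρ`. -/
noncomputable def ρPre (M : X.Modules) : ((R W).obj M).presheaf ⟶ ((R W').obj M).presheaf where
  app O := M.presheaf.map (homOfLE (image_preimage_mono h O.unop)).op
  naturality O O' i := by
    obtain ⟨O⟩ := O
    obtain ⟨O'⟩ := O'
    obtain ⟨i, rfl⟩ : ∃ j : O' ⟶ O, j.op = i := ⟨i.unop, rfl⟩
    have h1 : ((R W).obj M).presheaf.map i.op =
        M.presheaf.map (W.ι.opensFunctor.map ((TopologicalSpace.Opens.map W.ι.base).map i)).op := rfl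
    have h2 : ((R W').obj M).presheaf.map i.op =
        M.presheaf.map (W'.ι.opensFunctor.map ((TopologicalSpace.Opens.map W'.ι.base).map i)).op := rfl
    rw [h1, h2]
    exact (M.presheaf.map_comp _ _).symm.trans
      ((congrArg M.presheaf.map (Subsingleton.elim _ _)).trans (M.presheaf.map_comp _ _))

lemma ρPre_smul (M : X.Modules) (O : X.Opens) (r : Γ(X, O)) (m : Γ((R W).obj M, O)) :
    (ρPre h M).app (op O) (r • m) = r • (show Γ((R W').obj M, O) from (ρPre h M).app (op O) m) :=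
  (Scheme.Modules.map_smul M (homOfLE (image_preimage_mono h O))
    ((W.ι.appIso (W.ι ⁻¹ᵁ O)).inv (W.ι.app O r)) m).trans
    (congrArg (fun t : Γ(X, W'.ι ''ᵁ (W'.ι ⁻¹ᵁ O)) =>
        t • M.presheaf.map (homOfLE (image_preimage_mono h O)).op m)
      (((congrArg (X.presheaf.map (homOfLE (image_preimage_mono h O)).op) (scal_eq W O r)).trans
        ((ConcreteCategory.comp_apply _ _ r).symm.trans
          (ConcreteCategory.congr_hom ((X.presheaf.map_comp _ _).symm.trans
            (congrArg X.presheaf.map (Subsingleton.elim _ _))) r))).trans (scal_eq W' O r).symm))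

/-- `j_* j^* ⟶ j'_* j'^*` for a smaller open. -/
noncomputable def ρ : R W ⟶ R W' where
  app M := mkHom (ρPre h M) (ρPre_smul h M)
  naturality M N φ := by
    refine Scheme.Modules.hom_ext _ _ fun O => ?_
    exact (φ.mapPresheaf.naturality (homOfLE (image_preimage_mono h O)).op).symm

/-- `M ⟶ j_* j^* M`. -/
noncomputable abbrev η (W : X.Opens) : 𝟭 X.Modules ⟶ R W :=
  (Scheme.Modules.restrictAdjunction W.ι).unit

lemma η_ρ (M : X.Modules) : (η W).app M ≫ (ρ h).app M = (η W').app M := by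
  refine Scheme.Modules.hom_ext _ _ fun O => ?_
  change ((η W).app M).app O ≫ ((ρ h).app M).app O = _
  rw [Scheme.Modules.restrictAdjunction_unit_app_app, Scheme.Modules.restrictAdjunction_unit_app_app]
  exact ((M.presheaf.map_comp _ _).symm.trans (congrArg M.presheaf.map (Subsingleton.elim _ _)))

lemma isIso_restrict_η (M : X.Modules) :
    IsIso ((Scheme.Modules.restrictFunctor W.ι).map ((η W).app M)) := by
  have e := (Scheme.Modules.restrictAdjunction W.ι).left_triangle_components M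
  exact IsIso.of_isIso_fac_right e

lemma isIso_restrict_ρ {T : X.Opens} (hT : W ⊓ T ≤ W') (M : X.Modules) :
    IsIso ((Scheme.Modules.restrictFunctor T.ι).map ((ρ h).app M)) := by
  refine Scheme.Modules.Hom.isIso_iff_isIso_app.2 fun O => ?_
  have hle : W.ι ''ᵁ (W.ι ⁻¹ᵁ (T.ι ''ᵁ O)) ≤ W'.ι ''ᵁ (W'.ι ⁻¹ᵁ (T.ι ''ᵁ O)) := by
    rw [Scheme.Hom.image_preimage_eq_opensRange_inf, Scheme.Hom.image_preimage_eq_opensRange_inf,
      Scheme.Opens.opensRange_ι, Scheme.Opens.opensRange_ι]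
    exact le_inf ((inf_le_inf_left W (T.ι_image_le O)).trans hT) inf_le_right
  haveI : IsIso (homOfLE (image_preimage_mono h (T.ι ''ᵁ O))) :=
    ⟨homOfLE hle, Subsingleton.elim _ _, Subsingleton.elim _ _⟩
  change IsIso (M.presheaf.map (homOfLE (image_preimage_mono h (T.ι ''ᵁ O))).op)
  infer_instance

variable (U V : X.Opens)

/-- The Mayer–Vietoris sequence of a module. -/
noncomputable abbrev seq (M : X.Modules) : ShortComplex X.Modules :=
  ShortComplex.mk (biprod.lift ((η U).app M) ((η V).app M))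
    (biprod.desc ((ρ (inf_le_left : U ⊓ V ≤ U)).app M) (-(ρ (inf_le_right : U ⊓ V ≤ V)).app M))
    (by
      rw [biprod.lift_desc, Preadditive.comp_neg, η_ρ]
      exact (congrArg (fun t => (η (U ⊓ V)).app M + -t) (η_ρ _ M)).trans (add_neg_cancel _))

theorem shortExact_seq (hUV : U ⊔ V = ⊤) (M : X.Modules) : (seq U V M).ShortExact := by
  have h1 := shortExact_map_of_left (Scheme.Modules.restrictFunctor U.ι) ((η U).app M) ((η V).app M)
    ((ρ (inf_le_left : U ⊓ V ≤ U)).app M) ((ρ (inf_le_right : U ⊓ V ≤ V)).app M)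
    ((η_ρ _ M).trans (η_ρ _ M).symm) (isIso_restrict_η M)
    (isIso_restrict_ρ _ (by rw [inf_comm]) M)
  have h2 := shortExact_map_of_right (Scheme.Modules.restrictFunctor V.ι) ((η U).app M) ((η V).app M)
    ((ρ (inf_le_left : U ⊓ V ≤ U)).app M) ((ρ (inf_le_right : U ⊓ V ≤ V)).app M)
    ((η_ρ _ M).trans (η_ρ _ M).symm) (isIso_restrict_η M)
    (isIso_restrict_ρ _ le_rfl M)
  let 𝒰 : Bool → X.Opens := fun b => bif b then U else V
  have h𝒰 : ⨆ b, 𝒰 b = ⊤ := by rw [iSup_bool_eq]; exact hUV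
  exact
    { exact := Modules.Local.exact_of_restrict 𝒰 h𝒰 _ fun b => by cases b; exacts [h2.exact, h1.exact]
      mono_f := Modules.Local.mono_of_restrict 𝒰 h𝒰 _ fun b => by cases b; exacts [h2.mono_f, h1.mono_f]
      epi_g := Modules.Local.epi_of_restrict 𝒰 h𝒰 _ fun b => by cases b; exacts [h2.epi_g, h1.epi_g] }

/-- `R W` termwise. -/
noncomputable abbrev RC (W : X.Opens) : CochainComplex X.Modules ℤ ⥤ CochainComplex X.Modules ℤ :=
  (R W).mapHomologicalComplex (ComplexShape.up ℤ)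

/-- `K ⟶ j_* j^* K`. -/
noncomputable def ηC (W : X.Opens) (K : CochainComplex X.Modules ℤ) : K ⟶ (RC W).obj K where
  f n := (η W).app (K.X n)
  comm' i j _ := ((η W).naturality (K.d i j)).symm

/-- `j_* j^* K ⟶ j'_* j'^* K`. -/
noncomputable def ρC (K : CochainComplex X.Modules ℤ) : (RC W).obj K ⟶ (RC W').obj K :=
  ((ρ h).mapHomologicalComplex (ComplexShape.up ℤ)).app K

/-- The Mayer–Vietoris sequence of a complex. -/
noncomputable abbrev seqC (K : CochainComplex X.Modules ℤ) : ShortComplex (CochainComplex X.Modules ℤ) :=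
  ShortComplex.mk (biprod.lift (ηC U K) (ηC V K))
    (biprod.desc (ρC (inf_le_left : U ⊓ V ≤ U) K) (-ρC (inf_le_right : U ⊓ V ≤ V) K))
    (by
      rw [biprod.lift_desc, Preadditive.comp_neg, add_neg_eq_zero]
      exact HomologicalComplex.hom_ext _ _ fun n => (η_ρ _ (K.X n)).trans (η_ρ _ (K.X n)).symm)

theorem shortExact_seqC (hUV : U ⊔ V = ⊤) (K : CochainComplex X.Modules ℤ) :
    (seqC U V K).ShortExact := by
  refine shortExact_of_degreewise_shortExact _ fun n => ?_
  refine ShortComplex.shortExact_of_iso ?_ (shortExact_seq U V hUV (K.X n))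
  refine ShortComplex.isoMk (Iso.refl _) (biprodXIso ((RC U).obj K) ((RC V).obj K) n).symm (Iso.refl _) ?_ ?_
  · simp only [ShortComplex.map_f, Iso.refl_hom, Iso.symm_hom]
    refine (Category.id_comp _).trans ((Iso.comp_inv_eq _).2 ?_).symm
    refine biprod.hom_ext _ _ ?_ ?_
    · exact (biprod.lift_fst _ _).trans (((Category.assoc _ _ _).trans
        ((congrArg (_ ≫ ·) (biprodXIso_hom_fst ((RC U).obj K) ((RC V).obj K) n)).trans
          (congrArg (fun t => HomologicalComplex.Hom.f t n)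
            (biprod.lift_fst (ηC U K) (ηC V K))))).symm)
    · exact (biprod.lift_snd _ _).trans (((Category.assoc _ _ _).trans
        ((congrArg (_ ≫ ·) (biprodXIso_hom_snd ((RC U).obj K) ((RC V).obj K) n)).trans
          (congrArg (fun t => HomologicalComplex.Hom.f t n)
            (biprod.lift_snd (ηC U K) (ηC V K))))).symm)
  · simp only [ShortComplex.map_g, Iso.refl_hom, Iso.symm_hom]
    refine Eq.trans ?_ (Category.comp_id _).symm
    refine biprod.hom_ext' _ _ ?_ ?_
    · exact ((Category.assoc _ _ _).symm.trans ((congrArg (· ≫ _) (inl_biprodXIso_inv ((RC U).obj K) ((RC V).obj K) n)).trans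
        (congrArg (fun t => HomologicalComplex.Hom.f t n)
          (biprod.inl_desc (ρC (inf_le_left : U ⊓ V ≤ U) K) (-ρC (inf_le_right : U ⊓ V ≤ V) K))))).trans
        (biprod.inl_desc _ _).symm
    · exact ((Category.assoc _ _ _).symm.trans ((congrArg (· ≫ _) (inr_biprodXIso_inv ((RC U).obj K) ((RC V).obj K) n)).trans
        (congrArg (fun t => HomologicalComplex.Hom.f t n)
          (biprod.inr_desc (ρC (inf_le_left : U ⊓ V ≤ U) K) (-ρC (inf_le_right : U ⊓ V ≤ V) K))))).trans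
        (biprod.inr_desc _ _).symm

theorem nonempty_RC_iso (W : X.Opens) [DCoh.HasRpush W.ι]
    [PreservesFiniteLimits (Scheme.Modules.restrictFunctor W.ι)]
    (I : CochainComplex X.Modules ℤ) [I.IsKInjective] :
    Nonempty ((DCoh.Rpush W.ι).obj ((DCoh.restrictD W.ι).obj (DerivedCategory.Q.obj I)) ≅
      DerivedCategory.Q.obj ((RC W).obj I)) := by
  let I' := ((Scheme.Modules.restrictFunctor W.ι).mapHomologicalComplex (ComplexShape.up ℤ)).obj I
  haveI : CochainComplex.IsKInjective I' := RestrictKInj.isKInjective_restrict W ‹_›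
  haveI := RightDerived.isIso_totalRightDerivedUnit_app_of_isKInjective (DCoh.pushKh W.ι) I'
  exact ⟨(DCoh.Rpush W.ι).mapIso ((Scheme.Modules.restrictFunctor W.ι).mapDerivedCategoryFactors.app I ≪≫
      ((DerivedCategory.quotientCompQhIso _).app I').symm) ≪≫
    (asIso (((DCoh.pushKh W.ι).totalRightDerivedUnit DerivedCategory.Qh
      (HomotopyCategory.quasiIso (W : Scheme.{u}).Modules (ComplexShape.up ℤ))).app
        ((HomotopyCategory.quotient (W : Scheme.{u}).Modules (ComplexShape.up ℤ)).obj I'))).symm ≪≫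
    (DerivedCategory.quotientCompQhIso X.Modules).app ((RC W).obj I)⟩

/-- The Mayer–Vietoris triangle. -/
theorem exists_mv_triangle (hUV : U ⊔ V = ⊤)
    [DCoh.HasRpush U.ι] [DCoh.HasRpush V.ι] [DCoh.HasRpush (U ⊓ V).ι]
    [PreservesFiniteLimits (Scheme.Modules.restrictFunctor U.ι)]
    [PreservesFiniteLimits (Scheme.Modules.restrictFunctor V.ι)]
    [PreservesFiniteLimits (Scheme.Modules.restrictFunctor (U ⊓ V).ι)] (E : DCoh.D X) :
    ∃ (a : E ⟶ ((DCoh.Rpush U.ι).obj ((DCoh.restrictD U.ι).obj E) ⊞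
        (DCoh.Rpush V.ι).obj ((DCoh.restrictD V.ι).obj E)))
      (b : ((DCoh.Rpush U.ι).obj ((DCoh.restrictD U.ι).obj E) ⊞
          (DCoh.Rpush V.ι).obj ((DCoh.restrictD V.ι).obj E)) ⟶
        (DCoh.Rpush (U ⊓ V).ι).obj ((DCoh.restrictD (U ⊓ V).ι).obj E))
      (c : (DCoh.Rpush (U ⊓ V).ι).obj ((DCoh.restrictD (U ⊓ V).ι).obj E) ⟶ E⟦(1 : ℤ)⟧),
      Triangle.mk a b c ∈ distinguishedTriangles := by
  let K := DerivedCategory.Q.objPreimage E
  obtain ⟨I, i, hI, hi⟩ := DerCat.KInjExists.hasKInjRes K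
  haveI := hI
  haveI := hi
  let eE : E ≅ DerivedCategory.Q.obj I :=
    (DerivedCategory.Q.objObjPreimageIso E).symm ≪≫ asIso (DerivedCategory.Q.map i)
  obtain ⟨eU⟩ := nonempty_RC_iso U I
  obtain ⟨eV⟩ := nonempty_RC_iso V I
  obtain ⟨eUV⟩ := nonempty_RC_iso (U ⊓ V) I
  let gU := (DCoh.Rpush U.ι).mapIso ((DCoh.restrictD U.ι).mapIso eE) ≪≫ eU
  let gV := (DCoh.Rpush V.ι).mapIso ((DCoh.restrictD V.ι).mapIso eE) ≪≫ eV
  haveI := preservesBinaryBiproducts_of_preservesBiproducts
    (DerivedCategory.Q : CochainComplex X.Modules ℤ ⥤ _)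
  exact exists_triangle (DerivedCategory.triangleOfSES_distinguished (shortExact_seqC U V hUV I))
    eE (biprod.mapIso gU gV ≪≫ (DerivedCategory.Q.mapBiprod ((RC U).obj I) ((RC V).obj I)).symm)
    ((DCoh.Rpush (U ⊓ V).ι).mapIso ((DCoh.restrictD (U ⊓ V).ι).mapIso eE) ≪≫ eUV)

end Groth.Agent.Lib.DerivedOX.MVTriangle
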