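import Groth.Agent.Lib.DerivedOX.DualPerfect
import Groth.Agent.Lib.DerivedOX.BifunctorMap
import Mathlib.Algebra.Homology.BifunctorFlip

/-!
# Biduality for perfect complexes
-/

universe u

open CategoryTheory Limits AlgebraicGeometry HomologicalComplex

attribute [local instance] HasDerivedCategory.standard

set_option linter.style.haveILetI false

namespace Groth.Agent.Lib.DerivedOX.DualBidual

open Groth.Agent.Lib.Modules DualHom DualQis DualExact DualGood DualFree BifunctorMap TrivCof LeftRes

variable {X : Scheme.{u}}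

instance additive_flip : (DCoh.tensorBi (X := X)).flip.Additive where
  map_add {M N f g} := by
    apply NatTrans.ext
    funext K
    exact ((DCoh.tensorBi (X := X)).obj K).map_add

instance additive_flip_obj (N : X.Modules) : ((DCoh.tensorBi (X := X)).flip.obj N).Additive where
  map_add := congrArg (fun t => NatTrans.app t N) (Functor.map_add (DCoh.tensorBi (X := X)))

/-- The symmetry of the tensor product of O_X-modules, as a comparison. -/
noncomputable def commComparison :
    Comparison (DCoh.tensorBi (X := X)) (DCoh.tensorBi (X := X)).flip (𝟭 _) (𝟭 _) (𝟭 _) where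
  iso M N := TensorMod.Basic.comm N M
  natural₁ {M M'} f N := by
    have h := TensorMod.Basic.comm_natural (𝟙 N) f
    exact ((congrArg (· ≫ (TensorMod.Basic.comm N M').hom) (PullTensor.tensorBi_obj_map N f)).trans h).trans
      (congrArg ((TensorMod.Basic.comm N M).hom ≫ ·) (PullTensor.tensorBi_map_app f N).symm)
  natural₂ M {N N'} g := by
    have h := TensorMod.Basic.comm_natural g (𝟙 M)
    exact ((congrArg (· ≫ (TensorMod.Basic.comm N' M).hom) (PullTensor.tensorBi_map_app g M)).trans h).trans
      (congrArg ((TensorMod.Basic.comm N M).hom ≫ ·) (PullTensor.tensorBi_obj_map M g).symm)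

/-- The symmetry of total tensor products. -/
noncomputable def commCx (K L : CochainComplex X.Modules ℤ) :
    mapBifunctor K L (DCoh.tensorBi (X := X)) (.up ℤ) ≅ mapBifunctor L K (DCoh.tensorBi (X := X)) (.up ℤ) :=
  (mapBifunctorFlipIso K L (DCoh.tensorBi (X := X)) (.up ℤ)).symm ≪≫ totalIso commComparison L K

lemma commCx_natural {K K' L L' : CochainComplex X.Modules ℤ} (f : K ⟶ K') (g : L ⟶ L') :
    mapBifunctorMap f g (DCoh.tensorBi (X := X)) (.up ℤ) ≫ (commCx K' L').hom =
      (commCx K L).hom ≫ mapBifunctorMap g f (DCoh.tensorBi (X := X)) (.up ℤ) := by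
  have h := totalIso_natural (commComparison (X := X)) g f
  have h' := mapBifunctorFlipIso_hom_naturality f g (DCoh.tensorBi (X := X)) (.up ℤ)
  rw [← cancel_epi (mapBifunctorFlipIso K L (DCoh.tensorBi (X := X)) (.up ℤ)).hom]
  refine ((reassoc_of% h') _).symm.trans (Eq.trans ?_ (congrArg _ (Category.assoc _ _ _)).symm)
  refine Eq.trans ?_ (Iso.hom_inv_id_assoc _ _).symm
  refine (congrArg _ (Iso.hom_inv_id_assoc _ _)).trans ?_
  exact h

/-- The symmetry, in functor form. -/
noncomputable def commT (K L : CochainComplex X.Modules ℤ) :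
    (DCoh.tensorCx.obj K).obj L ⟶ (DCoh.tensorCx.obj L).obj K :=
  (commCx K L).hom

lemma commT_right (K : CochainComplex X.Modules ℤ) {L L' : CochainComplex X.Modules ℤ} (g : L ⟶ L') :
    (DCoh.tensorCx.obj K).map g ≫ commT K L' = commT K L ≫ (DCoh.tensorCx.map g).app K :=
  commCx_natural (𝟙 K) g

lemma commT_left {K K' : CochainComplex X.Modules ℤ} (f : K ⟶ K') (L : CochainComplex X.Modules ℤ) :
    (DCoh.tensorCx.map f).app L ≫ commT K' L = commT K L ≫ (DCoh.tensorCx.obj L).map f :=
  commCx_natural f (𝟙 L)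

namespace Abstract

variable {C : Type*} [Category C] (T : C ⥤ C ⥤ C) (H : C → C ⥤ C)
  (ad : ∀ P, T.flip.obj P ⊣ H P) (σ : ∀ K L : C, (T.obj K).obj L ⟶ (T.obj L).obj K) (J : C)

/-- Evaluation at an element. -/
def bd (P : C) : P ⟶ (H ((H P).obj J)).obj J :=
  (ad ((H P).obj J)).homEquiv P J (σ P ((H P).obj J) ≫ (ad P).counit.app J)

lemma bd_natural
    (hr : ∀ (K : C) {L L' : C} (g : L ⟶ L'), (T.obj K).map g ≫ σ K L' = σ K L ≫ (T.map g).app K)
    (hl : ∀ {K K' : C} (f : K ⟶ K') (L : C), (T.map f).app L ≫ σ K' L = σ K L ≫ (T.obj L).map f)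
    {P' P : C} (a : P' ⟶ P) :
    bd T H ad σ J P' ≫ (conjugateEquiv (ad ((H P').obj J)) (ad ((H P).obj J))
        (T.flip.map ((conjugateEquiv (ad P) (ad P') (T.flip.map a)).app J))).app J =
      a ≫ bd T H ad σ J P := by
  let π := (conjugateEquiv (ad P) (ad P') (T.flip.map a)).app J
  apply ((ad ((H P).obj J)).homEquiv _ _).symm.injective
  have hc : (T.map π).app P' ≫ (ad P').counit.app J =
      (T.obj ((H P).obj J)).map a ≫ (ad P).counit.app J :=
    conjugateEquiv_counit (ad P) (ad P') (T.flip.map a) J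
  have h : ∀ φ : P' ⟶ (H ((H P').obj J)).obj J, ((ad ((H P).obj J)).homEquiv P' J).symm
      (φ ≫ (conjugateEquiv (ad ((H P').obj J)) (ad ((H P).obj J)) (T.flip.map π)).app J) =
        (T.flip.map π).app P' ≫ ((ad ((H P').obj J)).homEquiv P' J).symm φ := fun φ => by
    simp only [Adjunction.homEquiv_counit, Functor.map_comp, Category.assoc, conjugateEquiv_counit]
    exact (T.flip.map π).naturality_assoc φ _
  rw [h, Adjunction.homEquiv_naturality_left_symm, bd, bd, Equiv.symm_apply_apply,
    Equiv.symm_apply_apply]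
  change (T.obj P').map π ≫ σ _ _ ≫ _ = (T.map a).app _ ≫ σ _ _ ≫ _
  rw [reassoc_of% (hr P' π), reassoc_of% (hl a ((H P).obj J))]
  exact congrArg (σ P' ((H P).obj J) ≫ ·) hc

end Abstract

variable (J : CochainComplex X.Modules ℤ)

/-- `P ⟶ Hom(Hom(P, J), J)`. -/
noncomputable def bd (P : CochainComplex X.Modules ℤ) : P ⟶ (Hc ((Hc P).obj J)).obj J :=
  Abstract.bd (DCoh.tensorCx (X := X)) Hc adj commT J P

lemma bd_natural {P' P : CochainComplex X.Modules ℤ} (a : P' ⟶ P) :
    bd J P' ≫ (pre ((pre a).app J)).app J = a ≫ bd J P :=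
  Abstract.bd_natural (DCoh.tensorCx (X := X)) Hc adj commT J (fun K _ _ g => commT_right K g)
    (fun f L => commT_left f L) a

/-- Lifting maps out of disks, for any monomorphism. -/
theorem epi_pre_of_mono {P' P : CochainComplex X.Modules ℤ} (i : P' ⟶ P) [Mono i]
    {J : CochainComplex X.Modules ℤ} (hJ : InjTerms J) : Epi ((pre i).app J) := by
  refine HomologicalComplex.epi_of_epi_f _ fun n =>
    LeftRes.epi_of_forall_lift (FlatGen.isSeparating_gen (X := X)) _ fun W g => ?_
  let D := TrivCof.disk (FlatGen.gen W) n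
  let φ : D ⟶ (Hc P').obj J := (TrivCof.fromDiskEquiv (FlatGen.gen W) n _).symm g
  haveI : Mono ((DCoh.tensorCx.obj D).map i) :=
    Bifunctor.mono_obj_map (DCoh.tensorBi (X := X)) D i fun p q => by
      refine FlatTensor.mono_tensor_map_of_isFlat ?_ (i.f q)
      have hiso : ∀ M : X.Modules, (M ≅ FlatGen.gen W) → FlatMod.IsFlat M := fun M e x => by
        haveI : Module.Flat (X.presheaf.stalk x)
            ((StalkModule.stalkModFunctor X x).obj (FlatGen.gen W)) := FlatGen.isFlat_gen W x
        exact Module.Flat.of_linearEquiv ((StalkModule.stalkModFunctor X x).mapIso e).toLinearEquiv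
      by_cases h₀ : p = n
      · subst h₀
        exact hiso _ (diskIso₀ (FlatGen.gen W) p)
      · by_cases h₁ : p = n + 1
        · subst h₁
          exact hiso _ (diskIso₁ (FlatGen.gen W) n)
        · intro x
          haveI := ModuleCat.subsingleton_of_isZero ((StalkModule.stalkModFunctor X x).map_isZero
            (disk_isZero (FlatGen.gen W) n p h₀ h₁))
          exact inferInstanceAs (Module.Flat (X.presheaf.stalk x)
            ((StalkModule.stalkModFunctor X x).obj (D.X p)))
  let hh : Homotopy (((adj P').homEquiv D J).symm φ) 0 :=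
    ((Homotopy.ofEq (Category.id_comp _).symm).trans
      ((((Homotopy.ofEq (((DCoh.tensorCx (X := X)).flip.obj P').map_id D).symm).trans
        (Bifunctor.homotopy₁ (DCoh.tensorBi (X := X)) (KFlat.diskHomotopy (FlatGen.gen W) n) P')).trans
          (Homotopy.ofEq (Bifunctor.map_zero_app (DCoh.tensorBi (X := X)) D D P'))).compRight _)).trans
      (Homotopy.ofEq zero_comp)
  obtain ⟨χ, hχ, -⟩ := exists_extension ((DCoh.tensorCx.obj D).map i) hJ hh
  let l : D ⟶ (Hc P).obj J := (adj P).homEquiv D J χ
  have hl : l ≫ (pre i).app J = φ := by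
    apply ((adj P').homEquiv D J).symm.injective
    rw [homEquiv_symm_comp_pre, Equiv.symm_apply_apply]
    exact hχ
  refine ⟨TrivCof.fromDiskEquiv _ n _ l, ?_⟩
  rw [← TrivCof.fromDiskEquiv_naturality, hl, Equiv.apply_symm_apply]

theorem shortExact_hcSC' {S : ShortComplex (CochainComplex X.Modules ℤ)} (hS : S.ShortExact)
    {J : CochainComplex X.Modules ℤ} (hJ : InjTerms J) : (hcSC S J).ShortExact where
  exact := exact_hcSC hS J
  mono_f := mono_pre hS J
  epi_g := haveI := hS.mono_f; epi_pre_of_mono S.f hJ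

/-- `bd` is a quasi-isomorphism at the points of `V`. -/
def BD (V : X.Opens) (P : CochainComplex X.Modules ℤ) : Prop := QisAt V (bd J P)

variable {J} [J.IsKInjective] (hJ : InjTerms J) {V : X.Opens}

include hJ in
theorem bd_iff_of_qisAt {P' P : CochainComplex X.Modules ℤ} (a : P' ⟶ P) (ha : QisAt V a) :
    BD J V P ↔ BD J V P' := by
  have h₂ := qisAt_pre hJ _ (qisAt_pre hJ a ha)
  constructor
  · intro h
    refine h₂.of_comp_right ?_
    rw [bd_natural]
    exact ha.comp h
  · intro h
    refine ha.of_comp_left ?_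
    rw [← bd_natural]
    exact h.comp h₂

include hJ in
theorem bd_two_of_three {S : ShortComplex (CochainComplex X.Modules ℤ)} (hS : S.ShortExact) :
    (BD J V S.X₁ → BD J V S.X₂ → BD J V S.X₃) ∧ (BD J V S.X₁ → BD J V S.X₃ → BD J V S.X₂) ∧
      (BD J V S.X₂ → BD J V S.X₃ → BD J V S.X₁) :=
  qisAt_two_of_three
    (ShortComplex.homMk (S₂ := hcSC (hcSC S J) J) (bd J S.X₁) (bd J S.X₂) (bd J S.X₃)
      (bd_natural J S.f) (bd_natural J S.g))
    hS (shortExact_hcSC' (shortExact_hcSC' hS hJ) hJ)

end Groth.Agent.Lib.DerivedOX.DualBidual
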