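import Groth.Agent.Lib.DerivedOX.RpushQCoh
import Groth.Agent.Lib.DerivedOX.AffinePush

/-!
# Sections of `Rf_*`, and complexes of `f_*`-acyclic quasi-coherent modules

* `nonempty_RH_sect_iso`: the derived sections of `Rf_*K` over `W` are those of `K` over `f⁻¹W`;
* `isIso_unit_of_acyclic`.
-/

set_option autoImplicit false
set_option linter.unusedSectionVars false
set_option linter.style.haveILetI false

universe u

open CategoryTheory Limits AlgebraicGeometry DerivedCategory

attribute [local instance] HasDerivedCategory.standard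

namespace Groth.Agent.Lib.DerivedOX.RpushAcyclic

open Groth.Agent.Lib.SpecSeq.RightHom Groth.Agent.Lib.SpecSeq.AcyclicComplex
open Groth.Agent.Lib.WayOut.Bounded Groth.Agent.Lib.WayOut.Scheme

variable {X S : Scheme.{u}} (f : X ⟶ S)

/-- Derived sections of `Rf_*`, computed with a K-injective representative. -/
lemma nonempty_RH_sect_iso (B : CochainComplex X.Modules ℤ) [B.IsKInjective] (W : S.Opens) (n : ℤ) :
    Nonempty ((RH (sect (f ⁻¹ᵁ W)) n).obj (DerivedCategory.Q.obj B) ≅
      (RH (sect W) n).obj (DerivedCategory.Q.obj ((GammaAcyclic.pushC f).obj B))) := by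
  obtain ⟨L, hL, ⟨e⟩⟩ := RightDerived.exists_resFunctor_obj_iso
    (DerivedCategory.Q.obj ((GammaAcyclic.pushC f).obj B))
  haveI := hL
  haveI := DerCat.HProd.isIso_counit (DerivedCategory.Q.obj ((GammaAcyclic.pushC f).obj B))
  let eI : DerivedCategory.Q.obj L ≅ DerivedCategory.Q.obj ((GammaAcyclic.pushC f).obj B) :=
    (quotientCompQhIso _).symm.app L ≪≫ Qh.mapIso e ≪≫
      asIso ((RightDerived.resAdj _).counit.app _)
  obtain ⟨i, hi⟩ := TildeEquiv.exists_map_of_kinj eI.inv
  haveI : QuasiIso i := (DerivedCategory.isIso_Q_map_iff_quasiIso _ i).1 (by rw [hi]; infer_instance)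
  have hq := GammaAcyclic.quasiIso_sect f B i W
  have hh := (quasiIsoAt_iff_isIso_homologyMap _ n).1 (hq.quasiIsoAt n)
  let e' : sect (f ⁻¹ᵁ W) ≅ Scheme.Modules.pushforward f ⋙ GammaAcyclic.sect W :=
    NatIso.ofComponents fun _ => Iso.refl _
  let e'' : GammaAcyclic.sect W ≅ sect W := NatIso.ofComponents fun _ => Iso.refl _
  have hc := isIso_cmp_of_isKInjective (sect (f ⁻¹ᵁ W)) n B
  have hd := isIso_cmp_of_isKInjective (sect W) n L
  exact ⟨(@asIso _ _ _ _ _ hc).symm ≪≫ (HomologicalComplex.homologyFunctor _ _ n).mapIso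
      ((NatIso.mapHomologicalComplex e' (ComplexShape.up ℤ)).app B) ≪≫
    (@asIso _ _ _ _ _ hh) ≪≫ (HomologicalComplex.homologyFunctor _ _ n).mapIso
      ((NatIso.mapHomologicalComplex e'' (ComplexShape.up ℤ)).app L) ≪≫
    (@asIso _ _ _ _ _ hd) ≪≫ (RH (sect W) n).mapIso eI⟩

variable [QuasiCompact f] [QuasiSeparated f]

/-- An `f_*`-acyclic quasi-coherent module is acyclic for sections over preimages of affines. -/
lemma acyc_sect (M : X.Modules) [hM : M.IsQuasicoherent]
    (hac : ∀ i : ℕ, 0 < i → IsZero (((Scheme.Modules.pushforward f).rightDerived i).obj M))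
    {W : S.Opens} (hW : IsAffineOpen W) : Acyc (sect (f ⁻¹ᵁ W)) M := by
  intro j hj
  let R := injectiveResolution M
  haveI := isKInjective_of_isStrictlyGE R.cochainComplex 0 inferInstance
  haveI : IsIso (DerivedCategory.Q.map R.ι') :=
    (DerivedCategory.isIso_Q_map_iff_quasiIso _ R.ι').2 inferInstance
  let Z : DCoh.D S := DerivedCategory.Q.obj ((GammaAcyclic.pushC f).obj R.cochainComplex)
  have hH : ∀ k : ℕ, Nonempty ((homologyFunctor S.Modules (k : ℤ)).obj Z ≅
      ((Scheme.Modules.pushforward f).rightDerived k).obj M) := fun k =>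
    ⟨(homologyFunctorFactors S.Modules (k : ℤ)).app _ ≪≫ DerCat.RFObj.mapResHomologyIso _ R k⟩
  haveI hge : Z.IsGE 0 := (isGE_iff _ _).2 fun i hi =>
    (isZero_homology_map_of_lt (Scheme.Modules.pushforward f) R.cochainComplex 0 i hi).of_iso
      ((homologyFunctorFactors S.Modules i).app _)
  haveI hle : Z.IsLE 0 := (isLE_iff _ _).2 fun i hi => by
    obtain ⟨k, rfl⟩ : ∃ k : ℕ, i = k := ⟨i.toNat, by omega⟩
    obtain ⟨θ⟩ := hH k
    exact (hac k (by omega)).of_iso θ
  obtain ⟨M', ⟨e⟩⟩ := exists_iso_singleFunctor_obj_of_isGE_of_isLE Z 0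
  obtain ⟨θ⟩ := hH 0
  have hM' : qc S M' := (qc S).prop_of_iso (θ.symm ≪≫ (homologyFunctor S.Modules 0).mapIso e ≪≫
    (singleFunctorCompHomologyFunctorIso _ 0).app M') (Groth.Agent.S0030.result f M 0)
  obtain ⟨φ⟩ := nonempty_RH_sect_iso f R.cochainComplex W j
  exact (van_sect_affine hW M' hM' j (by lia)).of_iso
    ((RH (sect (f ⁻¹ᵁ W)) j).mapIso ((DerivedCategory.singleFunctorIsoCompQ X.Modules 0).app M ≪≫
      asIso (DerivedCategory.Q.map R.ι')) ≪≫ φ ≪≫ (RH (sect W) j).mapIso e)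

lemma exists_van_local (s : S) : ∃ V : S.Opens, IsAffineOpen V ∧ s ∈ V ∧ ∃ N : ℕ,
    ∀ W : S.Opens, IsAffineOpen W → W ≤ V → Van (sect (f ⁻¹ᵁ W)) (qc X) (N + 1) := by
  obtain ⟨V, hV, hsV, -⟩ := exists_isAffineOpen_mem_and_subset (X := S) (x := s) (U := ⊤) trivial
  refine ⟨V, hV, hsV, ?_⟩
  obtain ⟨d, -, hd⟩ := ZarCoh.Bounded.exists_bound (f ⁻¹ᵁ V)
    (f.isQuasiSeparated_preimage hV.isQuasiSeparated)
    {G | ∃ W : S.Opens, IsAffineOpen W ∧ W ≤ V ∧ G = f ⁻¹ᵁ W} (by
      rintro U hU' hU _ ⟨W, hW, hWV, rfl⟩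
      exact ZarCoh.Bounded.inf_preimage f hU hV hW hWV hU')
    (f ⁻¹ᵁ V) le_rfl (f.isCompact_preimage hV.isCompact)
  refine ⟨d, fun W hW hWV M hM n hn => isZero_RS_sect (f ⁻¹ᵁ W) d M (fun p hp => ?_) n hn⟩
  have h := hd M hM _ ⟨W, hW, hWV, rfl⟩ p (by lia)
  rwa [inf_eq_right.2 (f.preimage_mono hWV)] at h

omit [QuasiCompact f] [QuasiSeparated f] in
lemma isIso_sect_homology_of_van {F I : CochainComplex X.Modules ℤ} (i : F ⟶ I) [QuasiIso i]
    [I.IsKInjective] (hF : ∀ n, qc X (F.X n)) (U : X.Opens) {N : ℕ} (hN : Van (sect U) (qc X) (N + 1))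
    (hac : ∀ n, Acyc (sect U) (F.X n)) (m : ℤ) :
    IsIso (HomologicalComplex.homologyMap (((sect U).mapHomologicalComplex (ComplexShape.up ℤ)).map i) m) := by
  haveI := WayOut.AcyclicCx.isIso_cmp (detects X) (sect U) hN qc_homology F hF hac m
  have hI := isIso_cmp_of_isKInjective (sect U) m I
  have e := (cmp (sect U) m).naturality i
  have h1 : IsIso (((sect U).mapHomologicalComplex (ComplexShape.up ℤ) ⋙
      HomologicalComplex.homologyFunctor _ (ComplexShape.up ℤ) m).map i ≫
        (cmp (sect U) m).app I) := by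
    rw [e]
    exact IsIso.comp_isIso' inferInstance
      (inferInstanceAs (IsIso ((RH (sect U) m).map (DerivedCategory.Q.map i))))
  exact @IsIso.of_isIso_comp_right _ _ _ _ _ _ _ hI h1

/-- `f_*` of a quasi-isomorphism from `f_*`-acyclic quasi-coherent modules to a K-injective complex. -/
lemma quasiIso_push {F I : CochainComplex X.Modules ℤ} (i : F ⟶ I) [QuasiIso i] [I.IsKInjective]
    (hF : ∀ n, qc X (F.X n))
    (hac : ∀ (n : ℤ) (k : ℕ), 0 < k →
      IsZero (((Scheme.Modules.pushforward f).rightDerived k).obj (F.X n))) :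
    QuasiIso (((Scheme.Modules.pushforward f).mapHomologicalComplex (ComplexShape.up ℤ)).map i) := by
  choose V hV hsV N hN using exists_van_local f
  refine (quasiIso_iff_acyclic_mappingCone _).2 fun n => (HomologicalComplex.exactAt_iff _ _).2 ?_
  rw [Modules.Stalk.exact_iff_stalk]
  intro x
  rw [ShortComplex.ab_exact_iff]
  intro z hz
  obtain ⟨U, hxU, s, rfl⟩ := TopCat.Presheaf.exists_germ_eq _ z
  let K := HomologicalComplex.sc (CochainComplex.mappingCone
    (((Scheme.Modules.pushforward f).mapHomologicalComplex (ComplexShape.up ℤ)).map i)) n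
  replace hz : K.X₃.presheaf.germ U x hxU (K.g.app U s) = 0 :=
    (Modules.Stalk.stalkFunctor_map_germ x K.g hxU s).symm.trans hz
  obtain ⟨O, hxO, a, _, hO⟩ := TopCat.Presheaf.germ_eq K.X₃.presheaf x hxU hxU (K.g.app U s) 0
    (hz.trans (map_zero _).symm)
  obtain ⟨_, ⟨W, hW, rfl⟩, hxW, hWO⟩ :=
    S.isBasis_affineOpens.exists_subset_of_mem_open
      (show x ∈ ((O ⊓ V x : S.Opens) : Set S) from ⟨hxO, hsV x⟩) (O ⊓ V x).2
  have hWO' : W ≤ O ⊓ V x := SetLike.coe_subset_coe.1 hWO
  have hq : QuasiIso (((sect (f ⁻¹ᵁ W)).mapHomologicalComplex (ComplexShape.up ℤ)).map i) :=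
    ⟨fun m => (quasiIsoAt_iff_isIso_homologyMap _ m).2 (isIso_sect_homology_of_van i hF (f ⁻¹ᵁ W)
      (hN x W hW (hWO'.trans inf_le_right))
      (fun k => @acyc_sect _ _ f _ _ (F.X k) (hF k) (hac k) W hW) m)⟩
  let T' := Scheme.Modules.pushforward f ⋙ sect W
  let e : sect (f ⁻¹ᵁ W) ≅ T' := NatIso.ofComponents fun _ => Iso.refl _
  have hq' : QuasiIso ((T'.mapHomologicalComplex (ComplexShape.up ℤ)).map i) :=
    (quasiIso_iff_of_arrow_mk_iso _ _ (((Functor.mapArrowFunctor _ _).mapIso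
      (NatIso.mapHomologicalComplex e (ComplexShape.up ℤ))).app (Arrow.mk i))).1 hq
  have hq'' : QuasiIso (((sect W).mapHomologicalComplex (ComplexShape.up ℤ)).map
      (((Scheme.Modules.pushforward f).mapHomologicalComplex (ComplexShape.up ℤ)).map i)) := hq'
  have hex : (K.map (sect W)).Exact :=
    (HomologicalComplex.exactAt_iff _ _).1 (HomologicalComplex.ExactAt.of_iso
      ((quasiIso_iff_acyclic_mappingCone _).1 hq'' n)
      (CochainComplex.mappingCone.mapHomologicalComplexIso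
        (((Scheme.Modules.pushforward f).mapHomologicalComplex (ComplexShape.up ℤ)).map i)
        (sect W)).symm)
  let j : W ⟶ U := homOfLE ((hWO'.trans inf_le_left).trans a.le)
  have hs : K.g.app W (K.X₂.presheaf.map j.op s) = 0 := by
    have h1 : K.g.app W (K.X₂.presheaf.map j.op s) = K.X₃.presheaf.map j.op (K.g.app U s) :=
      ConcreteCategory.congr_hom (K.g.mapPresheaf.naturality j.op) s
    rw [h1, show j = homOfLE (hWO'.trans inf_le_left) ≫ a from Subsingleton.elim _ _, op_comp,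
      Functor.map_comp, ConcreteCategory.comp_apply, hO, map_zero, map_zero]
  obtain ⟨t, ht⟩ := (ShortComplex.ab_exact_iff _).1 hex (K.X₂.presheaf.map j.op s) hs
  refine ⟨K.X₁.presheaf.germ W x hxW t, ?_⟩
  refine (Modules.Stalk.stalkFunctor_map_germ x K.f hxW t).trans ?_
  rw [show K.f.app W t = K.X₂.presheaf.map j.op s from ht]
  exact TopCat.Presheaf.germ_res_apply K.X₂.presheaf j x hxW s

/-- The unit is invertible on complexes of `f_*`-acyclic quasi-coherent modules. -/
theorem isIso_unit_of_acyclic [DCoh.HasRpush f] (F : CochainComplex X.Modules ℤ)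
    (hF : ∀ n, qc X (F.X n))
    (hac : ∀ (n : ℤ) (k : ℕ), 0 < k →
      IsZero (((Scheme.Modules.pushforward f).rightDerived k).obj (F.X n))) :
    IsIso (((DCoh.pushKh f).totalRightDerivedUnit DerivedCategory.Qh
      (HomotopyCategory.quasiIso X.Modules (ComplexShape.up ℤ))).app
      ((HomotopyCategory.quotient X.Modules (ComplexShape.up ℤ)).obj F)) := by
  obtain ⟨I, hI, ⟨e⟩⟩ := RightDerived.exists_resFunctor_obj_iso (DerivedCategory.Q.obj F)
  haveI := hI
  haveI := DerCat.HProd.isIso_counit (DerivedCategory.Q.obj F)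
  let eI : DerivedCategory.Q.obj I ≅ DerivedCategory.Q.obj F :=
    (quotientCompQhIso _).symm.app I ≪≫ Qh.mapIso e ≪≫
      asIso ((RightDerived.resAdj _).counit.app _)
  obtain ⟨i, hi⟩ := TildeEquiv.exists_map_of_kinj eI.inv
  haveI : QuasiIso i := (DerivedCategory.isIso_Q_map_iff_quasiIso _ i).1 (by rw [hi]; infer_instance)
  let η := (DCoh.pushKh f).totalRightDerivedUnit DerivedCategory.Qh
      (HomotopyCategory.quasiIso X.Modules (ComplexShape.up ℤ))
  have hηI : IsIso (η.app ((HomotopyCategory.quotient X.Modules (ComplexShape.up ℤ)).obj I)) :=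
    RightDerived.isIso_totalRightDerivedUnit_app_of_isKInjective _ I
  haveI : IsIso (DerivedCategory.Qh.map
      ((HomotopyCategory.quotient X.Modules (ComplexShape.up ℤ)).map i)) :=
    (NatIso.isIso_map_iff (quotientCompQhIso X.Modules) i).2 inferInstance
  have hpq := quasiIso_push f i hF hac
  let q := (HomotopyCategory.quotient X.Modules (ComplexShape.up ℤ)).map i
  have hp : IsIso ((DCoh.pushKh f).map q) :=
    ((MorphismProperty.isomorphisms _).arrow_mk_iso_iff
      (((Functor.mapArrowFunctor _ _).mapIso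
        (Functor.isoWhiskerRight ((Scheme.Modules.pushforward f).mapHomotopyCategoryFactors
          (ComplexShape.up ℤ)) DerivedCategory.Qh)).app (Arrow.mk i))).2
      ((NatIso.isIso_map_iff (quotientCompQhIso S.Modules) _).2
        ((DerivedCategory.isIso_Q_map_iff_quasiIso _ _).2 hpq))
  have h2 : IsIso ((DerivedCategory.Qh ⋙ DCoh.Rpush f).map q) :=
    inferInstanceAs (IsIso ((DCoh.Rpush f).map (DerivedCategory.Qh.map q)))
  have h1 : IsIso (η.app ((HomotopyCategory.quotient X.Modules (ComplexShape.up ℤ)).obj F) ≫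
      (DerivedCategory.Qh ⋙ DCoh.Rpush f).map q) := by
    rw [← η.naturality q]
    exact IsIso.comp_isIso' hp hηI
  exact @IsIso.of_isIso_comp_right _ _ _ _ _ _ _ h2 h1

end Groth.Agent.Lib.DerivedOX.RpushAcyclic
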