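import Groth.Agent.Lib.DerivedOX.DualPerfect
import Groth.Agent.Lib.DerivedOX.DualCompare
import Groth.Agent.Lib.DerivedOX.QCohLocal
import Groth.Agent.Lib.DerCat.KInjExists

/-!
# Duality for perfect objects
-/

universe u

open CategoryTheory Limits AlgebraicGeometry HomologicalComplex

attribute [local instance] HasDerivedCategory.standard

set_option linter.style.haveILetI false

namespace Groth.Agent.Lib.DerivedOX.DualMain

open DualHom DualGood DualExact DualFree DualPerfect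

variable {X : Scheme.{u}}

/-- Resolution data exist for every K-flat complex with flat terms. -/
theorem exists_data (A : CochainComplex X.Modules ℤ) (hA : DCoh.IsKFlat A) (hA' : FlatTerms A) :
    ∃ d : Data X, d.A = A ∧ Nonempty (DerivedCategory.Q.obj d.J ≅ DerivedCategory.Q.obj A) := by
  obtain ⟨J₀, i₀, h₀, q₀, -, n₀⟩ := DerCat.KInjExists.exists_kInjective_resolution (one X)
  obtain ⟨J, c, hJ, qc, -, nJ⟩ :=
    DerCat.KInjExists.exists_kInjective_resolution ((DCoh.tensorCx.obj A).obj J₀)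
  haveI := q₀
  haveI := qc
  haveI := TensorQis.quasiIso_left hA i₀
  refine ⟨⟨A, J₀, J, hA, hA', h₀, hJ, n₀, nJ,
    (asIso (DerivedCategory.Q.map i₀)).symm ≪≫
      ((DerivedCategory.singleFunctorIsoCompQ X.Modules 0).app _).symm, c, qc⟩, rfl, ⟨?_⟩⟩
  exact (asIso (DerivedCategory.Q.map c)).symm ≪≫
    (asIso (DerivedCategory.Q.map ((DCoh.tensorCx.obj A).map i₀))).symm ≪≫
    DerivedCategory.Q.mapIso (unitIso.app A).symm

variable {K P : CochainComplex X.Modules ℤ} (hP : DCoh.IsKFlat P) (r : P ⟶ K) [QuasiIso r]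
  (hK : DCoh.IsPerfect (DerivedCategory.Q.obj K)) [DCoh.HasLTensorCx K] [DCoh.HasRSheafHom K]

include hP r hK in
/-- `RHom(K, O)` is perfect, represented by an internal Hom complex, and computes `RHom(K, -)`. -/
theorem exists_dual :
    ∃ J₀ : CochainComplex X.Modules ℤ,
      DCoh.IsPerfect (DerivedCategory.Q.obj ((Hc P).obj J₀)) ∧
      Nonempty (DerivedCategory.Q.obj ((Hc P).obj J₀) ≅
        (DCoh.RSheafHom K).obj (DCoh.inD X (Coh.structureModule X))) := by
  obtain ⟨d, -, -⟩ := exists_data ((KFlat.res X).obj (one X)) (KFlat.isKFlat_res _) (KFlat.isFlat_res_X _)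
  haveI := d.kinj₀
  obtain ⟨e⟩ := DualCompare.nonempty_RSheafHom_iso (K := K) hP r d.inj₀
  exact ⟨d.J₀, isPerfect_Hc d (Perfect.Triangle.isPerfect_of_iso (asIso (DerivedCategory.Q.map r)).symm hK),
    ⟨e ≪≫ (DCoh.RSheafHom K).mapIso d.e₀⟩⟩

include hP r hK in
/-- `RHom(K, M) ≅ M ⊗^L D` for every complex `D` representing `RHom(K, O)`. -/
theorem nonempty_LTensorCx_iso_RSheafHom (D : CochainComplex X.Modules ℤ) [DCoh.HasLTensorCx D]
    (e : DerivedCategory.Q.obj D ≅ (DCoh.RSheafHom K).obj (DCoh.inD X (Coh.structureModule X)))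
    (M : DCoh.D X) :
    Nonempty ((DCoh.LTensorCx D).obj M ≅ (DCoh.RSheafHom K).obj M) := by
  let A := (KFlat.res X).obj (DerivedCategory.Q.objPreimage M)
  let eA : DerivedCategory.Q.obj A ≅ M :=
    asIso (DerivedCategory.Q.map ((KFlat.aug X).app _)) ≪≫ DerivedCategory.Q.objObjPreimageIso M
  have hA : DCoh.IsKFlat A := KFlat.isKFlat_res _
  obtain ⟨d, hdA, ⟨eJ⟩⟩ := exists_data A hA (KFlat.isFlat_res_X _)
  haveI := d.kinj₀
  haveI := d.kinj
  have hP' := Perfect.Triangle.isPerfect_of_iso (asIso (DerivedCategory.Q.map r)).symm hK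
  haveI := quasiIso_ψ d hP'
  obtain ⟨e₀⟩ := DualCompare.nonempty_RSheafHom_iso (K := K) hP r d.inj₀
  obtain ⟨e₁⟩ := DualCompare.nonempty_RSheafHom_iso (K := K) hP r d.inj
  obtain ⟨t₁⟩ := QCohLocal.nonempty_LTensorCx_iso D hA
  obtain ⟨t₂⟩ := QCohLocal.nonempty_tensor_iso hA
    (e ≪≫ ((DCoh.RSheafHom K).mapIso d.e₀).symm ≪≫ e₀.symm)
  refine ⟨(DCoh.LTensorCx D).mapIso eA.symm ≪≫ t₁ ≪≫ t₂ ≪≫
    eqToIso (congrArg (fun B => DerivedCategory.Q.obj ((DCoh.tensorCx.obj B).obj ((Hc P).obj d.J₀))) hdA.symm) ≪≫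
    asIso (DerivedCategory.Q.map (ψ d P)) ≪≫ e₁ ≪≫ (DCoh.RSheafHom K).mapIso (eJ ≪≫ eA)⟩

include hP r hK in
/-- `RHom(K, -)` preserves quasi-coherent cohomology. -/
theorem isQCohD_RSheafHom {L : DCoh.D X} (hL : DCoh.IsQCohD L) :
    DCoh.IsQCohD ((DCoh.RSheafHom K).obj L) := by
  obtain ⟨J₀, hp, ⟨e⟩⟩ := exists_dual hP r hK
  haveI := LeftExists.hasLTensorCx ((Hc P).obj J₀)
  obtain ⟨i⟩ := nonempty_LTensorCx_iso_RSheafHom hP r hK _ e L
  have h := QCohLocal.isQCohD_LTensorCx _ (Perfect.QCohD.isQCohD_of_isPerfect hp) hL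
  exact fun n => (WayOut.Scheme.qc X).prop_of_iso ((DerivedCategory.homologyFunctor _ n).mapIso i) (h n)

end Groth.Agent.Lib.DerivedOX.DualMain
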