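import Groth.Agent.Lib.DerivedOX.DualBidual
import Groth.Agent.Lib.DerivedOX.UnitTensor
import Groth.Agent.Lib.TensorMod.Pullback

/-!
# Pullback respects the symmetry of the tensor product of complexes
-/

set_option autoImplicit false
set_option linter.style.haveILetI false
set_option linter.unusedSectionVars false
set_option maxHeartbeats 800000

universe u

open CategoryTheory Limits AlgebraicGeometry HomologicalComplex

attribute [local instance] HasDerivedCategory.standard

namespace Groth.Agent.Lib.DerivedOX.PullTensorComm

open PullTranspose UnitTensor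

variable {X Y : Scheme.{u}} (f : X ⟶ Y)

/-- Pairings through the symmetry. -/
theorem pairM_comm {A M B : X.Modules} (φ : CohB1.tensorMod A M ⟶ B) {U : X.Opens} (m : Γ(M, U))
    (a : Γ(A, U)) :
    TensorMod.Free.pairM ((TensorMod.Basic.comm M A).hom ≫ φ) m a = TensorMod.Free.pairM φ a m :=
  congrArg (fun t => TensorMod.Whisker.pair (M := (TensorMod.Basic.fgt X).obj M)
      (P := (TensorMod.Basic.fgt X).obj A) (X := Opposite.op U) t m a)
    ((TensorMod.Basic.adj X).homEquiv_naturality_left
      (BraidedCategory.braiding ((TensorMod.Basic.fgt X).obj M) ((TensorMod.Basic.fgt X).obj A)).hom φ)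

/-- Pullback of modules respects the symmetry of the tensor product. -/
theorem delta_comm (M N : Y.Modules) :
    (Scheme.Modules.pullback f).map (TensorMod.Basic.comm M N).hom ≫
        (TensorMod.Pullback.pullbackTensorIso f N M).hom =
      (TensorMod.Pullback.pullbackTensorIso f M N).hom ≫
        (TensorMod.Basic.comm ((Scheme.Modules.pullback f).obj M)
          ((Scheme.Modules.pullback f).obj N)).hom := by
  show (TensorMod.Pullback.pb f).map (TensorMod.Basic.comm M N).hom ≫ TensorMod.Pullback.delta f N M =
    TensorMod.Pullback.delta f M N ≫ _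
  apply ((TensorMod.Pullback.pbAdj f).homEquiv _ _).injective
  refine TensorMod.Free.hom_ext_pairM fun U m n => ?_
  rw [Adjunction.homEquiv_naturality_left, pairM_comm,
    ← Category.comp_id (TensorMod.Pullback.delta f N M), TensorMod.Pullback.pairM_delta_comp,
    TensorMod.Pullback.pairM_delta_comp]
  exact ((congrArg (fun t => TensorMod.Free.pairM t _ _) (Category.comp_id _).symm).trans
    (pairM_comm (𝟙 _) _ _)).symm

/-- The symmetry on a summand. -/
theorem ι_commT {Z : Scheme.{u}} (K L : CochainComplex Z.Modules ℤ) (p q n : ℤ) (h : p + q = n) :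
    ιMapBifunctor K L (DCoh.tensorBi (X := Z)) (.up ℤ) p q n h ≫ (DualBidual.commT K L).f n =
      (((ComplexShape.up ℤ).σ (ComplexShape.up ℤ) (ComplexShape.up ℤ) p q : ℤˣ) : ℤ) •
        ((TensorMod.Basic.comm (K.X p) (L.X q)).hom ≫
          ιMapBifunctor L K (DCoh.tensorBi (X := Z)) (.up ℤ) q p n (by show q + p = n; omega)) := by
  show ιMapBifunctor K L _ (.up ℤ) p q n h ≫
    ((mapBifunctorFlipIso K L (DCoh.tensorBi (X := Z)) (.up ℤ)).inv.f n ≫
      BifunctorMap.homX DualBidual.commComparison L K n) = _
  rw [ι_mapBifunctorFlipIso_inv_assoc, Units.smul_def, Preadditive.zsmul_comp]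
  exact congrArg _ (BifunctorMap.ι_homX DualBidual.commComparison L K q p n _)

/-- Pullback of complexes respects the symmetry of the tensor product. -/
theorem pullIso_comm (K L : CochainComplex Y.Modules ℤ) :
    (pullC f).map (DualBidual.commT K L) ≫ (pullIso f L K).hom =
      (pullIso f K L).hom ≫ DualBidual.commT ((pullC f).obj K) ((pullC f).obj L) := by
  suffices key : (PullTensor.pullTensorIso f K L).hom ≫ (pullC f).map (DualBidual.commT K L) =
      DualBidual.commT ((pullC f).obj K) ((pullC f).obj L) ≫ (PullTensor.pullTensorIso f L K).hom by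
    show _ ≫ (PullTensor.pullTensorIso f L K).inv = (PullTensor.pullTensorIso f K L).inv ≫ _
    rw [Iso.comp_inv_eq, Category.assoc, Iso.eq_inv_comp]
    exact key
  refine HomologicalComplex.hom_ext _ _ fun n => mapBifunctor.hom_ext fun p q h => ?_
  have hpq : p + q = n := h
  let F := Scheme.Modules.pullback f
  let K' := (pullC f).obj K
  let L' := (pullC f).obj L
  have hδ : ((PullTensor.pullComparison f).iso (K.X p) (L.X q)).hom ≫
      F.map (TensorMod.Basic.comm (K.X p) (L.X q)).hom =
        (TensorMod.Basic.comm (F.obj (K.X p)) (F.obj (L.X q))).hom ≫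
          ((PullTensor.pullComparison f).iso (L.X q) (K.X p)).hom := by
    show (TensorMod.Pullback.pullbackTensorIso f (K.X p) (L.X q)).inv ≫ _ =
      _ ≫ (TensorMod.Pullback.pullbackTensorIso f (L.X q) (K.X p)).inv
    exact (Iso.inv_comp_eq _).2
      (((Iso.eq_comp_inv _).2 (delta_comm f (K.X p) (L.X q))).trans (Category.assoc _ _ _))
  have hA := ι_commT K L p q n hpq
  have hB := ι_commT K' L' p q n hpq
  refine ((Category.assoc _ _ _).symm.trans ((congrArg (· ≫ F.map ((DualBidual.commT K L).f n))
    (BifunctorMap.ι_homX (PullTensor.pullComparison f) K L p q n h)).trans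
      ((Category.assoc _ _ _).trans (congrArg _ ((F.map_comp _ _).symm.trans (congrArg F.map hA)))))).trans ?_
  refine Eq.trans ?_ (Eq.symm ((Category.assoc _ _ _).symm.trans ((congrArg
    (· ≫ BifunctorMap.homX (PullTensor.pullComparison f) L K n) hB).trans ((Preadditive.zsmul_comp ..).trans
      (congrArg _ ((Category.assoc _ _ _).trans (congrArg _
        (BifunctorMap.ι_homX (PullTensor.pullComparison f) L K q p n _))))))))
  refine (congrArg _ F.map_zsmul).trans ((Preadditive.comp_zsmul ..).trans (congrArg _ ?_))
  refine (congrArg _ (F.map_comp _ _)).trans ((Category.assoc _ _ _).symm.trans ?_)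
  exact (congrArg (· ≫ F.map _) hδ).trans (Category.assoc _ _ _)

end Groth.Agent.Lib.DerivedOX.PullTensorComm
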