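import Groth.Agent.Lib.DerivedOX.FMTools
import Groth.Agent.Lib.DerivedOX.ProjectionFormula
import Groth.Agent.Lib.DerivedOX.ProjectionQCoh
import Groth.Agent.Lib.DerivedOX.DualBidual
import Groth.Agent.Lib.DerivedOX.PullTensorComm

/-!
# The projection formula, natural in the pushed forward object

`Rf_*E ⊗^L M ≅ Rf_*(E ⊗^L Lf^*M)` as functors of `E ∈ D_QCoh(X)`.
-/

set_option autoImplicit false
set_option linter.style.haveILetI false
set_option linter.unusedSectionVars false
set_option maxHeartbeats 800000

universe u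

open CategoryTheory Limits AlgebraicGeometry HomologicalComplex

attribute [local instance] HasDerivedCategory.standard

namespace Groth.Agent.Lib.DerivedOX.ProjectionNat

open ProjectionMap PullTranspose UnitTensor PullTensorComm

variable {X Y : Scheme.{u}} (f : X ⟶ Y)

variable [DCoh.HasLpull f] [DCoh.HasRpush f]

/-- The adjunction `f^* ⊣ f_*` composed with `corr` still transposes quasi-isomorphisms. -/
theorem quasiIso_homEquiv_twisted {B : CochainComplex Y.Modules ℤ} {I : CochainComplex X.Modules ℤ}
    (g : B ⟶ (GammaAcyclic.pushC f).obj I) [QuasiIso g] :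
    QuasiIso ((adjCx f).homEquiv B I (twisted f g)) := by
  let adj := Scheme.Modules.pullbackPushforwardAdjunction f
  let θ : Scheme.Modules.pullback f ≅ Scheme.Modules.pullback f :=
    (NatIso.ofComponents (fun M => corr f M) fun g => corr_natural f g).symm
  let c : Scheme.Modules.pushforward f ≅ Scheme.Modules.pushforward f :=
    conjugateIsoEquiv adj adj θ
  have hkey : ∀ {M : Y.Modules} {N : X.Modules} (φ : (Scheme.Modules.pullback f).obj M ⟶ N),
      adj.homEquiv M N (θ.hom.app M ≫ φ) = adj.homEquiv M N φ ≫ c.hom.app N := by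
    intro M N φ
    have h1 := unit_conjugateEquiv adj adj θ.hom M
    rw [Adjunction.homEquiv_unit, Adjunction.homEquiv_unit, Functor.map_comp]
    erw [← reassoc_of% h1]
    exact (congrArg (adj.unit.app M ≫ ·) (c.hom.naturality φ).symm).trans (Category.assoc _ _ _).symm
  have hz : (adjCx f).homEquiv B I (twisted f g) =
      g ≫ ((NatIso.mapHomologicalComplex c (ComplexShape.up ℤ)).app I).hom := by
    refine HomologicalComplex.hom_ext _ _ fun n => ?_
    have e1 : ∀ φ : (pullC f).obj B ⟶ I,
        ((adjCx f).homEquiv B I φ).f n = adj.homEquiv _ _ (φ.f n) := fun φ => by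
      simp [Adjunction.homEquiv_unit, adj]
      rfl
    rw [e1, HomologicalComplex.comp_f]
    show adj.homEquiv _ _ (θ.hom.app (B.X n) ≫ (((adjCx f).homEquiv B I).symm g).f n) = _
    rw [hkey, ← e1, Equiv.apply_symm_apply]
    rfl
  rw [hz]
  infer_instance

/-- Tensoring with a K-flat complex is computed termwise. -/
theorem isIso_tensorCounit_of_isKFlat {Z : Scheme.{u}} {F : CochainComplex Z.Modules ℤ}
    (hF : DCoh.IsKFlat F) [DCoh.HasLTensorCx F] (K : CochainComplex Z.Modules ℤ) :
    IsIso ((tensorCounit F).app K) := by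
  haveI : QuasiIso ((KFlat.aug Z).app K) := KFlat.quasiIso_aug K
  haveI := isIso_tensorCounit F (KFlat.isKFlat_res (X := Z) K)
  haveI := LeftExists.quasiIso_tensor_right hF ((KFlat.aug Z).app K)
  haveI h1 : IsIso ((DerivedCategory.Q ⋙ DCoh.LTensorCx F).map ((KFlat.aug Z).app K)) :=
    inferInstanceAs (IsIso ((DCoh.LTensorCx F).map (DerivedCategory.Q.map ((KFlat.aug Z).app K))))
  haveI h2 : IsIso ((DCoh.tensorCxQ F).map ((KFlat.aug Z).app K)) :=
    inferInstanceAs (IsIso (DerivedCategory.Q.map ((DCoh.tensorCx.map ((KFlat.aug Z).app K)).app F)))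
  exact @IsIso.of_isIso_fac_left _ _ _ _ _ _ _ _ h1 (IsIso.comp_isIso' ‹_› h2)
    ((tensorCounit F).naturality ((KFlat.aug Z).app K))

variable (P : CochainComplex Y.Modules ℤ) [DCoh.HasLTensorCx P] [DCoh.HasLTensorCx ((pullC f).obj P)]

/-- `f^*P → f_*f^*P`, corrected. -/
noncomputable def unitP : P ⟶ (GammaAcyclic.pushC f).obj ((pullC f).obj P) :=
  (adjCx f).homEquiv _ _ (corrC f P).hom

lemma twisted_unitP : twisted f (unitP f P) = 𝟙 _ := by
  simp [twisted, unitP]

/-- The projection map, natural in the object pushed forward. -/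
noncomputable def map : DCoh.Rpush f ⋙ DCoh.LTensorCx P ⟶
    DCoh.LTensorCx ((pullC f).obj P) ⋙ DCoh.Rpush f where
  app E := (PullPushAdj.derivedAdjunction f).homEquiv _ _
    ((adjMap f (unitP f P)).app ((DCoh.Rpush f).obj E) ≫
      (DCoh.LTensorCx ((pullC f).obj P)).map ((PullPushAdj.derivedAdjunction f).counit.app E))
  naturality {E E'} φ := by
    refine ((PullPushAdj.derivedAdjunction f).homEquiv_naturality_left _ _).symm.trans (Eq.trans ?_
      ((PullPushAdj.derivedAdjunction f).homEquiv_naturality_right _ _))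
    refine congrArg _ ?_
    have h1 := (adjMap f (unitP f P)).naturality ((DCoh.Rpush f).map φ)
    dsimp at h1
    erw [reassoc_of% h1]
    refine (congrArg (_ ≫ ·) ?_).trans (Category.assoc _ _ _).symm
    exact ((DCoh.LTensorCx _).map_comp _ _).symm.trans
      ((congrArg (DCoh.LTensorCx _).map ((PullPushAdj.derivedAdjunction f).counit.naturality φ)).trans
        ((DCoh.LTensorCx _).map_comp _ _))

/-- The projection map is invertible on `D_QCoh`. -/
theorem isIso_map_app [QuasiCompact f] [QuasiSeparated f] (hP : DCoh.IsKFlat P)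
    (hPq : DCoh.IsQCohD (DerivedCategory.Q.obj P)) (E : DCoh.D X) (hE : DCoh.IsQCohD E) :
    IsIso ((map f P).app E) := by
  obtain ⟨B, I, g, hB, hI, hg, ⟨eI⟩, -⟩ := ProjectionFormula.exists_data f E
  haveI := hI; haveI := hg
  haveI := LeftExists.hasLTensorCx B
  haveI := LeftExists.hasLTensorCx I
  refine (NatTrans.isIso_app_iff_of_iso (map f P) eI).1 ?_
  let D := PullPushAdj.derivedAdjunction f
  let τ := twisted f g
  haveI := quasiIso_homEquiv_twisted f g
  let ε' := (counitCx f).app B ≫ DerivedCategory.Q.map τ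
  haveI he : IsIso (D.homEquiv _ _ ε') := isIso_transpose f τ
  let e := D.homEquiv _ _ ε'
  let P' := (pullC f).obj P
  have hP' : DCoh.IsKFlat P' := KFlatPullback.isKFlat_pullback f hP
  haveI htI := isIso_tensorCounit_of_isKFlat hP' I
  haveI hproj : IsIso ((projMap f g).app (DerivedCategory.Q.obj P)) :=
    ProjectionQCoh.isIso_projMap_of_isQCohD (fun n => (Groth.Agent.Lib.WayOut.Scheme.qc X).prop_of_iso
      ((DerivedCategory.homologyFunctor X.Modules n).mapIso eI).symm (hE n)) hPq
  haveI := isIso_tensorCounit_of_isKFlat hP B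
  haveI := isIso_tensorCounit B hP
  haveI := isIso_right f (I := I) hP
  let cI : DerivedCategory.Q.obj (tC P' I) ⟶ DerivedCategory.Q.obj (tC I P') :=
    DerivedCategory.Q.map (DualBidual.commT P' I)
  let cBP : tC B P ⟶ tC P B := (DualBidual.commCx P B).inv
  let z : (DCoh.LTensorCx P).obj (DerivedCategory.Q.obj B) ⟶
      (DCoh.LTensorCx B).obj (DerivedCategory.Q.obj P) :=
    (tensorCounit P).app B ≫ DerivedCategory.Q.map cBP ≫
      inv ((tensorCounit B).app P)
  haveI : IsIso (DerivedCategory.Q.map cBP) :=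
    inferInstanceAs (IsIso (DerivedCategory.Q.map (DualBidual.commCx P B).inv))
  haveI : IsIso cI := inferInstanceAs (IsIso (DerivedCategory.Q.map (DualBidual.commCx P' I).hom))
  let iso : (DCoh.LTensorCx I).obj ((DCoh.Lpull f).obj (DerivedCategory.Q.obj P)) ⟶
      (DCoh.LTensorCx P').obj (DerivedCategory.Q.obj I) :=
    (right f (I := I)).app P ≫ cI ≫ inv ((tensorCounit P').app I)
  haveI : IsIso iso := inferInstance
  have key : (DCoh.LTensorCx P).map e ≫ (map f P).app (DerivedCategory.Q.obj I) =
      z ≫ (projMap f g).app (DerivedCategory.Q.obj P) ≫ (DCoh.Rpush f).map iso := by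
    apply (D.homEquiv _ _).symm.injective
    have hL : (D.homEquiv _ _).symm ((DCoh.LTensorCx P).map e ≫ (map f P).app (DerivedCategory.Q.obj I)) =
        (preMap f (unitP f P)).app B ≫ (DCoh.LTensorCx P').map ε' := by
      rw [Adjunction.homEquiv_naturality_left_symm]
      erw [Equiv.symm_apply_apply]
      have h1 := (adjMap f (unitP f P)).naturality e
      dsimp at h1
      erw [reassoc_of% h1, adjMap_app]
      refine congrArg ((preMap f (unitP f P)).app B ≫ ·) (((DCoh.LTensorCx _).map_comp _ _).symm.trans ?_)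
      exact congrArg (DCoh.LTensorCx _).map ((D.homEquiv_counit _ _ _).symm.trans
        (Equiv.symm_apply_apply _ _))
    have hR : (D.homEquiv _ _).symm
          (z ≫ (projMap f g).app (DerivedCategory.Q.obj P) ≫ (DCoh.Rpush f).map iso) =
        (DCoh.Lpull f).map z ≫ (preMap f g).app P ≫ iso := by
      rw [Adjunction.homEquiv_naturality_left_symm, Adjunction.homEquiv_naturality_right_symm]
      erw [Equiv.symm_apply_apply]
      rw [adjMap_app]
    rw [hL, hR, ← cancel_mono ((tensorCounit P').app I)]
    have ht : (DCoh.LTensorCx P').map (DerivedCategory.Q.map τ) ≫ (tensorCounit P').app I =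
        (tensorCounit P').app ((pullC f).obj B) ≫
          DerivedCategory.Q.map ((DCoh.tensorCx.map τ).app P') := (tensorCounit P').naturality τ
    simp only [iso, ε', Functor.map_comp, Category.assoc, IsIso.inv_hom_id, Category.comp_id]
    rw [ht]
    have hr : (right f (I := P')).app B =
        (DCoh.LTensorCx P').map ((counitCx f).app B) ≫ (tensorCounit P').app ((pullC f).obj B) := by
      simp [right]
    rw [← reassoc_of% hr, reassoc_of% (preMap_comp_right f (unitP f P) B),
      reassoc_of% (preMap_comp_right f g P)]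
    have hcmp : ProjectionMap.compare f (unitP f P) B ≫ (DCoh.tensorCx.map τ).app P' =
        (pullC f).map cBP ≫ ProjectionMap.compare f g P ≫ DualBidual.commT P' I := by
      simp only [ProjectionMap.compare, twisted_unitP, CategoryTheory.Functor.map_id, Category.comp_id, Category.assoc]
      have hsw : (pullIso f B P).hom = (pullC f).map cBP ≫ (pullIso f P B).hom ≫
          DualBidual.commT P' ((pullC f).obj B) := by
        rw [← pullIso_comm f P B, ← Functor.map_comp_assoc]
        simp [cBP, DualBidual.commT]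
      rw [hsw, DualBidual.commT_right]
      simp only [Category.assoc]
      rfl
    dsimp only [left, cI]
    simp only [Category.assoc, ← Functor.map_comp]
    rw [hcmp, Functor.map_comp]
    have hc := (counitCx f).naturality cBP
    dsimp at hc
    erw [← reassoc_of% hc]
    simp only [z, ← Functor.map_comp_assoc, Category.assoc, IsIso.inv_hom_id, Category.comp_id]
  have hiso : IsIso ((DCoh.LTensorCx P).map e ≫ (map f P).app (DerivedCategory.Q.obj I)) := by
    rw [key]; infer_instance
  exact IsIso.of_isIso_comp_left ((DCoh.LTensorCx P).map e) _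

/-- The projection formula, natural in the object pushed forward. -/
theorem nonempty_natIso [QuasiCompact f] [QuasiSeparated f] (M : CochainComplex Y.Modules ℤ)
    [DCoh.HasLTensorCx M] (hM : DCoh.IsQCohD (DCoh.toD Y M)) (M' : CochainComplex X.Modules ℤ)
    [DCoh.HasLTensorCx M'] (e : DCoh.toD X M' ≅ (DCoh.Lpull f).obj (DCoh.toD Y M)) :
    Nonempty (ObjectProperty.ι (DCoh.IsQCohD (X := X)) ⋙ DCoh.Rpush f ⋙ DCoh.LTensorCx M ≅
      ObjectProperty.ι (DCoh.IsQCohD (X := X)) ⋙ DCoh.LTensorCx M' ⋙ DCoh.Rpush f) := by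
  let P := (KFlat.res Y).obj M
  haveI := LeftExists.hasLTensorCx P
  haveI := LeftExists.hasLTensorCx ((pullC f).obj P)
  haveI : QuasiIso ((KFlat.aug Y).app M) := KFlat.quasiIso_aug M
  haveI := isIso_counitCx f (KFlat.isKFlat_res (X := Y) M)
  let eP : DerivedCategory.Q.obj P ≅ DerivedCategory.Q.obj M :=
    asIso (DerivedCategory.Q.map ((KFlat.aug Y).app M))
  obtain ⟨a⟩ := FMTools.nonempty_congrTensor eP
  obtain ⟨b⟩ := FMTools.nonempty_congrTensor
    ((asIso ((counitCx f).app P)).symm ≪≫ (DCoh.Lpull f).mapIso eP ≪≫ e.symm)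
  have hPq : DCoh.IsQCohD (DerivedCategory.Q.obj P) := fun n =>
    (Groth.Agent.Lib.WayOut.Scheme.qc Y).prop_of_iso
      ((DerivedCategory.homologyFunctor Y.Modules n).mapIso eP).symm (hM n)
  let η := Functor.whiskerLeft (ObjectProperty.ι (DCoh.IsQCohD (X := X))) (map f P)
  haveI : ∀ E, IsIso (η.app E) := fun E =>
    isIso_map_app f P (KFlat.isKFlat_res M) hPq E.obj E.property
  haveI := NatIso.isIso_of_isIso_app η
  exact ⟨Functor.isoWhiskerLeft _ (Functor.isoWhiskerLeft _ a.symm) ≪≫ asIso η ≪≫
    Functor.isoWhiskerLeft _ (Functor.isoWhiskerRight b _)⟩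

end Groth.Agent.Lib.DerivedOX.ProjectionNat
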