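import Groth.Agent.Lib.DerivedOX.ProjectionMap
import Groth.Agent.Lib.DerivedOX.PullComp
import Groth.Agent.Lib.DerivedOX.LpullQCoh
import Groth.Agent.Lib.DerivedOX.BCFlat
import Groth.Agent.Lib.BettiExact.LTensorTri
import Groth.Agent.S11109
import Groth.Agent.S1066
import Groth.Agent.Lib.SchColim29.ProperFlatPerfect
import Groth.Agent.Lib.SchColim29.TensorVanish

/-!
# Natural isomorphisms used for integral transforms
-/

set_option autoImplicit false
set_option linter.style.haveILetI false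
set_option linter.unusedSectionVars false
set_option maxHeartbeats 1000000

universe u

open CategoryTheory Limits AlgebraicGeometry HomologicalComplex

attribute [local instance] HasDerivedCategory.standard
attribute [local instance] Groth.Agent.Lib.DerivedOX.LeftExists.hasLpull
  Groth.Agent.Lib.DerivedOX.Exists.hasRpush

namespace Groth.Agent.Lib.DerivedOX.FMTools

open PullTranspose UnitTensor ProjectionMap Groth.Agent.Lib.BettiExact.LTensorTri

variable {X Y : Scheme.{u}}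

/-- Lifting a natural isomorphism from complexes to the derived category. -/
theorem nonempty_lift {C : Type*} [Category C] {F G : DCoh.D Y ⥤ C}
    (e : DerivedCategory.Q ⋙ F ≅ DerivedCategory.Q ⋙ G) : Nonempty (F ≅ G) :=
  letI : Localization.Lifting DerivedCategory.Q (quasiIso Y.Modules (.up ℤ))
      (DerivedCategory.Q ⋙ F) F := ⟨Iso.refl _⟩
  letI : Localization.Lifting DerivedCategory.Q (quasiIso Y.Modules (.up ℤ))
      (DerivedCategory.Q ⋙ G) G := ⟨Iso.refl _⟩
  ⟨Localization.liftNatIso DerivedCategory.Q (quasiIso Y.Modules (.up ℤ)) _ _ _ _ e⟩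

/-- `- ⊗^L F` depends only on the class of `F`. -/
theorem nonempty_congrTensor {F G : CochainComplex Y.Modules ℤ} [DCoh.HasLTensorCx F]
    [DCoh.HasLTensorCx G] (e : DerivedCategory.Q.obj F ≅ DerivedCategory.Q.obj G) :
    Nonempty (DCoh.LTensorCx F ≅ DCoh.LTensorCx G) := by
  obtain ⟨W, s, hs, g, hg⟩ := DerivedCategory.right_fac e.hom
  haveI hs' : QuasiIso s := (DerivedCategory.isIso_Q_map_iff_quasiIso _ _).1 hs
  haveI : QuasiIso g := (DerivedCategory.isIso_Q_map_iff_quasiIso _ _).1 (by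
    haveI : IsIso (inv (DerivedCategory.Q.map s) ≫ DerivedCategory.Q.map g) := hg ▸ inferInstance
    exact IsIso.of_isIso_comp_left (inv (DerivedCategory.Q.map s)) _)
  haveI : QuasiIso ((KFlat.aug Y).app W) := KFlat.quasiIso_aug W
  let r : (KFlat.res Y).obj W ⟶ W := (KFlat.aug Y).app W
  haveI : QuasiIso r := ‹_›
  obtain ⟨a⟩ := nonempty_iso_tensorCxQ F (r ≫ s) (KFlat.isKFlat_res W)
  obtain ⟨b⟩ := nonempty_iso_tensorCxQ G (r ≫ g) (KFlat.isKFlat_res W)
  exact nonempty_lift (a ≪≫ b.symm)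

/-- `Lf^*(- ⊗^L B) = Lf^*- ⊗^L f^*B` for K-flat `B`. -/
theorem nonempty_pullTensor_kflat (f : X ⟶ Y) {B : CochainComplex Y.Modules ℤ} (hB : DCoh.IsKFlat B)
    [DCoh.HasLTensorCx B] [DCoh.HasLTensorCx ((pullC f).obj B)] :
    Nonempty (DCoh.LTensorCx B ⋙ DCoh.Lpull f ≅ DCoh.Lpull f ⋙ DCoh.LTensorCx ((pullC f).obj B)) := by
  let g : B ⟶ (GammaAcyclic.pushC f).obj ((pullC f).obj B) :=
    (adjCx f).homEquiv _ _ (corrC f B).hom
  have ht : twisted f g = 𝟙 _ := by
    simp [twisted, g]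
  have hc : ∀ K, IsIso (compare f g K) := fun K => by
    show IsIso ((pullIso f K B).hom ≫ (DCoh.tensorCx.obj ((pullC f).obj K)).map (twisted f g))
    rw [ht, CategoryTheory.Functor.map_id, Category.comp_id]
    infer_instance
  haveI : ∀ K, IsIso ((preMap f g).app K) := fun K => by
    haveI : IsIso ((preMap f g).app ((KFlat.res Y).obj K)) := by
      have hP := KFlat.isKFlat_res (X := Y) K
      haveI := isIso_right f (I := (pullC f).obj B) hP
      haveI : IsIso ((left f g).app ((KFlat.res Y).obj K)) := by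
        haveI := isIso_tensorCounit B hP
        haveI := PullTranspose.isIso_counitCx f (PullTensor.isKFlat_tensor hP hB)
        haveI := hc ((KFlat.res Y).obj K)
        dsimp only [left]
        infer_instance
      exact @IsIso.of_isIso_fac_right _ _ _ _ _ _ _ _ ‹_› ‹_› (preMap_comp_right f g _)
    haveI : QuasiIso ((KFlat.aug Y).app K) := KFlat.quasiIso_aug K
    have h1 : IsIso ((DerivedCategory.Q ⋙ DCoh.LTensorCx B ⋙ DCoh.Lpull f).map ((KFlat.aug Y).app K)) :=
      inferInstanceAs (IsIso ((DCoh.LTensorCx B ⋙ DCoh.Lpull f).map (DerivedCategory.Q.map ((KFlat.aug Y).app K))))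
    have h2 : IsIso ((DerivedCategory.Q ⋙ DCoh.Lpull f ⋙ DCoh.LTensorCx ((pullC f).obj B)).map
        ((KFlat.aug Y).app K)) :=
      inferInstanceAs (IsIso ((DCoh.Lpull f ⋙ DCoh.LTensorCx ((pullC f).obj B)).map
        (DerivedCategory.Q.map ((KFlat.aug Y).app K))))
    have hn := (preMap f g).naturality ((KFlat.aug Y).app K)
    exact @IsIso.of_isIso_fac_left _ _ _ _ _ _ _ _ h1 (IsIso.comp_isIso' ‹_› h2) hn
  haveI := NatIso.isIso_of_isIso_app (preMap f g)
  exact nonempty_lift (asIso (preMap f g))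

/-- `Lf^*(- ⊗^L F) = Lf^*- ⊗^L F'` when `F'` represents `Lf^*F`. -/
theorem nonempty_pullTensor (f : X ⟶ Y) [DCoh.HasLpull f] (F : CochainComplex Y.Modules ℤ) (F' : CochainComplex X.Modules ℤ)
    [DCoh.HasLTensorCx F] [DCoh.HasLTensorCx F']
    (e : DerivedCategory.Q.obj F' ≅ (DCoh.Lpull f).obj (DerivedCategory.Q.obj F)) :
    Nonempty (DCoh.LTensorCx F ⋙ DCoh.Lpull f ≅ DCoh.Lpull f ⋙ DCoh.LTensorCx F') := by
  let B := (KFlat.res Y).obj F
  haveI := LeftExists.hasLTensorCx B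
  haveI := LeftExists.hasLTensorCx ((pullC f).obj B)
  haveI : QuasiIso ((KFlat.aug Y).app F) := KFlat.quasiIso_aug F
  haveI := PullTranspose.isIso_counitCx f (KFlat.isKFlat_res F)
  let eB : DerivedCategory.Q.obj B ≅ DerivedCategory.Q.obj F :=
    asIso (DerivedCategory.Q.map ((KFlat.aug Y).app F))
  obtain ⟨a⟩ := nonempty_congrTensor eB
  obtain ⟨b⟩ := nonempty_congrTensor
    ((asIso ((counitCx f).app B)).symm ≪≫ (DCoh.Lpull f).mapIso eB ≪≫ e.symm)
  obtain ⟨c⟩ := nonempty_pullTensor_kflat f (KFlat.isKFlat_res F)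
  exact ⟨Functor.isoWhiskerRight a.symm _ ≪≫ c ≪≫ Functor.isoWhiskerLeft _ b⟩

/-- Equal maps have the same derived pullback. -/
theorem nonempty_lpullCongr {f g : X ⟶ Y} (h : f = g) [DCoh.HasLpull f] [DCoh.HasLpull g] :
    Nonempty (DCoh.Lpull f ≅ DCoh.Lpull g) := by
  subst h; exact ⟨Iso.refl _⟩

/-- Equal maps have the same derived direct image. -/
theorem nonempty_rpushCongr {f g : X ⟶ Y} (h : f = g) [DCoh.HasRpush f] [DCoh.HasRpush g] :
    Nonempty (DCoh.Rpush f ≅ DCoh.Rpush g) := by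
  subst h; exact ⟨Iso.refl _⟩

/-- Two ways around a commutative square. -/
theorem nonempty_lpullSquare {W Z : Scheme.{u}} (a : W ⟶ X) (b : X ⟶ Z) (c : W ⟶ Y) (d : Y ⟶ Z)
    (h : a ≫ b = c ≫ d) [DCoh.HasLpull a] [DCoh.HasLpull b] [DCoh.HasLpull c] [DCoh.HasLpull d] :
    Nonempty (DCoh.Lpull b ⋙ DCoh.Lpull a ≅ DCoh.Lpull d ⋙ DCoh.Lpull c) := by
  obtain ⟨i⟩ := nonempty_lpullCongr h
  exact ⟨PullComp.lpullCompIso a b ≪≫ i ≪≫ (PullComp.lpullCompIso c d).symm⟩

/-- Base change for a flat `f` or a flat `g`. -/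
theorem isIso_bcD {S S' X' : Scheme.{u}} (f : X ⟶ S) [QuasiCompact f] [QuasiSeparated f] (g : S' ⟶ S)
    (f' : X' ⟶ S') (g' : X' ⟶ X) [DCoh.HasRpush f] [DCoh.HasLpull g] [DCoh.HasLpull g'] [DCoh.HasRpush f']
    (hflat : Flat g ∨ Flat f) (hsq : IsPullback g' f' f g) (E : DCoh.D X) (hE : DCoh.IsQCohD E) :
    IsIso ((BCSquare.bcD f g f' g' hsq.w).app E) := by
  rcases hflat with hg | hf
  · exact BCFlat.isIso_bcD f g f' g' hsq.w hsq E hE
  obtain ⟨P, hP, ⟨eP⟩⟩ := QCohLocal.exists_kflat E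
  have hPq : DCoh.IsQCohD (DerivedCategory.Q.obj P) := fun i =>
    (Groth.Agent.Lib.WayOut.Scheme.qc _).prop_of_iso
      ((DerivedCategory.homologyFunctor _ i).mapIso eP.symm) (hE i)
  have hO : FlatMod.IsFlatOver f (Coh.structureModule X) :=
    SchColim29.ProperFlatPerfect.isFlatOver_of_isFlat f SchColim29.TensorVanish.isFlat_structureModule
  haveI : IsIso ((BCCube.ψ f g f' g' hsq.w).app ((Amplitude.tens (Coh.structureModule X)).obj P)) :=
    BCLoc.isIso_ψ_tens hsq _ (TensorMod.QCohInv.isQCoh_structureModule X)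
      (S1066.torLoc_of_isFlatOver f g _ (TensorMod.QCohInv.isQCoh_structureModule X) hO) P hP hPq
  haveI h1 : IsIso ((BCCube.ψ f g f' g' hsq.w).app P) :=
    (NatTrans.isIso_app_iff_of_iso (BCCube.ψ f g f' g' hsq.w) (S11109.tensUnit X P)).1 inferInstance
  haveI := PullTranspose.isIso_counitCx g' hP
  haveI : IsIso ((BCSquare.bcD f g f' g' hsq.w).app (DerivedCategory.Q.obj P)) := by
    dsimp only [BCCube.ψ] at h1
    exact @IsIso.of_isIso_comp_right _ _ _ _ _ _
      ((DCoh.Rpush f').map ((PullTranspose.counitCx g').app P)) inferInstance h1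
  exact (NatTrans.isIso_app_iff_of_iso (BCSquare.bcD f g f' g' hsq.w) eP).1 inferInstance

end Groth.Agent.Lib.DerivedOX.FMTools
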