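import Groth.Agent.Lib.DerivedOX.FMTools
import Groth.Agent.Lib.DerivedOX.ProjectionFormula
import Groth.Agent.Lib.DerivedOX.ProjectionQCoh
import Groth.Agent.Lib.RightAdjTensor.Finite
import Groth.Agent.Lib.Perfect.QCohD
import Groth.Agent.S13558

/-!
# The diagonal as a kernel, and inverse kernels
-/

set_option autoImplicit false
set_option linter.style.haveILetI false
set_option linter.unusedSectionVars false
set_option maxHeartbeats 800000

universe u

open CategoryTheory Limits AlgebraicGeometry HomologicalComplex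

attribute [local instance] HasDerivedCategory.standard

namespace Groth.Agent.Lib.DerivedOX.FMDiag

open PullTranspose

variable {X Y : Scheme.{u}}

/-- `- ⊗^L f_*O = Rf_*Lf^*` for an affine morphism. -/
theorem nonempty_tensor_push (f : X ⟶ Y) [IsAffineHom f] [DCoh.HasRpush f] [DCoh.HasLpull f]
    (N : CochainComplex Y.Modules ℤ) [DCoh.HasLTensorCx N]
    (hN : DCoh.toD Y N ≅ DCoh.inD Y ((Scheme.Modules.pushforward f).obj (Coh.structureModule X))) :
    Nonempty (ObjectProperty.ι (DCoh.IsQCohD (X := Y)) ⋙ DCoh.LTensorCx N ≅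
      ObjectProperty.ι _ ⋙ DCoh.Lpull f ⋙ DCoh.Rpush f) := by
  let O₁ : CochainComplex X.Modules ℤ := DualFree.one X
  obtain ⟨I, i, hI, hi⟩ := DerCat.KInjExists.hasKInjRes O₁
  haveI := hI
  haveI := hi
  have hterms : ∀ n, (WayOut.Scheme.qc X) (O₁.X n) := fun n => by
    by_cases hn : n = 0
    · subst hn
      exact (WayOut.Scheme.qc X).prop_of_iso
        (HomologicalComplex.singleObjXSelf (ComplexShape.up ℤ) 0 _).symm
        (TensorMod.QCohInv.isQCoh_structureModule X)
    · exact RpushQCoh.qc_of_isZero (HomologicalComplex.isZero_single_obj_X (ComplexShape.up ℤ) 0 _ n hn)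
  let c := (GammaAcyclic.pushC f).map i
  haveI : QuasiIso c := AffinePush.quasiIso_push f i hterms
  let B := (KFlat.res Y).obj ((GammaAcyclic.pushC f).obj I)
  let g : B ⟶ (GammaAcyclic.pushC f).obj I := (KFlat.aug Y).app _
  haveI : QuasiIso g := KFlat.quasiIso_aug _
  haveI := LeftExists.hasLTensorCx B
  haveI := LeftExists.hasLTensorCx I
  let eO : DerivedCategory.Q.obj O₁ ≅ DCoh.inD X (Coh.structureModule X) :=
    ((DerivedCategory.singleFunctorIsoCompQ X.Modules 0).app _).symm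
  let eI : DerivedCategory.Q.obj I ≅ DCoh.inD X (Coh.structureModule X) :=
    (asIso (DerivedCategory.Q.map i)).symm ≪≫ eO
  let eBN : DerivedCategory.Q.obj B ≅ DerivedCategory.Q.obj N :=
    asIso (DerivedCategory.Q.map g) ≪≫ (asIso (DerivedCategory.Q.map c)).symm ≪≫
      DerivedCategory.Q.mapIso ((HomologicalComplex.singleMapHomologicalComplex
        (Scheme.Modules.pushforward f) (ComplexShape.up ℤ) 0).app _) ≪≫
      ((DerivedCategory.singleFunctorIsoCompQ Y.Modules 0).app _).symm ≪≫ hN.symm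
  obtain ⟨θ⟩ := FMTools.nonempty_congrTensor eBN
  have hIq : DCoh.IsQCohD (DerivedCategory.Q.obj I) :=
    (DCoh.IsQCohD (X := X)).prop_of_iso eI.symm
      (Perfect.QCohD.isQCohD_of_isPerfect (Gen43.Affine.isPerfect_oneD' X))
  let ι := ObjectProperty.ι (DCoh.IsQCohD (X := Y))
  haveI : IsIso (Functor.whiskerLeft ι (ProjectionMap.projMap f g)) := by
    haveI : ∀ K, IsIso ((Functor.whiskerLeft ι (ProjectionMap.projMap f g)).app K) := fun K =>
      ProjectionQCoh.isIso_projMap_of_isQCohD hIq K.property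
    exact NatIso.isIso_of_isIso_app _
  obtain ⟨θ₃⟩ := RightAdjTensor.Finite.nonempty_tensorUnit I i
  exact ⟨Functor.isoWhiskerLeft ι θ.symm ≪≫
    asIso (Functor.whiskerLeft ι (ProjectionMap.projMap f g)) ≪≫
    Functor.isoWhiskerLeft ι (Functor.isoWhiskerLeft (DCoh.Lpull f)
      (Functor.isoWhiskerRight θ₃ (DCoh.Rpush f) ≪≫ Functor.leftUnitor _))⟩

/-- `L𝟙^*` is the identity. -/
theorem nonempty_lpullId (X : Scheme.{u}) [DCoh.HasLpull (𝟙 X)] :
    Nonempty (DCoh.Lpull (𝟙 X) ≅ 𝟭 (DCoh.D X)) := by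
  haveI : ∀ K, IsIso ((counitCx (𝟙 X)).app K) := fun K => BCFlat.isIso_counitCx (𝟙 X) K
  haveI : IsIso (counitCx (𝟙 X)) := NatIso.isIso_of_isIso_app _
  let e : pullC (𝟙 X) ≅ 𝟭 _ :=
    NatIso.ofComponents (fun F => HomologicalComplex.Hom.isoOfComponents
        (fun i => (Scheme.Modules.pullbackId X).app (F.X i))
        (fun i k _ => ((Scheme.Modules.pullbackId X).hom.naturality (F.d i k)).symm))
      fun φ => HomologicalComplex.hom_ext _ _ fun i =>
        (Scheme.Modules.pullbackId X).hom.naturality (φ.f i)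
  exact FMTools.nonempty_lift (asIso (counitCx (𝟙 X)) ≪≫ Functor.isoWhiskerRight e _ ≪≫
    Functor.leftUnitor _ ≪≫ (Functor.rightUnitor _).symm)

/-- `R𝟙_*` is the identity. -/
theorem nonempty_rpushId (X : Scheme.{u}) [DCoh.HasRpush (𝟙 X)] :
    Nonempty (DCoh.Rpush (𝟙 X) ≅ 𝟭 (DCoh.D X)) := by
  haveI := LeftExists.hasLpull (𝟙 X)
  obtain ⟨e⟩ := nonempty_lpullId X
  exact ⟨((PullPushAdj.derivedAdjunction (𝟙 X)).ofNatIsoLeft e).rightAdjointUniq Adjunction.id⟩

/-- The diagonal is the kernel of the identity. -/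
theorem nonempty_phi_diag {S : Scheme.{u}} (a : X ⟶ S) [IsSeparated a]
    (N : CochainComplex (pullback a a).Modules ℤ) [DCoh.HasLTensorCx N]
    [DCoh.HasLpull (pullback.fst a a)] [DCoh.HasRpush (pullback.snd a a)]
    (hN : DCoh.toD _ N ≅ FMK.diagO a) :
    Nonempty (ObjectProperty.ι (DCoh.IsQCohD (X := X)) ⋙ FMK.phi a a N ≅
      ObjectProperty.ι (DCoh.IsQCohD (X := X))) := by
  let Δ := pullback.diagonal a
  haveI := Exists.hasRpush Δ
  haveI := LeftExists.hasLpull Δ
  haveI := LeftExists.hasLpull (Δ ≫ pullback.fst a a)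
  haveI := Exists.hasRpush (Δ ≫ pullback.snd a a)
  haveI := LeftExists.hasLpull (𝟙 X)
  haveI := Exists.hasRpush (𝟙 X)
  obtain ⟨t⟩ := nonempty_tensor_push Δ N hN
  obtain ⟨l1⟩ := FMTools.nonempty_lpullCongr (pullback.diagonal_fst a)
  obtain ⟨r1⟩ := FMTools.nonempty_rpushCongr (pullback.diagonal_snd a)
  obtain ⟨l2⟩ := nonempty_lpullId X
  obtain ⟨r2⟩ := nonempty_rpushId X
  let W : (DCoh.IsQCohD (X := X)).FullSubcategory ⥤ (DCoh.IsQCohD (X := pullback a a)).FullSubcategory :=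
    ObjectProperty.lift _ (ObjectProperty.ι _ ⋙ DCoh.Lpull (pullback.fst a a))
      fun A => QCohLocal.isQCohD_Lpull _ A.property
  exact ⟨Functor.isoWhiskerLeft W (Functor.isoWhiskerRight t (DCoh.Rpush (pullback.snd a a))) ≪≫
    Functor.isoWhiskerLeft (ObjectProperty.ι _)
      (Functor.isoWhiskerLeft (DCoh.Lpull (pullback.fst a a))
          (Functor.isoWhiskerLeft (DCoh.Lpull Δ) (PullComp.rpushCompIso Δ _ ≪≫ r1 ≪≫ r2) ≪≫
            Functor.rightUnitor _) ≪≫
        PullComp.lpullCompIso Δ _ ≪≫ l1 ≪≫ l2) ≪≫ Functor.rightUnitor _⟩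

section Inverse

variable {S : Scheme.{u}} (a : X ⟶ S) (b : Y ⟶ S)

/-- Fourier–Mukai functors preserve `D_QCoh`. -/
theorem isQCohD_phi [QuasiCompact a] [QuasiSeparated a] (K : CochainComplex (pullback a b).Modules ℤ)
    [DCoh.HasLpull (pullback.fst a b)] [DCoh.HasLTensorCx K] [DCoh.HasRpush (pullback.snd a b)]
    (hK : DCoh.IsQCohD (DCoh.toD _ K)) (M : DCoh.D X) (hM : DCoh.IsQCohD M) :
    DCoh.IsQCohD ((FMK.phi a b K).obj M) :=
  RpushQCoh.isQCohD_Rpush (pullback.snd a b) _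
    (QCohLocal.isQCohD_LTensorCx K hK (QCohLocal.isQCohD_Lpull _ hM))

/-- Fourier–Mukai functors with perfect kernel preserve perfect objects. -/
theorem isPerfect_phi [IsProper a] [Flat a] [LocallyOfFinitePresentation a]
    (K : CochainComplex (pullback a b).Modules ℤ)
    [DCoh.HasLpull (pullback.fst a b)] [DCoh.HasLTensorCx K] [DCoh.HasRpush (pullback.snd a b)]
    (hK : DCoh.IsPerfect (DCoh.toD _ K)) (M : DCoh.D X) (hM : DCoh.IsPerfect M) :
    DCoh.IsPerfect ((FMK.phi a b K).obj M) :=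
  Groth.Agent.S1002.result (pullback.snd a b) _
    (Groth.Agent.S13558.isPerfect_tensor K hK (Groth.Agent.S0921.result _ _ hM))

/-- A kernel inverse on one side. -/
theorem nonempty_unit [Smooth a] [IsProper a] [Smooth b] [IsProper b]
    (K : CochainComplex (pullback a b).Modules ℤ) (K' : CochainComplex (pullback b a).Modules ℤ)
    (hK : DCoh.IsQCohD (DCoh.toD _ K)) (hK' : DCoh.IsQCohD (DCoh.toD _ K'))
    [DCoh.HasLpull (pullback.fst a b)] [DCoh.HasLTensorCx K] [DCoh.HasRpush (pullback.snd a b)]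
    [DCoh.HasLpull (pullback.fst b a)] [DCoh.HasLTensorCx K'] [DCoh.HasRpush (pullback.snd b a)]
    [DCoh.HasLpull (FMK.p12 a b a)] [DCoh.HasRpush (FMK.p13 a b a)]
    [DCoh.HasLTensorCx ((FMK.cxPull (FMK.p23 a b a)).obj K')]
    (h : FMK.diagO a ≅ FMK.conv a b a K ((FMK.cxPull (FMK.p23 a b a)).obj K')) :
    Nonempty (ObjectProperty.ι (DCoh.IsQCohD (X := X)) ⋙ FMK.phi a b K ⋙ FMK.phi b a K' ≅
      ObjectProperty.ι (DCoh.IsQCohD (X := X))) := by
  let N := (HomologicalComplex.single (pullback a a).Modules (ComplexShape.up ℤ) 0).obj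
    ((Coh.push (pullback.diagonal a)).obj (Coh.structureModule X))
  haveI := LeftExists.hasLTensorCx N
  haveI := LeftExists.hasLpull (pullback.fst a a)
  haveI := Exists.hasRpush (pullback.snd a a)
  haveI : Flat (FMK.p23 a b a) :=
    MorphismProperty.pullback_snd _ _ (MorphismProperty.pullback_snd a b (inferInstance : Flat a))
  haveI := LeftExists.hasLpull (FMK.p23 a b a)
  haveI := BCFlat.isIso_counitCx (FMK.p23 a b a) K'
  let eN : DCoh.toD _ N ≅ FMK.diagO a :=
    ((DerivedCategory.singleFunctorIsoCompQ (pullback a a).Modules 0).app _).symm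
  obtain ⟨e⟩ := Groth.Agent.S13551.result a b a (Or.inl inferInstance) K K' hK hK'
    ((FMK.cxPull (FMK.p23 a b a)).obj K') ⟨(asIso ((counitCx (FMK.p23 a b a)).app K')).symm⟩
    N ⟨eN ≪≫ h⟩
  obtain ⟨d⟩ := nonempty_phi_diag a N eN
  exact ⟨e.symm ≪≫ d⟩

end Inverse

end Groth.Agent.Lib.DerivedOX.FMDiag
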