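import Groth.Agent.Lib.DerivedOX.DualPerfect
import Groth.Agent.Lib.TensorMod.FPConv

/-!
# Dévissage for properties of perfect complexes

A property of complexes over the opens of `X` which is invariant under quasi-isomorphisms over the
open, satisfies two out of three on degreewise split sequences and holds for `O`, holds for every
perfect complex near each point.  All hypotheses are asked only for complexes with K-flat stalks.
-/

universe u

open CategoryTheory Limits AlgebraicGeometry HomologicalComplex
open ZeroObject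

attribute [local instance] HasDerivedCategory.standard

set_option linter.style.haveILetI false

namespace Groth.Agent.Lib.DerivedOX.DualDevissage

open Groth.Agent.Lib.Modules StalkModule DualQis DualFree DualPerfect TrivCof LeftRes
open Groth.Agent.Lib.Perfect Groth.Agent.Lib.Perfect.Basic

variable {X U : Scheme.{u}}

/-- K-flat stalks at the points of `V`. -/
def Adm (V : X.Opens) (P : CochainComplex X.Modules ℤ) : Prop :=
  ∀ x ∈ V, DRing.IsKFlat (X.presheaf.stalk x) ((St x).obj P)

theorem adm_of_isKFlat (V : X.Opens) {P : CochainComplex X.Modules ℤ} (hP : DCoh.IsKFlat P) :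
    Adm V P := fun x _ => isKFlat_stalk hP x

theorem adm_of_bounded (V : X.Opens) {P : CochainComplex X.Modules ℤ} (b : ℤ)
    (hb : ∀ i, b < i → IsZero (P.X i))
    (hP : ∀ x ∈ V, ∀ i, Module.Flat (X.presheaf.stalk x) ((stalkModFunctor X x).obj (P.X i))) :
    Adm V P := fun x hx =>
  DR.KFlat.isKFlat_of_flat _ b (fun i hi => (stalkModFunctor X x).map_isZero (hb i hi)) (hP x hx)

/-- The hypotheses of the dévissage. -/
structure IsDevissable (G : X.Opens → CochainComplex X.Modules ℤ → Prop) : Prop where
  inv : ∀ (V : X.Opens) {P' P : CochainComplex X.Modules ℤ} (a : P' ⟶ P), QisAt V a → Adm V P' →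
    Adm V P → (G V P ↔ G V P')
  two : ∀ (V : X.Opens) (S : ShortComplex (CochainComplex X.Modules ℤ)),
    (∀ n, Nonempty (S.map (HomologicalComplex.eval X.Modules (ComplexShape.up ℤ) n)).Splitting) →
    Adm V S.X₁ → Adm V S.X₂ → Adm V S.X₃ →
    (G V S.X₁ → G V S.X₂ → G V S.X₃) ∧ (G V S.X₁ → G V S.X₃ → G V S.X₂) ∧
      (G V S.X₂ → G V S.X₃ → G V S.X₁)
  zero : ∀ (V : X.Opens) (P : CochainComplex X.Modules ℤ), IsZero P → G V P
  one : ∀ V : X.Opens, G V (one X)

/-- A module has flat stalks in `V`. -/
def FlatIn (V : X.Opens) (M : X.Modules) : Prop :=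
  ∀ x ∈ V, Module.Flat (X.presheaf.stalk x) ((stalkModFunctor X x).obj M)

lemma flatIn_of_isZero (V : X.Opens) {M : X.Modules} (hM : IsZero M) : FlatIn V M := fun x _ =>
  haveI := ModuleCat.subsingleton_of_isZero ((stalkModFunctor X x).map_isZero hM)
  inferInstance

lemma flatIn_of_iso {V : X.Opens} {M N : X.Modules} (e : M ≅ N) (hN : FlatIn V N) : FlatIn V M :=
  fun x hx =>
    haveI := hN x hx
    Module.Flat.of_linearEquiv ((stalkModFunctor X x).mapIso e).toLinearEquiv

lemma adm_single {V : X.Opens} {M : X.Modules} (hM : FlatIn V M) (n : ℤ) :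
    Adm V ((single X.Modules (ComplexShape.up ℤ) n).obj M) :=
  adm_of_bounded V n (fun i hi => isZero_single_obj_X (ComplexShape.up ℤ) n M i (by omega))
    fun x hx i => by
      by_cases hi : i = n
      · subst hi
        exact flatIn_of_iso (singleObjXSelf (ComplexShape.up ℤ) i M) hM x hx
      · exact flatIn_of_isZero V (isZero_single_obj_X (ComplexShape.up ℤ) n M i hi) x hx

variable {G : X.Opens → CochainComplex X.Modules ℤ → Prop} (hG : IsDevissable G) {V : X.Opens}
include hG

theorem of_iso {P P' : CochainComplex X.Modules ℤ} (e : P' ≅ P) (ha : Adm V P') (hb : Adm V P)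
    (h : G V P) : G V P' :=
  (hG.inv V e.hom (QisAt.of_quasiIso _) ha hb).1 h

theorem single_iff_succ {A : X.Modules} (hA : FlatIn V A) (n : ℤ) :
    G V ((single X.Modules (ComplexShape.up ℤ) n).obj A) ↔
      G V ((single X.Modules (ComplexShape.up ℤ) (n + 1)).obj A) := by
  let S := ShortComplex.mk (singleToDisk A n) (diskToSingle A n) (by
    apply from_single_hom_ext
    exact (isZero_single_obj_X (ComplexShape.up ℤ) n A (n + 1) (by omega)).eq_of_tgt _ _)
  have σ : ∀ k, Nonempty (S.map (HomologicalComplex.eval X.Modules (ComplexShape.up ℤ) k)).Splitting :=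
    fun k => ⟨by
      by_cases h₁ : k = n + 1
      · subst h₁
        haveI : IsIso (S.map (HomologicalComplex.eval X.Modules (ComplexShape.up ℤ) (n + 1))).f := by
          change IsIso ((singleToDisk A n).f (n + 1))
          simp [singleToDisk]
          infer_instance
        exact splitting₁ _ (isZero_single_obj_X (ComplexShape.up ℤ) n A (n + 1) (by omega))
      · haveI : IsIso (S.map (HomologicalComplex.eval X.Modules (ComplexShape.up ℤ) k)).g := by
          change IsIso ((diskToSingle A n).f k)
          by_cases h₀ : k = n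
          · subst h₀
            simp [diskToSingle]
            infer_instance
          · exact OpenSupport.isIso_of_zero _ (disk_isZero A n k h₀ h₁)
              (isZero_single_obj_X (ComplexShape.up ℤ) n A k h₀)
        exact splitting₃ _ (isZero_single_obj_X (ComplexShape.up ℤ) (n + 1) A k h₁)⟩
  have hD : Adm V (disk A n) := adm_of_bounded V (n + 1)
    (fun i hi => disk_isZero A n i (by omega) (by omega)) fun x hx i => by
      by_cases h₀ : i = n
      · subst h₀
        exact flatIn_of_iso (diskIso₀ A i) hA x hx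
      · by_cases h₁ : i = n + 1
        · subst h₁
          exact flatIn_of_iso (diskIso₁ A n) hA x hx
        · exact flatIn_of_isZero V (disk_isZero A n i h₀ h₁) x hx
  haveI : QuasiIso (0 : (0 : CochainComplex X.Modules ℤ) ⟶ disk A n) := KFlat.quasiIso_of_acyclic _
    (fun m => ShortComplex.exact_of_isZero_X₂ _
      (Functor.map_isZero (HomologicalComplex.eval _ _ _) (isZero_zero _))) (disk_acyclic A n)
  have h0 : Adm V (0 : CochainComplex X.Modules ℤ) := adm_of_bounded V 0
    (fun i _ => Functor.map_isZero (HomologicalComplex.eval _ _ i) (isZero_zero _))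
    fun x hx i => flatIn_of_isZero V (Functor.map_isZero (HomologicalComplex.eval _ _ i) (isZero_zero _)) x hx
  have hGD : G V (disk A n) :=
    (hG.inv V _ (QisAt.of_quasiIso (0 : (0 : CochainComplex X.Modules ℤ) ⟶ disk A n)) h0 hD).2
      (hG.zero V _ (isZero_zero _))
  obtain ⟨t₃, -, t₁⟩ := hG.two V S σ (adm_single hA (n + 1)) hD (adm_single hA n)
  exact ⟨fun h => t₁ hGD h, fun h => t₃ h hGD⟩

theorem single_iff {A : X.Modules} (hA : FlatIn V A) (n : ℤ) :
    G V ((single X.Modules (ComplexShape.up ℤ) n).obj A) ↔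
      G V ((single X.Modules (ComplexShape.up ℤ) 0).obj A) := by
  induction n using Int.induction_on with
  | zero => rfl
  | succ k ih => exact (single_iff_succ hG hA k).symm.trans ih
  | pred k ih =>
    refine Iff.trans ?_ ih
    have h := single_iff_succ hG hA (-(k : ℤ) - 1)
    rwa [sub_add_cancel] at h

theorem free (k : ℕ) (n : ℤ) :
    G V ((single X.Modules (ComplexShape.up ℤ) n).obj (FlatMod.freeMod X k)) := by
  have hflat : ∀ j, FlatIn V (FlatMod.freeMod X j) := fun j x _ =>
    TensorMod.FPConv.isFlat_of_isFinLocFree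
      (TensorMod.LocFree.of_rank (TensorMod.LocFree.isFinLocFree_freeMod X j)) x
  have hO : FlatIn V (Coh.structureModule X) := fun x _ =>
    TensorMod.FPConv.isFlat_of_isFinLocFree (TensorMod.LocFree.of_rank
      (TensorMod.LocFree.of_isInvertible (PicLoc.isInvertible_structureModule X))) x
  induction k with
  | zero =>
    exact hG.zero V _ (Functor.map_isZero _ ((IsZero.iff_id_eq_zero _).2
      (Sigma.hom_ext _ _ fun a => a.elim0)))
  | succ k ih =>
    let F := single X.Modules (ComplexShape.up ℤ) n
    let S := (coprodSC (Coh.structureModule X) k).map F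
    exact (hG.two V S (fun m => ⟨((coprodSplitting (Coh.structureModule X) k).map F).map
      (HomologicalComplex.eval X.Modules (ComplexShape.up ℤ) m)⟩)
      (adm_single (hflat k) n) (adm_single (hflat (k + 1)) n) (adm_single hO n)).2.1 ih
      ((single_iff hG hO n).2 (hG.one V))

theorem of_terms (F : CochainComplex X.Modules ℤ) (hF : ∀ i, FlatIn V (F.X i))
    (hg : ∀ i, G V ((single X.Modules (ComplexShape.up ℤ) i).obj (F.X i))) (b : ℤ) (m : ℕ)
    (hz : ∀ i, i < b - m ∨ b ≤ i → IsZero (F.X i)) : G V F := by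
  induction m generalizing F with
  | zero =>
    exact hG.zero V _ ((IsZero.iff_id_eq_zero F).2 (HomologicalComplex.hom_ext _ _ fun i =>
      (hz i (by omega)).eq_of_src _ _))
  | succ m ih =>
    let a := b - (m + 1 : ℕ)
    let T := Stupid.trunc F (a + 1)
    let π : F ⟶ (single X.Modules (ComplexShape.up ℤ) a).obj (F.X a) :=
      mkHomToSingle (𝟙 _) (fun i (hi : i + 1 = a) => (hz i (by omega)).eq_of_src _ _)
    let S := ShortComplex.mk (Stupid.ι F (a + 1)) π (by
      apply HomologicalComplex.to_single_hom_ext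
      exact (Stupid.isZero_trunc F (a + 1) a (by omega)).eq_of_src _ _)
    have σ : ∀ k, Nonempty (S.map (HomologicalComplex.eval X.Modules (ComplexShape.up ℤ) k)).Splitting :=
      fun k => ⟨by
        by_cases hk : a + 1 ≤ k
        · haveI : IsIso (S.map (HomologicalComplex.eval X.Modules (ComplexShape.up ℤ) k)).f :=
            Stupid.isIso_ι F (a + 1) k hk
          exact splitting₁ _ (isZero_single_obj_X (ComplexShape.up ℤ) a (F.X a) k (by omega))
        · haveI : IsIso (S.map (HomologicalComplex.eval X.Modules (ComplexShape.up ℤ) k)).g := by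
            change IsIso (π.f k)
            by_cases h₀ : k = a
            · subst h₀
              simp [π]
              infer_instance
            · exact OpenSupport.isIso_of_zero _ (hz k (by omega))
                (isZero_single_obj_X (ComplexShape.up ℤ) a (F.X a) k h₀)
          exact splitting₃ _ (Stupid.isZero_trunc F (a + 1) k (by omega))⟩
    have hT : ∀ i, FlatIn V (T.X i) := fun i => by
      by_cases hi : a + 1 ≤ i
      · haveI := Stupid.isIso_ι F (a + 1) i hi
        exact flatIn_of_iso (asIso ((Stupid.ι F (a + 1)).f i)) (hF i)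
      · exact flatIn_of_isZero V (Stupid.isZero_trunc F (a + 1) i (by omega))
    have hTz : ∀ i, i < b - m ∨ b ≤ i → IsZero (T.X i) := fun i hi => by
      by_cases hi' : a + 1 ≤ i
      · haveI := Stupid.isIso_ι F (a + 1) i hi'
        exact (hz i (by omega)).of_iso (asIso ((Stupid.ι F (a + 1)).f i))
      · exact Stupid.isZero_trunc F (a + 1) i (by omega)
    refine (hG.two V S σ (adm_of_bounded V b (fun i hi => hTz i (Or.inr hi.le)) fun x hx i => hT i x hx)
      (adm_of_bounded V b (fun i hi => hz i (Or.inr hi.le)) fun x hx i => hF i x hx)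
      (adm_single (hF a) a)).2.1 (ih T hT (fun i => ?_) hTz) (hg a)
    by_cases hi : a + 1 ≤ i
    · haveI := Stupid.isIso_ι F (a + 1) i hi
      exact of_iso hG ((single X.Modules (ComplexShape.up ℤ) i).mapIso (asIso ((Stupid.ι F (a + 1)).f i)))
        (adm_single (hT i) i) (adm_single (hF i) i) (hg i)
    · exact hG.zero V _ (Functor.map_isZero _ (Stupid.isZero_trunc F (a + 1) i (by omega)))

omit hG

/-- Stalk flatness of free modules on an open, extended by zero. -/
theorem flatIn_extZero_free (j : U ⟶ X) [IsOpenImmersion j] (k : ℕ) :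
    FlatIn j.opensRange ((CxOX.extZero j).obj (FlatMod.freeMod U k)) := by
  intro x hx
  obtain ⟨y, rfl⟩ := hx
  let M := FlatMod.freeMod X k
  let κ : (CxOX.extZero j).obj (M.restrict j) ⟶ M := (CxOX.extZeroAdj j).counit.app M
  have hκ : IsIso ((Scheme.Modules.restrictFunctor j).map κ) := by
    haveI := isIso_unit_extZeroAdj j (M.restrict j)
    exact IsIso.of_isIso_fac_left ((CxOX.extZeroAdj j).right_triangle_components M)
  let σ : X.presheaf.stalk (j y) ≃+* U.presheaf.stalk y :=
    (asIso (j.stalkMap y)).commRingCatIsoToRingEquiv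
  let θ := Spread.stalkRestrictIso j y
  haveI hS : IsIso ((ModuleCat.restrictScalars.{u} σ.symm.toRingHom).map
      ((stalkModFunctor X (j y)).map κ)) :=
    ((MorphismProperty.isomorphisms _).arrow_mk_iso_iff
      (Arrow.isoMk (θ.app _) (θ.app M) (θ.hom.naturality κ).symm)).2
      (Functor.map_isIso (stalkModFunctor U y) ((Scheme.Modules.restrictFunctor j).map κ))
  haveI : IsIso ((stalkModFunctor X (j y)).map κ) :=
    isIso_of_reflects_iso _ (ModuleCat.restrictScalars.{u} σ.symm.toRingHom)
  haveI : Module.Flat (X.presheaf.stalk (j y)) ((stalkModFunctor X (j y)).obj M) :=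
    TensorMod.FPConv.isFlat_of_isFinLocFree
      (TensorMod.LocFree.of_rank (TensorMod.LocFree.isFinLocFree_freeMod X k)) (j y)
  exact Module.Flat.of_linearEquiv
    ((stalkModFunctor X (j y)).mapIso ((CxOX.extZero j).mapIso (Free.restrictFreeIso j k).symm) ≪≫
      asIso ((stalkModFunctor X (j y)).map κ)).toLinearEquiv

include hG in
theorem extZero_free (j : U ⟶ X) [IsOpenImmersion j] (k : ℕ) (n : ℤ) :
    G j.opensRange ((single X.Modules (ComplexShape.up ℤ) n).obj
      ((CxOX.extZero j).obj (FlatMod.freeMod U k))) := by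
  let M := FlatMod.freeMod X k
  let κ : (CxOX.extZero j).obj (M.restrict j) ⟶ M := (CxOX.extZeroAdj j).counit.app M
  have hκ : IsIso ((Scheme.Modules.restrictFunctor j).map κ) := by
    haveI := isIso_unit_extZeroAdj j (M.restrict j)
    exact IsIso.of_isIso_fac_left ((CxOX.extZeroAdj j).right_triangle_components M)
  let F := single X.Modules (ComplexShape.up ℤ) n
  have hq : QuasiIso ((rC j).map (F.map κ)) := by
    haveI : ∀ i, IsIso (((rC j).map (F.map κ)).f i) := fun i => by
      change IsIso ((Scheme.Modules.restrictFunctor j).map ((F.map κ).f i))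
      by_cases hi : i = n
      · subst hi
        simp [F, single_map_f_self]
        infer_instance
      · exact OpenSupport.isIso_of_zero _
          ((Scheme.Modules.restrictFunctor j).map_isZero (isZero_single_obj_X (ComplexShape.up ℤ) n _ i hi))
          ((Scheme.Modules.restrictFunctor j).map_isZero (isZero_single_obj_X (ComplexShape.up ℤ) n _ i hi))
    haveI := HomologicalComplex.Hom.isIso_of_components ((rC j).map (F.map κ))
    infer_instance
  let e := (CxOX.extZero j).mapIso (Free.restrictFreeIso j k)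
  have hM : FlatIn j.opensRange M := fun x _ =>
    TensorMod.FPConv.isFlat_of_isFinLocFree
      (TensorMod.LocFree.of_rank (TensorMod.LocFree.isFinLocFree_freeMod X k)) x
  have hfl := flatIn_extZero_free j k
  have hfl' := flatIn_of_iso e hfl
  exact of_iso hG (F.mapIso e.symm) (adm_single hfl n) (adm_single hfl' n)
    ((hG.inv _ (F.map κ) (qisAt_of_restrict j _ hq) (adm_single hfl' n) (adm_single hM n)).1
      (free hG k n))

include hG in
/-- The property holds for every perfect complex with K-flat stalks near every point. -/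
theorem exists_near {P : CochainComplex X.Modules ℤ} (hA : ∀ V : X.Opens, Adm V P) {x : X}
    (hP : Triangle.PerfAt (DerivedCategory.Q.obj P) x) : ∃ V : X.Opens, x ∈ V ∧ G V P := by
  obtain ⟨U, j, _, y, E, hy, hE, ⟨i⟩⟩ := hP
  obtain ⟨V, n, hyV, -, hn⟩ := EulerChar.exists_free_terms hE y
  let j₁ := V.ι ≫ j
  let E₁ := (rC V.ι).obj E
  let i₁ : DerivedCategory.Q.obj E₁ ≅ DerivedCategory.Q.obj ((rC j₁).obj P) :=
    ((RDQ j₁ P).symm ≪≫ Triangle.RDComp V.ι j _ ≪≫ (RD V.ι).mapIso i ≪≫ RDQ V.ι E).symm
  obtain ⟨U₂, k, _, z, φ, hz, hφ⟩ := Lift.exists_map (isStrictlyPerfect_map V.ι hE) i₁.hom ⟨y, hyV⟩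
  haveI : IsIso (DerivedCategory.Q.map φ) := by
    have : DerivedCategory.Q.map φ =
        (RDQ k E₁).inv ≫ (RD k).map i₁.hom ≫ (RDQ k ((rC j₁).obj P)).hom := by
      rw [hφ]; simp [E₁]
    rw [this]; infer_instance
  haveI : QuasiIso φ := (DerivedCategory.isIso_Q_map_iff_quasiIso _ φ).1 inferInstance
  let j₂ := k ≫ j₁
  let E₂ := (rC k).obj E₁
  let φ' : E₂ ⟶ (rC j₂).obj P := φ ≫ (rCComp k j₁).inv.app P
  let ad := DerCat.DerAdj.adjC (CxOX.extZeroAdj j₂) (ComplexShape.up ℤ)
  let a := (ad.homEquiv E₂ P).symm φ'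
  have hfree : ∀ m, Nonempty (E₂.X m ≅ FlatMod.freeMod U₂ (n m)) := fun m =>
    ⟨(Scheme.Modules.restrictFunctor k).mapIso (hn m).some ≪≫ Free.restrictFreeIso k (n m)⟩
  obtain ⟨⟨p, q, hpq⟩, -⟩ := isStrictlyPerfect_map k (isStrictlyPerfect_map V.ι hE)
  let F := ((CxOX.extZero j₂).mapHomologicalComplex (ComplexShape.up ℤ)).obj E₂
  have hF : ∀ m, FlatIn j₂.opensRange (F.X m) := fun m =>
    flatIn_of_iso ((CxOX.extZero j₂).mapIso (hfree m).some) (flatIn_extZero_free j₂ (n m))
  have hFG : G j₂.opensRange F := by
    refine of_terms hG _ hF (fun m => ?_) (q + 1) ((q + 1 - p).toNat) fun m hm =>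
      (CxOX.extZero j₂).map_isZero (hpq m (by omega))
    exact of_iso hG ((single X.Modules (ComplexShape.up ℤ) m).mapIso
      ((CxOX.extZero j₂).mapIso (hfree m).some)) (adm_single (hF m) m)
      (adm_single (flatIn_extZero_free j₂ (n m)) m) (extZero_free hG j₂ (n m) m)
  have ha : QuasiIso ((rC j₂).map a) := by
    have e : ad.unit.app E₂ ≫ (rC j₂).map a = φ' :=
      (ad.homEquiv_unit _ _ _).symm.trans ((ad.homEquiv E₂ P).apply_symm_apply φ')
    haveI : IsIso (ad.unit.app E₂) := by
      haveI : ∀ m, IsIso ((ad.unit.app E₂).f m) := fun m => isIso_unit_extZeroAdj j₂ (E₂.X m)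
      exact HomologicalComplex.Hom.isIso_of_components _
    haveI : QuasiIso φ' := inferInstance
    haveI : QuasiIso (ad.unit.app E₂ ≫ (rC j₂).map a) := by rw [e]; infer_instance
    exact quasiIso_of_comp_left (ad.unit.app E₂) _
  refine ⟨j₂.opensRange, ⟨z, ?_⟩, (hG.inv _ a (qisAt_of_restrict j₂ _ ha)
    (adm_of_bounded _ q (fun m hm => (CxOX.extZero j₂).map_isZero (hpq m (Or.inr hm))) fun x hx m =>
      hF m x hx) (hA _)).2 hFG⟩
  simp [j₂, j₁, hz, hy]

end Groth.Agent.Lib.DerivedOX.DualDevissage
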