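import Groth.Agent.Lib.DerivedOX.DualBidual
import Groth.Agent.Lib.DerivedOX.DualDevissage
import Groth.Agent.Lib.DerivedOX.DualMain

/-!
# Biduality for perfect objects
-/

universe u

open CategoryTheory Limits AlgebraicGeometry HomologicalComplex

attribute [local instance] HasDerivedCategory.standard

set_option linter.style.haveILetI false

namespace Groth.Agent.Lib.DerivedOX.DualBidualPerfect

open Groth.Agent.Lib.Modules DualHom DualQis DualExact DualFree DualBidual DualDevissage
open Groth.Agent.Lib.Perfect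

variable {X : Scheme.{u}} {J : CochainComplex X.Modules ℤ} [J.IsKInjective] (hJ : InjTerms J)
  (i : one X ⟶ J) [QuasiIso i]

/-- A map into `Hom(O, J)` is a quasi-isomorphism when its adjoint is one. -/
theorem quasiIso_of_adjoint {T J : CochainComplex X.Modules ℤ} (φ : T ⟶ (Hc (one X)).obj J)
    (h : QuasiIso (((adj (one X)).homEquiv T J).symm φ)) : QuasiIso φ := by
  haveI : IsIso (ev (one X) J) := isIso_ev_one J
  rw [Adjunction.homEquiv_counit] at h
  haveI := h
  haveI : QuasiIso ((Tc (one X)).map φ) := quasiIso_of_comp_right _ (ev (one X) J)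
  exact ((MorphismProperty.arrow_mk_iso_iff (HomologicalComplex.quasiIso _ _)
    (Arrow.isoMk (unitIso.app T) (unitIso.app _) (unitIso.hom.naturality φ).symm))).2 ‹_›

include hJ i in
theorem quasiIso_bd_one : QuasiIso (bd J (one X)) := by
  let ρ : (Tc (one X)).obj (one X) ≅ one X := (unitIso.app (one X)).symm
  haveI : QuasiIso (ρ.hom ≫ i) := inferInstance
  let m : one X ⟶ (Hc (one X)).obj J := (adj (one X)).homEquiv _ _ (ρ.hom ≫ i)
  haveI : QuasiIso m := quasiIso_of_adjoint m (by rw [Equiv.symm_apply_apply]; infer_instance)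
  haveI : QuasiIso ((pre m).app J) :=
    (Qis.quasiIso_iff_forall_stalk _).2 fun x =>
      qisAt_pre (V := ⊤) hJ m (QisAt.of_quasiIso m) x trivial
  haveI : QuasiIso (bd J (one X) ≫ (pre m).app J) := by
    refine quasiIso_of_adjoint _ ?_
    rw [homEquiv_symm_comp_pre]
    change QuasiIso ((DCoh.tensorCx.obj (one X)).map m ≫
      ((adj ((Hc (one X)).obj J)).homEquiv _ J).symm
        ((adj ((Hc (one X)).obj J)).homEquiv (one X) J
          (commT (one X) ((Hc (one X)).obj J) ≫ (adj (one X)).counit.app J)))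
    rw [Equiv.symm_apply_apply, reassoc_of% (commT_right (one X) m)]
    haveI : IsIso (commT (one X) (one X)) := inferInstanceAs (IsIso (commCx (one X) (one X)).hom)
    haveI : QuasiIso ((DCoh.tensorCx.map m).app (one X) ≫ (adj (one X)).counit.app J) := by
      have e : ((adj (one X)).homEquiv _ J).symm m = ρ.hom ≫ i := Equiv.symm_apply_apply _ _
      rw [Adjunction.homEquiv_counit] at e
      exact e ▸ (inferInstance : QuasiIso (ρ.hom ≫ i))
    infer_instance
  exact quasiIso_of_comp_right _ ((pre m).app J)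

include hJ i in
theorem isDevissable : IsDevissable (X := X) (BD J) where
  inv V _ _ a ha _ _ := bd_iff_of_qisAt hJ a ha
  two V S σ _ _ _ := bd_two_of_three hJ
    (HomologicalComplex.shortExact_of_degreewise_shortExact S fun n => (σ n).some.shortExact)
  zero V P hP := by
    have hz : ∀ Q, IsZero Q → ∀ J', IsZero ((Hc Q).obj J') := fun Q hQ J' => by
      haveI : PreservesBinaryBiproducts ((DCoh.tensorCx (X := X)).obj ((Hc Q).obj J')) :=
        preservesBinaryBiproducts_of_preservesBinaryCoproducts _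
      haveI : ((DCoh.tensorCx (X := X)).obj ((Hc Q).obj J')).Additive :=
        Functor.additive_of_preservesBinaryBiproducts _
      rw [IsZero.iff_id_eq_zero]
      exact ((adj Q).homEquiv _ J').symm.injective
        ((((DCoh.tensorCx (X := X)).obj ((Hc Q).obj J')).map_isZero hQ).eq_of_src _ _)
    haveI := OpenSupport.isIso_of_zero (bd J P) hP (hz _ (hz _ hP J) J)
    exact QisAt.of_quasiIso _
  one V := haveI := quasiIso_bd_one hJ i; QisAt.of_quasiIso _

include hJ i in
/-- **Biduality**: `P ⟶ Hom(Hom(P, J), J)` is a quasi-isomorphism for perfect K-flat `P`. -/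
theorem quasiIso_bd {P : CochainComplex X.Modules ℤ} (hK : DCoh.IsKFlat P)
    (hP : DCoh.IsPerfect (DerivedCategory.Q.obj P)) : QuasiIso (bd J P) := by
  refine (Qis.quasiIso_iff_forall_stalk _).2 fun x => ?_
  obtain ⟨V, hx, hV⟩ := exists_near (isDevissable hJ i) (fun V => adm_of_isKFlat V hK)
    ((Triangle.isPerfect_iff _).1 hP x)
  exact hV x hx

omit hJ i

/-- The dual of the dual of a perfect object is the object itself. -/
theorem nonempty_dual_dual {K D : CochainComplex X.Modules ℤ} (hD : DCoh.IsKFlat D)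
    (hK : DCoh.IsPerfect (DerivedCategory.Q.obj K)) [DCoh.HasLTensorCx K] [DCoh.HasRSheafHom K]
    [DCoh.HasLTensorCx D] [DCoh.HasRSheafHom D]
    (e : DerivedCategory.Q.obj D ≅ (DCoh.RSheafHom K).obj (DCoh.inD X (Coh.structureModule X))) :
    Nonempty ((DCoh.RSheafHom D).obj (DCoh.inD X (Coh.structureModule X)) ≅
      DerivedCategory.Q.obj K) := by
  let P := (KFlat.res X).obj K
  let r : P ⟶ K := (KFlat.aug X).app K
  haveI : QuasiIso r := KFlat.quasiIso_aug K
  have hP : DCoh.IsKFlat P := KFlat.isKFlat_res K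
  obtain ⟨J₀, i₀, h₀, q₀, -, n₀⟩ := DerCat.KInjExists.exists_kInjective_resolution (one X)
  haveI := h₀
  haveI := q₀
  let eJ : DerivedCategory.Q.obj J₀ ≅ DCoh.inD X (Coh.structureModule X) :=
    (asIso (DerivedCategory.Q.map i₀)).symm ≪≫
      ((DerivedCategory.singleFunctorIsoCompQ X.Modules 0).app _).symm
  obtain ⟨eK⟩ := DualCompare.nonempty_RSheafHom_iso (K := K) hP r n₀
  obtain ⟨eD⟩ := DualCompare.nonempty_RSheafHom_iso (K := D) hD (𝟙 D) n₀
  let e' : DerivedCategory.Q.obj D ≅ DerivedCategory.Q.obj ((Hc P).obj J₀) :=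
    e ≪≫ ((DCoh.RSheafHom K).mapIso eJ).symm ≪≫ eK.symm
  obtain ⟨B, s, hs, g, hg⟩ := DerivedCategory.right_fac e'.hom
  haveI : QuasiIso s := (DerivedCategory.isIso_Q_map_iff_quasiIso _ _).1 hs
  haveI : IsIso (inv (DerivedCategory.Q.map s) ≫ DerivedCategory.Q.map g) := hg ▸ inferInstance
  haveI : IsIso (DerivedCategory.Q.map g) :=
    IsIso.of_isIso_comp_left (inv (DerivedCategory.Q.map s)) _
  haveI : QuasiIso g := (DerivedCategory.isIso_Q_map_iff_quasiIso _ _).1 inferInstance
  have hpre : ∀ {A B : CochainComplex X.Modules ℤ} (a : A ⟶ B) [QuasiIso a],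
      QuasiIso ((pre a).app J₀) := fun a _ => (Qis.quasiIso_iff_forall_stalk _).2 fun x =>
    qisAt_pre (V := ⊤) n₀ a (QisAt.of_quasiIso a) x trivial
  haveI := hpre s
  haveI := hpre g
  haveI := quasiIso_bd n₀ i₀ hP (Triangle.isPerfect_of_iso (asIso (DerivedCategory.Q.map r)).symm hK)
  exact ⟨((DCoh.RSheafHom D).mapIso eJ).symm ≪≫ eD.symm ≪≫
    asIso (DerivedCategory.Q.map ((pre s).app J₀)) ≪≫
    (asIso (DerivedCategory.Q.map ((pre g).app J₀))).symm ≪≫
    (asIso (DerivedCategory.Q.map (bd J₀ P))).symm ≪≫ asIso (DerivedCategory.Q.map r)⟩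

end Groth.Agent.Lib.DerivedOX.DualBidualPerfect
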