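import Groth.Agent.Lib.DerivedOX.FMTools
import Groth.Agent.Lib.DerivedOX.TensorSymm
import Groth.Agent.Lib.DerivedOX.RpushQCoh
import Groth.Agent.Lib.DR.KFlat

/-!
# Ingredients of the Künneth formula

* `quasiIso_tensor_pullC`: tensoring with a complex flat over the base preserves pulled back
  quasi-isomorphisms;
* `isIso_ψ_of_flat`: base change for bounded above complexes of modules flat over the base;
* `nonempty_symm`: symmetry of the derived tensor product.
-/

set_option autoImplicit false
set_option linter.style.haveILetI false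
set_option linter.unusedSectionVars false
set_option maxHeartbeats 1000000

universe u

open CategoryTheory Limits AlgebraicGeometry HomologicalComplex MonoidalCategory

attribute [local instance] HasDerivedCategory.standard
attribute [local instance] Groth.Agent.Lib.DerivedOX.LeftExists.hasLpull
  Groth.Agent.Lib.DerivedOX.Exists.hasRpush

namespace Groth.Agent.Lib.DerivedOX.Kunneth

open PullTranspose Groth.Agent.Lib.Modules StalkModule StalkCx BifunctorMap

variable {X Y : Scheme.{u}}

/-- The stalk of a complex, over the local ring of the base. -/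
noncomputable abbrev stalkOver (q : X ⟶ Y) (A : CochainComplex X.Modules ℤ) (x : X) :
    CochainComplex (ModuleCat.{u} (Y.presheaf.stalk (q.base x))) ℤ :=
  ((KFlatBaseChange.resF (q.stalkMap x).hom).mapHomologicalComplex (.up ℤ)).obj
    (((stalkModFunctor X x).mapHomologicalComplex (.up ℤ)).obj A)

theorem acyclic_tensor_pullC (q : X ⟶ Y) {A : CochainComplex X.Modules ℤ}
    (hA : ∀ x, DRing.IsKFlat (Y.presheaf.stalk (q.base x)) (stalkOver q A x))
    {L : CochainComplex Y.Modules ℤ} (hL : L.Acyclic) :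
    ((DCoh.tensorCx.obj A).obj ((pullC q).obj L)).Acyclic := by
  refine (acyclic_iff_stalk _).2 fun x => acyclic_of_iso (tensorIso x A ((pullC q).obj L)) ?_
  let Ax := ((stalkModFunctor X x).mapHomologicalComplex (.up ℤ)).obj A
  let Lx := ((stalkModFunctor Y (q.base x)).mapHomologicalComplex (.up ℤ)).obj L
  refine acyclic_of_iso ((((curriedTensor (ModuleCat.{u} (X.presheaf.stalk x))).map₂CochainComplex).obj
    Ax).mapIso ((NatIso.mapHomologicalComplex (PullbackStalk.pullbackStalkIso q x)
      (ComplexShape.up ℤ)).app L)) ?_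
  refine acyclic_of_iso (totalIso (KFlatBaseChange.extComparison (q.stalkMap x).hom) Ax Lx).symm ?_
  change (mapBifunctor Ax Lx (KFlatBaseChange.tensorExt (q.stalkMap x).hom) (.up ℤ)).Acyclic
  refine KFlatBaseChange.acyclic_of_restrict _
    (acyclic_of_iso (totalIso (KFlatBaseChange.projComparison _) Ax Lx) ?_)
  exact (isKFlat_iff_left _).1 (hA x) _ (acyclic_stalk (q.base x) hL)

/-- `A ⊗ q^*(-)` preserves quasi-isomorphisms when the stalks of `A` are K-flat over the base. -/
theorem quasiIso_tensor_pullC (q : X ⟶ Y) {A : CochainComplex X.Modules ℤ}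
    (hA : ∀ x, DRing.IsKFlat (Y.presheaf.stalk (q.base x)) (stalkOver q A x))
    {R N : CochainComplex Y.Modules ℤ} (α : R ⟶ N) [QuasiIso α] :
    QuasiIso ((DCoh.tensorCx.obj A).map ((pullC q).map α)) := by
  haveI : PreservesColimitsOfSize.{0, 0} (pullC q) :=
    haveI : PreservesColimitsOfSize.{u, u} (pullC q) := (adjCx q).leftAdjoint_preservesColimits
    preservesColimitsOfSize_shrink.{0, u, 0, u} _
  haveI : PreservesFiniteColimits (pullC q) := PreservesColimitsOfSize.preservesFiniteColimits _
  haveI := PreservesColimitsOfSize.preservesFiniteColimits ((DCoh.tensorCx (X := X)).obj A)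
  haveI : PreservesFiniteColimits (pullC q ⋙ DCoh.tensorCx.obj A) := comp_preservesFiniteColimits _ _
  exact Qis.quasiIso_map_of_acyclic (pullC q ⋙ DCoh.tensorCx.obj A)
    (fun i hi => Bifunctor.mono_obj_map (DCoh.tensorBi (X := X)) A ((pullC q).map i) fun p r => by
      haveI := hi r
      haveI : IsSplitMono (((pullC q).map i).f r) :=
        inferInstanceAs (IsSplitMono ((Scheme.Modules.pullback q).map (i.f r)))
      infer_instance)
    (fun Z ⟨h⟩ => Bifunctor.acyclic_obj_of_homotopy_zero _ A
      ((Homotopy.ofEq ((pullC q).map_id Z).symm).trans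
        (((Scheme.Modules.pullback q).mapHomotopy h).trans
          (Homotopy.ofEq ((pullC q).map_zero _ _)))))
    (fun Z hZ => acyclic_tensor_pullC q hA hZ) α

/-- Stalks of a bounded above complex of modules flat over the base are K-flat over the base. -/
theorem isKFlat_stalkOver (q : X ⟶ Y) {A : CochainComplex X.Modules ℤ} (b : ℤ)
    (hb : ∀ i, b < i → IsZero (A.X i)) (hA : ∀ i, FlatMod.IsFlatOver q (A.X i)) (x : X) :
    DRing.IsKFlat (Y.presheaf.stalk (q.base x)) (stalkOver q A x) :=
  DR.KFlat.isKFlat_of_flat _ b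
    (fun i hi => (Functor.map_isZero (KFlatBaseChange.resF (q.stalkMap x).hom)
      (Functor.map_isZero (stalkModFunctor X x) (hb i hi)))) fun i => hA i x

/-- Symmetry of the derived tensor product. -/
theorem nonempty_symm (K L : CochainComplex X.Modules ℤ) [DCoh.HasLTensorCx K] [DCoh.HasLTensorCx L] :
    Nonempty ((DCoh.LTensorCx K).obj (DerivedCategory.Q.obj L) ≅
      (DCoh.LTensorCx L).obj (DerivedCategory.Q.obj K)) := by
  let rK : (KFlat.res X).obj K ⟶ K := (KFlat.aug X).app K
  let rL : (KFlat.res X).obj L ⟶ L := (KFlat.aug X).app L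
  haveI : QuasiIso rK := KFlat.quasiIso_aug K
  haveI : QuasiIso rL := KFlat.quasiIso_aug L
  obtain ⟨a⟩ := BettiExact.LTensorTri.nonempty_iso_tensorCxQ K rK (KFlat.isKFlat_res K)
  obtain ⟨b⟩ := BettiExact.LTensorTri.nonempty_iso_tensorCxQ L rL (KFlat.isKFlat_res L)
  haveI := LeftExists.quasiIso_tensor_right (KFlat.isKFlat_res K) rL
  haveI := LeftExists.quasiIso_tensor_right (KFlat.isKFlat_res L) rK
  exact ⟨a.app L ≪≫ (asIso (DerivedCategory.Q.map ((DCoh.tensorCx.map rL).app ((KFlat.res X).obj K)))).symm ≪≫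
    DerivedCategory.Q.mapIso (TensorSymm.commCx _ _) ≪≫
    asIso (DerivedCategory.Q.map ((DCoh.tensorCx.map rK).app ((KFlat.res X).obj L))) ≪≫ (b.app K).symm⟩

/-- Complexes of quasi-coherent modules have quasi-coherent cohomology. -/
theorem isQCohD_of_terms {A : CochainComplex X.Modules ℤ} (hA : ∀ i, Coh.IsQCoh (A.X i)) :
    DCoh.IsQCohD (DerivedCategory.Q.obj A) :=
  fun i => QCohLocal.isQCoh_HD hA (Iso.refl _) i

/-- Sections on an affine piece of a module flat over the base are flat. -/
theorem flat_sections {S : Scheme.{u}} (f : X ⟶ S) (G : X.Modules) {R A : CommRingCat.{u}}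
    (k : Spec A ⟶ X) [IsOpenImmersion k] (φ : R ⟶ A) (l : Spec R ⟶ S) [IsOpenImmersion l]
    (w : k ≫ f = Spec.map φ ≫ l) (hG : FlatMod.IsFlatOver f G) {M : (Spec A).Modules}
    (e : M ≅ (Scheme.Modules.pullback k).obj G) (hM : Coh.IsQCoh M) :
    Module.Flat R ((ModuleCat.restrictScalars.{u} φ.hom).obj ((QCoh.Tilde.specΓ A).obj M)) := by
  haveI : M.IsQuasicoherent := hM
  let N := (QCoh.Tilde.specΓ A).obj M
  let eN : (tilde.functor A).obj N ≅ (Scheme.Modules.pullback k).obj G :=
    QCoh.Tilde.isoTildeSections M ≪≫ e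
  letI : Algebra R A := φ.hom.toAlgebra
  letI : Module R N := Module.compHom N φ.hom
  haveI : IsScalarTower R A N := IsScalarTower.of_algebraMap_smul fun _ _ => rfl
  have hc : IsPullback (𝟙 (Spec A)) (Spec.map φ) (Spec.map φ ≫ l) l :=
    ⟨⟨Category.id_comp _⟩, ⟨PullbackCone.IsLimit.mk _ (fun s => s.fst) (fun s => Category.comp_id _)
      (fun s => by rw [← cancel_mono l, Category.assoc]; exact s.condition)
      (fun s m h1 _ => (Category.comp_id m).symm.trans h1)⟩⟩
  have h : FlatMod.IsFlatOver (Spec.map φ) ((tilde.functor A).obj N) := fun x => by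
    have h1 := (Flat55.FlatOverAt.isFlatOverAt_pullback_iff k f G x
      (Flat.stalkMap _ _)).2 (hG (k x))
    rw [w] at h1
    refine Flat55.FlatOverAt.of_iso _ ((Scheme.Modules.pullbackId _).app _) x ?_
    exact Flat55.FlatOverAt.isFlatOverAt_baseChange (hc := hc) (x' := x)
      (h := Flat55.FlatOverAt.of_iso _ eN.symm _ h1)
  haveI : Module.Flat R N := Flat55.FlatChart.flat_of_isFlatOver_tilde R A N h
  exact Module.Flat.of_linearEquiv (M := N)
    ({ AddEquiv.refl N with map_smul' := fun _ _ => rfl } :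
      (ModuleCat.restrictScalars.{u} φ.hom).obj N ≃ₗ[R] N)

open QCoh.Tilde BCBase BCCube BCLoc in
/-- Base change holds on all affine pieces for bounded above complexes flat over the base. -/
theorem loc_of_flat {S S' : Scheme.{u}} (f : X ⟶ S) (g : S' ⟶ S) (P : CochainComplex X.Modules ℤ)
    (hq : ∀ i, Coh.IsQCoh (P.X i)) (b : ℤ) (hb : ∀ i, b < i → IsZero (P.X i))
    (hfl : ∀ i, FlatMod.IsFlatOver f (P.X i)) : BCMain.Loc f g P := by
  intro V U U' V' _ _ _ j j' jX _ _ _ fU gU fU' gU' w1 w2 sq
  have hqV : ∀ i, Coh.IsQCoh (((pullC jX).obj P).X i) := fun i =>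
    haveI := hq i
    QCoh.Pullback.isQCoh_pullback jX (P.X i)
  have hF : DCoh.IsQCohD (DerivedCategory.Q.obj ((pullC jX).obj P)) := isQCohD_of_terms hqV
  have hF' : DCoh.IsQCohD (DerivedCategory.Q.obj ((pullC gU').obj ((pullC jX).obj P))) :=
    isQCohD_of_terms fun i => haveI := hqV i; QCoh.Pullback.isQCoh_pullback gU' _
  refine isIso_ψ_of_isos fU gU fU' gU' sq _ hF hF' (rangeChart jX).hom (rangeChart j).hom
    (rangeChart j').hom _ _ (rangeChart_square jX j f fU w1)
    (rangeChart_square j' j g gU w2.symm).symm fun f₀' g₀' sq₀ => ?_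
  have hU := isAffineOpen_opensRange j
  have hV := isAffineOpen_opensRange jX
  let φ := f.appLE j.opensRange jX.opensRange (opensRange_le jX j f fU w1)
  let P₀ := (pullC (rangeChart jX).hom).obj ((pullC jX).obj P)
  have hq₀ : ∀ i, Coh.IsQCoh (P₀.X i) := fun i =>
    haveI := hqV i
    QCoh.Pullback.isQCoh_pullback (rangeChart jX).hom _
  let C := ((specΓ Γ(X, jX.opensRange)).mapHomologicalComplex (ComplexShape.up ℤ)).obj P₀
  haveI hi : ∀ i, IsIso ((P₀.X i).fromTildeΓ) := fun i =>
    (isQuasicoherent_iff_isIso_fromTildeΓ _).mp (hq₀ i)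
  let eC : (tildeC Γ(X, jX.opensRange)).obj C ≅ P₀ :=
    HomologicalComplex.Hom.isoOfComponents
      (fun i => haveI : (P₀.X i).IsQuasicoherent := hq₀ i
        isoTildeSections (P₀.X i))
      (fun i k _ => (Scheme.Modules.fromTildeΓNatTrans.naturality (P₀.d i k)).symm)
  refine (NatTrans.isIso_app_iff_of_iso (ψ _ _ f₀' g₀' sq₀.w) eC).1 ?_
  let K := (Groth.Agent.Lib.BettiExact.TorTensor.resC φ.hom).obj C
  have hK : DRing.IsKFlat Γ(S, j.opensRange) K := by
    refine DR.KFlat.isKFlat_of_flat _ b (fun i hi' => ?_) fun i => ?_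
    · have h1 : IsZero (P₀.X i) := Functor.map_isZero (Scheme.Modules.pullback (rangeChart jX).hom)
        (Functor.map_isZero (Scheme.Modules.pullback jX) (hb i hi'))
      exact Functor.map_isZero (ModuleCat.restrictScalars.{u} φ.hom)
        (Functor.map_isZero (specΓ Γ(X, jX.opensRange)) h1)
    · have w : hV.fromSpec ≫ f = Spec.map φ ≫ hU.fromSpec :=
        (IsAffineOpen.SpecMap_appLE_fromSpec f hU hV (opensRange_le jX j f fU w1)).symm
      exact flat_sections f (P.X i) hV.fromSpec φ hU.fromSpec w (hfl i)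
        ((Scheme.Modules.pullbackComp (rangeChart jX).hom jX).app (P.X i) ≪≫
          (Scheme.Modules.pullbackCongr (rangeChart_hom_comp jX)).app (P.X i) : P₀.X i ≅ _)
        (hq₀ i)
  exact isIso_ψ_tilde φ _ f₀' g₀' sq₀ C hK (𝟙 K) (by
    rw [CategoryTheory.Functor.map_id]
    infer_instance)

end Groth.Agent.Lib.DerivedOX.Kunneth
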