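import Groth.Agent.Lib.DerivedOX.DualFree
import Groth.Agent.Lib.Perfect.Lift
import Groth.Agent.Lib.Perfect.EulerChar
import Groth.Agent.Lib.DerCat.DerAdj
import Mathlib.CategoryTheory.Adjunction.Triple
import Groth.Agent.Lib.DerivedOX.OpenImm

/-!
# Perfect complexes are good near every point
-/

universe u

open CategoryTheory Limits AlgebraicGeometry HomologicalComplex

attribute [local instance] HasDerivedCategory.standard

set_option linter.style.haveILetI false

namespace Groth.Agent.Lib.DerivedOX.DualPerfect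

open Groth.Agent.Lib.Modules DualHom DualQis DualGood DualFree
open Groth.Agent.Lib.Perfect Groth.Agent.Lib.Perfect.Basic

variable {X U : Scheme.{u}}

theorem isIso_unit_extZeroAdj (j : U ⟶ X) [IsOpenImmersion j] (M : U.Modules) :
    IsIso ((CxOX.extZeroAdj j).unit.app M) := by
  let t : Adjunction.Triple (CxOX.extZero j) (Scheme.Modules.restrictFunctor j)
    (Scheme.Modules.pushforward j) :=
    ⟨CxOX.extZeroAdj j, Scheme.Modules.restrictAdjunction j⟩
  haveI : IsIso t.adj₁.unit := t.isIso_unit_iff_isIso_counit.2 inferInstance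
  exact inferInstanceAs (IsIso (t.adj₁.unit.app M))

/-- Quasi-isomorphisms after restriction are quasi-isomorphisms at the points of the open. -/
theorem qisAt_of_restrict (j : U ⟶ X) [IsOpenImmersion j] {K L : CochainComplex X.Modules ℤ}
    (f : K ⟶ L) (hf : QuasiIso ((rC j).map f)) : QisAt j.opensRange f := by
  intro x hx
  obtain ⟨y, rfl⟩ := hx
  have h := (Qis.quasiIso_iff_forall_stalk ((rC j).map f)).1 hf y
  let σ := (asIso (j.stalkMap y)).commRingCatIsoToRingEquiv
  let S := ModuleCat.restrictScalars.{u} σ.toRingHom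
  let S' := ModuleCat.restrictScalars.{u} σ.symm.toRingHom
  let θ := NatIso.mapHomologicalComplex (Spread.stalkRestrictIso j y) (ComplexShape.up ℤ)
  haveI h' : QuasiIso ((S'.mapHomologicalComplex (ComplexShape.up ℤ)).map ((St (j y)).map f)) :=
    ((MorphismProperty.arrow_mk_iso_iff (HomologicalComplex.quasiIso _ _)
      (Arrow.isoMk (θ.app K) (θ.app L) (θ.hom.naturality f).symm))).2 h
  haveI : QuasiIso ((S.mapHomologicalComplex (ComplexShape.up ℤ)).map
      ((S'.mapHomologicalComplex (ComplexShape.up ℤ)).map ((St (j y)).map f))) := inferInstance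
  let ρ := NatIso.mapHomologicalComplex (Spread.restrictRestrictIso σ) (ComplexShape.up ℤ)
  exact ((MorphismProperty.arrow_mk_iso_iff (HomologicalComplex.quasiIso _ _)
    (Arrow.isoMk (ρ.app _) (ρ.app _) (ρ.hom.naturality ((St (j y)).map f)).symm))).1 this

variable (d : Data X)

/-- Free modules on an open, extended by zero, are good there. -/
theorem good_extZero_free (j : U ⟶ X) [IsOpenImmersion j] (k : ℕ) (n : ℤ) :
    Good d j.opensRange ((single X.Modules (ComplexShape.up ℤ) n).obj
      ((CxOX.extZero j).obj (FlatMod.freeMod U k))) := by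
  let M := FlatMod.freeMod X k
  let κ : (CxOX.extZero j).obj (M.restrict j) ⟶ M := (CxOX.extZeroAdj j).counit.app M
  have hκ : IsIso ((Scheme.Modules.restrictFunctor j).map κ) := by
    haveI := isIso_unit_extZeroAdj j (M.restrict j)
    exact IsIso.of_isIso_fac_left ((CxOX.extZeroAdj j).right_triangle_components M)
  let F := single X.Modules (ComplexShape.up ℤ) n
  have hq : QuasiIso ((rC j).map (F.map κ)) := by
    haveI : ∀ i, IsIso (((rC j).map (F.map κ)).f i) := fun i => by
      change IsIso ((Scheme.Modules.restrictFunctor j).map ((F.map κ).f i))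
      by_cases hi : i = n
      · subst hi
        simp [F, single_map_f_self]
        infer_instance
      · exact OpenSupport.isIso_of_zero _
          ((Scheme.Modules.restrictFunctor j).map_isZero (isZero_single_obj_X (ComplexShape.up ℤ) n _ i hi))
          ((Scheme.Modules.restrictFunctor j).map_isZero (isZero_single_obj_X (ComplexShape.up ℤ) n _ i hi))
    haveI := HomologicalComplex.Hom.isIso_of_components ((rC j).map (F.map κ))
    infer_instance
  exact good_of_iso (F.mapIso ((CxOX.extZero j).mapIso (Free.restrictFreeIso j k).symm))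
    ((good_iff_of_qisAt (F.map κ) (qisAt_of_restrict j _ hq)).1 (good_free k n))

/-- Good complexes on a smaller open. -/
theorem good_mono {V W : X.Opens} (h : W ≤ V) {P : CochainComplex X.Modules ℤ} (hP : Good d V P) :
    Good d W P :=
  ⟨hP.1.mono h, fun x hx => hP.2 x (h hx)⟩

/-- A perfect complex is good near every point. -/
theorem exists_good_near {P : CochainComplex X.Modules ℤ} {x : X}
    (hP : Triangle.PerfAt (DerivedCategory.Q.obj P) x) : ∃ V : X.Opens, x ∈ V ∧ Good d V P := by
  obtain ⟨U, j, _, y, E, hy, hE, ⟨i⟩⟩ := hP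
  obtain ⟨V, n, hyV, -, hn⟩ := EulerChar.exists_free_terms hE y
  let j₁ := V.ι ≫ j
  let E₁ := (rC V.ι).obj E
  let i₁ : DerivedCategory.Q.obj E₁ ≅ DerivedCategory.Q.obj ((rC j₁).obj P) :=
    ((RDQ j₁ P).symm ≪≫ Triangle.RDComp V.ι j _ ≪≫ (RD V.ι).mapIso i ≪≫ RDQ V.ι E).symm
  obtain ⟨U₂, k, _, z, φ, hz, hφ⟩ := Lift.exists_map (isStrictlyPerfect_map V.ι hE) i₁.hom ⟨y, hyV⟩
  haveI : IsIso (DerivedCategory.Q.map φ) := by
    have : DerivedCategory.Q.map φ =
        (RDQ k E₁).inv ≫ (RD k).map i₁.hom ≫ (RDQ k ((rC j₁).obj P)).hom := by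
      rw [hφ]; simp [E₁]
    rw [this]; infer_instance
  haveI : QuasiIso φ := (DerivedCategory.isIso_Q_map_iff_quasiIso _ φ).1 inferInstance
  let j₂ := k ≫ j₁
  let E₂ := (rC k).obj E₁
  let φ' : E₂ ⟶ (rC j₂).obj P := φ ≫ (rCComp k j₁).inv.app P
  let ad := DerCat.DerAdj.adjC (CxOX.extZeroAdj j₂) (ComplexShape.up ℤ)
  let a := (ad.homEquiv E₂ P).symm φ'
  have hfree : ∀ m, Nonempty (E₂.X m ≅ FlatMod.freeMod U₂ (n m)) := fun m =>
    ⟨(Scheme.Modules.restrictFunctor k).mapIso (hn m).some ≪≫ Free.restrictFreeIso k (n m)⟩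
  obtain ⟨⟨p, q, hpq⟩, -⟩ := isStrictlyPerfect_map k (isStrictlyPerfect_map V.ι hE)
  have hF : Good d j₂.opensRange (((CxOX.extZero j₂).mapHomologicalComplex (ComplexShape.up ℤ)).obj E₂) := by
    refine good_of_terms _ (fun m => ?_) (q + 1) ((q + 1 - p).toNat) fun m hm =>
      (CxOX.extZero j₂).map_isZero (hpq m (by omega))
    exact good_of_iso ((single X.Modules (ComplexShape.up ℤ) m).mapIso
      ((CxOX.extZero j₂).mapIso (hfree m).some)) (good_extZero_free d j₂ (n m) m)
  have ha : QuasiIso ((rC j₂).map a) := by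
    have e : ad.unit.app E₂ ≫ (rC j₂).map a = φ' :=
      (ad.homEquiv_unit _ _ _).symm.trans ((ad.homEquiv E₂ P).apply_symm_apply φ')
    haveI : IsIso (ad.unit.app E₂) := by
      haveI : ∀ m, IsIso ((ad.unit.app E₂).f m) := fun m => isIso_unit_extZeroAdj j₂ (E₂.X m)
      exact HomologicalComplex.Hom.isIso_of_components _
    haveI : QuasiIso φ' := inferInstance
    haveI : QuasiIso (ad.unit.app E₂ ≫ (rC j₂).map a) := by rw [e]; infer_instance
    exact quasiIso_of_comp_left (ad.unit.app E₂) _
  refine ⟨j₂.opensRange, ⟨z, ?_⟩, (good_iff_of_qisAt a (qisAt_of_restrict j₂ _ ha)).2 hF⟩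
  simp [j₂, j₁, hz, hy]

/-- For a perfect complex `P`, `ψ_P` is a quasi-isomorphism. -/
theorem quasiIso_ψ {P : CochainComplex X.Modules ℤ} (hP : DCoh.IsPerfect (DerivedCategory.Q.obj P)) :
    QuasiIso (ψ d P) := by
  refine (Qis.quasiIso_iff_forall_stalk _).2 fun x => ?_
  obtain ⟨V, hx, hV⟩ := exists_good_near d ((Triangle.isPerfect_iff _).1 hP x)
  exact hV.1 x hx

/-- The dual of a perfect complex is perfect. -/
theorem isPerfect_Hc {P : CochainComplex X.Modules ℤ} (hP : DCoh.IsPerfect (DerivedCategory.Q.obj P)) :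
    DCoh.IsPerfect (DerivedCategory.Q.obj ((Hc P).obj d.J₀)) := by
  refine (Triangle.isPerfect_iff _).2 fun x => ?_
  obtain ⟨V, hx, hV⟩ := exists_good_near d ((Triangle.isPerfect_iff _).1 hP x)
  exact hV.2 x hx

end Groth.Agent.Lib.DerivedOX.DualPerfect
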