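import Groth.Agent.Lib.DerivedOX.TildeEquiv
import Groth.Agent.Lib.Perfect.Basic
import Groth.Agent.Lib.PCoh.Perfect
import Groth.Agent.Lib.QCoh.Tilde
import Groth.Agent.Lib.TensorMod.QCohInv
import Groth.Agent.Lib.TensorMod.LocFree
import Groth.Agent.S12451

/-!
# On an affine scheme, bounded above complexes of finite locally free modules behave like projectives

Maps from such a complex to a complex of quasi-coherent modules are the same in `K(O_X)` and `D(O_X)`.
-/

set_option autoImplicit false
set_option linter.unusedSectionVars false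
set_option linter.style.haveILetI false

universe u

open CategoryTheory Limits AlgebraicGeometry

attribute [local instance] HasDerivedCategory.standard

namespace Groth.Agent.Lib.DerivedOX.AffineKProj

open Groth.Agent.Lib Groth.Agent.Lib.Perfect.Basic

/-- Maps `E ⟶ F` are the same in the homotopy category and in the derived category. -/
def Good {X : Scheme.{u}} (E F : CochainComplex X.Modules ℤ) : Prop :=
  (∀ α : DerivedCategory.Q.obj E ⟶ DerivedCategory.Q.obj F,
    ∃ φ : E ⟶ F, DerivedCategory.Q.map φ = α) ∧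
  ∀ φ : E ⟶ F, DerivedCategory.Q.map φ = 0 → Nonempty (Homotopy φ 0)

section Spec

open TildeEquiv

variable (R : CommRingCat.{u}) [PreservesFiniteLimits (tilde.functor R)]

lemma isIso_counit {E : CochainComplex (Spec (CommRingCat.of R)).Modules ℤ}
    (hE : ∀ n, (E.X n).IsQuasicoherent) : IsIso ((adjC R).counit.app E) := by
  haveI : ∀ n, IsIso (((adjC R).counit.app E).f n) := fun n => by
    haveI := hE n
    exact inferInstanceAs (IsIso (E.X n).fromTildeΓ)
  exact HomologicalComplex.Hom.isIso_of_components _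

theorem good_spec (E F : CochainComplex (Spec (CommRingCat.of R)).Modules ℤ) (b : ℤ)
    (hEb : ∀ i, b < i → IsZero (E.X i)) (hE : ∀ i, FlatMod.IsFinLocFree (E.X i))
    (hF : ∀ i, (F.X i).IsQuasicoherent) : Good E F := by
  haveI := TildeEquiv.full R
  haveI := TildeEquiv.faithful R
  haveI := isIso_counit R fun i => TensorMod.QCohInv.isQCoh_of_isFinLocFree (hE i)
  haveI := isIso_counit R hF
  let GC := (G R).mapHomologicalComplex (ComplexShape.up ℤ)
  let FC := (TildeEquiv.F R).mapHomologicalComplex (ComplexShape.up ℤ)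
  let eE : FC.obj (GC.obj E) ≅ E := asIso ((adjC R).counit.app E)
  let eF : FC.obj (GC.obj F) ≅ F := asIso ((adjC R).counit.app F)
  have hproj : ∀ i, Projective ((GC.obj E).X i) := fun i => by
    have := (S12451.result (R := R) ((G R).obj (E.X i))).1 (TensorMod.LocFree.of_iso
      ((HomologicalComplex.eval _ _ i).mapIso eE).symm (hE i))
    haveI := this.2
    exact ((G R).obj (E.X i)).projective_of_categoryTheory_projective
  have : CochainComplex.IsStrictlyLE (GC.obj E) b :=
    (CochainComplex.isStrictlyLE_iff (GC.obj E) b).2 fun i hi => (G R).map_isZero (hEb i hi)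
  have : CochainComplex.IsKProjective (GC.obj E) := CochainComplex.isKProjective_of_projective _ b
  let ef := (TildeEquiv.F R).mapDerivedCategoryFactors
  refine ⟨fun α => ?_, fun φ hφ => ?_⟩
  · obtain ⟨β, hβ⟩ := (DCoh.tildeD R).map_surjective (ef.hom.app (GC.obj E) ≫
      DerivedCategory.Q.map eE.hom ≫ α ≫ DerivedCategory.Q.map eF.inv ≫ ef.inv.app (GC.obj F))
    obtain ⟨g, hg⟩ := (CochainComplex.IsKProjective.Qh_map_bijective (GC.obj E) _).surjective
      ((DerivedCategory.quotientCompQhIso _).hom.app (GC.obj E) ≫ β ≫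
        (DerivedCategory.quotientCompQhIso _).inv.app (GC.obj F))
    obtain ⟨ψ, rfl⟩ := (HomotopyCategory.quotient _ _).map_surjective g
    have hψ : DerivedCategory.Q.map ψ = β := by
      rw [← cancel_mono ((DerivedCategory.quotientCompQhIso (ModuleCat.{u} R)).inv.app (GC.obj F)),
        DerivedCategory.quotientCompQhIso_inv_naturality, hg]
      simp
    rw [← hψ, tildeD_Q, cancel_epi, ← Category.assoc (DerivedCategory.Q.map eE.hom),
      ← Category.assoc (DerivedCategory.Q.map eE.hom ≫ α), cancel_mono] at hβ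
    refine ⟨eE.inv ≫ FC.map ψ ≫ eF.hom, ?_⟩
    simp only [Functor.map_comp]
    rw [show DerivedCategory.Q.map (FC.map ψ) = _ from hβ]
    simp [← Functor.map_comp, ← Functor.map_comp_assoc]
  · let ψ := GC.map φ
    have hn : FC.map ψ ≫ eF.hom = eE.hom ≫ φ := (adjC R).counit.naturality φ
    have h1 : DerivedCategory.Q.map (FC.map ψ) = 0 := by
      rw [← cancel_mono (DerivedCategory.Q.map eF.hom), ← Functor.map_comp, hn, Functor.map_comp, hφ,
        comp_zero, zero_comp]
    have h2 : DerivedCategory.Q.map ψ = 0 := by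
      apply (DCoh.tildeD R).map_injective
      rw [tildeD_Q, h1, zero_comp, comp_zero, Functor.map_zero]
    have h3 : Nonempty (Homotopy ψ 0) := by
      refine ⟨HomotopyCategory.homotopyOfEq _ _
        ((CochainComplex.IsKProjective.Qh_map_bijective (GC.obj E) _).injective ?_)⟩
      have h := DerivedCategory.quotientCompQhIso_inv_naturality (C := ModuleCat.{u} R) ψ
      rw [h2, zero_comp] at h
      rw [Functor.map_zero, Functor.map_zero]
      exact (cancel_epi ((DerivedCategory.quotientCompQhIso _).inv.app _)).1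
        (h.symm.trans comp_zero.symm)
    obtain ⟨h⟩ := h3
    have hφ' : φ = eE.inv ≫ FC.map ψ ≫ eF.hom := by rw [hn, Iso.inv_hom_id_assoc]
    exact ⟨(Homotopy.ofEq hφ').trans (((((TildeEquiv.F R).mapHomotopy h).compRight eF.hom).compLeft
      eE.inv).trans (Homotopy.ofEq (by simp)))⟩

end Spec

section Transport

variable {X U : Scheme.{u}} (j : U ⟶ X) (k : X ⟶ U) [IsOpenImmersion j] [IsOpenImmersion k]

/-- Restricting back and forth. -/
noncomputable def backIso (h : k ≫ j = 𝟙 X) : rC j ⋙ rC k ≅ 𝟭 _ :=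
  (rCComp k j).symm ≪≫ rCCongr h ≪≫ rCId X

theorem good_of_iso (h : k ≫ j = 𝟙 X) (h' : j ≫ k = 𝟙 U) {E F : CochainComplex X.Modules ℤ}
    (hg : Good ((rC j).obj E) ((rC j).obj F)) : Good E F := by
  let θ := backIso j k h
  let Θ : DerivedCategory.Q ⋙ RD j ⋙ RD k ≅ DerivedCategory.Q :=
    (Functor.associator _ _ _).symm ≪≫
      Functor.isoWhiskerRight (Scheme.Modules.restrictFunctor j).mapDerivedCategoryFactors _ ≪≫
      Functor.associator _ _ _ ≪≫
      Functor.isoWhiskerLeft _ (Scheme.Modules.restrictFunctor k).mapDerivedCategoryFactors ≪≫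
      (Functor.associator _ _ _).symm ≪≫ Functor.isoWhiskerRight θ _ ≪≫ Functor.leftUnitor _
  have hid : RD j ⋙ RD k ≅ 𝟭 (DCoh.D X) :=
    letI : Localization.Lifting DerivedCategory.Q
        (HomologicalComplex.quasiIso X.Modules (ComplexShape.up ℤ))
        (DerivedCategory.Q ⋙ RD j ⋙ RD k) (RD j ⋙ RD k) := ⟨Iso.refl _⟩
    letI : Localization.Lifting DerivedCategory.Q
        (HomologicalComplex.quasiIso X.Modules (ComplexShape.up ℤ))
        DerivedCategory.Q (𝟭 (DCoh.D X)) := ⟨Functor.rightUnitor _⟩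
    Localization.liftNatIso DerivedCategory.Q
      (HomologicalComplex.quasiIso X.Modules (ComplexShape.up ℤ)) _ _ _ _ Θ
  haveI : (RD j).Faithful := by
    haveI : (RD j ⋙ RD k).Faithful := Functor.Faithful.of_iso hid.symm
    exact Functor.Faithful.of_comp (RD j) (RD k)
  haveI : (rC j).Full :=
    (CategoryTheory.Equivalence.mk (rC j) (rC k) θ.symm (backIso k j h')).full_functor
  let n := (Scheme.Modules.restrictFunctor j).mapDerivedCategoryFactors
  refine ⟨fun α => ?_, fun φ hφ => ?_⟩
  · obtain ⟨φ', hφ'⟩ := hg.1 (n.inv.app E ≫ (RD j).map α ≫ n.hom.app F)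
    obtain ⟨φ, rfl⟩ := (rC j).map_surjective φ'
    refine ⟨φ, (RD j).map_injective ?_⟩
    rw [show (RD j).map (DerivedCategory.Q.map φ) =
      n.hom.app E ≫ DerivedCategory.Q.map ((rC j).map φ) ≫ n.inv.app F from
      (NatIso.naturality_2 n φ).symm, hφ']
    simp
  · obtain ⟨hh⟩ := hg.2 ((rC j).map φ) (by
      have h0 : DerivedCategory.Q.map ((rC j).map φ) =
          n.inv.app E ≫ (RD j).map (DerivedCategory.Q.map φ) ≫ n.hom.app F :=
        (NatIso.naturality_1 n φ).symm
      rw [h0, hφ, Functor.map_zero, zero_comp, comp_zero])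
    have h2 := ((((Scheme.Modules.restrictFunctor k).mapHomotopy hh).compRight (θ.hom.app F)).compLeft
      (θ.inv.app E))
    exact ⟨(Homotopy.ofEq (NatIso.naturality_1 θ φ).symm).trans (h2.trans (Homotopy.ofEq (by simp)))⟩

end Transport

theorem good_affine {X : Scheme.{u}} [IsAffine X] (E F : CochainComplex X.Modules ℤ) (b : ℤ)
    (hEb : ∀ i, b < i → IsZero (E.X i)) (hE : ∀ i, FlatMod.IsFinLocFree (E.X i))
    (hF : ∀ i, Coh.IsQCoh (F.X i)) : Good E F := by
  haveI : PreservesFiniteLimits (tilde.functor Γ(X, ⊤)) :=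
    QCoh.Tilde.tildeFunctor_preservesFiniteLimits
  let j : Spec (CommRingCat.of Γ(X, ⊤)) ⟶ X := X.isoSpec.inv
  refine good_of_iso j X.isoSpec.hom X.isoSpec.hom_inv_id X.isoSpec.inv_hom_id
    (good_spec Γ(X, ⊤) _ _ b (fun i hi => (Scheme.Modules.restrictFunctor j).map_isZero (hEb i hi))
      (fun i => TensorMod.LocFree.isFinLocFree_restrict j (hE i))
      (fun i => by haveI := hF i; exact inferInstanceAs (((Scheme.Modules.restrictFunctor j).obj (F.X i)).IsQuasicoherent)))

theorem bijective {X : Scheme.{u}} [IsAffine X] (E F : CochainComplex X.Modules ℤ) (b : ℤ)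
    (hEb : ∀ i, b < i → IsZero (E.X i)) (hE : ∀ i, FlatMod.IsFinLocFree (E.X i))
    (hF : ∀ i, Coh.IsQCoh (F.X i)) :
    Function.Bijective (fun φ : (HomotopyCategory.quotient X.Modules (ComplexShape.up ℤ)).obj E ⟶
        (HomotopyCategory.quotient X.Modules (ComplexShape.up ℤ)).obj F =>
      (DerivedCategory.Qh (C := X.Modules)).map φ) := by
  obtain ⟨h1, h2⟩ := good_affine E F b hEb hE hF
  let e := DerivedCategory.quotientCompQhIso X.Modules
  refine ⟨fun f g hfg => ?_, fun α => ?_⟩
  · obtain ⟨f, rfl⟩ := (HomotopyCategory.quotient _ _).map_surjective f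
    obtain ⟨g, rfl⟩ := (HomotopyCategory.quotient _ _).map_surjective g
    obtain ⟨h⟩ := h2 (f - g) (by
      rw [Functor.map_sub, ← NatIso.naturality_1 e f, ← NatIso.naturality_1 e g]
      simp only [Functor.comp_map] at hfg ⊢
      rw [hfg, sub_self])
    exact HomotopyCategory.eq_of_homotopy _ _ (Homotopy.equivSubZero.symm h)
  · obtain ⟨φ, hφ⟩ := h1 (e.inv.app E ≫ α ≫ e.hom.app F)
    refine ⟨(HomotopyCategory.quotient _ _).map φ, ?_⟩
    have := NatIso.naturality_2 e φ
    rw [hφ] at this
    simpa using this.symm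

end Groth.Agent.Lib.DerivedOX.AffineKProj
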