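import Mathlib.Algebra.Homology.DerivedCategory.Fractions
import Groth.Agent.Lib.DerivedOX.AmplitudeStalk

/-!
# Tor amplitude in distinguished triangles
-/

universe u

open CategoryTheory Limits AlgebraicGeometry Pretriangulated

attribute [local instance] HasDerivedCategory.standard

set_option linter.style.haveILetI false

namespace Groth.Agent.Lib.DerivedOX.Amplitude

variable {X : Scheme.{u}}

/-- The cone of a morphism between objects of bounded flat amplitude. -/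
theorem torAmp_cone (T : Triangle (DCoh.D X)) (hT : T ∈ distinguishedTriangles) {a b : ℤ}
    (h₁ : DCoh.HasFlatAmplitudeIn (a + 1) (b + 1) T.obj₁)
    (h₂ : DCoh.HasFlatAmplitudeIn a b T.obj₂) : DCoh.HasTorAmplitudeIn a b T.obj₃ := by
  have t₁ := torAmp_of_flatAmp h₁
  obtain ⟨E₁, hz₁, hf₁, ⟨e₁⟩⟩ := h₁
  obtain ⟨E₂, hz₂, hf₂, ⟨e₂⟩⟩ := h₂
  obtain ⟨Z, s, hs, g₀, hg₀⟩ := DerivedCategory.right_fac (e₁.hom ≫ T.mor₁ ≫ e₂.inv)
  haveI : QuasiIso s := (DerivedCategory.isIso_Q_map_iff_quasiIso _ s).1 hs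
  obtain ⟨P, r, hP, hPf, hr⟩ := FlatResolve.exists_flat_resolution Z (b + 1) fun i hi =>
    (exactAt_iff_of_quasiIsoAt s i).2 (HomologicalComplex.ExactAt.of_isZero (hz₁ i (Or.inr hi)))
  haveI := hr
  let g : P ⟶ E₂ := r ≫ g₀
  let eP : DerivedCategory.Q.obj P ≅ T.obj₁ := asIso (DerivedCategory.Q.map (r ≫ s)) ≪≫ e₁
  have w : eP.hom ≫ T.mor₁ = DerivedCategory.Q.map g ≫ e₂.hom := by
    rw [← cancel_mono e₂.inv]
    simp only [eP, g, Iso.trans_hom, asIso_hom, Functor.map_comp, Category.assoc, Iso.hom_inv_id,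
      Category.comp_id]
    rw [hg₀, IsIso.hom_inv_id_assoc]
  obtain ⟨iso, -⟩ := exists_iso_of_arrow_iso _ _
    (DerivedCategory.mappingCone_triangle_distinguished g) hT (Arrow.isoMk eP e₂ w)
  let C := CochainComplex.mappingCone g
  have hCf : ∀ i, FlatMod.IsFlat (C.X i) := fun i =>
    FlatResolve.good_isFlat.iso (HomologicalComplex.homotopyCofiber.XIsoBiprod g i (i + 1) rfl).symm
      (FlatResolve.good_isFlat.biprod (hPf (i + 1)) (hf₂ i))
  have hC : ∀ i, b < i → IsZero (C.X i) := fun i hi => by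
    refine IsZero.of_iso ?_ (HomologicalComplex.homotopyCofiber.XIsoBiprod g i (i + 1) rfl)
    rw [biprod_isZero_iff]
    exact ⟨hP _ (by omega), hz₂ i (Or.inr hi)⟩
  intro F _ i hi
  refine (isZero_hd_ltensor_iff F (isKFlat_of_bounded C b hC hCf) (Triangle.π₃.mapIso iso) i).2 ?_
  refine HomologicalComplex.ExactAt.of_iso ?_
    (CochainComplex.mappingCone.mapHomologicalComplexIso g (DCoh.tensorRightMod F)).symm
  have hPi : ((tens F).obj P).ExactAt (i + 1) :=
    (isZero_hd_ltensor_iff F (isKFlat_of_bounded P (b + 1) hP hPf) eP (i + 1)).1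
      (t₁ F (i + 1) (by omega))
  have hEi : ((tens F).obj E₂).ExactAt i :=
    HomologicalComplex.ExactAt.of_isZero ((DCoh.tensorRightMod F).map_isZero (hz₂ i hi))
  have hD := DerivedCategory.mappingCone_triangle_distinguished ((tens F).map g)
  rw [HomologicalComplex.exactAt_iff_isZero_homology] at hPi hEi ⊢
  refine IsZero.of_iso ?_ (hdQ _ i).symm
  exact (DerivedCategory.HomologySequence.exact₃ _ hD i (i + 1) rfl).isZero_X₂
    ((hEi.of_iso (hdQ _ i)).eq_of_src _ _) ((hPi.of_iso (hdQ _ (i + 1))).eq_of_tgt _ _)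

/-- Flat amplitude and shifts. -/
theorem flatAmp_shift {K : DCoh.D X} {a b : ℤ} (h : DCoh.HasFlatAmplitudeIn a b K) (n a' b' : ℤ)
    (ha : a' + n = a) (hb : b' + n = b) : DCoh.HasFlatAmplitudeIn a' b' (K⟦n⟧) := by
  obtain ⟨E, hz, hf, ⟨e⟩⟩ := h
  exact ⟨E⟦n⟧, fun i hi => hz (i + n) (by omega), fun i => hf (i + n),
    ⟨(DerivedCategory.Q.commShiftIso n).app E ≪≫ (shiftFunctor (DCoh.D X) n).mapIso e⟩⟩

/-- Two out of three for amplitude in distinguished triangles. -/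
theorem torAmp_triangle (T : Triangle (DCoh.D X)) (hT : T ∈ distinguishedTriangles) (a b : ℤ) :
    (DCoh.HasFlatAmplitudeIn (a + 1) (b + 1) T.obj₁ → DCoh.HasFlatAmplitudeIn a b T.obj₂ →
      DCoh.HasTorAmplitudeIn a b T.obj₃) ∧
    (DCoh.HasFlatAmplitudeIn a b T.obj₁ → DCoh.HasFlatAmplitudeIn a b T.obj₃ →
      DCoh.HasTorAmplitudeIn a b T.obj₂) ∧
    (DCoh.HasFlatAmplitudeIn (a + 1) (b + 1) T.obj₂ → DCoh.HasFlatAmplitudeIn a b T.obj₃ →
      DCoh.HasTorAmplitudeIn (a + 1) (b + 1) T.obj₁) := by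
  refine ⟨torAmp_cone T hT, fun h₁ h₃ => ?_, fun h₂ h₃ => ?_⟩
  · exact torAmp_cone _ (inv_rot_of_distTriang _ hT)
      (flatAmp_shift h₃ (-1) (a + 1) (b + 1) (by omega) (by omega)) h₁
  · exact torAmp_cone _ (inv_rot_of_distTriang _ (inv_rot_of_distTriang _ hT))
      (flatAmp_shift h₂ (-1) (a + 1 + 1) (b + 1 + 1) (by omega) (by omega))
      (flatAmp_shift h₃ (-1) (a + 1) (b + 1) (by omega) (by omega))

end Groth.Agent.Lib.DerivedOX.Amplitude
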