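import Groth.Agent.Lib.BettiExact.TorTensor
import Groth.Agent.Lib.DR.DComp.TensorSingle
import Groth.Agent.Lib.DR.LTensorCx

/-!
# Tor-independent base change of complexes of modules

For `R → A`, `R → R'`, a K-flat complex `M` of `A`-modules and an `A`-module `N` tor-independent of `R'`
over `R`, the base change of a K-flat resolution of `M ⊗_A N` over `R` is a quasi-isomorphism.
-/

set_option autoImplicit false
set_option linter.style.haveILetI false
set_option linter.unusedSectionVars false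
set_option maxHeartbeats 1000000

universe u

open CategoryTheory Limits HomologicalComplex MonoidalCategory

attribute [local instance] HasDerivedCategory.standard

namespace Groth.Agent.Lib.DerivedOX.BCAlg

open Groth.Agent.Lib Groth.Agent.Lib.DR Groth.Agent.Lib.BettiExact.TorTensor
open Groth.Agent.Lib.DerivedOX.KFlatBaseChange Groth.Agent.Lib.DerivedOX.BifunctorMap

variable {R A R' : Type u} [CommRing R] [CommRing A] [CommRing R']

/-- A module in degree zero. -/
noncomputable abbrev s₀ {B : Type u} [CommRing B] (N : ModuleCat.{u} B) : DRing.Cx B :=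
  (single (ModuleCat.{u} B) (ComplexShape.up ℤ) 0).obj N

theorem exactAt_res (f : R →+* A) (Z : DRing.Cx A) (i : ℤ) : ((resC f).obj Z).ExactAt i ↔ Z.ExactAt i :=
  exactAt_resC_iff f Z i

theorem cancel_right {C : Type*} [Category C] [Abelian C] {K L M : CochainComplex C ℤ} (a : K ⟶ L)
    (b : L ⟶ M) (hb : QuasiIso b) (h : QuasiIso (a ≫ b)) : QuasiIso a :=
  quasiIso_of_comp_right a b

theorem quasiIso_resC_iff (f : R →+* A) {K L : DRing.Cx A} (φ : K ⟶ L) :
    QuasiIso ((resC f).map φ) ↔ QuasiIso φ := by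
  haveI : (resF f).ReflectsIsomorphisms := inferInstance
  exact quasiIso_map_iff_of_preservesHomology φ (resF f)

theorem projCxIso_natural (f : R →+* A) (M : DRing.Cx A) {L L' : DRing.Cx R} (φ : L ⟶ L') :
    (resC f).map (M ◁ (extC f).map φ) ≫ (projCxIso f M L').hom =
      (projCxIso f M L).hom ≫ (resC f).obj M ◁ φ := by
  have h1 := totalIso_natural (extComparison f) (𝟙 M) φ
  have h2 := totalIso_natural (projComparison f) (𝟙 M) φ
  simp only [CategoryTheory.Functor.map_id] at h1 h2
  change (resC f).map (M ◁ (extC f).map φ) ≫ (resC f).map _ ≫ _ = ((resC f).map _ ≫ _) ≫ _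
  have h1' : (M ◁ (extC f).map φ) ≫ (totalIso (extComparison f) M L').hom =
      (totalIso (extComparison f) M L).hom ≫ mapBifunctorMap (𝟙 M) φ (tensorExt f) (.up ℤ) := by
    refine Eq.trans ?_ (h1.trans ?_)
    · rfl
    · rfl
  have h2' : (resC f).map (mapBifunctorMap (𝟙 M) φ (tensorExt f) (.up ℤ)) ≫
      (totalIso (projComparison f) M L').inv =
      (totalIso (projComparison f) M L).inv ≫ (resC f).obj M ◁ φ := by
    refine (Iso.comp_inv_eq _).2 ?_
    exact ((Iso.eq_inv_comp _).2 h2.symm).trans (Category.assoc _ _ _).symm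
  refine (congrArg (· ≫ (totalIso (projComparison f) M L').inv)
    (((resC f).map_comp _ _).trans rfl)).trans ?_
  exact ((Category.assoc _ _ _).symm.trans ((congrArg (· ≫ (totalIso (projComparison f) M L').inv)
    (((resC f).map_comp _ _).symm.trans ((congrArg (resC f).map h1').trans ((resC f).map_comp _ _)))).trans
    (Category.assoc _ _ _))).trans ((congrArg ((resC f).map (totalIso (extComparison f) M L).hom ≫ ·)
      h2').trans (Category.assoc _ _ _).symm)

/-- Restricted base change is tensoring with the ring. -/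
noncomputable def resExtIso (ψ : R →+* R') :
    extF ψ ⋙ resF ψ ≅ MonoidalCategory.tensorRight ((resF ψ).obj (ModuleCat.of R' R')) :=
  NatIso.ofComponents
    (fun N => (resF ψ).mapIso (λ_ ((extF ψ).obj N)).symm ≪≫
      (projIso ψ (ModuleCat.of R' R') N).symm ≪≫ β_ _ _)
    (fun {N N'} g => by
      refine (cancel_epi ((resF ψ).map (λ_ ((extF ψ).obj N)).hom)).1 ?_
      refine (cancel_epi (projIso ψ (ModuleCat.of R' R') N).hom).1 ?_
      refine ModuleCat.MonoidalCategory.tensor_ext fun m n => ?_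
      simp only [Functor.comp_map, Iso.trans_hom, Functor.mapIso_hom, Iso.symm_hom, Category.assoc]
      erw [ModuleCat.comp_apply, ModuleCat.comp_apply, ModuleCat.comp_apply, ModuleCat.comp_apply])

variable (φ : R →+* A) (ψ : R →+* R') (N : ModuleCat.{u} A)

/-- Tor-independence of `R'` and `N` over `R`, in terms of flat resolutions of `R'`. -/
def TorInd : Prop :=
  ∀ (Q : DRing.Cx R) (q : Q ⟶ s₀ ((resF ψ).obj (ModuleCat.of R' R'))), DRing.IsKFlat R Q → QuasiIso q →
    QuasiIso ((resC φ).obj (s₀ N) ◁ q)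

variable {φ ψ N}

theorem quasiIso_extC (h : TorInd φ ψ N) {M : DRing.Cx A} (hM : DRing.IsKFlat A M) {P : DRing.Cx R}
    (hP : DRing.IsKFlat R P) (α : P ⟶ (resC φ).obj ((TorAmp.tens N).obj M)) [QuasiIso α] :
    QuasiIso ((extC ψ).map α) := by
  let R₁ : ModuleCat.{u} R := (resF ψ).obj (ModuleCat.of R' R')
  let C := (resC φ).obj ((TorAmp.tens N).obj M)
  let Q : DRing.Cx R := (KProjRes.res R).obj (s₀ R₁)
  let q : Q ⟶ s₀ R₁ := (KProjRes.aug R).app (s₀ R₁)
  haveI : QuasiIso q := KProjRes.quasiIso_aug R _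
  haveI : CochainComplex.IsKProjective Q := KProjRes.isKProjective_res R _
  have hQ : DRing.IsKFlat R Q := KFlat.isKFlat_of_isKProjective Q
  -- `C ◁ q`
  let E := (extC φ).map q
  haveI : QuasiIso (s₀ N ◁ E) := by
    rw [← quasiIso_resC_iff φ]
    haveI := h Q q hQ inferInstance
    haveI : QuasiIso ((resC φ).map (s₀ N ◁ E) ≫ (projCxIso φ (s₀ N) (s₀ R₁)).hom) := by
      rw [projCxIso_natural]
      infer_instance
    exact quasiIso_of_comp_right _ (projCxIso φ (s₀ N) (s₀ R₁)).hom
  haveI : QuasiIso (M ◁ (s₀ N ◁ E)) := LTensorCx.quasiIso_tensor_left hM (s₀ N ◁ E)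
  haveI : QuasiIso ((M ⊗ s₀ N) ◁ E) := by
    rw [tensor_whiskerLeft]
    infer_instance
  haveI : QuasiIso ((resC φ).map ((M ⊗ s₀ N) ◁ E)) := (quasiIso_resC_iff φ _).2 inferInstance
  haveI : QuasiIso ((resC φ).obj (M ⊗ s₀ N) ◁ q) := by
    haveI : QuasiIso ((projCxIso φ (M ⊗ s₀ N) Q).hom ≫ (resC φ).obj (M ⊗ s₀ N) ◁ q) := by
      rw [← projCxIso_natural]
      infer_instance
    exact quasiIso_of_comp_left (projCxIso φ (M ⊗ s₀ N) Q).hom _
  let e : C ≅ (resC φ).obj (M ⊗ s₀ N) := (resC φ).mapIso (DComp.tensSingleIso N M)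
  haveI hC : QuasiIso (C ◁ q) := by
    haveI : QuasiIso (C ◁ q ≫ e.hom ▷ s₀ R₁) := by
      rw [whisker_exchange]
      infer_instance
    exact quasiIso_of_comp_right _ (e.hom ▷ s₀ R₁)
  -- the square
  haveI : QuasiIso (P ◁ q) := LTensorCx.quasiIso_tensor_left hP q
  haveI : QuasiIso (α ▷ Q) := quasiIso_whiskerRight hQ α
  haveI : QuasiIso (α ▷ s₀ R₁) := by
    haveI : QuasiIso (P ◁ q ≫ α ▷ s₀ R₁) := by
      rw [whisker_exchange]
      infer_instance
    exact quasiIso_of_comp_left (P ◁ q) _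
  haveI : QuasiIso ((TorAmp.tens R₁).map α) := by
    haveI : QuasiIso ((TorAmp.tens R₁).map α ≫ (DComp.tensSingleIso R₁ C).hom) := by
      rw [DComp.tensSingleIso_naturality]
      infer_instance
    exact quasiIso_of_comp_right _ (DComp.tensSingleIso R₁ C).hom
  rw [← quasiIso_resC_iff ψ]
  let θ := NatIso.mapHomologicalComplex (resExtIso ψ) (ComplexShape.up ℤ)
  have h1 : QuasiIso ((resC ψ).map ((extC ψ).map α) ≫ θ.hom.app C) := by
    have hn : (resC ψ).map ((extC ψ).map α) ≫ θ.hom.app C = θ.hom.app P ≫ (TorAmp.tens R₁).map α :=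
      θ.hom.naturality α
    rw [hn]
    haveI : QuasiIso (θ.hom.app P) := inferInstanceAs (QuasiIso (θ.app P).hom)
    exact quasiIso_comp (θ.hom.app P) ((TorAmp.tens R₁).map α)
  have h2 : QuasiIso (θ.hom.app C) := inferInstanceAs (QuasiIso (θ.app C).hom)
  exact cancel_right _ _ h2 h1

end Groth.Agent.Lib.DerivedOX.BCAlg
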