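import Groth.Agent.Lib.DerivedOX.BCMain
import Groth.Agent.Lib.DerivedOX.BCAlg
import Groth.Agent.Lib.DerivedOX.AffinePushTilde
import Groth.Agent.Lib.DerivedOX.TildeStalk
import Groth.Agent.S12131

/-!
# Base change for affine schemes

For `R → A`, `R → R'` and a complex `C` of `A`-modules with a K-flat resolution over `R` that stays a
resolution after `- ⊗_R R'`, the base change morphism at `C~` is invertible.
-/

set_option autoImplicit false
set_option linter.style.haveILetI false
set_option linter.unusedSectionVars false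
set_option maxHeartbeats 1000000

universe u

open CategoryTheory Limits AlgebraicGeometry

attribute [local instance] HasDerivedCategory.standard
attribute [local instance] Groth.Agent.Lib.DerivedOX.LeftExists.hasLpull
  Groth.Agent.Lib.DerivedOX.Exists.hasRpush

namespace Groth.Agent.Lib.DerivedOX.BCBase

open PullTranspose BCSquare BCCube Groth.Agent.Lib.QCoh.Tilde Groth.Agent.Lib.BettiExact.TorTensor
open Groth.Agent.Lib.DerivedOX.KFlatBaseChange

/-- `tilde` on complexes. -/
noncomputable abbrev tildeC (R : CommRingCat.{u}) :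
    CochainComplex (ModuleCat.{u} R) ℤ ⥤ CochainComplex (Spec R).Modules ℤ :=
  (tilde.functor R).mapHomologicalComplex (ComplexShape.up ℤ)

variable {R A R' : CommRingCat.{u}} (φ : R ⟶ A) (ψ₀ : R ⟶ R')

theorem quasiIso_map_tilde {K L : CochainComplex (ModuleCat.{u} R) ℤ} (α : K ⟶ L) [QuasiIso α] :
    QuasiIso ((tildeC R).map α) :=
  (HomologicalComplex.quasiIso_map_iff_of_preservesHomology α (tilde.functor R)).2 inferInstance

/-- A complex with a K-flat resolution surviving base change is adapted to `g^*`. -/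
theorem isIso_counitCx_tilde {C P : CochainComplex (ModuleCat.{u} R) ℤ} (hP : DRing.IsKFlat R P)
    (α : P ⟶ C) [QuasiIso α] (hext : QuasiIso ((extC ψ₀.hom).map α)) :
    IsIso ((counitCx (Spec.map ψ₀)).app ((tildeC R).obj C)) := by
  haveI := quasiIso_map_tilde α
  haveI := hext
  let θ : tilde.functor R ⋙ Scheme.Modules.pullback (Spec.map ψ₀) ≅
      ModuleCat.extendScalars.{u, u, u} ψ₀.hom ⋙ tilde.functor R' := QCoh.Pullback.pullbackTildeIso ψ₀
  haveI : (ModuleCat.extendScalars.{u, u, u} ψ₀.hom ⋙ tilde.functor R').PreservesZeroMorphisms :=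
    inferInstance
  let Θ := NatIso.mapHomologicalComplex θ (ComplexShape.up ℤ)
  haveI : QuasiIso ((tildeC R').map ((extC ψ₀.hom).map α)) := quasiIso_map_tilde _
  haveI : QuasiIso ((pullC (Spec.map ψ₀)).map ((tildeC R).map α)) :=
    (quasiIso_iff_of_arrow_mk_iso _ _
      (Arrow.isoMk (Θ.app P) (Θ.app C) (Θ.hom.naturality α).symm)).2
      ‹QuasiIso ((tildeC R').map ((extC ψ₀.hom).map α))›
  haveI := PullTranspose.isIso_counitCx (Spec.map ψ₀) (TildeStalk.isKFlat_tilde R hP)
  haveI : IsIso (DerivedCategory.Q.map ((tildeC R).map α)) := inferInstance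
  haveI : IsIso (DerivedCategory.Q.map ((pullC (Spec.map ψ₀)).map ((tildeC R).map α))) := inferInstance
  have h := (counitCx (Spec.map ψ₀)).naturality ((tildeC R).map α)
  dsimp only [Functor.comp_map] at h
  haveI : IsIso ((DCoh.Lpull (Spec.map ψ₀)).map (DerivedCategory.Q.map ((tildeC R).map α)) ≫
      (counitCx (Spec.map ψ₀)).app ((tildeC R).obj C)) := by
    erw [h]
    exact IsIso.comp_isIso' ‹IsIso ((counitCx (Spec.map ψ₀)).app ((tildeC R).obj P))› inferInstance
  exact IsIso.of_isIso_comp_left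
    ((DCoh.Lpull (Spec.map ψ₀)).map (DerivedCategory.Q.map ((tildeC R).map α))) _

/-- **Base change for affine schemes.** -/
theorem isIso_ψ_tilde {X' : Scheme.{u}} (f' : X' ⟶ Spec R') (g' : X' ⟶ Spec A)
    (sq : IsPullback g' f' (Spec.map φ) (Spec.map ψ₀)) (C : CochainComplex (ModuleCat.{u} A) ℤ)
    {P : CochainComplex (ModuleCat.{u} R) ℤ} (hP : DRing.IsKFlat R P)
    (α : P ⟶ (resC φ.hom).obj C) [QuasiIso α] (hext : QuasiIso ((extC ψ₀.hom).map α)) :
    IsIso ((ψ (Spec.map φ) (Spec.map ψ₀) f' g' sq.w).app ((tildeC A).obj C)) := by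
  let F := (tildeC A).obj C
  let f := Spec.map φ
  let g := Spec.map ψ₀
  haveI : IsAffineHom f' := MorphismProperty.of_isPullback sq inferInstance
  have hF : ∀ n, (F.X n).IsQuasicoherent := fun n => (inferInstance : (tilde (C.X n)).IsQuasicoherent)
  haveI h1 : IsIso ((UnitCx.unitCx f).app F) :=
    (UnitCx.isIso_unitCx_app_iff f F).2 (AffinePush.isIso_unit f F hF)
  haveI h2 : IsIso ((UnitCx.unitCx f').app ((pullC g').obj F)) := by
    refine (UnitCx.isIso_unitCx_app_iff f' _).2 (AffinePush.isIso_unit f' _ fun n => ?_)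
    haveI := hF n
    exact QCoh.Pullback.isQCoh_pullback g' (F.X n)
  haveI : ∀ n, IsIso ((bcCx f g f' g' sq.w F).f n) := fun n => by
    rw [bcCx_f]
    haveI : Coh.IsQCoh (F.X n) := hF n
    exact Groth.Agent.S12131.result f g g' f' sq (F.X n)
  haveI : IsIso (bcCx f g f' g' sq.w F) := HomologicalComplex.Hom.isIso_of_components _
  haveI h3 : IsIso ((counitCx g).app ((GammaAcyclic.pushC f).obj F)) := by
    let e : (GammaAcyclic.pushC f).obj F ≅ (tildeC R).obj ((resC φ.hom).obj C) :=
      HomologicalComplex.Hom.isoOfComponents (fun i => (AffinePush.pushTildeIso φ).app (C.X i))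
        (fun i j _ => ((AffinePush.pushTildeIso φ).hom.naturality (C.d i j)).symm)
    refine (NatTrans.isIso_app_iff_of_iso (counitCx g) e).2 ?_
    exact isIso_counitCx_tilde ψ₀ hP α hext
  have h := bcD_fac f g f' g' sq.w F
  haveI : IsIso ((DCoh.Lpull g).map ((UnitCx.unitCx f).app F) ≫
      (ψ f g f' g' sq.w).app F) := by
    refine (congrArg IsIso h).mpr ?_
    infer_instance
  exact IsIso.of_isIso_comp_left ((DCoh.Lpull g).map ((UnitCx.unitCx f).app F)) _

end Groth.Agent.Lib.DerivedOX.BCBase
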