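import Groth.Agent.Lib.DerivedOX.BCSquare
import Groth.Agent.Lib.DerivedOX.QCohLocal

/-!
# Pasting of base change morphisms: the cube identity

`ψ F : Lg^* Rf_* QF ⟶ Rf'_* Q(g'^*F)` is the base change morphism followed by the counit of `Lg'^*`.
For a commutative cube the two composites of such morphisms agree.
-/

set_option autoImplicit false
set_option linter.style.haveILetI false
set_option linter.unusedSectionVars false
set_option maxHeartbeats 800000

universe u v u'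

open CategoryTheory Limits AlgebraicGeometry

attribute [local instance] HasDerivedCategory.standard

namespace Groth.Agent.Lib.DerivedOX.BCCube

section Abstract

variable {A B C D A' B' C' D' : Type u'} [Category.{v} A] [Category.{v} B] [Category.{v} C]
  [Category.{v} D] [Category.{v} A'] [Category.{v} B'] [Category.{v} C'] [Category.{v} D']
  -- bottom `A, B, C, D`, top `A', B', C', D'`
  {g : A ⥤ B} {j : A ⥤ C} {j' : B ⥤ D} {gU : C ⥤ D}
  {g' : A' ⥤ B'} {jX : A' ⥤ C'} {jX' : B' ⥤ D'} {gU' : C' ⥤ D'}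
  {f : A ⥤ A'} {f' : B ⥤ B'} {fU : C ⥤ C'} {fU' : D ⥤ D'}
  {rg : B ⥤ A} {rj : C ⥤ A} {rj' : D ⥤ B} {rgU : D ⥤ C}
  {rg' : B' ⥤ A'} {rjX : C' ⥤ A'} {rjX' : D' ⥤ B'} {rgU' : D' ⥤ C'}
  {rf : A' ⥤ A} {rf' : B' ⥤ B} {rfU : C' ⥤ C} {rfU' : D' ⥤ D}

/-- The hexagon of mates. -/
theorem hexagon (ag : g ⊣ rg) (aj : j ⊣ rj) (aj' : j' ⊣ rj') (agU : gU ⊣ rgU)
    (ag' : g' ⊣ rg') (ajX : jX ⊣ rjX) (ajX' : jX' ⊣ rjX') (agU' : gU' ⊣ rgU')
    (af : f ⊣ rf) (af' : f' ⊣ rf') (afU : fU ⊣ rfU) (afU' : fU' ⊣ rfU')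
    {cg : g ⋙ f' ≅ f ⋙ g'} {eg : rg' ⋙ rf ≅ rf' ⋙ rg} (hg : BCMate.Compat af ag af' ag' cg eg)
    {cgU : gU ⋙ fU' ≅ fU ⋙ gU'} {egU : rgU' ⋙ rfU ≅ rfU' ⋙ rgU}
    (hgU : BCMate.Compat afU agU afU' agU' cgU egU)
    {cj : j ⋙ fU ≅ f ⋙ jX} {ej : rjX ⋙ rf ≅ rfU ⋙ rj} (hj : BCMate.Compat af aj afU ajX cj ej)
    {cj' : j' ⋙ fU' ≅ f' ⋙ jX'} {ej' : rjX' ⋙ rf' ≅ rfU' ⋙ rj'}
    (hj' : BCMate.Compat af' aj' afU' ajX' cj' ej')
    {ct : g' ⋙ jX' ≅ jX ⋙ gU'} {et : rgU' ⋙ rjX ≅ rjX' ⋙ rg'}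
    (ht : BCMate.Compat ajX ag' ajX' agU' ct et)
    {cb : g ⋙ j' ≅ j ⋙ gU} {eb : rgU ⋙ rj ≅ rj' ⋙ rg} (hb : BCMate.Compat aj ag aj' agU cb eb)
    (he : ∀ P, ej.hom.app (rgU'.obj P) ≫ rj.map (egU.hom.app P) ≫ eb.hom.app (rfU'.obj P) =
      rf.map (et.hom.app P) ≫ eg.hom.app (rjX'.obj P) ≫ rg.map (ej'.hom.app P))
    (M : A) :
    cj'.hom.app (g.obj M) ≫ jX'.map (cg.hom.app M) ≫ ct.hom.app (f.obj M) =
      fU'.map (cb.hom.app M) ≫ cgU.hom.app (j.obj M) ≫ gU'.map (cj.hom.app M) := by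
  unfold BCMate.Compat at hg hgU hj hj' ht hb
  simp only [Adjunction.comp_homEquiv, Equiv.trans_apply, Functor.comp_obj] at hg hgU hj hj' ht hb
  apply (afU'.homEquiv _ _).injective
  apply (aj'.homEquiv _ _).injective
  apply (ag.homEquiv _ _).injective
  dsimp only [Functor.comp_obj]
  let q : jX.obj (f.obj M) ⟶ rgU'.obj (gU'.obj (jX.obj (f.obj M))) := agU'.unit.app _
  have l0 := ht (f.obj M) _ (𝟙 _)
  rw [Category.comp_id, Adjunction.homEquiv_id] at l0
  have l1 : ajX'.homEquiv _ _ (jX'.map (cg.hom.app M) ≫ ct.hom.app (f.obj M)) =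
      cg.hom.app M ≫ ajX'.homEquiv _ _ (ct.hom.app (f.obj M)) := Adjunction.homEquiv_naturality_left _ _ _
  have l2 := hg M _ (ajX'.homEquiv _ _ (ct.hom.app (f.obj M)))
  dsimp only [Functor.comp_obj] at l0 l1 l2
  have L : ag.homEquiv _ _ (aj'.homEquiv _ _ (afU'.homEquiv _ _
      (cj'.hom.app (g.obj M) ≫ jX'.map (cg.hom.app M) ≫ ct.hom.app (f.obj M)))) =
      af.homEquiv _ _ (ajX.homEquiv _ _ q) ≫ rf.map (et.hom.app _) ≫ eg.hom.app _ ≫
        rg.map (ej'.hom.app _) := by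
    rw [← hj']
    dsimp only [Functor.comp_obj]
    rw [l1, Adjunction.homEquiv_naturality_right ag, ← l2, ← l0,
      Adjunction.homEquiv_naturality_right af]
    simp only [Category.assoc, q]
  have r2 : agU'.homEquiv _ _ (gU'.map (cj.hom.app M)) = cj.hom.app M ≫ q := by
    rw [Adjunction.homEquiv_unit]
    exact (agU'.unit.naturality (cj.hom.app M)).symm
  have r3 := hj M _ q
  dsimp only [Functor.comp_obj] at r2 r3
  have R : ag.homEquiv _ _ (aj'.homEquiv _ _ (afU'.homEquiv _ _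
      (fU'.map (cb.hom.app M) ≫ cgU.hom.app (j.obj M) ≫ gU'.map (cj.hom.app M)))) =
      af.homEquiv _ _ (ajX.homEquiv _ _ q) ≫ ej.hom.app _ ≫ rj.map (egU.hom.app _) ≫ eb.hom.app _ := by
    rw [Adjunction.homEquiv_naturality_left afU', ← hb]
    dsimp only [Functor.comp_obj]
    rw [← hgU, r2,
      Adjunction.homEquiv_naturality_right aj, ← r3]
    simp only [Category.assoc]
  exact L.trans ((congrArg (af.homEquiv _ _ (ajX.homEquiv _ _ q) ≫ ·) (he _).symm).trans R.symm)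

variable {cg : g ⋙ f' ≅ f ⋙ g'} {cgU : gU ⋙ fU' ≅ fU ⋙ gU'} {cj : j ⋙ fU ≅ f ⋙ jX}
  {cj' : j' ⋙ fU' ≅ f' ⋙ jX'} {ct : g' ⋙ jX' ≅ jX ⋙ gU'} {cb : g ⋙ j' ≅ j ⋙ gU}

/-- The cube identity for base change morphisms followed by maps out. -/
theorem cube (af : f ⊣ rf) (af' : f' ⊣ rf') (afU : fU ⊣ rfU) (afU' : fU' ⊣ rfU')
    (hex : ∀ M : A, cj'.hom.app (g.obj M) ≫ jX'.map (cg.hom.app M) ≫ ct.hom.app (f.obj M) =
      fU'.map (cb.hom.app M) ≫ cgU.hom.app (j.obj M) ≫ gU'.map (cj.hom.app M))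
    {E : A'} {EB : B'} {EC : C'} {ED ED' : D'}
    (kg : g'.obj E ⟶ EB) (kj' : jX'.obj EB ⟶ ED) (kj : jX.obj E ⟶ EC) (kgU : gU'.obj EC ⟶ ED')
    (β : ED ⟶ ED')
    (hk : jX'.map kg ≫ kj' ≫ β = ct.hom.app E ≫ gU'.map kj ≫ kgU) :
    j'.map (BCMate.bc af af' cg E ≫ rf'.map kg) ≫ (BCMate.bc af' afU' cj' EB ≫ rfU'.map kj') ≫
        rfU'.map β =
      cb.hom.app (rf.obj E) ≫ gU.map (BCMate.bc af afU cj E ≫ rfU.map kj) ≫
        (BCMate.bc afU afU' cgU EC ≫ rfU'.map kgU) := by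
  let m1 := cg.hom.app (rf.obj E) ≫ g'.map (af.counit.app E)
  let m2 := cj.hom.app (rf.obj E) ≫ jX.map (af.counit.app E)
  have hc1 : f'.map (af'.homEquiv _ _ (m1 ≫ kg)) ≫ af'.counit.app EB = m1 ≫ kg :=
    (af'.homEquiv_counit _ _ _).symm.trans (Equiv.symm_apply_apply _ _)
  have hc2 : fU.map (afU.homEquiv _ _ (m2 ≫ kj)) ≫ afU.counit.app EC = m2 ≫ kj :=
    (afU.homEquiv_counit _ _ _).symm.trans (Equiv.symm_apply_apply _ _)
  have n1 := cj'.hom.naturality (af'.homEquiv _ _ (m1 ≫ kg))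
  have n2 := cgU.hom.naturality (afU.homEquiv _ _ (m2 ≫ kj))
  have n3 := ct.hom.naturality (af.counit.app E)
  have h := hex (rf.obj E)
  dsimp only [Functor.comp_obj, Functor.comp_map] at n1 n2 n3 h hc1 hc2 hk
  unfold BCMate.bc
  dsimp only [Functor.comp_obj]
  rw [← Adjunction.homEquiv_naturality_right, ← Adjunction.homEquiv_naturality_right,
    ← Adjunction.homEquiv_naturality_right, ← Adjunction.homEquiv_naturality_right]
  simp only [Category.assoc, ← Adjunction.homEquiv_naturality_left,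
    ← Adjunction.homEquiv_naturality_right]
  refine congrArg (afU'.homEquiv _ _) ?_
  simp only [m1, m2, Category.assoc] at n1 n2 hc1 hc2
  rw [reassoc_of% n1, reassoc_of% n2, ← jX'.map_comp_assoc, hc1, ← gU'.map_comp_assoc, hc2]
  simp only [Functor.map_comp, Category.assoc]
  rw [hk, reassoc_of% n3, reassoc_of% h]

/-- Pasting of base change morphisms along composable direct images. -/
theorem paste (aj : j ⊣ rj) (aj' : j' ⊣ rj') (ajX : jX ⊣ rjX) (ajX' : jX' ⊣ rjX')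
    (af : f ⊣ rf) (af' : f' ⊣ rf') (afU : fU ⊣ rfU) (afU' : fU' ⊣ rfU')
    {ej : rjX ⋙ rf ≅ rfU ⋙ rj} (hj : BCMate.Compat af aj afU ajX cj ej)
    {ej' : rjX' ⋙ rf' ≅ rfU' ⋙ rj'} (hj' : BCMate.Compat af' aj' afU' ajX' cj' ej')
    (hex : ∀ M : A, cj'.hom.app (g.obj M) ≫ jX'.map (cg.hom.app M) ≫ ct.hom.app (f.obj M) =
      fU'.map (cb.hom.app M) ≫ cgU.hom.app (j.obj M) ≫ gU'.map (cj.hom.app M))
    (L : C') :
    BCMate.bc af af' cg (rjX.obj L) ≫ rf'.map (BCMate.bc ajX ajX' ct L) ≫ ej'.hom.app (gU'.obj L) =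
      g.map (ej.hom.app L) ≫ BCMate.bc aj aj' cb (rfU.obj L) ≫
        rj'.map (BCMate.bc afU afU' cgU L) := by
  unfold BCMate.Compat at hj hj'
  simp only [Adjunction.comp_homEquiv, Equiv.trans_apply, Functor.comp_obj] at hj hj'
  let m : jX.obj (f.obj (rf.obj (rjX.obj L))) ⟶ L := jX.map (af.counit.app (rjX.obj L)) ≫ ajX.counit.app L
  let k : j.obj (rf.obj (rjX.obj L)) ⟶ rfU.obj L := j.map (ej.hom.app L) ≫ aj.counit.app (rfU.obj L)
  have hm : af.homEquiv _ _ (ajX.homEquiv _ _ m) = 𝟙 _ := by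
    simp [m, Adjunction.homEquiv_unit]
  have hk : aj.homEquiv _ _ k = ej.hom.app L := by
    simp [k, Adjunction.homEquiv_unit]
  have h0 := hj (rf.obj (rjX.obj L)) L m
  rw [hm, Category.id_comp] at h0
  have hL : cj.hom.app (rf.obj (rjX.obj L)) ≫ m = fU.map k ≫ afU.counit.app L := by
    refine ((afU.homEquiv _ _).symm_apply_apply _).symm.trans ?_
    rw [show afU.homEquiv _ _ (cj.hom.app (rf.obj (rjX.obj L)) ≫ m) = k from
      (aj.homEquiv _ _).injective (h0.symm.trans hk.symm)]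
    exact Adjunction.homEquiv_counit _ _ _ _
  unfold BCMate.bc
  dsimp only [Functor.comp_obj]
  rw [← Category.assoc, ← Adjunction.homEquiv_naturality_right]
  have e1 : (cg.hom.app (rf.obj (rjX.obj L)) ≫ g'.map (af.counit.app (rjX.obj L))) ≫
      ajX'.homEquiv _ _ (ct.hom.app (rjX.obj L) ≫ gU'.map (ajX.counit.app L)) =
      ajX'.homEquiv _ _ (jX'.map (cg.hom.app (rf.obj (rjX.obj L))) ≫
        ct.hom.app (f.obj (rf.obj (rjX.obj L))) ≫ gU'.map m) := by
    have n3 := ct.hom.naturality (af.counit.app (rjX.obj L))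
    dsimp only [Functor.comp_obj, Functor.comp_map] at n3
    rw [← Adjunction.homEquiv_naturality_left, Functor.map_comp, Category.assoc, reassoc_of% n3,
      Functor.map_comp]
    rfl
  dsimp only [Functor.comp_obj, Functor.id_obj] at e1
  rw [e1, hj', ← Adjunction.homEquiv_naturality_right, ← Adjunction.homEquiv_naturality_left]
  refine congrArg (aj'.homEquiv _ _) ?_
  have n4 := cgU.hom.naturality k
  have n5 := cb.hom.naturality (ej.hom.app L)
  dsimp only [Functor.comp_obj, Functor.comp_map] at n4 n5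
  rw [reassoc_of% hex (rf.obj (rjX.obj L)), ← gU'.map_comp, hL, gU'.map_comp]
  simp only [Category.assoc]
  rw [reassoc_of% n5, ← gU.map_comp_assoc]
  rw [← Adjunction.homEquiv_naturality_left, ← Adjunction.homEquiv_naturality_left]
  refine congrArg (afU'.homEquiv _ _) ?_
  rw [reassoc_of% n4]

end Abstract

open PullTranspose BCSquare

variable {X S S' X' U U' XU XU' : Scheme.{u}}

/-- A commutative cube: the square `(g, f, f', g')` and its pullback along `j, j'`. -/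
structure Cube (f : X ⟶ S) (g : S' ⟶ S) (f' : X' ⟶ S') (g' : X' ⟶ X)
    (fU : XU ⟶ U) (gU : U' ⟶ U) (fU' : XU' ⟶ U') (gU' : XU' ⟶ XU)
    (j : U ⟶ S) (j' : U' ⟶ S') (jX : XU ⟶ X) (jX' : XU' ⟶ X') : Prop where
  w : g' ≫ f = f' ≫ g
  wU : gU' ≫ fU = fU' ≫ gU
  wj : jX ≫ f = fU ≫ j
  wj' : jX' ≫ f' = fU' ≫ j'
  wb : gU ≫ j = j' ≫ g
  wt : gU' ≫ jX = jX' ≫ g'

variable {f : X ⟶ S} {g : S' ⟶ S} {f' : X' ⟶ S'} {g' : X' ⟶ X}
  {fU : XU ⟶ U} {gU : U' ⟶ U} {fU' : XU' ⟶ U'} {gU' : XU' ⟶ XU}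
  {j : U ⟶ S} {j' : U' ⟶ S'} {jX : XU ⟶ X} {jX' : XU' ⟶ X'}
  (c : Cube f g f' g' fU gU fU' gU' j j' jX jX')

include c

/-- The hexagon for module pullbacks. -/
theorem γ_hexagon (M : S.Modules) :
    (γ f' j' fU' jX' c.wj').hom.app ((Scheme.Modules.pullback g).obj M) ≫
        (Scheme.Modules.pullback jX').map ((γ f g f' g' c.w).hom.app M) ≫
        (γ jX g' jX' gU' c.wt).hom.app ((Scheme.Modules.pullback f).obj M) =
      (Scheme.Modules.pullback fU').map ((γ j g j' gU c.wb).hom.app M) ≫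
        (γ fU gU fU' gU' c.wU).hom.app ((Scheme.Modules.pullback j).obj M) ≫
        (Scheme.Modules.pullback gU').map ((γ f j fU jX c.wj).hom.app M) := by
  refine hexagon _ _ _ _ _ _ _ _ _ _ _ _
    (BCMate.compat_leftIso _ _ _ _ (CohDelta.BC.Lift.sq f g f' g' c.w))
    (BCMate.compat_leftIso _ _ _ _ (CohDelta.BC.Lift.sq fU gU fU' gU' c.wU))
    (BCMate.compat_leftIso _ _ _ _ (CohDelta.BC.Lift.sq f j fU jX c.wj))
    (BCMate.compat_leftIso _ _ _ _ (CohDelta.BC.Lift.sq f' j' fU' jX' c.wj'))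
    (BCMate.compat_leftIso _ _ _ _ (CohDelta.BC.Lift.sq jX g' jX' gU' c.wt))
    (BCMate.compat_leftIso _ _ _ _ (CohDelta.BC.Lift.sq j g j' gU c.wb)) (fun P => ?_) M
  refine Scheme.Modules.hom_ext _ _ fun O => ?_
  simp [CohDelta.BC.Lift.sq, eqToHom_map]

section Derived

variable [DCoh.HasLpull f] [DCoh.HasLpull g] [DCoh.HasLpull f'] [DCoh.HasLpull g']
  [DCoh.HasLpull fU] [DCoh.HasLpull gU] [DCoh.HasLpull fU'] [DCoh.HasLpull gU']
  [DCoh.HasLpull j] [DCoh.HasLpull j'] [DCoh.HasLpull jX] [DCoh.HasLpull jX']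

omit [DCoh.HasLpull f] [DCoh.HasLpull g] [DCoh.HasLpull f'] [DCoh.HasLpull g']
  [DCoh.HasLpull fU] [DCoh.HasLpull gU] [DCoh.HasLpull fU'] [DCoh.HasLpull gU']
  [DCoh.HasLpull j] [DCoh.HasLpull j'] [DCoh.HasLpull jX] [DCoh.HasLpull jX'] in
/-- The hexagon on complexes. -/
theorem γC_hexagon (K : CochainComplex S.Modules ℤ) :
    (γC f' j' fU' jX' c.wj').hom.app ((pullC g).obj K) ≫
        (pullC jX').map ((γC f g f' g' c.w).hom.app K) ≫
        (γC jX g' jX' gU' c.wt).hom.app ((pullC f).obj K) =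
      (pullC fU').map ((γC j g j' gU c.wb).hom.app K) ≫
        (γC fU gU fU' gU' c.wU).hom.app ((pullC j).obj K) ≫
        (pullC gU').map ((γC f j fU jX c.wj).hom.app K) :=
  HomologicalComplex.hom_ext _ _ fun i => γ_hexagon c (K.X i)

/-- One side of the hexagon. -/
noncomputable def hexL : DCoh.Lpull g ⋙ DCoh.Lpull j' ⋙ DCoh.Lpull fU' ⟶
    DCoh.Lpull f ⋙ DCoh.Lpull jX ⋙ DCoh.Lpull gU' where
  app D := (sqLeft f' j' fU' jX' c.wj').hom.app ((DCoh.Lpull g).obj D) ≫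
    (DCoh.Lpull jX').map ((sqLeft f g f' g' c.w).hom.app D) ≫
    (sqLeft jX g' jX' gU' c.wt).hom.app ((DCoh.Lpull f).obj D)
  naturality D D' φ := by
    have h1 := (sqLeft f' j' fU' jX' c.wj').hom.naturality ((DCoh.Lpull g).map φ)
    have h2 := (sqLeft f g f' g' c.w).hom.naturality φ
    have h3 := (sqLeft jX g' jX' gU' c.wt).hom.naturality ((DCoh.Lpull f).map φ)
    dsimp only [Functor.comp_obj, Functor.comp_map] at h1 h2 h3 ⊢
    simp only [Category.assoc]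
    rw [reassoc_of% h1, ← (DCoh.Lpull jX').map_comp_assoc, h2, (DCoh.Lpull jX').map_comp_assoc, h3]

/-- The other side of the hexagon. -/
noncomputable def hexR : DCoh.Lpull g ⋙ DCoh.Lpull j' ⋙ DCoh.Lpull fU' ⟶
    DCoh.Lpull f ⋙ DCoh.Lpull jX ⋙ DCoh.Lpull gU' where
  app D := (DCoh.Lpull fU').map ((sqLeft j g j' gU c.wb).hom.app D) ≫
    (sqLeft fU gU fU' gU' c.wU).hom.app ((DCoh.Lpull j).obj D) ≫
    (DCoh.Lpull gU').map ((sqLeft f j fU jX c.wj).hom.app D)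
  naturality D D' φ := by
    have h1 := (sqLeft j g j' gU c.wb).hom.naturality φ
    have h2 := (sqLeft fU gU fU' gU' c.wU).hom.naturality ((DCoh.Lpull j).map φ)
    have h3 := (sqLeft f j fU jX c.wj).hom.naturality φ
    dsimp only [Functor.comp_obj, Functor.comp_map] at h1 h2 h3 ⊢
    simp only [Category.assoc]
    rw [← (DCoh.Lpull fU').map_comp_assoc, h1, (DCoh.Lpull fU').map_comp_assoc, reassoc_of% h2,
      ← (DCoh.Lpull gU').map_comp, h3, (DCoh.Lpull gU').map_comp]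

lemma hex_app_Q {P : CochainComplex S.Modules ℤ} (hP : DCoh.IsKFlat P) :
    (hexL c).app (DerivedCategory.Q.obj P) = (hexR c).app (DerivedCategory.Q.obj P) := by
  haveI := isIso_counitCx f hP
  haveI := isIso_counitCx jX (KFlatPullback.isKFlat_pullback f hP)
  haveI := isIso_counitCx gU' (KFlatPullback.isKFlat_pullback jX (KFlatPullback.isKFlat_pullback f hP))
  haveI : IsIso ((DCoh.Lpull gU').map ((DCoh.Lpull jX).map ((counitCx f).app P) ≫
      (counitCx jX).app ((pullC f).obj P)) ≫ (counitCx gU').app ((pullC jX).obj ((pullC f).obj P))) :=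
    inferInstance
  refine (cancel_mono ((DCoh.Lpull gU').map ((DCoh.Lpull jX).map ((counitCx f).app P) ≫
      (counitCx jX).app ((pullC f).obj P)) ≫
      (counitCx gU').app ((pullC jX).obj ((pullC f).obj P)))).1 ?_
  have a1 := (sqLeft jX g' jX' gU' c.wt).hom.naturality ((counitCx f).app P)
  have a2 := (sqLeft f' j' fU' jX' c.wj').hom.naturality ((counitCx g).app P)
  have a3 := (sqLeft fU gU fU' gU' c.wU).hom.naturality ((counitCx j).app P)
  have b1 := sqLeft_fac f g f' g' c.w P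
  have b2 := sqLeft_fac jX g' jX' gU' c.wt ((pullC f).obj P)
  have b3 := sqLeft_fac f' j' fU' jX' c.wj' ((pullC g).obj P)
  have b4 := sqLeft_fac j g j' gU c.wb P
  have b5 := sqLeft_fac fU gU fU' gU' c.wU ((pullC j).obj P)
  have b6 := sqLeft_fac f j fU jX c.wj P
  have n1 := (counitCx jX').naturality ((γC f g f' g' c.w).hom.app P)
  have n2 := (counitCx gU').naturality ((γC f j fU jX c.wj).hom.app P)
  have n3 := (counitCx fU').naturality ((γC j g j' gU c.wb).hom.app P)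
  have hh := γC_hexagon c P
  dsimp only [hexL, hexR, Functor.comp_obj, Functor.comp_map] at a1 a2 a3 b1 b2 b3 b4 b5 b6 n1 n2 n3 hh ⊢
  simp only [Functor.map_comp, Category.assoc]
  rw [← reassoc_of% a1, b2, ← (DCoh.Lpull jX').map_comp_assoc, ← (DCoh.Lpull jX').map_comp_assoc,
    Category.assoc, b1]
  simp only [Functor.map_comp, Category.assoc]
  rw [reassoc_of% n1, ← reassoc_of% a2, reassoc_of% b3]
  rw [← (DCoh.Lpull gU').map_comp_assoc, ← (DCoh.Lpull gU').map_comp_assoc, Category.assoc, b6]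
  simp only [Functor.map_comp, Category.assoc]
  have b4' := congrArg (fun t => (DCoh.Lpull fU').map t) b4
  simp only [Functor.map_comp] at b4'
  rw [n2, ← reassoc_of% a3, reassoc_of% b5, reassoc_of% b4']
  rw [reassoc_of% n3, ← Functor.map_comp, ← Functor.map_comp, hh, Functor.map_comp, Functor.map_comp]

/-- The hexagon for derived pullbacks. -/
theorem sqLeft_hexagon (D : DCoh.D S) :
    (sqLeft f' j' fU' jX' c.wj').hom.app ((DCoh.Lpull g).obj D) ≫
        (DCoh.Lpull jX').map ((sqLeft f g f' g' c.w).hom.app D) ≫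
        (sqLeft jX g' jX' gU' c.wt).hom.app ((DCoh.Lpull f).obj D) =
      (DCoh.Lpull fU').map ((sqLeft j g j' gU c.wb).hom.app D) ≫
        (sqLeft fU gU fU' gU' c.wU).hom.app ((DCoh.Lpull j).obj D) ≫
        (DCoh.Lpull gU').map ((sqLeft f j fU jX c.wj).hom.app D) := by
  obtain ⟨P, hP, ⟨e⟩⟩ := QCohLocal.exists_kflat D
  change (hexL c).app D = (hexR c).app D
  refine (cancel_epi ((DCoh.Lpull g ⋙ DCoh.Lpull j' ⋙ DCoh.Lpull fU').map e.hom)).1 ?_
  rw [(hexL c).naturality, (hexR c).naturality, hex_app_Q c hP]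

variable [DCoh.HasRpush f] [DCoh.HasRpush f'] [DCoh.HasRpush fU] [DCoh.HasRpush fU']

omit c [DCoh.HasLpull gU] [DCoh.HasLpull fU] [DCoh.HasLpull fU'] [DCoh.HasLpull gU']
  [DCoh.HasLpull j] [DCoh.HasLpull j'] [DCoh.HasLpull jX] [DCoh.HasLpull jX']
  [DCoh.HasRpush fU] [DCoh.HasRpush fU'] in
variable (f g f' g') in
/-- The base change morphism followed by the counit of `Lg'^*`. -/
noncomputable def ψ (w : g' ≫ f = f' ≫ g) : DerivedCategory.Q ⋙ DCoh.Rpush f ⋙ DCoh.Lpull g ⟶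
    pullC g' ⋙ DerivedCategory.Q ⋙ DCoh.Rpush f' where
  app F := BCMate.bc (PullPushAdj.derivedAdjunction f) (PullPushAdj.derivedAdjunction f')
    (sqLeft f g f' g' w) (DerivedCategory.Q.obj F) ≫ (DCoh.Rpush f').map ((counitCx g').app F)
  naturality F F' φ := by
    have h := (counitCx g').naturality φ
    dsimp only [Functor.comp_obj, Functor.comp_map] at h ⊢
    rw [reassoc_of% BCMate.bc_naturality (PullPushAdj.derivedAdjunction f)
      (PullPushAdj.derivedAdjunction f') (sqLeft f g f' g' w) (DerivedCategory.Q.map φ),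
      Category.assoc, ← Functor.map_comp, h, Functor.map_comp]

/-- **The cube identity.** -/
theorem ψ_cube (F : CochainComplex X.Modules ℤ) :
    (DCoh.Lpull j').map ((ψ f g f' g' c.w).app F) ≫ (ψ f' j' fU' jX' c.wj').app ((pullC g').obj F) ≫
        (DCoh.Rpush fU').map (DerivedCategory.Q.map ((γC jX g' jX' gU' c.wt).hom.app F)) =
      (sqLeft j g j' gU c.wb).hom.app ((DCoh.Rpush f).obj (DerivedCategory.Q.obj F)) ≫
        (DCoh.Lpull gU).map ((ψ f j fU jX c.wj).app F) ≫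
        (ψ fU gU fU' gU' c.wU).app ((pullC jX).obj F) :=
  cube (PullPushAdj.derivedAdjunction f) (PullPushAdj.derivedAdjunction f')
    (PullPushAdj.derivedAdjunction fU) (PullPushAdj.derivedAdjunction fU')
    (sqLeft_hexagon c) ((counitCx g').app F) ((counitCx jX').app ((pullC g').obj F))
    ((counitCx jX).app F) ((counitCx gU').app ((pullC jX).obj F))
    (DerivedCategory.Q.map ((γC jX g' jX' gU' c.wt).hom.app F))
    (sqLeft_fac jX g' jX' gU' c.wt F).symm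

end Derived

end Groth.Agent.Lib.DerivedOX.BCCube
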