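import Groth.Agent.Lib.DerivedOX.BCOpen
import Groth.Agent.Lib.DerivedOX.BCCube

/-!
# Mayer–Vietoris for base change morphisms

If the base change morphism `ψ` of `(f, F)` is invertible over two members of an open cover and over
their intersection, it is invertible.
-/

set_option autoImplicit false
set_option linter.style.haveILetI false
set_option linter.unusedSectionVars false
set_option maxHeartbeats 1000000

universe u

open CategoryTheory Limits AlgebraicGeometry Pretriangulated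

attribute [local instance] HasDerivedCategory.standard
attribute [local instance] Groth.Agent.Lib.DerivedOX.LeftExists.hasLpull
  Groth.Agent.Lib.DerivedOX.Exists.hasRpush

namespace Groth.Agent.Lib.DerivedOX.BCMV

open PullTranspose BCSquare BCCube BCOpen

section Abstract

variable {C D E : Type*} [Category C] [Category D] [Category E]

/-- Maps out of an object into a direct image are determined after restriction. -/
theorem eq_of_map_comp {L : D ⥤ E} {R : E ⥤ D} (a : L ⊣ R) {A B : D} {M : E} (η : A ⟶ B)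
    (h : IsIso (L.map η)) {x y : B ⟶ R.obj M} (hxy : η ≫ x = η ≫ y) : x = y := by
  haveI := h
  apply (a.homEquiv _ _).symm.injective
  rw [← cancel_epi (L.map η), ← Adjunction.homEquiv_naturality_left_symm,
    ← Adjunction.homEquiv_naturality_left_symm, hxy]

end Abstract

section Tri

variable {C D : Type*} [Category C] [Category D] [HasShift C ℤ] [HasShift D ℤ] [Preadditive C]
  [Preadditive D] [HasZeroObject C] [HasZeroObject D] [∀ n : ℤ, (shiftFunctor C n).Additive]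
  [∀ n : ℤ, (shiftFunctor D n).Additive] [Pretriangulated C] [Pretriangulated D]
  {E : Type*} [Category E] [HasShift E ℤ]

/-- Five lemma for a natural transformation followed by a morphism of triangles. -/
theorem isIso₁_of_natTrans [Preadditive E] [HasZeroObject E] [∀ n : ℤ, (shiftFunctor E n).Additive]
    [Pretriangulated E] {F : C ⥤ E} {G : C ⥤ D} {H : D ⥤ E} [F.CommShift ℤ] [G.CommShift ℤ]
    [H.CommShift ℤ] [F.IsTriangulated] [H.IsTriangulated] (τ : F ⟶ G ⋙ H) [NatTrans.CommShift τ ℤ]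
    {T : Triangle C} (hT : T ∈ distTriang C) {T' : Triangle D} (hT' : T' ∈ distTriang D)
    (m : G.mapTriangle.obj T ⟶ T')
    (h2 : IsIso (τ.app T.obj₂ ≫ H.map m.hom₂)) (h3 : IsIso (τ.app T.obj₃ ≫ H.map m.hom₃)) :
    IsIso (τ.app T.obj₁ ≫ H.map m.hom₁) := by
  have c1 := m.comm₁
  have c2 := m.comm₂
  have c3 := m.comm₃
  have hs := NatTrans.shift_app_comm τ (1 : ℤ) T.obj₁
  have hn := H.commShiftIso_hom_naturality m.hom₁ (1 : ℤ)
  dsimp at c1 c2 c3 hs hn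
  let P : F.mapTriangle.obj T ⟶ H.mapTriangle.obj T' :=
    Triangle.homMk _ _ (τ.app T.obj₁ ≫ H.map m.hom₁) (τ.app T.obj₂ ≫ H.map m.hom₂)
      (τ.app T.obj₃ ≫ H.map m.hom₃)
      (by
        change F.map T.mor₁ ≫ τ.app T.obj₂ ≫ H.map m.hom₂ =
          (τ.app T.obj₁ ≫ H.map m.hom₁) ≫ H.map T'.mor₁
        rw [τ.naturality_assoc, Category.assoc]
        exact congrArg (τ.app T.obj₁ ≫ ·) ((H.map_comp _ _).symm.trans
          ((congrArg H.map c1).trans (H.map_comp _ _))))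
      (by
        change F.map T.mor₂ ≫ τ.app T.obj₃ ≫ H.map m.hom₃ =
          (τ.app T.obj₂ ≫ H.map m.hom₂) ≫ H.map T'.mor₂
        rw [τ.naturality_assoc, Category.assoc]
        exact congrArg (τ.app T.obj₂ ≫ ·) ((H.map_comp _ _).symm.trans
          ((congrArg H.map c2).trans (H.map_comp _ _))))
      (by
        change (F.map T.mor₃ ≫ (F.commShiftIso (1 : ℤ)).hom.app T.obj₁) ≫
            (τ.app T.obj₁ ≫ H.map m.hom₁)⟦(1 : ℤ)⟧' =
          (τ.app T.obj₃ ≫ H.map m.hom₃) ≫ H.map T'.mor₃ ≫ (H.commShiftIso (1 : ℤ)).hom.app T'.obj₁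
        rw [Category.assoc, Functor.map_comp, reassoc_of% hs, τ.naturality_assoc]
        simp only [Functor.comp_obj, Functor.comp_map, Category.assoc, Functor.commShiftIso_comp_hom_app]
        refine congrArg (τ.app T.obj₃ ≫ ·) ?_
        have hn' : (H.commShiftIso (1 : ℤ)).hom.app (G.obj T.obj₁) ≫
            (shiftFunctor E (1 : ℤ)).map (H.map m.hom₁) =
            H.map ((shiftFunctor D (1 : ℤ)).map m.hom₁) ≫ (H.commShiftIso (1 : ℤ)).hom.app T'.obj₁ := hn.symm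
        have c3' : (G.map T.mor₃ ≫ (G.commShiftIso (1 : ℤ)).hom.app T.obj₁) ≫
            (shiftFunctor D (1 : ℤ)).map m.hom₁ = m.hom₃ ≫ T'.mor₃ := c3
        rw [hn']
        simp only [← Category.assoc, ← H.map_comp]
        exact (Category.assoc _ _ _).symm.trans (congrArg (· ≫ (H.commShiftIso (1 : ℤ)).hom.app T'.obj₁)
          ((H.map_comp _ _).symm.trans (congrArg H.map c3'))))
  exact Pretriangulated.isIso₁_of_isIso₂₃ P (F.map_distinguished T hT) (H.map_distinguished T' hT') h2 h3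

end Tri

variable {X S S' X' : Scheme.{u}} (f : X ⟶ S) (g : S' ⟶ S) (f' : X' ⟶ S') (g' : X' ⟶ X)
  (w : g' ≫ f = f' ≫ g) (F : CochainComplex X.Modules ℤ) (W : X.Opens)

/-- The restriction of `g'` over `W`. -/
noncomputable abbrev gW : (g' ⁻¹ᵁ W : X'.Opens).toScheme ⟶ W.toScheme := g'.resLE W (g' ⁻¹ᵁ W) le_rfl

lemma wt : gW g' W ≫ W.ι = (g' ⁻¹ᵁ W).ι ≫ g' := Scheme.Hom.resLE_comp_ι g' le_rfl

/-- `Lg'^*(R_W F) ⟶ R_{W'}(g'^*F)`. -/
noncomputable def m : (DCoh.Lpull g').obj (RW F W) ⟶ RW ((pullC g').obj F) (g' ⁻¹ᵁ W) :=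
  (ψ W.ι g' (g' ⁻¹ᵁ W).ι (gW g' W) (wt g' W)).app ((pullC W.ι).obj F) ≫
    (DCoh.Rpush (g' ⁻¹ᵁ W).ι).map (DerivedCategory.Q.map
      ((γC W.ι g' (g' ⁻¹ᵁ W).ι (gW g' W) (wt g' W)).inv.app F))

theorem η_m : (DCoh.Lpull g').map (η F W) ≫ m g' F W =
    (counitCx g').app F ≫ η ((pullC g').obj F) (g' ⁻¹ᵁ W) := by
  have hfac := sqLeft_fac W.ι g' (g' ⁻¹ᵁ W).ι (gW g' W) (wt g' W) F
  have hn := (sqLeft W.ι g' (g' ⁻¹ᵁ W).ι (gW g' W) (wt g' W)).hom.naturality (η F W)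
  have hm := map_η F W
  unfold m ψ BCMate.bc η
  dsimp only [Functor.comp_obj, Functor.comp_map] at hn hfac ⊢
  rw [← Adjunction.homEquiv_naturality_right, ← Adjunction.homEquiv_naturality_right,
    ← Adjunction.homEquiv_naturality_left, ← Adjunction.homEquiv_naturality_left]
  refine congrArg _ ?_
  simp only [Category.assoc]
  unfold η at hn hm
  rw [reassoc_of% hn, ← Functor.map_comp_assoc, hm, reassoc_of% hfac, ← Functor.map_comp]
  simp

variable {W} {V : X.Opens} (h : W ≤ V)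

include h in
theorem isIso_map_map_η :
    IsIso ((DCoh.Lpull (g' ⁻¹ᵁ W).ι).map ((DCoh.Lpull g').map (η F V))) := by
  haveI := isIso_map_η_le F h
  exact (NatIso.isIso_map_iff (sqLeft W.ι g' (g' ⁻¹ᵁ W).ι (gW g' W) (wt g' W)) (η F V)).2
    (by dsimp; infer_instance)

theorem ρ_m : (DCoh.Lpull g').map (ρ F h) ≫ m g' F W =
    m g' F V ≫ ρ ((pullC g').obj F) (g'.preimage_mono h) := by
  refine eq_of_map_comp (PullPushAdj.derivedAdjunction (g' ⁻¹ᵁ W).ι) ((DCoh.Lpull g').map (η F V))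
    (isIso_map_map_η g' F h) ?_
  rw [← Functor.map_comp_assoc, η_ρ, η_m, reassoc_of% η_m g' F V, η_ρ]

include h in
theorem isIso_map_map_ρ :
    IsIso ((DCoh.Lpull (g' ⁻¹ᵁ W).ι).map ((DCoh.Lpull g').map (ρ F h))) := by
  haveI := isIso_map_map_η g' F h
  haveI : IsIso ((DCoh.Lpull (g' ⁻¹ᵁ W).ι).map ((DCoh.Lpull g').map (η F V)) ≫
      (DCoh.Lpull (g' ⁻¹ᵁ W).ι).map ((DCoh.Lpull g').map (ρ F h))) := by
    rw [← Functor.map_comp, ← Functor.map_comp, η_ρ]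
    exact isIso_map_map_η g' F le_rfl
  exact IsIso.of_isIso_comp_left ((DCoh.Lpull (g' ⁻¹ᵁ W).ι).map ((DCoh.Lpull g').map (η F V))) _

omit F in
theorem isIso_of_isIso_map_id {Z : Scheme.{u}} {A B : DCoh.D Z} (φ : A ⟶ B)
    (h : IsIso ((DCoh.Lpull (𝟙 Z)).map φ)) : IsIso φ := by
  obtain ⟨C, b, c, hT⟩ := distinguished_cocone_triangle φ
  refine (Triangle.isZero₃_iff_isIso₁ _ hT).1 (OpenSupport.isZero_of_homology C fun n => ?_)
  have hz : IsZero ((DCoh.Lpull (𝟙 Z)).obj C) :=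
    (Triangle.isZero₃_iff_isIso₁ _ ((DCoh.Lpull (𝟙 Z)).map_distinguished _ hT)).2 h
  obtain ⟨θ⟩ := BCFlat.nonempty_HD_Lpull (𝟙 Z) C n
  exact ((DerivedCategory.homologyFunctor _ n).map_isZero hz).of_iso
    (((Scheme.Modules.pullbackId Z).app (DCoh.HD C n)).symm ≪≫ θ.symm)

omit F in
instance isIso_unit_id {Z : Scheme.{u}} (A : DCoh.D Z) :
    IsIso ((PullPushAdj.derivedAdjunction (𝟙 Z)).unit.app A) :=
  isIso_of_isIso_map_id _ (isIso_Lpull_unit (𝟙 Z) A)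

omit F in
theorem isIso_bc_id (E : DCoh.D S) : IsIso (BCMate.bc (PullPushAdj.derivedAdjunction (𝟙 S))
    (PullPushAdj.derivedAdjunction (𝟙 S'))
    (sqLeft (𝟙 S) g (𝟙 S') g ((Category.comp_id g).trans (Category.id_comp g).symm)) E) := by
  unfold BCMate.bc
  rw [Adjunction.homEquiv_unit]
  infer_instance

variable (W) in
/-- The component of `ψ` over `W` is invertible iff it is invertible for `f|_W`. -/
theorem isIso_Φ (hW : IsIso ((ψ (W.ι ≫ f) g ((g' ⁻¹ᵁ W).ι ≫ f') (gW g' W)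
      (by rw [← Category.assoc, wt, Category.assoc, w, Category.assoc])).app ((pullC W.ι).obj F))) :
    IsIso ((bcD f g f' g' w).app (RW F W) ≫ (DCoh.Rpush f').map (m g' F W)) := by
  have c : Cube f g f' g' (W.ι ≫ f) g ((g' ⁻¹ᵁ W).ι ≫ f') (gW g' W) (𝟙 S) (𝟙 S') W.ι (g' ⁻¹ᵁ W).ι :=
    ⟨w, by rw [← Category.assoc, wt, Category.assoc, w, Category.assoc], (Category.comp_id _).symm,
      (Category.comp_id _).symm, (Category.comp_id g).trans (Category.id_comp g).symm, wt g' W⟩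
  let L := DerivedCategory.Q.obj ((pullC W.ι).obj F)
  let ej := BCMate.rightIso (PullPushAdj.derivedAdjunction f) (PullPushAdj.derivedAdjunction (𝟙 S))
    (PullPushAdj.derivedAdjunction (W.ι ≫ f)) (PullPushAdj.derivedAdjunction W.ι)
    (sqLeft f (𝟙 S) (W.ι ≫ f) W.ι c.wj)
  let ej' := BCMate.rightIso (PullPushAdj.derivedAdjunction f') (PullPushAdj.derivedAdjunction (𝟙 S'))
    (PullPushAdj.derivedAdjunction ((g' ⁻¹ᵁ W).ι ≫ f')) (PullPushAdj.derivedAdjunction (g' ⁻¹ᵁ W).ι)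
    (sqLeft f' (𝟙 S') ((g' ⁻¹ᵁ W).ι ≫ f') (g' ⁻¹ᵁ W).ι c.wj')
  have key := BCCube.paste (cg := sqLeft f g f' g' c.w)
    (cgU := sqLeft (W.ι ≫ f) g ((g' ⁻¹ᵁ W).ι ≫ f') (gW g' W) c.wU)
    (ct := sqLeft W.ι g' (g' ⁻¹ᵁ W).ι (gW g' W) c.wt) (cb := sqLeft (𝟙 S) g (𝟙 S') g c.wb)
    (PullPushAdj.derivedAdjunction (𝟙 S)) (PullPushAdj.derivedAdjunction (𝟙 S'))
    (PullPushAdj.derivedAdjunction W.ι) (PullPushAdj.derivedAdjunction (g' ⁻¹ᵁ W).ι)
    (PullPushAdj.derivedAdjunction f) (PullPushAdj.derivedAdjunction f')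
    (PullPushAdj.derivedAdjunction (W.ι ≫ f)) (PullPushAdj.derivedAdjunction ((g' ⁻¹ᵁ W).ι ≫ f'))
    (ej := ej) (BCMate.compat_rightIso _ _ _ _ (sqLeft f (𝟙 S) (W.ι ≫ f) W.ι c.wj))
    (ej' := ej') (BCMate.compat_rightIso _ _ _ _
      (sqLeft f' (𝟙 S') ((g' ⁻¹ᵁ W).ι ≫ f') (g' ⁻¹ᵁ W).ι c.wj'))
    (sqLeft_hexagon c) L
  have hn := ej'.inv.naturality ((counitCx (gW g' W)).app ((pullC W.ι).obj F))
  have e : (bcD f g f' g' w).app (RW F W) ≫ (DCoh.Rpush f').map (m g' F W) =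
      ((DCoh.Lpull g).map (ej.hom.app L) ≫
        BCMate.bc (PullPushAdj.derivedAdjunction (𝟙 S)) (PullPushAdj.derivedAdjunction (𝟙 S'))
          (sqLeft (𝟙 S) g (𝟙 S') g c.wb) _ ≫
        (DCoh.Rpush (𝟙 S')).map ((ψ (W.ι ≫ f) g ((g' ⁻¹ᵁ W).ι ≫ f') (gW g' W) c.wU).app
          ((pullC W.ι).obj F))) ≫ ej'.inv.app _ ≫
      (DCoh.Rpush f').map ((DCoh.Rpush (g' ⁻¹ᵁ W).ι).map (DerivedCategory.Q.map
        ((γC W.ι g' (g' ⁻¹ᵁ W).ι (gW g' W) c.wt).inv.app F))) := by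
    have key' := key =≫ ej'.inv.app _
    simp only [Category.assoc, Iso.hom_inv_id_app] at key'
    dsimp only [m, ψ, bcD, BCMate.bcNat, Functor.comp_obj, Functor.comp_map] at key' hn ⊢
    simp only [Functor.map_comp, Category.assoc, Category.comp_id] at key' hn ⊢
    rw [reassoc_of% key', reassoc_of% hn]
  rw [e]
  haveI := isIso_bc_id g ((DCoh.Rpush (W.ι ≫ f)).obj L)
  haveI := hW
  infer_instance

variable (W)

theorem isIso_biprod {U₁ U₂ : X.Opens} (τA : ∀ E, (DCoh.Lpull g).obj ((DCoh.Rpush f).obj E) ⟶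
      (DCoh.Rpush f').obj ((DCoh.Lpull g').obj E))
    (nat : ∀ {E E' : DCoh.D X} (φ : E ⟶ E'), (DCoh.Lpull g).map ((DCoh.Rpush f).map φ) ≫ τA E' =
      τA E ≫ (DCoh.Rpush f').map ((DCoh.Lpull g').map φ))
    (h1 : IsIso (τA (RW F U₁) ≫ (DCoh.Rpush f').map (m g' F U₁)))
    (h2 : IsIso (τA (RW F U₂) ≫ (DCoh.Rpush f').map (m g' F U₂))) :
    IsIso (τA (RW F U₁ ⊞ RW F U₂) ≫ (DCoh.Rpush f').map
      (biprod.lift ((DCoh.Lpull g').map biprod.fst ≫ m g' F U₁)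
        ((DCoh.Lpull g').map biprod.snd ≫ m g' F U₂))) := by
  let P := DCoh.Rpush f ⋙ DCoh.Lpull g
  haveI : PreservesBinaryBiproduct (RW F U₁) (RW F U₂) P := by
    haveI := preservesBinaryBiproducts_of_preservesBiproducts P
    infer_instance
  haveI := preservesBinaryBiproducts_of_preservesBiproducts (DCoh.Rpush f')
  haveI := h1
  haveI := h2
  let e := P.mapBiprod (RW F U₁) (RW F U₂) ≪≫
    biprod.mapIso (asIso (τA (RW F U₁) ≫ (DCoh.Rpush f').map (m g' F U₁)))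
      (asIso (τA (RW F U₂) ≫ (DCoh.Rpush f').map (m g' F U₂))) ≪≫
    ((DCoh.Rpush f').mapBiprod (RW ((pullC g').obj F) (g' ⁻¹ᵁ U₁))
      (RW ((pullC g').obj F) (g' ⁻¹ᵁ U₂))).symm
  suffices he : τA (RW F U₁ ⊞ RW F U₂) ≫ (DCoh.Rpush f').map
      (biprod.lift ((DCoh.Lpull g').map biprod.fst ≫ m g' F U₁)
        ((DCoh.Lpull g').map biprod.snd ≫ m g' F U₂)) = e.hom by
    rw [he]; infer_instance
  let R := DCoh.Rpush f'
  let A₁ := RW ((pullC g').obj F) (g' ⁻¹ᵁ U₁)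
  let A₂ := RW ((pullC g').obj F) (g' ⁻¹ᵁ U₂)
  have r1 : (R.mapBiprod A₁ A₂).hom ≫ biprod.fst = R.map biprod.fst := by
    rw [Functor.mapBiprod_hom]; exact biprod.lift_fst _ _
  have r2 : (R.mapBiprod A₁ A₂).hom ≫ biprod.snd = R.map biprod.snd := by
    rw [Functor.mapBiprod_hom]; exact biprod.lift_snd _ _
  have p1 : (P.mapBiprod (RW F U₁) (RW F U₂)).hom ≫ biprod.fst = P.map biprod.fst := by
    rw [Functor.mapBiprod_hom]; exact biprod.lift_fst _ _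
  have p2 : (P.mapBiprod (RW F U₁) (RW F U₂)).hom ≫ biprod.snd = P.map biprod.snd := by
    rw [Functor.mapBiprod_hom]; exact biprod.lift_snd _ _
  refine (cancel_mono (R.mapBiprod A₁ A₂).hom).1 (biprod.hom_ext _ _ ?_ ?_)
  · dsimp only [e, Iso.trans_hom, Iso.symm_hom]
    simp only [Category.assoc, biprod.mapIso_hom, asIso_hom]
    erw [r1, (Iso.inv_comp_eq _).2 r1.symm, biprod.map_fst, reassoc_of% p1]
    rw [← R.map_comp, biprod.lift_fst, R.map_comp, ← Category.assoc, ← Category.assoc]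
    exact congrArg (· ≫ _) (nat biprod.fst).symm
  · dsimp only [e, Iso.trans_hom, Iso.symm_hom]
    simp only [Category.assoc, biprod.mapIso_hom, asIso_hom]
    erw [r2, (Iso.inv_comp_eq _).2 r2.symm, biprod.map_snd, reassoc_of% p2]
    rw [← R.map_comp, biprod.lift_snd, R.map_comp, ← Category.assoc, ← Category.assoc]
    exact congrArg (· ≫ _) (nat biprod.snd).symm

/-- **Mayer–Vietoris for `ψ`.** -/
theorem isIso_ψ_of_cover (U₁ U₂ : X.Opens) [QuasiCompact U₁.ι] [QuasiCompact U₂.ι]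
    [QuasiCompact (g' ⁻¹ᵁ U₁).ι] [QuasiCompact (g' ⁻¹ᵁ U₂).ι]
    [QuasiSeparated (terminal.from X)] [QuasiSeparated (terminal.from X')]
    (hUV : U₁ ⊔ U₂ = ⊤) (hF : DCoh.IsQCohD (DerivedCategory.Q.obj F))
    (hF' : DCoh.IsQCohD (DerivedCategory.Q.obj ((pullC g').obj F)))
    (h : ∀ W : X.Opens, W = U₁ ∨ W = U₂ ∨ W = U₁ ⊓ U₂ →
      IsIso ((bcD f g f' g' w).app (RW F W) ≫ (DCoh.Rpush f').map (m g' F W))) :
    IsIso ((ψ f g f' g' w).app F) := by
  obtain ⟨c, hT⟩ := exists_mv F U₁ U₂ hUV hF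
  obtain ⟨c', hT'⟩ := exists_mv ((pullC g').obj F) (g' ⁻¹ᵁ U₁) (g' ⁻¹ᵁ U₂)
    (by rw [← Scheme.Hom.preimage_sup, hUV]; rfl) hF'
  let M : (DCoh.Lpull g').obj (RW F U₁ ⊞ RW F U₂) ⟶
      RW ((pullC g').obj F) (g' ⁻¹ᵁ U₁) ⊞ RW ((pullC g').obj F) (g' ⁻¹ᵁ U₂) :=
    biprod.lift ((DCoh.Lpull g').map biprod.fst ≫ m g' F U₁)
      ((DCoh.Lpull g').map biprod.snd ≫ m g' F U₂)
  have sq1 : (DCoh.Lpull g').map (mvα F U₁ U₂) ≫ M =
      (counitCx g').app F ≫ mvα ((pullC g').obj F) (g' ⁻¹ᵁ U₁) (g' ⁻¹ᵁ U₂) := by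
    refine biprod.hom_ext _ _ ?_ ?_
    · simp [M, ← Functor.map_comp_assoc, η_m]
    · simp [M, ← Functor.map_comp_assoc, η_m]
  obtain ⟨d, hd2, hd3⟩ := complete_distinguished_triangle_morphism
    ((DCoh.Lpull g').mapTriangle.obj (Triangle.mk (mvα F U₁ U₂) (mvβ F U₁ U₂) c))
    (Triangle.mk (mvα ((pullC g').obj F) (g' ⁻¹ᵁ U₁) (g' ⁻¹ᵁ U₂))
      (mvβ ((pullC g').obj F) (g' ⁻¹ᵁ U₁) (g' ⁻¹ᵁ U₂)) c')
    ((DCoh.Lpull g').map_distinguished _ hT) hT' ((counitCx g').app F) M sq1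
  have hd : d = m g' F (U₁ ⊓ U₂) := by
    refine eq_of_map_comp (PullPushAdj.derivedAdjunction (g' ⁻¹ᵁ (U₁ ⊓ U₂)).ι)
      ((DCoh.Lpull g').map (ρ F (inf_le_left : U₁ ⊓ U₂ ≤ U₁)))
      (isIso_map_map_ρ g' F inf_le_left) ?_
    refine Eq.trans ?_ (ρ_m g' F (inf_le_left : U₁ ⊓ U₂ ≤ U₁)).symm
    have e1 : (DCoh.Lpull g').map biprod.inl ≫ M = m g' F U₁ ≫ biprod.inl := by
      refine biprod.hom_ext _ _ ?_ ?_ <;> simp [M, ← Functor.map_comp_assoc]
    have e2 : ρ F (inf_le_left : U₁ ⊓ U₂ ≤ U₁) = biprod.inl ≫ mvβ F U₁ U₂ := by simp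
    rw [e2, Functor.map_comp, Category.assoc]
    refine Eq.trans (congrArg ((DCoh.Lpull g').map biprod.inl ≫ ·) hd2) ?_
    refine ((Category.assoc _ _ _).symm.trans ((congrArg (· ≫ _) e1).trans (Category.assoc _ _ _))).trans ?_
    exact congrArg (m g' F U₁ ≫ ·) (biprod.inl_desc _ _)
  let mm := Triangle.homMk
    ((DCoh.Lpull g').mapTriangle.obj (Triangle.mk (mvα F U₁ U₂) (mvβ F U₁ U₂) c))
    (Triangle.mk (mvα ((pullC g').obj F) (g' ⁻¹ᵁ U₁) (g' ⁻¹ᵁ U₂))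
      (mvβ ((pullC g').obj F) (g' ⁻¹ᵁ U₁) (g' ⁻¹ᵁ U₂)) c')
    ((counitCx g').app F) M d sq1 hd2 hd3
  have hM := isIso_biprod f g f' g' F (fun E => (bcD f g f' g' w).app E)
    (fun φ => (bcD f g f' g' w).naturality φ) (h U₁ (Or.inl rfl)) (h U₂ (Or.inr (Or.inl rfl)))
  refine isIso₁_of_natTrans (G := DCoh.Lpull g') (H := DCoh.Rpush f') (bcD f g f' g' w) hT hT' mm
    hM ?_
  change IsIso ((bcD f g f' g' w).app (RW F (U₁ ⊓ U₂)) ≫ (DCoh.Rpush f').map d)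
  subst hd
  exact h _ (Or.inr (Or.inr rfl))

end Groth.Agent.Lib.DerivedOX.BCMV
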