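import Groth.Agent.Lib.DerivedOX.BCMV
import Mathlib.AlgebraicGeometry.Morphisms.QuasiSeparated

/-!
# Base change morphisms are invertible if they are so on affine pieces
-/

set_option autoImplicit false
set_option linter.style.haveILetI false
set_option linter.unusedSectionVars false
set_option maxHeartbeats 1000000

universe u

open CategoryTheory Limits AlgebraicGeometry Pretriangulated

attribute [local instance] HasDerivedCategory.standard
attribute [local instance] Groth.Agent.Lib.DerivedOX.LeftExists.hasLpull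
  Groth.Agent.Lib.DerivedOX.Exists.hasRpush

namespace Groth.Agent.Lib.DerivedOX.BCMain

open PullTranspose BCSquare BCCube

variable {X S S' X' : Scheme.{u}} (f : X ⟶ S) (g : S' ⟶ S) (f' : X' ⟶ S') (g' : X' ⟶ X)

/-- The base change morphism of `F` is invertible on every affine piece. -/
def Loc (F : CochainComplex X.Modules ℤ) : Prop :=
  ∀ {V U U' V' : Scheme.{u}} [IsAffine V] [IsAffine U] [IsAffine U'] (j : U ⟶ S) (j' : U' ⟶ S')
    (jX : V ⟶ X) [IsOpenImmersion j] [IsOpenImmersion j'] [IsOpenImmersion jX]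
    (fU : V ⟶ U) (gU : U' ⟶ U) (fU' : V' ⟶ U') (gU' : V' ⟶ V)
    (_ : jX ≫ f = fU ≫ j) (_ : gU ≫ j = j' ≫ g) (sq : IsPullback gU' fU' fU gU),
    IsIso ((ψ fU gU fU' gU' sq.w).app ((pullC jX).obj F))

/-- Termwise pullback along a composite. -/
noncomputable def compC {A B C : Scheme.{u}} (a : A ⟶ B) (b : B ⟶ C) (F : CochainComplex C.Modules ℤ) :
    (pullC a).obj ((pullC b).obj F) ≅ (pullC (a ≫ b)).obj F :=
  HomologicalComplex.Hom.isoOfComponents (fun i => (Scheme.Modules.pullbackComp a b).app (F.X i))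
    (fun i j _ => ((Scheme.Modules.pullbackComp a b).hom.naturality (F.d i j)).symm)

variable {f g f' g'}

theorem isQCohD_pullC {A B : Scheme.{u}} (a : A ⟶ B) [Flat a] {F : CochainComplex B.Modules ℤ}
    (hF : DCoh.IsQCohD (DerivedCategory.Q.obj F)) :
    DCoh.IsQCohD (DerivedCategory.Q.obj ((pullC a).obj F)) := fun i => by
  haveI := BCFlat.isIso_counitCx a F
  exact (Groth.Agent.Lib.WayOut.Scheme.qc _).prop_of_iso
    ((DerivedCategory.homologyFunctor _ i).mapIso (asIso ((counitCx a).app F)))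
    (QCohLocal.isQCohD_Lpull a hF i)

theorem isQCohD_of_iso {A : Scheme.{u}} {F G : CochainComplex A.Modules ℤ} (e : F ≅ G)
    (hF : DCoh.IsQCohD (DerivedCategory.Q.obj F)) : DCoh.IsQCohD (DerivedCategory.Q.obj G) := fun i =>
  (Groth.Agent.Lib.WayOut.Scheme.qc _).prop_of_iso
    ((DerivedCategory.homologyFunctor _ i).mapIso (DerivedCategory.Q.mapIso e)) (hF i)

theorem Loc.restrict {F : CochainComplex X.Modules ℤ} (h : Loc f g F) {Y : Scheme.{u}} (i : Y ⟶ X)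
    [IsOpenImmersion i] (fY : Y ⟶ S) (hfY : i ≫ f = fY) : Loc fY g ((pullC i).obj F) := by
  intro V U U' V' _ _ _ j j' jX _ _ _ fU gU fU' gU' w1 w2 sq
  have := h j j' (jX ≫ i) fU gU fU' gU' (by rw [Category.assoc, hfY, w1]) w2 sq
  exact (NatTrans.isIso_app_iff_of_iso (ψ fU gU fU' gU' sq.w) (compC jX i F)).2 this

theorem Loc.localize {F : CochainComplex X.Modules ℤ} (h : Loc f g F) {U₀ U₀' Y : Scheme.{u}}
    (j₀ : U₀ ⟶ S) (j₀' : U₀' ⟶ S') [IsOpenImmersion j₀] [IsOpenImmersion j₀'] (i : Y ⟶ X)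
    [IsOpenImmersion i] (fY : Y ⟶ U₀) (gY : U₀' ⟶ U₀) (hfY : i ≫ f = fY ≫ j₀)
    (hgY : gY ≫ j₀ = j₀' ≫ g) : Loc fY gY ((pullC i).obj F) := by
  intro V U U' V' _ _ _ j j' jX _ _ _ fU gU fU' gU' w1 w2 sq
  have := h (j ≫ j₀) (j' ≫ j₀') (jX ≫ i) fU gU fU' gU'
    (by rw [Category.assoc, hfY, reassoc_of% w1]) (by rw [reassoc_of% w2, hgY, Category.assoc]) sq
  exact (NatTrans.isIso_app_iff_of_iso (ψ fU gU fU' gU' sq.w) (compC jX i F)).2 this

/-- The case where `X`, `S` and `S'` are affine. -/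
theorem Loc.isIso_of_affine [IsAffine X] [IsAffine S] [IsAffine S'] (hsq : IsPullback g' f' f g)
    {F : CochainComplex X.Modules ℤ} (h : Loc f g F) : IsIso ((ψ f g f' g' hsq.w).app F) := by
  have := h (𝟙 S) (𝟙 S') (𝟙 X) f g f' g' ((Category.id_comp _).trans (Category.comp_id _).symm)
    ((Category.comp_id _).trans (Category.id_comp _).symm) hsq
  let e : (pullC (𝟙 X)).obj F ≅ F :=
    HomologicalComplex.Hom.isoOfComponents (fun i => (Scheme.Modules.pullbackId X).app (F.X i))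
      (fun i j _ => ((Scheme.Modules.pullbackId X).hom.naturality (F.d i j)).symm)
  exact (NatTrans.isIso_app_iff_of_iso (ψ f g f' g' hsq.w) e).1 this

/-- Gluing along an open cover of `X` by two opens. -/
theorem isIso_of_two [IsAffine S] [IsAffine S'] (hsq : IsPullback g' f' f g) [QuasiCompact f]
    [QuasiSeparated f] (F : CochainComplex X.Modules ℤ) (hF : DCoh.IsQCohD (DerivedCategory.Q.obj F))
    (hF' : DCoh.IsQCohD (DerivedCategory.Q.obj ((pullC g').obj F))) (h : Loc f g F)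
    (U₁ U₂ : X.Opens) (hU₁ : IsCompact (U₁ : Set X)) (hU₂ : IsCompact (U₂ : Set X))
    (hUV : U₁ ⊔ U₂ = ⊤)
    (key : ∀ W : X.Opens, W = U₁ ∨ W = U₂ ∨ W = U₁ ⊓ U₂ → ∀ (W' : Scheme.{u}) (gW : W' ⟶ W.toScheme)
      (fW' : W' ⟶ S') (sq : IsPullback gW fW' (W.ι ≫ f) g),
      QuasiCompact (W.ι ≫ f) → DCoh.IsQCohD (DerivedCategory.Q.obj ((pullC W.ι).obj F)) →
      DCoh.IsQCohD (DerivedCategory.Q.obj ((pullC gW).obj ((pullC W.ι).obj F))) →
      Loc (W.ι ≫ f) g ((pullC W.ι).obj F) →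
      IsIso ((ψ (W.ι ≫ f) g fW' gW sq.w).app ((pullC W.ι).obj F))) :
    IsIso ((ψ f g f' g' hsq.w).app F) := by
  haveI : QuasiSeparatedSpace X := quasiSeparatedSpace_of_quasiSeparated f
  haveI : QuasiSeparated f' := MorphismProperty.of_isPullback hsq inferInstance
  haveI : QuasiCompact f' := MorphismProperty.of_isPullback hsq inferInstance
  haveI : QuasiSeparatedSpace X' := quasiSeparatedSpace_of_quasiSeparated f'
  haveI hqs : QuasiSeparated (terminal.from X) :=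
    (quasiSeparatedSpace_iff_quasiSeparated X).1 inferInstance
  have hc : ∀ W : X.Opens, IsCompact (W : Set X) → QuasiCompact W.ι := fun W hW =>
    haveI : CompactSpace W.toScheme := isCompact_iff_compactSpace.mp hW
    inferInstance
  haveI := hc U₁ hU₁
  haveI := hc U₂ hU₂
  haveI : QuasiCompact (g' ⁻¹ᵁ U₁).ι :=
    MorphismProperty.of_isPullback (isPullback_morphismRestrict g' U₁) ‹QuasiCompact U₁.ι›
  haveI : QuasiCompact (g' ⁻¹ᵁ U₂).ι :=
    MorphismProperty.of_isPullback (isPullback_morphismRestrict g' U₂) ‹QuasiCompact U₂.ι›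
  refine BCMV.isIso_ψ_of_cover f g f' g' hsq.w F U₁ U₂ hUV hF hF' fun W hW => ?_
  refine BCMV.isIso_Φ f g f' g' hsq.w F W ?_
  have sq : IsPullback (BCMV.gW g' W) ((g' ⁻¹ᵁ W).ι ≫ f') (W.ι ≫ f) g :=
    IsPullback.paste_vert (by rw [BCMV.gW, Scheme.Hom.resLE_eq_morphismRestrict]; exact isPullback_morphismRestrict g' W) hsq
  haveI : QuasiCompact W.ι := by
    rcases hW with rfl | rfl | rfl
    · assumption
    · assumption
    · exact hc _ (QuasiSeparatedSpace.inter_isCompact (U₁ : Set X) (U₂ : Set X) U₁.2 hU₁ U₂.2 hU₂)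
  exact key W hW _ _ _ sq inferInstance (isQCohD_pullC W.ι hF)
    (isQCohD_of_iso ((γC W.ι g' (g' ⁻¹ᵁ W).ι (BCMV.gW g' W) (BCMV.wt g' W)).app F)
      (isQCohD_pullC (g' ⁻¹ᵁ W).ι hF'))
    (h.restrict W.ι _ rfl)

omit f g f' g' in
/-- `X` is covered by `n` affine opens. -/
def CoverLE (n : ℕ) (X : Scheme.{u}) : Prop :=
  ∃ a : Fin n → X.Opens, (∀ i, IsAffineOpen (a i)) ∧ ⨆ i, a i = ⊤

omit f g f' g' in
theorem coverLE_of_iSup {A : Scheme.{u}} (W : A.Opens) {n : ℕ} (a : Fin n → A.Opens)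
    (ha : ∀ i, IsAffineOpen (a i)) (hW : ⨆ i, a i = W) : CoverLE n W.toScheme := by
  refine ⟨fun i => W.ι ⁻¹ᵁ a i, fun i => ?_, ?_⟩
  · exact (ha i).preimage_of_isOpenImmersion W.ι (by
      rw [Scheme.Opens.opensRange_ι, ← hW]; exact le_iSup a i)
  · rw [← Scheme.Hom.preimage_iSup, hW, Scheme.Opens.ι_preimage_self]

omit f g f' g' in
theorem exists_coverLE (A : Scheme.{u}) [CompactSpace A] : ∃ n, CoverLE n A := by
  classical
  choose V hV hxV _ using fun x : A =>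
    exists_isAffineOpen_mem_and_subset (X := A) (x := x) (U := ⊤) trivial
  obtain ⟨t, ht⟩ := isCompact_univ.elim_finite_subcover (fun x : A => ((V x : A.Opens) : Set A))
    (fun x => (V x).2) (fun x _ => Set.mem_iUnion.2 ⟨x, hxV x⟩)
  refine ⟨t.card, fun i => V (t.equivFin.symm i).1, fun i => hV _, eq_top_iff.2 fun x _ => ?_⟩
  obtain ⟨y, hy, hxy⟩ : ∃ y ∈ t, x ∈ V y := by simpa using ht (Set.mem_univ x)
  exact TopologicalSpace.Opens.mem_iSup.2 ⟨t.equivFin ⟨y, hy⟩, by simpa using hxy⟩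

omit f g f' g' in
/-- Induction on the number of affine opens, given the step for intersections. -/
theorem isIso_cover_step {S S' : Scheme.{u}} [IsAffine S] [IsAffine S'] (g : S' ⟶ S)
    (P : Scheme.{u} → Prop)
    (hP : ∀ {A : Scheme.{u}}, P A → ∀ W : A.Opens, P W.toScheme)
    (inter : ∀ (n : ℕ) {A : Scheme.{u}}, P A → ∀ (U : A.Opens) (_ : IsAffineOpen U)
      (a : Fin n → A.Opens), (∀ i, IsAffineOpen (a i)) → IsCompact ((U ⊓ ⨆ i, a i : A.Opens) : Set A) →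
      (∀ {B B' : Scheme.{u}} (fB : B ⟶ S) (fB' : B' ⟶ S') (gB : B' ⟶ B) (sq : IsPullback gB fB' fB g)
        [QuasiCompact fB] [QuasiSeparated fB] (F : CochainComplex B.Modules ℤ),
        P B → CoverLE n B → DCoh.IsQCohD (DerivedCategory.Q.obj F) →
        DCoh.IsQCohD (DerivedCategory.Q.obj ((pullC gB).obj F)) → Loc fB g F →
        IsIso ((ψ fB g fB' gB sq.w).app F)) →
      ∀ {B' : Scheme.{u}} (fB : (U ⊓ ⨆ i, a i : A.Opens).toScheme ⟶ S) (fB' : B' ⟶ S')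
        (gB : B' ⟶ (U ⊓ ⨆ i, a i : A.Opens).toScheme) (sq : IsPullback gB fB' fB g)
        [QuasiCompact fB] [QuasiSeparated fB]
        (F : CochainComplex (U ⊓ ⨆ i, a i : A.Opens).toScheme.Modules ℤ),
        DCoh.IsQCohD (DerivedCategory.Q.obj F) →
        DCoh.IsQCohD (DerivedCategory.Q.obj ((pullC gB).obj F)) → Loc fB g F →
        IsIso ((ψ fB g fB' gB sq.w).app F))
    (n : ℕ) : ∀ {B B' : Scheme.{u}} (fB : B ⟶ S) (fB' : B' ⟶ S') (gB : B' ⟶ B)
      (sq : IsPullback gB fB' fB g) [QuasiCompact fB] [QuasiSeparated fB]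
      (F : CochainComplex B.Modules ℤ), P B → CoverLE n B → DCoh.IsQCohD (DerivedCategory.Q.obj F) →
      DCoh.IsQCohD (DerivedCategory.Q.obj ((pullC gB).obj F)) → Loc fB g F →
      IsIso ((ψ fB g fB' gB sq.w).app F) := by
  induction n with
  | zero =>
    intro B B' fB fB' gB sq _ _ F _ hc _ _ hL
    obtain ⟨a, -, ha⟩ := hc
    haveI : IsEmpty B := ⟨fun x => by
      obtain ⟨i, -⟩ := TopologicalSpace.Opens.mem_iSup.1 (ha.symm ▸ trivial : x ∈ ⨆ i, a i)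
      exact i.elim0⟩
    exact hL.isIso_of_affine sq
  | succ n ih =>
    intro B B' fB fB' gB sq _ _ F hB hc hF hF' hL
    obtain ⟨a, ha, hcov⟩ := hc
    have hsup : a 0 ⊔ ⨆ i : Fin n, a i.succ = ⊤ := by
      refine eq_top_iff.2 fun x _ => ?_
      obtain ⟨i, hi⟩ := TopologicalSpace.Opens.mem_iSup.1 (hcov.symm ▸ trivial : x ∈ ⨆ i, a i)
      revert hi
      refine Fin.cases ?_ ?_ i
      · exact fun hi => Or.inl hi
      · exact fun i hi => Or.inr (TopologicalSpace.Opens.mem_iSup.2 ⟨i, hi⟩)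
    haveI : QuasiSeparatedSpace B := quasiSeparatedSpace_of_quasiSeparated fB
    have h2 : IsCompact ((⨆ i : Fin n, a i.succ : B.Opens) : Set B) := by
      rw [TopologicalSpace.Opens.coe_iSup]
      exact isCompact_iUnion fun i => (ha i.succ).isCompact
    refine isIso_of_two sq F hF hF' hL (a 0) (⨆ i : Fin n, a i.succ) (ha 0).isCompact h2 hsup ?_
    rintro W (rfl | rfl | rfl) W' gW fW' sqW hqc hFW hFW' hLW
    · haveI : IsAffine (a 0).toScheme := ha 0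
      exact hLW.isIso_of_affine sqW
    · haveI := hqc
      exact ih _ _ _ sqW _ (hP hB _) (coverLE_of_iSup _ (fun i => a i.succ) (fun i => ha i.succ) rfl)
        hFW hFW' hLW
    · haveI := hqc
      exact inter n hB (a 0) (ha 0) (fun i => a i.succ) (fun i => ha i.succ)
        (QuasiSeparatedSpace.inter_isCompact (a 0 : Set B) _ (a 0).2 (ha 0).isCompact
          (⨆ i : Fin n, a i.succ : B.Opens).2 h2) ih _ _ _ sqW _ hFW hFW' hLW

omit f g f' g' in
/-- Separated schemes. -/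
theorem isIso_of_separated {S S' : Scheme.{u}} [IsAffine S] [IsAffine S'] (g : S' ⟶ S) (n : ℕ)
    {B B' : Scheme.{u}} (fB : B ⟶ S) (fB' : B' ⟶ S') (gB : B' ⟶ B)
    (sq : IsPullback gB fB' fB g) [QuasiCompact fB] [QuasiSeparated fB]
    (F : CochainComplex B.Modules ℤ) (hB : B.IsSeparated) (hc : CoverLE n B)
    (hF : DCoh.IsQCohD (DerivedCategory.Q.obj F))
    (hF' : DCoh.IsQCohD (DerivedCategory.Q.obj ((pullC gB).obj F))) (hL : Loc fB g F) :
    IsIso ((ψ fB g fB' gB sq.w).app F) := by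
  refine isIso_cover_step g (fun A => A.IsSeparated)
    (fun {A} hA W => haveI := hA; ⟨(terminal.hom_ext (W.ι ≫ terminal.from A) (terminal.from _)) ▸
      (inferInstance : IsSeparated (W.ι ≫ terminal.from A))⟩) ?_ n fB fB' gB sq F hB hc hF hF' hL
  intro n A hA U hU a ha _ ih B' fB fB' gB sq _ _ F hF hF' hL
  haveI := hA
  refine ih fB fB' gB sq F ⟨(terminal.hom_ext ((U ⊓ ⨆ i, a i : A.Opens).ι ≫ terminal.from A)
    (terminal.from _)) ▸ (inferInstance : IsSeparated ((U ⊓ ⨆ i, a i : A.Opens).ι ≫ terminal.from A))⟩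
    (coverLE_of_iSup _ (fun i => U ⊓ a i) (fun i => hU.inf (ha i)) ?_) hF hF' hL
  exact (inf_iSup_eq U a).symm

omit f g f' g' in
/-- The affine base. -/
theorem isIso_of_isAffine_base {S S' : Scheme.{u}} [IsAffine S] [IsAffine S'] (g : S' ⟶ S)
    {B B' : Scheme.{u}} (fB : B ⟶ S) (fB' : B' ⟶ S') (gB : B' ⟶ B)
    (sq : IsPullback gB fB' fB g) [QuasiCompact fB] [QuasiSeparated fB]
    (F : CochainComplex B.Modules ℤ) (hF : DCoh.IsQCohD (DerivedCategory.Q.obj F))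
    (hF' : DCoh.IsQCohD (DerivedCategory.Q.obj ((pullC gB).obj F))) (hL : Loc fB g F) :
    IsIso ((ψ fB g fB' gB sq.w).app F) := by
  haveI : CompactSpace B := QuasiCompact.compactSpace_of_compactSpace fB
  obtain ⟨n, hn⟩ := exists_coverLE B
  refine isIso_cover_step g (fun _ => True) (fun _ _ => trivial) ?_ n fB fB' gB sq F trivial hn hF hF' hL
  intro m A _ U hU a _ hcpt _ B' fB fB' gB sq _ _ F hF hF' hL
  haveI : IsAffine U.toScheme := hU
  haveI : CompactSpace (U ⊓ ⨆ i, a i : A.Opens).toScheme := isCompact_iff_compactSpace.mp hcpt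
  obtain ⟨k, hk⟩ := exists_coverLE (U ⊓ ⨆ i, a i : A.Opens).toScheme
  refine isIso_of_separated g k fB fB' gB sq F ?_ hk hF hF' hL
  exact ⟨(terminal.hom_ext (A.homOfLE (inf_le_left : U ⊓ ⨆ i, a i ≤ U) ≫ terminal.from U.toScheme)
    (terminal.from _)) ▸ (inferInstance :
      IsSeparated (A.homOfLE (inf_le_left : U ⊓ ⨆ i, a i ≤ U) ≫ terminal.from U.toScheme))⟩

/-- **Reduction to affine pieces.** -/
theorem isIso_ψ (hsq : IsPullback g' f' f g) [QuasiCompact f] [QuasiSeparated f]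
    (F : CochainComplex X.Modules ℤ) (hF : DCoh.IsQCohD (DerivedCategory.Q.obj F))
    (hF' : DCoh.IsQCohD (DerivedCategory.Q.obj ((pullC g').obj F))) (h : Loc f g F) :
    IsIso ((ψ f g f' g' hsq.w).app F) := by
  haveI : QuasiCompact f' := MorphismProperty.of_isPullback hsq inferInstance
  haveI : QuasiSeparated f' := MorphismProperty.of_isPullback hsq inferInstance
  have hloc : ∀ s : S', ∃ U' : S'.Opens, s ∈ U' ∧ IsAffineOpen U' ∧ ∃ U : S.Opens, IsAffineOpen U ∧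
      U' ≤ g ⁻¹ᵁ U := fun s => by
    obtain ⟨U, hU, hsU, -⟩ := exists_isAffineOpen_mem_and_subset (X := S) (x := g s) (U := ⊤) trivial
    obtain ⟨U', hU', hs', hle⟩ :=
      exists_isAffineOpen_mem_and_subset (X := S') (x := s) (U := g ⁻¹ᵁ U) hsU
    exact ⟨U', hs', hU', U, hU, hle⟩
  choose W hsW hW V hV hle using hloc
  refine BCOpen.isIso_of_cover W (eq_top_iff.2 fun x _ =>
    TopologicalSpace.Opens.mem_iSup.2 ⟨x, hsW x⟩) _ fun s => ?_
  haveI : IsAffine (V s).toScheme := hV s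
  haveI : IsAffine (W s).toScheme := hW s
  let U := V s
  let U' := W s
  have hpre : f' ⁻¹ᵁ U' ≤ g' ⁻¹ᵁ (f ⁻¹ᵁ U) := by
    rw [← Scheme.Hom.comp_preimage, hsq.w, Scheme.Hom.comp_preimage]
    exact f'.preimage_mono (hle s)
  let gU := g.resLE U U' (hle s)
  let gU' := g'.resLE (f ⁻¹ᵁ U) (f' ⁻¹ᵁ U') hpre
  have sqj : IsPullback (f ⁻¹ᵁ U).ι (f ∣_ U) f U.ι := (isPullback_morphismRestrict f U).flip
  have sqj' : IsPullback (f' ⁻¹ᵁ U').ι (f' ∣_ U') f' U'.ι := (isPullback_morphismRestrict f' U').flip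
  have wb : gU ≫ U.ι = U'.ι ≫ g := Scheme.Hom.resLE_comp_ι g (hle s)
  have wt : gU' ≫ (f ⁻¹ᵁ U).ι = (f' ⁻¹ᵁ U').ι ≫ g' := Scheme.Hom.resLE_comp_ι g' hpre
  have wU : gU' ≫ f ∣_ U = f' ∣_ U' ≫ gU := by
    rw [← cancel_mono U.ι, Category.assoc, Category.assoc, morphismRestrict_ι, wb, reassoc_of% wt,
      hsq.w, ← morphismRestrict_ι_assoc]
  have sqU : IsPullback gU' (f' ∣_ U') (f ∣_ U) gU := by
    refine IsPullback.of_right ?_ wU sqj
    rw [wt, wb]
    exact sqj'.paste_horiz hsq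
  have c : Cube f g f' g' (f ∣_ U) gU (f' ∣_ U') gU' U.ι U'.ι (f ⁻¹ᵁ U).ι (f' ⁻¹ᵁ U').ι :=
    ⟨hsq.w, wU, sqj.w, sqj'.w, wb, wt⟩
  have key := ψ_cube c F
  have i1 : IsIso ((ψ f U.ι (f ∣_ U) (f ⁻¹ᵁ U).ι sqj.w).app F) := by
    haveI := BCFlat.isIso_bcD f U.ι (f ∣_ U) (f ⁻¹ᵁ U).ι sqj.w sqj _ hF
    haveI := BCFlat.isIso_counitCx (f ⁻¹ᵁ U).ι F
    dsimp only [ψ]
    exact IsIso.comp_isIso' ‹IsIso ((bcD f U.ι (f ∣_ U) (f ⁻¹ᵁ U).ι sqj.w).app _)› inferInstance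
  have i2 : IsIso ((ψ f' U'.ι (f' ∣_ U') (f' ⁻¹ᵁ U').ι sqj'.w).app ((pullC g').obj F)) := by
    haveI := BCFlat.isIso_bcD f' U'.ι (f' ∣_ U') (f' ⁻¹ᵁ U').ι sqj'.w sqj' _ hF'
    haveI := BCFlat.isIso_counitCx (f' ⁻¹ᵁ U').ι ((pullC g').obj F)
    dsimp only [ψ]
    exact IsIso.comp_isIso' ‹IsIso ((bcD f' U'.ι (f' ∣_ U') (f' ⁻¹ᵁ U').ι sqj'.w).app _)› inferInstance
  have i3 : IsIso ((ψ (f ∣_ U) gU (f' ∣_ U') gU' sqU.w).app ((pullC (f ⁻¹ᵁ U).ι).obj F)) :=
    isIso_of_isAffine_base gU _ _ _ sqU _ (isQCohD_pullC _ hF)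
      (isQCohD_of_iso ((γC (f ⁻¹ᵁ U).ι g' (f' ⁻¹ᵁ U').ι gU' wt).app F) (isQCohD_pullC _ hF'))
      (h.localize U.ι U'.ι (f ⁻¹ᵁ U).ι _ _ sqj.w wb)
  haveI := i1
  haveI := i2
  haveI := i3
  have h4 : IsIso ((DCoh.Lpull U'.ι).map ((ψ f g f' g' c.w).app F) ≫
      (ψ f' U'.ι (f' ∣_ U') (f' ⁻¹ᵁ U').ι c.wj').app ((pullC g').obj F) ≫
      (DCoh.Rpush (f' ∣_ U')).map (DerivedCategory.Q.map
        ((γC (f ⁻¹ᵁ U).ι g' (f' ⁻¹ᵁ U').ι gU' c.wt).hom.app F))) := by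
    rw [key]
    infer_instance
  haveI := h4
  exact IsIso.of_isIso_comp_right _ ((ψ f' U'.ι (f' ∣_ U') (f' ⁻¹ᵁ U').ι c.wj').app ((pullC g').obj F) ≫
    (DCoh.Rpush (f' ∣_ U')).map (DerivedCategory.Q.map
      ((γC (f ⁻¹ᵁ U).ι g' (f' ⁻¹ᵁ U').ι gU' c.wt).hom.app F)))

end Groth.Agent.Lib.DerivedOX.BCMain
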