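import Mathlib.CategoryTheory.Adjunction.Unique

/-!
# Base change morphisms from adjunctions: formal part

For adjunctions `Lf ⊣ Rf`, `Lg ⊣ Rg`, `Lf' ⊣ Rf'`, `Lg' ⊣ Rg'`, an iso `c : Lg ⋙ Lf' ≅ Lf ⋙ Lg'` and an
iso `e : Rg' ⋙ Rf ≅ Rf' ⋙ Rg` compatible with it, the transpose of `Rf(unit') ≫ e` is the
`Lf' ⊣ Rf'`-transpose of `c ≫ Lg'(counit)`.
-/

universe v₁ v₂ v₃ v₄ u₁ u₂ u₃ u₄

open CategoryTheory

namespace Groth.Agent.Lib.DerivedOX.BCMate

variable {CX : Type u₁} [Category.{v₁} CX] {CS : Type u₂} [Category.{v₂} CS]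
  {CT : Type u₃} [Category.{v₃} CT] {CY : Type u₄} [Category.{v₄} CY]
  {Lf : CS ⥤ CX} {Rf : CX ⥤ CS} {Lg : CS ⥤ CT} {Rg : CT ⥤ CS}
  {Lf' : CT ⥤ CY} {Rf' : CY ⥤ CT} {Lg' : CX ⥤ CY} {Rg' : CY ⥤ CX}
  (af : Lf ⊣ Rf) (ag : Lg ⊣ Rg) (af' : Lf' ⊣ Rf') (ag' : Lg' ⊣ Rg')

/-- Compatibility of an iso of left adjoints with an iso of right adjoints. -/
def Compat (c : Lg ⋙ Lf' ≅ Lf ⋙ Lg') (e : Rg' ⋙ Rf ≅ Rf' ⋙ Rg) : Prop :=
  ∀ (A : CS) (B : CY) (h : Lg'.obj (Lf.obj A) ⟶ B),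
    (af.comp ag').homEquiv A B h ≫ e.hom.app B = (ag.comp af').homEquiv A B (c.hom.app A ≫ h)

/-- The iso of right adjoints determined by an iso of left adjoints. -/
noncomputable def rightIso (c : Lg ⋙ Lf' ≅ Lf ⋙ Lg') : Rg' ⋙ Rf ≅ Rf' ⋙ Rg :=
  (af.comp ag').rightAdjointUniq ((ag.comp af').ofNatIsoLeft c)

theorem compat_rightIso (c : Lg ⋙ Lf' ≅ Lf ⋙ Lg') :
    Compat af ag af' ag' c (rightIso af ag af' ag' c) := fun A B h => by
  refine Eq.trans ?_ (Adjunction.homEquiv_ofNatIsoLeft_apply (ag.comp af') c h)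
  rw [Adjunction.homEquiv_unit, Adjunction.homEquiv_unit]
  rw [Category.assoc]
  erw [(rightIso af ag af' ag' c).hom.naturality h]
  rw [← Category.assoc]
  exact congrArg (· ≫ _) (Adjunction.unit_rightAdjointUniq_hom_app _ _ A)

/-- The iso of left adjoints determined by an iso of right adjoints. -/
noncomputable def leftIso (e : Rg' ⋙ Rf ≅ Rf' ⋙ Rg) : Lg ⋙ Lf' ≅ Lf ⋙ Lg' :=
  (ag.comp af').leftAdjointUniq ((af.comp ag').ofNatIsoRight e)

theorem compat_leftIso (e : Rg' ⋙ Rf ≅ Rf' ⋙ Rg) :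
    Compat af ag af' ag' (leftIso af ag af' ag' e) e := fun A B h => by
  rw [Adjunction.homEquiv_unit, Adjunction.homEquiv_unit, Category.assoc]
  erw [e.hom.naturality h]
  rw [Functor.map_comp, ← Category.assoc, ← Category.assoc]
  refine congrArg (· ≫ _) ?_
  exact (Adjunction.unit_leftAdjointUniq_hom_app (ag.comp af') ((af.comp ag').ofNatIsoRight e) A).symm

/-- The base change morphism in transposed form. -/
def bc (c : Lg ⋙ Lf' ≅ Lf ⋙ Lg') (E : CX) : Lg.obj (Rf.obj E) ⟶ Rf'.obj (Lg'.obj E) :=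
  af'.homEquiv _ _ (c.hom.app (Rf.obj E) ≫ Lg'.map (af.counit.app E))

lemma bc_naturality (c : Lg ⋙ Lf' ≅ Lf ⋙ Lg') {E E' : CX} (φ : E ⟶ E') :
    Lg.map (Rf.map φ) ≫ bc af af' c E' = bc af af' c E ≫ Rf'.map (Lg'.map φ) := by
  unfold bc
  rw [← Adjunction.homEquiv_naturality_left, ← Adjunction.homEquiv_naturality_right]
  refine congrArg _ ?_
  have h := c.hom.naturality (Rf.map φ)
  dsimp at h
  rw [reassoc_of% h, Category.assoc, ← Lg'.map_comp, ← Lg'.map_comp]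
  exact congrArg (fun t => c.hom.app (Rf.obj E) ≫ Lg'.map t) (af.counit.naturality φ)

/-- The base change morphism as a natural transformation. -/
def bcNat (c : Lg ⋙ Lf' ≅ Lf ⋙ Lg') : Rf ⋙ Lg ⟶ Lg' ⋙ Rf' where
  app E := bc af af' c E
  naturality _ _ φ := bc_naturality af af' c φ

theorem transpose_eq_bc {c : Lg ⋙ Lf' ≅ Lf ⋙ Lg'} {e : Rg' ⋙ Rf ≅ Rf' ⋙ Rg}
    (hce : Compat af ag af' ag' c e) (E : CX) :
    Rf.map (ag'.unit.app E) ≫ e.hom.app (Lg'.obj E) = ag.homEquiv _ _ (bc af af' c E) := by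
  have h1 : (af.comp ag').homEquiv (Rf.obj E) (Lg'.obj E) (Lg'.map (af.counit.app E)) =
      Rf.map (ag'.unit.app E) := by
    rw [Adjunction.comp_homEquiv]
    simp only [Equiv.trans_apply]
    have h2 : ag'.homEquiv (Lf.obj (Rf.obj E)) (Lg'.obj E) (Lg'.map (af.counit.app E)) =
        af.counit.app E ≫ ag'.unit.app E := by
      rw [Adjunction.homEquiv_unit]
      exact (ag'.unit.naturality (af.counit.app E)).symm
    rw [h2, Adjunction.homEquiv_naturality_right, Adjunction.homEquiv_unit,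
      Adjunction.right_triangle_components]
    exact Category.id_comp _
  rw [← h1]
  refine (hce _ _ _).trans ?_
  rw [Adjunction.comp_homEquiv]
  rfl

/-- The base change morphism of arbitrary adjunctions differs from `bc` by isomorphisms. -/
theorem isIso_transpose_iff {c : Lg ⋙ Lf' ≅ Lf ⋙ Lg'} {e : Rg' ⋙ Rf ≅ Rf' ⋙ Rg}
    (hce : Compat af ag af' ag' c e) (bg : Lg ⊣ Rg) (bg' : Lg' ⊣ Rg') (E : CX) :
    IsIso ((bg.homEquiv _ _).symm (Rf.map (bg'.unit.app E) ≫ e.hom.app (Lg'.obj E))) ↔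
      IsIso (bc af af' c E) := by
  let θ := Adjunction.leftAdjointUniq bg ag
  let θ' := Adjunction.leftAdjointUniq bg' ag'
  have hu : ag'.unit.app E ≫ Rg'.map (θ'.inv.app E) = bg'.unit.app E := by
    rw [← Adjunction.unit_leftAdjointUniq_hom_app bg' ag' E, Category.assoc, ← Rg'.map_comp]
    simp [θ']
  have key : (bg.homEquiv _ _).symm (Rf.map (bg'.unit.app E) ≫ e.hom.app (Lg'.obj E)) =
      θ.hom.app (Rf.obj E) ≫ bc af af' c E ≫ Rf'.map (θ'.inv.app E) := by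
    rw [Equiv.symm_apply_eq, ← hu, Functor.map_comp, Category.assoc]
    have hn := e.hom.naturality (θ'.inv.app E)
    dsimp at hn
    rw [hn, ← Category.assoc, transpose_eq_bc af ag af' ag' hce E,
      Adjunction.homEquiv_unit ag, Adjunction.homEquiv_unit bg]
    have hg := Adjunction.unit_leftAdjointUniq_hom_app bg ag (Rf.obj E)
    dsimp at hg ⊢
    rw [← hg]
    simp [θ]
  rw [key]
  simp

end Groth.Agent.Lib.DerivedOX.BCMate
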