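import Groth.Agent.Lib.DerivedOX.BCShift
import Groth.Agent.Lib.DerivedOX.BCFlat
import Groth.Agent.Lib.DerivedOX.OpenImm
import Groth.Agent.Lib.DerivedOX.PullComp
import Groth.Agent.Lib.Modules.Local
import Mathlib.CategoryTheory.Triangulated.Pretriangulated

/-!
# The Mayer–Vietoris triangle with given restriction maps

For opens `U ⊔ V = ⊤` and `F` on complexes, `QF ⟶ R_U F ⊞ R_V F ⟶ R_{U⊓V} F` is part of a
distinguished triangle, where `R_W F = Rι_{W*} Q(ι_W^* F)`.
-/

set_option autoImplicit false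
set_option linter.style.haveILetI false
set_option linter.unusedSectionVars false
set_option maxHeartbeats 1000000

universe u

open CategoryTheory Limits AlgebraicGeometry Pretriangulated

attribute [local instance] HasDerivedCategory.standard
attribute [local instance] Groth.Agent.Lib.DerivedOX.LeftExists.hasLpull
  Groth.Agent.Lib.DerivedOX.Exists.hasRpush

namespace Groth.Agent.Lib.DerivedOX.BCOpen

open PullTranspose

section Split

variable {D : Type*} [Category D] [Preadditive D] [HasZeroObject D] [HasShift D ℤ]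
  [∀ n : ℤ, (shiftFunctor D n).Additive] [Pretriangulated D]

/-- If the first leg of `E ⟶ A ⊕ B` is invertible, `B` maps isomorphically to the cofibre. -/
theorem isIso_inr_comp {T : Triangle D} (hT : T ∈ distTriang D) {A B : D}
    (fst : T.obj₂ ⟶ A) (snd : T.obj₂ ⟶ B) (inr : B ⟶ T.obj₂)
    (hrf : inr ≫ fst = 0) (hrs : inr ≫ snd = 𝟙 B)
    (hjoint : ∀ {W : D} (a b : W ⟶ T.obj₂), a ≫ fst = b ≫ fst → a ≫ snd = b ≫ snd → a = b)
    (hp : IsIso (T.mor₁ ≫ fst)) : IsIso (inr ≫ T.mor₂) := by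
  haveI := hp
  haveI : Mono T.mor₁ := mono_of_mono T.mor₁ fst
  have h3 : T.mor₃ = 0 := (Triangle.mor₃_eq_zero_iff_mono₁ T hT).2 inferInstance
  obtain ⟨s, hs⟩ := Triangle.coyoneda_exact₃ T hT (𝟙 T.obj₃) (by rw [h3, comp_zero])
  let r := s - (s ≫ fst ≫ inv (T.mor₁ ≫ fst)) ≫ T.mor₁
  have hr : r ≫ T.mor₂ = 𝟙 T.obj₃ := by
    simp only [r, Preadditive.sub_comp, Category.assoc, comp_distTriang_mor_zero₁₂ T hT, comp_zero,
      sub_zero]
    exact hs.symm
  have hr' : r = (r ≫ snd) ≫ inr := by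
    refine hjoint _ _ ?_ ?_
    · simp only [r, Category.assoc, hrf, comp_zero, Preadditive.sub_comp, IsIso.inv_hom_id,
        Category.comp_id, sub_self]
    · simp only [Category.assoc, hrs, Category.comp_id]
  haveI : Mono (inr ≫ T.mor₂) := by
    refine Preadditive.mono_of_cancel_zero _ fun x hx => ?_
    obtain ⟨y, hy⟩ := Triangle.coyoneda_exact₂ T hT (x ≫ inr) (by rw [Category.assoc]; exact hx)
    have hy0 : y ≫ (T.mor₁ ≫ fst) = 0 := by
      rw [← Category.assoc, ← hy, Category.assoc, hrf, comp_zero]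
    have : y = 0 := (cancel_mono (T.mor₁ ≫ fst)).1 (by rw [hy0, zero_comp])
    rw [this, zero_comp] at hy
    have h2 := hy =≫ snd
    rw [Category.assoc, hrs, Category.comp_id, zero_comp] at h2
    simp [h2]
  haveI : IsSplitEpi (inr ≫ T.mor₂) :=
    IsSplitEpi.mk' ⟨r ≫ snd, by rw [← Category.assoc, ← hr', hr]⟩
  exact isIso_of_mono_of_isSplitEpi _

end Split

variable {X : Scheme.{u}}

/-- `Rj_*` followed by `Lj^*` is the identity. -/
theorem isIso_counit {U : Scheme.{u}} (j : U ⟶ X) [IsOpenImmersion j] :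
    IsIso (PullPushAdj.derivedAdjunction j).counit :=
  (PullPushAdj.derivedAdjunction j).isIso_counit_of_iso
    (Functor.isoWhiskerLeft (DCoh.Rpush j)
      ((OpenImm.restrictPushAdj j).leftAdjointUniq (PullPushAdj.derivedAdjunction j)).symm ≪≫
      OpenImm.counitIso j)

instance isIso_counit_app {U : Scheme.{u}} (j : U ⟶ X) [IsOpenImmersion j] (A : DCoh.D U) :
    IsIso ((PullPushAdj.derivedAdjunction j).counit.app A) :=
  haveI := isIso_counit j
  inferInstance

theorem nonempty_restrict_HD (W : X.Opens) (C : DCoh.D X) (i : ℤ) :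
    Nonempty ((Scheme.Modules.restrictFunctor W.ι).obj (DCoh.HD C i) ≅
      DCoh.HD ((DCoh.Lpull W.ι).obj C) i) :=
  ⟨(Perfect.Coherent.homologyIso W.ι C i).symm ≪≫ (DerivedCategory.homologyFunctor _ i).mapIso
    (((OpenImm.restrictPushAdj W.ι).leftAdjointUniq (PullPushAdj.derivedAdjunction W.ι)).app C)⟩

/-- Isomorphisms are detected on the members of an open cover. -/
theorem isIso_of_cover {ι : Type u} (W : ι → X.Opens) (hW : ⨆ i, W i = ⊤) {A B : DCoh.D X}
    (φ : A ⟶ B) (h : ∀ i, IsIso ((DCoh.Lpull (W i).ι).map φ)) : IsIso φ := by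
  obtain ⟨C, b, c, hT⟩ := distinguished_cocone_triangle φ
  refine (Triangle.isZero₃_iff_isIso₁ _ hT).1 ?_
  refine OpenSupport.isZero_of_homology C fun n => Modules.Local.isZero_of_restrict W hW fun i => ?_
  haveI := h i
  have hT' := (DCoh.Lpull (W i).ι).map_distinguished _ hT
  have hz : IsZero ((DCoh.Lpull (W i).ι).obj C) :=
    (Triangle.isZero₃_iff_isIso₁ _ hT').2 (h i)
  obtain ⟨θ⟩ := nonempty_restrict_HD (W i) C n
  exact ((DerivedCategory.homologyFunctor _ n).map_isZero hz).of_iso θ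

variable (F : CochainComplex X.Modules ℤ)

/-- `Rι_{W*} Q(ι_W^* F)`. -/
noncomputable abbrev RW (W : X.Opens) : DCoh.D X :=
  (DCoh.Rpush W.ι).obj (DerivedCategory.Q.obj ((pullC W.ι).obj F))

/-- `QF ⟶ R_W F`. -/
noncomputable def η (W : X.Opens) : DerivedCategory.Q.obj F ⟶ RW F W :=
  (PullPushAdj.derivedAdjunction W.ι).homEquiv _ _ ((counitCx W.ι).app F)

theorem map_η (W : X.Opens) : (DCoh.Lpull W.ι).map (η F W) ≫
    (PullPushAdj.derivedAdjunction W.ι).counit.app _ = (counitCx W.ι).app F :=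
  ((PullPushAdj.derivedAdjunction W.ι).homEquiv_counit _ _ _).symm.trans (Equiv.symm_apply_apply _ _)

instance isIso_counitCx_ι (W : X.Opens) : IsIso ((counitCx W.ι).app F) :=
  BCFlat.isIso_counitCx W.ι F

instance isIso_map_η (W : X.Opens) : IsIso ((DCoh.Lpull W.ι).map (η F W)) := by
  haveI : IsIso ((DCoh.Lpull W.ι).map (η F W) ≫
      (PullPushAdj.derivedAdjunction W.ι).counit.app _) := by rw [map_η]; infer_instance
  exact IsIso.of_isIso_comp_right _ ((PullPushAdj.derivedAdjunction W.ι).counit.app _)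

variable {V W : X.Opens} (h : W ≤ V)

include h in
/-- Restriction to `W` factors through restriction to `V`. -/
noncomputable def lpullLE : DCoh.Lpull V.ι ⋙ DCoh.Lpull (X.homOfLE h) ≅ DCoh.Lpull W.ι :=
  PullComp.lpullCompIso (X.homOfLE h) V.ι ≪≫ eqToIso (by simp)

include h in
theorem isIso_map_η_le : IsIso ((DCoh.Lpull W.ι).map (η F V)) :=
  (NatIso.isIso_map_iff (lpullLE h) (η F V)).1
    (by dsimp; infer_instance)

/-- `R_V F ⟶ R_W F` for `W ≤ V`. -/
noncomputable def ρ : RW F V ⟶ RW F W :=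
  haveI := isIso_map_η_le F h
  (PullPushAdj.derivedAdjunction W.ι).homEquiv _ _
    (inv ((DCoh.Lpull W.ι).map (η F V)) ≫ (counitCx W.ι).app F)

theorem η_ρ : η F V ≫ ρ F h = η F W := by
  haveI := isIso_map_η_le F h
  unfold ρ
  rw [← Adjunction.homEquiv_naturality_left, IsIso.hom_inv_id_assoc]
  rfl

include h in
theorem hom_ext {M : DCoh.D (W : Scheme.{u})} {x y : RW F V ⟶ (DCoh.Rpush W.ι).obj M}
    (hxy : η F V ≫ x = η F V ≫ y) : x = y := by
  haveI := isIso_map_η_le F h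
  apply ((PullPushAdj.derivedAdjunction W.ι).homEquiv _ _).symm.injective
  rw [← cancel_epi ((DCoh.Lpull W.ι).map (η F V)), ← Adjunction.homEquiv_naturality_left_symm,
    ← Adjunction.homEquiv_naturality_left_symm, hxy]

omit F in
/-- Abstract form of the invertibility of restriction maps on overlaps. -/
theorem isIso_map_unit {DX DV DW DU DW' : Type*} [Category DX] [Category DV] [Category DW]
    [Category DU] [Category DW']
    {LU : DX ⥤ DU} {LV : DX ⥤ DV} {RV : DV ⥤ DX} {Lk : DV ⥤ DW} {Rk : DW ⥤ DV}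
    {Lt : DV ⥤ DW'} {Rt : DW' ⥤ DU} {LW : DX ⥤ DW} {RW' : DW ⥤ DX}
    (aV : LV ⊣ RV) (ak : Lk ⊣ Rk) (aW : LW ⊣ RW') (θ : LV ⋙ Lk ≅ LW) (τ : RV ⋙ LU ⟶ Lt ⋙ Rt) (L : DV)
    (h1 : IsIso (τ.app (LV.obj (RV.obj L))))
    (h2 : IsIso (τ.app (Rk.obj (Lk.obj (LV.obj (RV.obj L))))))
    (hV : IsIso (aV.counit.app L)) (hk : IsIso (Lt.map (ak.unit.app (LV.obj (RV.obj L))))) :
    IsIso (LU.map (aW.unit.app (RV.obj L))) := by
  let a' := (aV.comp ak).ofNatIsoLeft θ
  haveI := hV
  haveI : IsIso (aV.unit.app (RV.obj L) ≫ RV.map (aV.counit.app L)) := by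
    rw [aV.right_triangle_components L]; exact IsIso.id _
  haveI : IsIso (aV.unit.app (RV.obj L)) := IsIso.of_isIso_comp_right _ (RV.map (aV.counit.app L))
  have n := τ.naturality (ak.unit.app (LV.obj (RV.obj L)))
  dsimp only [Functor.comp_obj, Functor.comp_map, Functor.id_obj] at n
  haveI := h1
  haveI := h2
  haveI := hk
  haveI : IsIso (LU.map (RV.map (ak.unit.app (LV.obj (RV.obj L)))) ≫
      τ.app (Rk.obj (Lk.obj (LV.obj (RV.obj L))))) := by rw [n]; infer_instance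
  haveI : IsIso (LU.map (RV.map (ak.unit.app (LV.obj (RV.obj L))))) :=
    IsIso.of_isIso_comp_right _ (τ.app (Rk.obj (Lk.obj (LV.obj (RV.obj L)))))
  have e : a'.unit.app (RV.obj L) = aV.unit.app (RV.obj L) ≫
      RV.map (ak.unit.app (LV.obj (RV.obj L))) ≫ RV.map (Rk.map (θ.hom.app (RV.obj L))) := by
    simp [a', Adjunction.ofNatIsoLeft, Adjunction.comp]
  rw [← Adjunction.unit_rightAdjointUniq_hom_app a' aW, e]
  simp only [Functor.map_comp, Functor.comp_obj]
  infer_instance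

omit F in
theorem isIso_Lpull_unit {U' V' : Scheme.{u}} (k : U' ⟶ V') [IsOpenImmersion k] (L : DCoh.D V') :
    IsIso ((DCoh.Lpull k).map ((PullPushAdj.derivedAdjunction k).unit.app L)) := by
  haveI : IsIso ((DCoh.Lpull k).map ((PullPushAdj.derivedAdjunction k).unit.app L) ≫
      (PullPushAdj.derivedAdjunction k).counit.app ((DCoh.Lpull k).obj L)) := by
    erw [(PullPushAdj.derivedAdjunction k).left_triangle_components]; exact IsIso.id _
  exact IsIso.of_isIso_comp_right _ ((PullPushAdj.derivedAdjunction k).counit.app _)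

include h in
theorem isQCohD_RW_pull (hF : DCoh.IsQCohD (DerivedCategory.Q.obj F)) :
    DCoh.IsQCohD ((DCoh.Lpull V.ι).obj (RW F V)) := fun i =>
  (Groth.Agent.Lib.WayOut.Scheme.qc _).prop_of_iso
    ((DerivedCategory.homologyFunctor _ i).mapIso
      (asIso ((counitCx V.ι).app F) ≪≫ (asIso ((PullPushAdj.derivedAdjunction V.ι).counit.app
        (DerivedCategory.Q.obj ((pullC V.ι).obj F)))).symm))
    (QCohLocal.isQCohD_Lpull V.ι hF i)

include h in
theorem isIso_map_unit_RW [QuasiCompact V.ι] (U : X.Opens) (hUW : U ⊓ V = W)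
    [QuasiCompact (X.homOfLE h)] (hF : DCoh.IsQCohD (DerivedCategory.Q.obj F)) :
    IsIso ((DCoh.Lpull U.ι).map ((PullPushAdj.derivedAdjunction W.ι).unit.app (RW F V))) := by
  have hL' := isQCohD_RW_pull F h hF
  have hM : DCoh.IsQCohD ((DCoh.Rpush (X.homOfLE h)).obj ((DCoh.Lpull (X.homOfLE h)).obj
      ((DCoh.Lpull V.ι).obj (RW F V)))) :=
    RpushQCoh.isQCohD_Rpush (X.homOfLE h) _ (QCohLocal.isQCohD_Lpull (X.homOfLE h) hL')
  have hWU : W ≤ U := hUW ▸ inf_le_left
  have hsq : IsPullback (X.homOfLE h) (X.homOfLE hWU) V.ι U.ι := by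
    subst hUW
    exact (isPullback_opens_inf U V).flip
  exact isIso_map_unit (PullPushAdj.derivedAdjunction V.ι) (PullPushAdj.derivedAdjunction (X.homOfLE h))
    (PullPushAdj.derivedAdjunction W.ι) (lpullLE h)
    (BCSquare.bcD V.ι U.ι (X.homOfLE hWU) (X.homOfLE h) hsq.w)
    (DerivedCategory.Q.obj ((pullC V.ι).obj F))
    (BCFlat.isIso_bcD V.ι U.ι (X.homOfLE hWU) (X.homOfLE h) hsq.w hsq _ hL')
    (BCFlat.isIso_bcD V.ι U.ι (X.homOfLE hWU) (X.homOfLE h) hsq.w hsq _ hM)
    inferInstance (isIso_Lpull_unit (X.homOfLE h) _)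

/-- Over an open meeting `V` inside `W`, the restriction map is invertible. -/
theorem isIso_map_ρ [QuasiCompact V.ι] (U : X.Opens) (hUW : U ⊓ V = W)
    [QuasiCompact (X.homOfLE h)]
    (hF : DCoh.IsQCohD (DerivedCategory.Q.obj F)) : IsIso ((DCoh.Lpull U.ι).map (ρ F h)) := by
  haveI := isIso_map_η_le F h
  haveI := isIso_map_unit_RW F h U hUW hF
  unfold ρ
  rw [Adjunction.homEquiv_unit, Functor.map_comp]
  infer_instance

variable (U V : X.Opens)

/-- The restrictions to the members of the cover. -/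
noncomputable abbrev mvα : DerivedCategory.Q.obj F ⟶ RW F U ⊞ RW F V := biprod.lift (η F U) (η F V)

/-- The difference of the restrictions to the intersection. -/
noncomputable abbrev mvβ : RW F U ⊞ RW F V ⟶ RW F (U ⊓ V) :=
  biprod.desc (ρ F (inf_le_left : U ⊓ V ≤ U)) (-ρ F (inf_le_right : U ⊓ V ≤ V))

theorem mvα_β : mvα F U V ≫ mvβ F U V = 0 := by
  rw [biprod.lift_desc, Preadditive.comp_neg, η_ρ, η_ρ, add_neg_cancel]

variable {F U V} in
/-- One side of the cover. -/
theorem isIso_map_factor {C : DCoh.D X} {p : RW F U ⊞ RW F V ⟶ C} {c : C ⟶ (DerivedCategory.Q.obj F)⟦(1 : ℤ)⟧}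
    (hT : Triangle.mk (mvα F U V) p c ∈ distTriang (DCoh.D X)) (φ : C ⟶ RW F (U ⊓ V))
    (hφ : mvβ F U V = p ≫ φ) {A B : DCoh.D X} {W : X.Opens} (i₁ : B ⟶ RW F U ⊞ RW F V)
    (p₁ : RW F U ⊞ RW F V ⟶ A) (p₂ : RW F U ⊞ RW F V ⟶ B)
    (h11 : i₁ ≫ p₁ = 0) (h12 : i₁ ≫ p₂ = 𝟙 B)
    (tot : ∃ i₀ : A ⟶ RW F U ⊞ RW F V, p₁ ≫ i₀ + p₂ ≫ i₁ = 𝟙 _)
    (hp : IsIso ((DCoh.Lpull W.ι).map (mvα F U V ≫ p₁)))
    (hq : IsIso ((DCoh.Lpull W.ι).map (i₁ ≫ mvβ F U V))) :
    IsIso ((DCoh.Lpull W.ι).map φ) := by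
  let L := DCoh.Lpull W.ι
  have hT' := L.map_distinguished _ hT
  obtain ⟨i₀, htot⟩ := tot
  have key : IsIso (L.map i₁ ≫ L.map p) := isIso_inr_comp hT' (L.map p₁) (L.map p₂) (L.map i₁)
    ((L.map_comp _ _).symm.trans ((congrArg L.map h11).trans (L.map_zero _ _)))
    ((L.map_comp _ _).symm.trans ((congrArg L.map h12).trans (L.map_id _)))
    (fun a b h1 h2 => by
      have e : L.map p₁ ≫ L.map i₀ + L.map p₂ ≫ L.map i₁ = 𝟙 (L.obj (RW F U ⊞ RW F V)) := by
        rw [← L.map_comp, ← L.map_comp, ← L.map_add, htot, L.map_id]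
      have e2 : a ≫ (L.map p₁ ≫ L.map i₀ + L.map p₂ ≫ L.map i₁) =
          b ≫ (L.map p₁ ≫ L.map i₀ + L.map p₂ ≫ L.map i₁) := by
        erw [Preadditive.comp_add, Preadditive.comp_add, ← Category.assoc, ← Category.assoc,
          ← Category.assoc, ← Category.assoc]
        exact congrArg₂ (fun s t => s ≫ L.map i₀ + t ≫ L.map i₁) h1 h2
      rw [e] at e2
      exact (Category.comp_id a).symm.trans (e2.trans (Category.comp_id b)))
    ((L.map_comp _ _) ▸ hp)
  haveI : IsIso ((L.map i₁ ≫ L.map p) ≫ L.map φ) := by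
    rw [Category.assoc, ← L.map_comp, ← L.map_comp, ← hφ]; exact hq
  haveI := key
  exact IsIso.of_isIso_comp_left (L.map i₁ ≫ L.map p) _

/-- The Mayer–Vietoris triangle. -/
theorem exists_mv [QuasiCompact U.ι] [QuasiCompact V.ι] [QuasiSeparated (terminal.from X)]
    (hUV : U ⊔ V = ⊤) (hF : DCoh.IsQCohD (DerivedCategory.Q.obj F)) :
    ∃ c, Triangle.mk (mvα F U V) (mvβ F U V) c ∈ distTriang (DCoh.D X) := by
  haveI : QuasiCompact (X.homOfLE (inf_le_right : U ⊓ V ≤ V)) :=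
    MorphismProperty.of_isPullback (isPullback_opens_inf U V) (inferInstance : QuasiCompact U.ι)
  haveI : QuasiCompact (X.homOfLE (inf_le_left : U ⊓ V ≤ U)) :=
    MorphismProperty.of_isPullback (isPullback_opens_inf U V).flip (inferInstance : QuasiCompact V.ι)
  obtain ⟨C, p, c, hT⟩ := distinguished_cocone_triangle (mvα F U V)
  obtain ⟨φ, hφ⟩ := Triangle.yoneda_exact₂ _ hT (mvβ F U V) (mvα_β F U V)
  haveI : IsIso φ := by
    let 𝒰 : ULift.{u} Bool → X.Opens := fun b => bif b.down then U else V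
    have h𝒰 : ⨆ b, 𝒰 b = ⊤ := by
      rw [← Equiv.ulift.symm.iSup_comp (g := 𝒰), iSup_bool_eq]; exact hUV
    refine isIso_of_cover 𝒰 h𝒰 φ fun b => ?_
    rcases b with ⟨b⟩
    cases b
    · refine isIso_map_factor hT φ hφ (W := V) biprod.inl biprod.snd biprod.fst biprod.inl_snd
        biprod.inl_fst ⟨biprod.inr, by rw [add_comm]; exact biprod.total⟩ ?_ ?_
      · rw [biprod.lift_snd]; infer_instance
      · rw [biprod.inl_desc]; exact isIso_map_ρ F inf_le_left V (inf_comm V U) hF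
    · refine isIso_map_factor hT φ hφ (W := U) biprod.inr biprod.fst biprod.snd biprod.inr_fst
        biprod.inr_snd ⟨biprod.inl, biprod.total⟩ ?_ ?_
      · rw [biprod.lift_fst]; infer_instance
      · rw [biprod.inr_desc, Functor.map_neg]
        haveI := isIso_map_ρ F (inf_le_right : U ⊓ V ≤ V) U rfl hF
        exact ⟨-inv ((DCoh.Lpull U.ι).map (ρ F (inf_le_right : U ⊓ V ≤ V))),
          by rw [Preadditive.neg_comp_neg, IsIso.hom_inv_id],
          by rw [Preadditive.neg_comp_neg, IsIso.inv_hom_id]⟩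
  exact ⟨inv φ ≫ c, isomorphic_distinguished _ hT _ (Triangle.isoMk _ _ (Iso.refl _) (Iso.refl _)
    (asIso φ).symm ((Category.comp_id _).trans (Category.id_comp _).symm)
    (((congrArg (· ≫ (asIso φ).inv) hφ).trans ((Category.assoc _ _ _).trans
      ((congrArg (_ ≫ ·) (asIso φ).hom_inv_id).trans (Category.comp_id _)))).trans (Category.id_comp _).symm)
    ((congrArg ((inv φ ≫ c) ≫ ·) ((shiftFunctor (DCoh.D X) (1 : ℤ)).map_id _)).trans
      (Category.comp_id _)))⟩

end Groth.Agent.Lib.DerivedOX.BCOpen
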