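import Groth.Agent.Lib.DerivedOX.BCSquare
import Groth.Agent.Lib.CohDelta.BC.Flat
import Groth.Agent.Lib.DerCat.RFObj
import Mathlib.Algebra.Homology.HomotopyCategory.Shift
import Mathlib.Algebra.Homology.HomotopyCategory.ShiftSequence
import Mathlib.CategoryTheory.Abelian.Injective.Extend
import Mathlib.Algebra.Homology.Embedding.ExtendHomology

/-!
# Flat base change on injective resolutions

For a flat base change and a quasi-coherent module with injective resolution `I`, with
`θ : g'^*I ⟶ J` the comparison, `g^*f_*I ⟶ f'_*g'^*I ⟶ f'_*J` is a quasi-isomorphism.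
-/

set_option autoImplicit false
set_option linter.style.haveILetI false
set_option linter.unusedSectionVars false
set_option maxHeartbeats 1000000

universe u

open CategoryTheory Limits AlgebraicGeometry HomologicalComplex

attribute [local instance] HasDerivedCategory.standard

namespace Groth.Agent.Lib.DerivedOX.BCResolution

open CohDelta.BC CohDelta.Syzygy
open Scheme.Modules (pushforward pullbackPushforwardAdjunction)

/-- `f^*`. -/
local notation "pb" => AlgebraicGeometry.Scheme.Modules.pullback

section General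

variable {A : Type*} [Category A] [Abelian A] {B : Type*} [Category B] [Abelian B]

/-- The comparison of homologies is invertible for an exact functor. -/
theorem isIso_homologyComparison {ι : Type*} {c : ComplexShape ι} (Ψ : A ⥤ B) [Ψ.Additive]
    [PreservesFiniteLimits Ψ] [PreservesFiniteColimits Ψ] (K : HomologicalComplex A c) (i : ι) :
    IsIso (RDer.homologyComparison Ψ K i) := by
  haveI : IsIso (RDer.cyclesComparison Ψ K i) :=
    (IsLimit.conePointUniqueUpToIso (((Ψ.mapHomologicalComplex c).obj K).cyclesIsKernel i (c.next i) rfl)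
      (KernelFork.mapIsLimit _ (K.cyclesIsKernel i (c.next i) rfl) Ψ)).isIso_hom
  haveI : Epi (Ψ.map (K.homologyπ i)) := Ψ.map_epi _
  let hK := CokernelCofork.mapIsColimit _ (K.homologyIsCokernel (c.prev i) i rfl) Ψ
  have w : Ψ.map (K.toCycles (c.prev i) i) ≫
      inv (RDer.cyclesComparison Ψ K i) ≫ ((Ψ.mapHomologicalComplex c).obj K).homologyπ i = 0 := by
    rw [← RDer.toCycles_cyclesComparison Ψ K i]
    refine (Category.assoc _ _ _).trans ((congrArg (_ ≫ ·) (IsIso.hom_inv_id_assoc _ _)).trans ?_)
    exact HomologicalComplex.toCycles_comp_homologyπ _ _ _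
  obtain ⟨j, hj⟩ : ∃ j : Ψ.obj (K.homology i) ⟶ ((Ψ.mapHomologicalComplex c).obj K).homology i,
      Ψ.map (K.homologyπ i) ≫ j =
        inv (RDer.cyclesComparison Ψ K i) ≫ ((Ψ.mapHomologicalComplex c).obj K).homologyπ i :=
    ⟨hK.desc (CokernelCofork.ofπ _ w), hK.fac _ WalkingParallelPair.one⟩
  refine ⟨j, ?_, ?_⟩
  · rw [← cancel_epi (((Ψ.mapHomologicalComplex c).obj K).homologyπ i)]
    rw [RDer.homologyπ_homologyComparison_assoc, hj, IsIso.hom_inv_id_assoc, Category.comp_id]
  · rw [← cancel_epi (Ψ.map (K.homologyπ i)), reassoc_of% hj, RDer.homologyπ_homologyComparison]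
    simp

lemma mapExtend_natTrans {F G : A ⥤ B} [F.Additive] [G.Additive] (τ : F ⟶ G)
    (K : CochainComplex A ℕ) :
    (NatTrans.mapHomologicalComplex τ (.up ℤ)).app (K.extend ComplexShape.embeddingUpNat) ≫
        (DerCat.RFObj.mapExtendIso G K).hom =
      (DerCat.RFObj.mapExtendIso F K).hom ≫
        extendMap ((NatTrans.mapHomologicalComplex τ (.up ℕ)).app K) ComplexShape.embeddingUpNat := by
  ext n
  cases n with
  | negSucc k =>
    exact (F.map_isZero (K.isZero_extend_X ComplexShape.embeddingUpNat _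
      (fun i => by simp))).eq_of_src _ _
  | ofNat k =>
    rw [HomologicalComplex.comp_f, HomologicalComplex.comp_f,
      HomologicalComplex.extendMap_f _ _ (i := k) (by simp)]
    change τ.app _ ≫ (G.map _ ≫ _) = (F.map _ ≫ _) ≫ _ ≫ τ.app (K.X k) ≫ _
    simp only [Category.assoc, Iso.symm_hom]
    erw [Iso.inv_hom_id_assoc]
    erw [← NatTrans.naturality_assoc]

lemma mapExtend_comp {C : Type*} [Category C] [Abelian C] (F : A ⥤ B) [F.Additive] (G : B ⥤ C)
    [G.Additive] (K : CochainComplex A ℕ) :
    (DerCat.RFObj.mapExtendIso (F ⋙ G) K).hom =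
      (G.mapHomologicalComplex (.up ℤ)).map (DerCat.RFObj.mapExtendIso F K).hom ≫
        (DerCat.RFObj.mapExtendIso G ((F.mapHomologicalComplex (.up ℕ)).obj K)).hom := by
  ext n
  cases n with
  | negSucc k =>
    exact ((F ⋙ G).map_isZero (K.isZero_extend_X ComplexShape.embeddingUpNat _
      (fun i => by simp))).eq_of_src _ _
  | ofNat k =>
    rw [HomologicalComplex.comp_f]
    change G.map (F.map _) ≫ _ = G.map (F.map _ ≫ _) ≫ (G.map _ ≫ _)
    rw [Functor.map_comp, Category.assoc]
    refine congrArg (_ ≫ ·) ?_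
    simp only [Iso.symm_hom]
    erw [← Functor.map_comp_assoc, Iso.inv_hom_id]
    exact ((congrArg (· ≫ _) (G.map_id _)).trans (Category.id_comp _)).symm

lemma quasiIso_iso_comp {ι : Type*} {c : ComplexShape ι} {K L M : HomologicalComplex B c}
    (e : K ≅ L) (φ : L ⟶ M) (h : QuasiIso φ) : QuasiIso (e.hom ≫ φ) :=
  haveI := h
  inferInstance

lemma quasiIso_of_comp_iso {ι : Type*} {c : ComplexShape ι} {K L M : HomologicalComplex B c}
    (φ : K ⟶ L) (e : L ≅ M) (h : QuasiIso (φ ≫ e.hom)) : QuasiIso φ :=
  haveI := h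
  quasiIso_of_comp_right φ e.hom

/-- A termwise comparison which is a quasi-isomorphism stays one after shifting. -/
theorem quasiIso_comparison_shift {C : Type*} [Category C] [Abelian C] {F : A ⥤ C} [F.Additive]
    {H : A ⥤ B} [H.Additive] {G : B ⥤ C} [G.Additive] (τ : F ⟶ H ⋙ G)
    {I : CochainComplex A ℤ} {J : CochainComplex B ℤ}
    (t : (H.mapHomologicalComplex (.up ℤ)).obj I ⟶ J) (a : ℤ)
    (h : QuasiIso ((NatTrans.mapHomologicalComplex τ (.up ℤ)).app I ≫
      (G.mapHomologicalComplex (.up ℤ)).map t)) :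
    QuasiIso ((NatTrans.mapHomologicalComplex τ (.up ℤ)).app (I⟦a⟧) ≫
      (G.mapHomologicalComplex (.up ℤ)).map
        (((H.mapHomologicalComplex (.up ℤ)).commShiftIso a).hom.app I ≫ t⟦a⟧')) := by
  refine quasiIso_of_comp_iso _ (((G.mapHomologicalComplex (.up ℤ)).commShiftIso a).app J) ?_
  have key : ((NatTrans.mapHomologicalComplex τ (.up ℤ)).app (I⟦a⟧) ≫
      (G.mapHomologicalComplex (.up ℤ)).map
        (((H.mapHomologicalComplex (.up ℤ)).commShiftIso a).hom.app I ≫ t⟦a⟧')) ≫
      (((G.mapHomologicalComplex (.up ℤ)).commShiftIso a).app J).hom =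
    (((F.mapHomologicalComplex (.up ℤ)).commShiftIso a).app I).hom ≫
      (((NatTrans.mapHomologicalComplex τ (.up ℤ)).app I ≫
        (G.mapHomologicalComplex (.up ℤ)).map t))⟦a⟧' := by
    refine HomologicalComplex.hom_ext _ _ fun i => ?_
    simp
    exact (congrArg (_ ≫ ·) ((Category.comp_id _).trans ((congrArg (· ≫ _) (G.map_id _)).trans
      (Category.id_comp _)))).trans (Category.id_comp _).symm
  rw [key]
  exact quasiIso_iso_comp _ _ ((CochainComplex.quasiIso_shift_iff _ a).2 h)

end General

variable {X S S' X' : Scheme.{u}} (f : X ⟶ S) (g : S' ⟶ S) (f' : X' ⟶ S') (g' : X' ⟶ X)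
  (w : g' ≫ f = f' ≫ g)

/-- `bc0` as a natural transformation. -/
noncomputable def bcM : pushforward f ⋙ pb g ⟶ pb g' ⋙ pushforward f' :=
  BCMate.bcNat (pullbackPushforwardAdjunction f) (pullbackPushforwardAdjunction f')
    (BCSquare.γ f g f' g' w)

lemma bcCx_eq (K : CochainComplex X.Modules ℤ) :
    BCSquare.bcCx f g f' g' w K = (NatTrans.mapHomologicalComplex (bcM f g f' g' w) (.up ℤ)).app K := by
  refine HomologicalComplex.hom_ext _ _ fun i => ?_
  show _ = BCMate.bc (pullbackPushforwardAdjunction f) (pullbackPushforwardAdjunction f')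
    (BCSquare.γ f g f' g' w) (K.X i)
  unfold BCSquare.bcCx BCMate.bc
  rw [Adjunction.homEquiv_unit, Adjunction.homEquiv_unit]
  rfl

lemma homEquiv_bcM (M : X.Modules) :
    (pullbackPushforwardAdjunction g).homEquiv _ _ ((bcM f g f' g' w).app M) =
      (pushforward f).map ((pullbackPushforwardAdjunction g').unit.app M) ≫
        (Lift.sq f g f' g' w).hom.app ((pb g').obj M) :=
  (BCMate.transpose_eq_bc _ _ _ _ (BCMate.compat_leftIso (pullbackPushforwardAdjunction f)
    (pullbackPushforwardAdjunction g) (pullbackPushforwardAdjunction f')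
    (pullbackPushforwardAdjunction g') (Lift.sq f g f' g' w)) M).symm

variable [HasInjectiveResolutions X.Modules] [HasInjectiveResolutions X'.Modules] (M : X.Modules)

/-- The resolution of `M`. -/
noncomputable abbrev I0 : CochainComplex X.Modules ℕ := (injectiveResolution M).cocomplex

/-- The resolution of `g'^*M`. -/
noncomputable abbrev J0 : CochainComplex X'.Modules ℕ :=
  (injectiveResolution ((pb g').obj M)).cocomplex

variable {M g'} (φ : I0 M ⟶ ((pushforward g').mapHomologicalComplex (.up ℕ)).obj (J0 g' M))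

/-- The transpose of the comparison. -/
noncomputable def θ0 : ((pb g').mapHomologicalComplex (.up ℕ)).obj (I0 M) ⟶ J0 g' M :=
  ((DerCat.DerAdj.adjC (pullbackPushforwardAdjunction g') (.up ℕ)).homEquiv _ _).symm φ

lemma homEquiv_θ0_f (n : ℕ) :
    (pullbackPushforwardAdjunction g').homEquiv _ _ ((θ0 φ).f n) = φ.f n := by
  refine Eq.trans ?_ (congrArg (fun t => t.f n) (Equiv.apply_symm_apply
    ((DerCat.DerAdj.adjC (pullbackPushforwardAdjunction g') (.up ℕ)).homEquiv _ _) φ))
  simp only [θ0, Adjunction.homEquiv_unit]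
  rfl

theorem quasiIso_θ0 [PreservesFiniteLimits (pb g')]
    (h0 : (injectiveResolution M).ι.f 0 ≫ φ.f 0 = (pullbackPushforwardAdjunction g').unit.app M ≫
      (pushforward g').map ((injectiveResolution ((pb g').obj M)).ι.f 0)) :
    QuasiIso (θ0 φ) := by
  haveI : QuasiIso (RDer.mapAug (pb g') (injectiveResolution M).ι) := by
    unfold RDer.mapAug
    infer_instance
  have h : RDer.mapAug (pb g') (injectiveResolution M).ι ≫ θ0 φ =
      (injectiveResolution ((pb g').obj M)).ι := by
    refine HomologicalComplex.from_single_hom_ext ?_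
    apply ((pullbackPushforwardAdjunction g').homEquiv _ _).injective
    have e : (RDer.mapAug (pb g') (injectiveResolution M).ι ≫ θ0 φ).f 0 =
        (pb g').map ((injectiveResolution M).ι.f 0) ≫ (θ0 φ).f 0 := by
      simp [HomologicalComplex.singleMapHomologicalComplex_inv_app_self]
      exact Category.id_comp _
    rw [e]
    refine ((pullbackPushforwardAdjunction g').homEquiv_naturality_left _ _).trans ?_
    rw [homEquiv_θ0_f, Adjunction.homEquiv_unit]
    exact h0
  haveI : QuasiIso (RDer.mapAug (pb g') (injectiveResolution M).ι ≫ θ0 φ) := by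
    rw [h]; infer_instance
  exact quasiIso_of_comp_left (RDer.mapAug (pb g') (injectiveResolution M).ι) (θ0 φ)

/-- The comparison on `ℕ`. -/
noncomputable def χ0 :
    ((pb g).mapHomologicalComplex (.up ℕ)).obj (Lift.K (injectiveResolution M) f) ⟶
      Lift.K (injectiveResolution ((pb g').obj M)) f' :=
  (NatTrans.mapHomologicalComplex (bcM f g f' g' w) (.up ℕ)).app (I0 M) ≫
    ((pushforward f').mapHomologicalComplex (.up ℕ)).map (θ0 φ)

lemma homEquiv_χ0_f (n : ℕ) :
    (pullbackPushforwardAdjunction g).homEquiv _ _ ((χ0 f g f' w φ).f n) =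
      (pushforward f).map (φ.f n) ≫ (Lift.sq f g f' g' w).hom.app ((J0 g' M).X n) := by
  refine ((pullbackPushforwardAdjunction g).homEquiv_naturality_right _ _).trans ?_
  refine (congrArg (· ≫ _) (homEquiv_bcM f g f' g' w ((I0 M).X n))).trans ?_
  refine (Category.assoc _ _ _).trans ?_
  refine (congrArg ((pushforward f).map _ ≫ ·) ((Lift.sq f g f' g' w).hom.naturality _).symm).trans ?_
  refine Eq.trans (Category.assoc _ _ _).symm (congrArg (· ≫ _) ?_)
  refine ((pushforward f).map_comp _ _).symm.trans (congrArg (pushforward f).map ?_)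
  rw [← homEquiv_θ0_f φ n, Adjunction.homEquiv_unit]

theorem isIso_homologyMap_χ0 [Flat g] [PreservesFiniteLimits (pb g')] (n : ℕ)
    (hbc : Lift.pR (injectiveResolution M) f n ≫ CohBC.bcQAdj f g f' g' w n M =
      Lift.comb f g f' g' w
        (Lift.ψ (injectiveResolution M) (injectiveResolution ((pb g').obj M)) φ n)
        (Lift.pR (injectiveResolution ((pb g').obj M)) f' n))
    [IsIso (CohBC.bcQ f g f' g' w n M)] :
    IsIso (homologyMap (χ0 f g f' w φ) n) := by
  haveI := Flat.preservesFiniteLimits_pullback g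
  haveI : PreservesFiniteColimits (pb g) :=
    haveI : PreservesColimitsOfSize.{0, 0} (pb g) :=
      (pullbackPushforwardAdjunction g).leftAdjoint_preservesColimits
    PreservesColimitsOfSize.preservesFiniteColimits.{0, 0} _
  let I := injectiveResolution M
  let J := injectiveResolution ((pb g').obj M)
  let A := pullbackPushforwardAdjunction g
  let K := Lift.K I f
  let P := ((pb g).mapHomologicalComplex (.up ℕ)).obj K
  let ψ := Lift.ψ I J φ n
  let v : (pb g).obj ((pushforward f).obj (Z I n)) ⟶ (pushforward f').obj (Z J n) :=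
    (A.homEquiv _ _).symm ((pushforward f).map ψ ≫ (Lift.sq f g f' g' w).hom.app (Z J n))
  haveI := isIso_homologyComparison (pb g) K n
  have hv : (pb g).map (Lift.pR I f n) ≫ CohBC.bcQ f g f' g' w n M = v ≫ Lift.pR J f' n :=
    ((A.homEquiv_naturality_left_symm _ _).symm.trans (congrArg (A.homEquiv _ _).symm hbc)).trans
      (A.homEquiv_naturality_right_symm _ _)
  have hι : cyclesMap (χ0 f g f' w φ) n ≫ (Lift.cyc J f' n).hom =
      RDer.cyclesComparison (pb g) K n ≫ (pb g).map (Lift.cyc I f n).hom ≫ v := by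
    haveI : Mono ((pushforward f').map (kernel.ι (J.cocomplex.d n (n + 1)))) :=
      (pushforward f').map_mono _
    rw [← cancel_mono ((pushforward f').map (kernel.ι (J.cocomplex.d n (n + 1))))]
    have e1 : (Lift.cyc J f' n).hom ≫ (pushforward f').map (kernel.ι (J.cocomplex.d n (n + 1))) =
        (Lift.K J f').iCycles n := by
      exact (congrArg ((Lift.cyc J f' n).hom ≫ ·) (Lift.cyc_inv_i J f' n).symm).trans
        (Iso.hom_inv_id_assoc _ _)
    have e2 : (Lift.cyc I f n).hom ≫ (pushforward f).map (kernel.ι (I.cocomplex.d n (n + 1))) =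
        K.iCycles n := by
      exact (congrArg ((Lift.cyc I f n).hom ≫ ·) (Lift.cyc_inv_i I f n).symm).trans
        (Iso.hom_inv_id_assoc _ _)
    have e3 : v ≫ (pushforward f').map (kernel.ι (J.cocomplex.d n (n + 1))) =
        (pb g).map ((pushforward f).map (kernel.ι (I.cocomplex.d n (n + 1)))) ≫
          (χ0 f g f' w φ).f n := by
      apply (A.homEquiv _ _).injective
      refine (A.homEquiv_naturality_right _ _).trans ?_
      refine Eq.trans ?_ (A.homEquiv_naturality_left _ _).symm
      rw [Equiv.apply_symm_apply]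
      refine Eq.trans ?_ (congrArg (_ ≫ ·) (homEquiv_χ0_f f g f' w φ n)).symm
      refine (Category.assoc _ _ _).trans ?_
      refine (congrArg ((pushforward f).map ψ ≫ ·)
        ((Lift.sq f g f' g' w).hom.naturality (kernel.ι (J.cocomplex.d n (n + 1)))).symm).trans ?_
      refine Eq.trans (Category.assoc _ _ _).symm (Eq.trans ?_ (Category.assoc _ _ _))
      refine congrArg (· ≫ _) ?_
      exact (((pushforward f).map_comp _ _).symm.trans
        (congrArg (pushforward f).map (Lift.ψ_ι I J φ n))).trans ((pushforward f).map_comp _ _)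
    simp only [Category.assoc, e1, e3]
    exact (cyclesMap_i _ n).trans ((congrArg (· ≫ _) ((RDer.cyclesComparison_i _ K n).symm.trans
      (congrArg (_ ≫ ·) ((congrArg (fun k => (pb g).map k) e2).symm.trans
        ((pb g).map_comp _ _))))).trans
          ((Category.assoc _ _ _).trans (congrArg (_ ≫ ·) (Category.assoc _ _ _))))
  have key : RDer.homologyComparison (pb g) K n ≫
      (pb g).map (I.isoRightDerivedObj (pushforward f) n).inv ≫ CohBC.bcQ f g f' g' w n M =
      homologyMap (χ0 f g f' w φ) n ≫ (J.isoRightDerivedObj (pushforward f') n).inv := by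
    rw [← cancel_epi (P.homologyπ n)]
    refine Eq.trans ?_ (homologyπ_naturality_assoc (χ0 f g f' w φ) n _).symm
    have e4 : (Lift.cyc I f n).hom ≫ Lift.pR I f n =
        K.homologyπ n ≫ (I.isoRightDerivedObj (pushforward f) n).inv := Iso.hom_inv_id_assoc _ _
    have e5 : (Lift.cyc J f' n).hom ≫ Lift.pR J f' n =
        (Lift.K J f').homologyπ n ≫ (J.isoRightDerivedObj (pushforward f') n).inv :=
      Iso.hom_inv_id_assoc _ _
    rw [RDer.homologyπ_homologyComparison_assoc, ← Functor.map_comp_assoc, ← e4, Functor.map_comp,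
      Category.assoc, hv, ← e5, reassoc_of% hι]
  haveI : IsIso (RDer.homologyComparison (pb g) K n ≫
      (pb g).map (I.isoRightDerivedObj (pushforward f) n).inv ≫ CohBC.bcQ f g f' g' w n M) :=
    inferInstance
  rw [key] at this
  exact IsIso.of_isIso_comp_right _ (J.isoRightDerivedObj (pushforward f') n).inv

/-- The comparison on `ℤ`. -/
noncomputable def θ (φ : I0 M ⟶ ((pushforward g').mapHomologicalComplex (.up ℕ)).obj (J0 g' M)) :
    (PullTranspose.pullC g').obj (injectiveResolution M).cochainComplex ⟶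
      (injectiveResolution ((pb g').obj M)).cochainComplex :=
  (DerCat.RFObj.mapExtendIso (pb g') (I0 M)).hom ≫
    extendMap (θ0 φ) ComplexShape.embeddingUpNat

theorem quasiIso_θ [PreservesFiniteLimits (pb g')]
    (h0 : (injectiveResolution M).ι.f 0 ≫ φ.f 0 = (pullbackPushforwardAdjunction g').unit.app M ≫
      (pushforward g').map ((injectiveResolution ((pb g').obj M)).ι.f 0)) :
    QuasiIso (θ φ) := by
  haveI := quasiIso_θ0 φ h0
  unfold θ
  exact quasiIso_iso_comp _ _ ((quasiIso_extendMap_iff _ _).2 inferInstance)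

theorem quasiIso_χ [QuasiIso (χ0 f g f' w φ)] :
    QuasiIso (BCSquare.bcCx f g f' g' w (injectiveResolution M).cochainComplex ≫
      (GammaAcyclic.pushC f').map (θ φ)) := by
  have h1 := mapExtend_natTrans (bcM f g f' g' w) (I0 M)
  have h2 := mapExtend_comp (pb g') (pushforward f') (I0 M)
  have h3 := DerCat.RFObj.mapExtendIso_naturality (pushforward f') (θ0 φ)
  have key : (BCSquare.bcCx f g f' g' w (injectiveResolution M).cochainComplex ≫
      (GammaAcyclic.pushC f').map (θ φ)) ≫ (DerCat.RFObj.mapExtendIso (pushforward f') (J0 g' M)).hom =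
      (DerCat.RFObj.mapExtendIso (pushforward f ⋙ pb g) (I0 M)).hom ≫
        extendMap (χ0 f g f' w φ) ComplexShape.embeddingUpNat := by
    rw [Category.assoc, bcCx_eq, θ, Functor.map_comp, Category.assoc]
    refine Eq.trans (congrArg (fun t => _ ≫ _ ≫ t) h3) ?_
    refine Eq.trans (congrArg (_ ≫ ·) ((Category.assoc _ _ _).symm.trans
      (congrArg (· ≫ _) h2.symm))) ?_
    refine Eq.trans (Category.assoc _ _ _).symm (Eq.trans (congrArg (· ≫ _) h1) ?_)
    refine Eq.trans (Category.assoc _ _ _) (congrArg (_ ≫ ·) ?_)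
    exact (extendMap_comp _ _ _).symm
  refine quasiIso_of_comp_iso _ (DerCat.RFObj.mapExtendIso (pushforward f') (J0 g' M)) ?_
  rw [key]
  exact quasiIso_iso_comp _ _ ((quasiIso_extendMap_iff _ _).2 inferInstance)

/-- Shifted. -/
theorem quasiIso_χ_shift {I : CochainComplex X.Modules ℤ} {J : CochainComplex X'.Modules ℤ}
    (t : (PullTranspose.pullC g').obj I ⟶ J)
    [hq : QuasiIso (BCSquare.bcCx f g f' g' w I ≫ (GammaAcyclic.pushC f').map t)] (a : ℤ) :
    QuasiIso (BCSquare.bcCx f g f' g' w (I⟦a⟧) ≫ (GammaAcyclic.pushC f').map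
      (((PullTranspose.pullC g').commShiftIso a).hom.app I ≫ t⟦a⟧')) := by
  rw [bcCx_eq] at hq ⊢
  exact quasiIso_comparison_shift (bcM f g f' g' w) t a hq

end Groth.Agent.Lib.DerivedOX.BCResolution
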