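import Groth.Agent.Lib.DerivedOX.BCSquare
import Groth.Agent.Lib.DerivedOX.RpushTriangulated
import Groth.Agent.Lib.DerivedOX.QCohLocal

/-!
# The base change morphism commutes with shifts
-/

set_option autoImplicit false
set_option linter.style.haveILetI false
set_option linter.unusedSectionVars false

universe u

open CategoryTheory Limits AlgebraicGeometry

attribute [local instance] HasDerivedCategory.standard

namespace Groth.Agent.Lib.DerivedOX.BCShift

section Abstract

variable {C D E : Type*} [Category C] [Category D] [Category E] [HasShift C ℤ] [HasShift D ℤ]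
  [HasShift E ℤ] {Q : C ⥤ D} [Q.CommShift ℤ] {F G : D ⥤ E} [F.CommShift ℤ] [G.CommShift ℤ]
  {H : C ⥤ E} [H.CommShift ℤ]

/-- A transformation determined by a compatible factorisation is compatible with shifts. -/
theorem commShift_of_fac (τ : F ⟶ G) (κ : Q ⋙ G ⟶ H) [NatTrans.CommShift κ ℤ] (σ : Q ⋙ F ⟶ H)
    [NatTrans.CommShift σ ℤ] (h : ∀ P, τ.app (Q.obj P) ≫ κ.app P = σ.app P)
    (gen : ∀ d : D, ∃ P : C, IsIso (κ.app P) ∧ Nonempty (Q.obj P ≅ d)) :
    NatTrans.CommShift τ ℤ := by
  refine ⟨fun a => ?_⟩
  refine NatTrans.ext (funext fun d => ?_)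
  obtain ⟨P, hP, ⟨e⟩⟩ := gen d
  have key : (F.commShiftIso a).hom.app (Q.obj P) ≫ (τ.app (Q.obj P))⟦a⟧' =
      τ.app ((Q.obj P)⟦a⟧) ≫ (G.commShiftIso a).hom.app (Q.obj P) := by
    refine (cancel_mono ((κ.app P)⟦a⟧')).1 ?_
    refine (cancel_epi (F.map ((Q.commShiftIso a).hom.app P))).1 ?_
    have hσ := NatTrans.shift_app_comm σ a P
    have hκ := NatTrans.shift_app_comm κ a P
    have hn := τ.naturality ((Q.commShiftIso a).hom.app P)
    simp only [Functor.commShiftIso_comp_hom_app, Functor.comp_obj, Category.assoc] at hσ hκ hn ⊢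
    rw [← Functor.map_comp, h P, hσ, reassoc_of% hn, hκ, ← h (P⟦a⟧), Category.assoc]
  have n1 := ((shiftFunctor D a) ⋙ F).map e.hom
  have e1 := (F.commShiftIso a).hom.naturality e.hom
  have e2 := (G.commShiftIso a).hom.naturality e.hom
  have e3 := τ.naturality (e.hom⟦a⟧')
  have e4 := congrArg (fun t => t⟦a⟧') (τ.naturality e.hom)
  refine (cancel_epi (F.map (e.hom⟦a⟧'))).1 ?_
  simp only [Functor.comp_map, Functor.comp_obj, Functor.map_comp, NatTrans.comp_app,
    Functor.whiskerRight_app, Functor.whiskerLeft_app] at e1 e2 e3 e4 ⊢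
  rw [reassoc_of% e1, e4, reassoc_of% key, reassoc_of% e3, e2]

end Abstract

open PullTranspose BCSquare

section Counit

variable {X Y : Scheme.{u}} (f : X ⟶ Y) [DCoh.HasLpull f] [DCoh.HasRpush f]

/-- The shift structure on `Lf^*` from the adjunction. -/
noncomputable instance commShift_Lpull : (DCoh.Lpull f).CommShift ℤ :=
  (PullPushAdj.derivedAdjunction f).leftAdjointCommShift ℤ

instance commShift_adj : (PullPushAdj.derivedAdjunction f).CommShift ℤ :=
  (PullPushAdj.derivedAdjunction f).commShift_of_rightAdjoint ℤ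

instance isTriangulated_Lpull : (DCoh.Lpull f).IsTriangulated :=
  (PullPushAdj.derivedAdjunction f).isTriangulated_leftAdjoint

instance commShift_derivedUnit : NatTrans.CommShift (RightDerived.derivedUnit (DCoh.pushKh f)) ℤ := by
  unfold RightDerived.derivedUnit
  infer_instance

instance commShift_totalIso :
    NatTrans.CommShift (RightDerived.totalRightDerivedIso (DCoh.pushKh f)).hom ℤ :=
  Functor.CommShift.ofIso_compatibility (RightDerived.totalRightDerivedIso (DCoh.pushKh f)) ℤ

instance commShift_totalUnit : NatTrans.CommShift ((DCoh.pushKh f).totalRightDerivedUnit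
    DerivedCategory.Qh (HomotopyCategory.quasiIso X.Modules (.up ℤ))) ℤ := by
  have e : (DCoh.pushKh f).totalRightDerivedUnit DerivedCategory.Qh
      (HomotopyCategory.quasiIso X.Modules (.up ℤ)) =
      RightDerived.derivedUnit (DCoh.pushKh f) ≫
        Functor.whiskerLeft DerivedCategory.Qh (RightDerived.totalRightDerivedIso (DCoh.pushKh f)).hom :=
    NatTrans.ext (funext fun K => (RightDerived.derivedUnit_comp_totalRightDerivedIso_hom _ K).symm)
  rw [e]
  infer_instance

instance commShift_unitCx : NatTrans.CommShift (UnitCx.unitCx f) ℤ := by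
  unfold UnitCx.unitCx
  infer_instance

instance commShift_adjCx_unit : NatTrans.CommShift (adjCx f).unit ℤ :=
  ⟨fun a => by ext K n; simp [adjCx, DerCat.DerAdj.adjC]; rfl⟩

theorem counitCx_app_eq (K : CochainComplex Y.Modules ℤ) :
    (counitCx f).app K = (DCoh.Lpull f).map (DerivedCategory.Q.map ((adjCx f).unit.app K)) ≫
      (DCoh.Lpull f).map ((UnitCx.unitCx f).app ((pullC f).obj K)) ≫
        (PullPushAdj.derivedAdjunction f).counit.app (DerivedCategory.Q.obj ((pullC f).obj K)) := by
  have h1 := UnitCx.counit_fac f ((pullC f).obj K)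
  have h2 := (counitCx f).naturality ((adjCx f).unit.app K)
  dsimp only [Functor.comp_obj, Functor.comp_map, Functor.id_obj] at h2
  rw [h1, reassoc_of% h2, ← Functor.map_comp]
  rw [(adjCx f).left_triangle_components K, CategoryTheory.Functor.map_id, Category.comp_id]

/-- The counit on complexes commutes with shifts. -/
instance commShift_counitCx : NatTrans.CommShift (counitCx f) ℤ := by
  have e : counitCx f =
      Functor.whiskerRight ((DerivedCategory.Q).leftUnitor.inv ≫
        Functor.whiskerRight (adjCx f).unit DerivedCategory.Q ≫ (Functor.associator _ _ _).hom ≫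
        Functor.whiskerLeft (pullC f) (UnitCx.unitCx f) ≫ (Functor.associator _ _ _).inv) (DCoh.Lpull f) ≫
      (Functor.associator _ _ _).hom ≫
      Functor.whiskerLeft (pullC f ⋙ DerivedCategory.Q) (PullPushAdj.derivedAdjunction f).counit ≫
      (Functor.rightUnitor _).hom := by
    ext K
    rw [counitCx_app_eq]
    simp
  rw [e]
  infer_instance

end Counit

variable {X S S' X' : Scheme.{u}} (f : X ⟶ S) (g : S' ⟶ S) (f' : X' ⟶ S') (g' : X' ⟶ X)
  (w : g' ≫ f = f' ≫ g)
  [DCoh.HasLpull f] [DCoh.HasLpull g] [DCoh.HasLpull f'] [DCoh.HasLpull g']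
  [DCoh.HasRpush f] [DCoh.HasRpush g] [DCoh.HasRpush f'] [DCoh.HasRpush g']

instance commShift_γC : NatTrans.CommShift (γC f g f' g' w).hom ℤ :=
  ⟨fun a => by
    refine NatTrans.ext (funext fun K => HomologicalComplex.hom_ext _ _ fun n => ?_)
    simp [γC, Functor.commShiftIso_comp_hom_app]
    erw [CategoryTheory.Functor.map_id, CategoryTheory.Functor.map_id]
    exact ((Category.id_comp _).trans (Category.id_comp _)).trans
      ((congrArg (_ ≫ ·) (Category.id_comp _)).trans (Category.comp_id _)).symm⟩

instance commShift_comp2 : NatTrans.CommShift (comp2 g f') ℤ := by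
  unfold comp2
  infer_instance

/-- `sqLeft` commutes with shifts. -/
instance commShift_sqLeft : NatTrans.CommShift (sqLeft f g f' g' w).hom ℤ :=
  commShift_of_fac (sqLeft f g f' g' w).hom (comp2 f g')
    (comp2 g f' ≫ Functor.whiskerRight (γC f g f' g' w).hom DerivedCategory.Q)
    (fun K => by
      rw [NatTrans.comp_app, comp2_app, comp2_app, Category.assoc]
      exact sqLeft_fac f g f' g' w K)
    (fun d => by
      obtain ⟨P, hP, e⟩ := QCohLocal.exists_kflat d
      refine ⟨P, ?_, e⟩
      haveI := isIso_counitCx f hP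
      haveI := isIso_counitCx g' (KFlatPullback.isKFlat_pullback f hP)
      rw [comp2_app]
      infer_instance)

/-- The base change morphism commutes with shifts. -/
instance commShift_bcD : NatTrans.CommShift (bcD f g f' g' w) ℤ := by
  have e : bcD f g f' g' w =
      (Functor.rightUnitor _).inv ≫
      Functor.whiskerLeft (DCoh.Rpush f ⋙ DCoh.Lpull g) (PullPushAdj.derivedAdjunction f').unit ≫
      (Functor.associator _ _ _).inv ≫
      Functor.whiskerRight ((Functor.associator _ _ _).hom ≫
        Functor.whiskerLeft (DCoh.Rpush f) (sqLeft f g f' g' w).hom ≫ (Functor.associator _ _ _).inv ≫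
        Functor.whiskerRight (PullPushAdj.derivedAdjunction f).counit (DCoh.Lpull g') ≫
        (Functor.leftUnitor _).hom) (DCoh.Rpush f') := by
    ext E
    simp [bcD, BCMate.bcNat, BCMate.bc, Adjunction.homEquiv_unit]
  rw [e]
  infer_instance

end Groth.Agent.Lib.DerivedOX.BCShift
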