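import Groth.Agent.Lib.DerivedOX.BCMate
import Groth.Agent.Lib.DerivedOX.UnitCx
import Groth.Agent.Lib.DerivedOX.KhDerived
import Groth.Agent.Lib.DerivedOX.KFlatPullback
import Groth.Agent.Lib.CohDelta.BC.Lift
import Groth.Agent.Lib.DerivedOX.Exists
import Groth.Prelude.Def_DCoh3

/-!
# The base change morphism of a commutative square in derived categories, on complexes

For a commutative square, `sqRight` is an identification of the composite derived direct images,
`bcD` the base change morphism, and `bcD_fac` computes it on complexes by the classical `bcCx`.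
-/

set_option autoImplicit false
set_option linter.style.haveILetI false

universe u

open CategoryTheory Limits AlgebraicGeometry

attribute [local instance] HasDerivedCategory.standard

namespace Groth.Agent.Lib.DerivedOX.BCSquare

open PullTranspose

variable {X S S' X' : Scheme.{u}} (f : X ⟶ S) (g : S' ⟶ S) (f' : X' ⟶ S') (g' : X' ⟶ X)
  (w : g' ≫ f = f' ≫ g)

/-- The iso of module pullbacks determined by the square. -/
noncomputable def γ : Scheme.Modules.pullback g ⋙ Scheme.Modules.pullback f' ≅
    Scheme.Modules.pullback f ⋙ Scheme.Modules.pullback g' :=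
  BCMate.leftIso (Scheme.Modules.pullbackPushforwardAdjunction f)
    (Scheme.Modules.pullbackPushforwardAdjunction g) (Scheme.Modules.pullbackPushforwardAdjunction f')
    (Scheme.Modules.pullbackPushforwardAdjunction g')
    (CohDelta.BC.Lift.sq f g f' g' w)

/-- The same on complexes. -/
noncomputable def γC : pullC g ⋙ pullC f' ≅ pullC f ⋙ pullC g' :=
  NatIso.ofComponents (fun K => HomologicalComplex.Hom.isoOfComponents
    (fun i => (γ f g f' g' w).app (K.X i))
    (fun i j _ => ((γ f g f' g' w).hom.naturality (K.d i j)).symm))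
    (fun φ => HomologicalComplex.hom_ext _ _ fun i => (γ f g f' g' w).hom.naturality (φ.f i))

lemma γC_f (K : CochainComplex S.Modules ℤ) (i : ℤ) :
    ((γC f g f' g' w).hom.app K).f i = (γ f g f' g' w).hom.app (K.X i) := rfl

section Derived

variable [DCoh.HasLpull f] [DCoh.HasLpull g] [DCoh.HasLpull f'] [DCoh.HasLpull g']

/-- The counit of `Lf'^* Lg^*`. -/
noncomputable def comp2 : DerivedCategory.Q ⋙ (DCoh.Lpull g ⋙ DCoh.Lpull f') ⟶
    (pullC g ⋙ pullC f') ⋙ DerivedCategory.Q :=
  (Functor.associator _ _ _).inv ≫ Functor.whiskerRight (counitCx g) (DCoh.Lpull f') ≫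
    (Functor.associator _ _ _).hom ≫ Functor.whiskerLeft (pullC g) (counitCx f') ≫
    (Functor.associator _ _ _).inv

omit [DCoh.HasLpull f] [DCoh.HasLpull g'] in
lemma comp2_app (K : CochainComplex S.Modules ℤ) :
    (comp2 g f').app K = (DCoh.Lpull f').map ((counitCx g).app K) ≫
      (counitCx f').app ((pullC g).obj K) := by
  simp only [comp2, NatTrans.comp_app, Functor.whiskerLeft_app, Functor.whiskerRight_app,
    Functor.associator_inv_app, Functor.associator_hom_app]
  exact (Category.id_comp _).trans (congrArg (_ ≫ ·)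
    ((Category.id_comp _).trans (Category.comp_id _)))

omit [DCoh.HasLpull f] [DCoh.HasLpull g] [DCoh.HasLpull f'] [DCoh.HasLpull g'] in
theorem isAdapted_comp : LeftDerived.IsAdapted (HomologicalComplex.quasiIso S.Modules (.up ℤ))
    ((pullC g ⋙ pullC f') ⋙ DerivedCategory.Q) (KFlat.res S) (KFlat.aug S) where
  mem K := KFlat.quasiIso_aug K
  inverts A B φ hφ := by
    haveI : QuasiIso φ := hφ
    haveI := LeftExists.quasiIso_res_map φ
    haveI := PullbackQis.quasiIso_pullback g ((KFlat.res S).map φ) (KFlat.isKFlat_res A)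
      (KFlat.isKFlat_res B)
    haveI := PullbackQis.quasiIso_pullback f' ((pullC g).map ((KFlat.res S).map φ))
      (KFlatPullback.isKFlat_pullback g (KFlat.isKFlat_res A))
      (KFlatPullback.isKFlat_pullback g (KFlat.isKFlat_res B))
    exact Localization.inverts DerivedCategory.Q (HomologicalComplex.quasiIso X'.Modules (.up ℤ))
      ((pullC f').map ((pullC g).map ((KFlat.res S).map φ))) ‹_›
  isIso_resolved K := by
    haveI := KFlat.quasiIso_aug ((KFlat.res S).obj K)
    haveI := PullbackQis.quasiIso_pullback g ((KFlat.aug S).app ((KFlat.res S).obj K))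
      (KFlat.isKFlat_res _) (KFlat.isKFlat_res K)
    haveI := PullbackQis.quasiIso_pullback f'
      ((pullC g).map ((KFlat.aug S).app ((KFlat.res S).obj K)))
      (KFlatPullback.isKFlat_pullback g (KFlat.isKFlat_res _))
      (KFlatPullback.isKFlat_pullback g (KFlat.isKFlat_res K))
    exact Localization.inverts DerivedCategory.Q (HomologicalComplex.quasiIso X'.Modules (.up ℤ))
      ((pullC f').map ((pullC g).map ((KFlat.aug S).app ((KFlat.res S).obj K)))) ‹_›

omit [DCoh.HasLpull f] [DCoh.HasLpull g'] in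
theorem isLeftDerived_comp2 : (DCoh.Lpull g ⋙ DCoh.Lpull f').IsLeftDerivedFunctor (comp2 g f')
    (HomologicalComplex.quasiIso S.Modules (.up ℤ)) := by
  refine LeftDerived.isLeftDerivedFunctor_of_isIso (isAdapted_comp g f') DerivedCategory.Q _ _
    fun K => ?_
  haveI := isIso_counitCx g (KFlat.isKFlat_res K)
  haveI := isIso_counitCx f' (KFlatPullback.isKFlat_pullback g (KFlat.isKFlat_res K))
  rw [comp2_app]
  infer_instance

/-- `Lf'^* Lg^* ≅ Lg'^* Lf^*`. -/
noncomputable def sqLeft : DCoh.Lpull g ⋙ DCoh.Lpull f' ≅ DCoh.Lpull f ⋙ DCoh.Lpull g' :=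
  haveI := isLeftDerived_comp2 g f'
  haveI := isLeftDerived_comp2 f g'
  Functor.leftDerivedNatIso (DCoh.Lpull g ⋙ DCoh.Lpull f') (DCoh.Lpull f ⋙ DCoh.Lpull g')
    (comp2 g f') (comp2 f g') (HomologicalComplex.quasiIso S.Modules (.up ℤ))
    (Functor.isoWhiskerRight (γC f g f' g' w) DerivedCategory.Q)

lemma sqLeft_fac (K : CochainComplex S.Modules ℤ) :
    (sqLeft f g f' g' w).hom.app (DerivedCategory.Q.obj K) ≫
        (DCoh.Lpull g').map ((counitCx f).app K) ≫ (counitCx g').app ((pullC f).obj K) =
      (DCoh.Lpull f').map ((counitCx g).app K) ≫ (counitCx f').app ((pullC g).obj K) ≫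
        DerivedCategory.Q.map ((γC f g f' g' w).hom.app K) := by
  haveI := isLeftDerived_comp2 g f'
  haveI := isLeftDerived_comp2 f g'
  have h := Functor.leftDerivedNatTrans_app (DCoh.Lpull g ⋙ DCoh.Lpull f')
    (DCoh.Lpull f ⋙ DCoh.Lpull g') (comp2 g f') (comp2 f g')
    (HomologicalComplex.quasiIso S.Modules (.up ℤ))
    (Functor.isoWhiskerRight (γC f g f' g' w) DerivedCategory.Q).hom K
  rw [comp2_app, comp2_app] at h
  exact h.trans (Category.assoc _ _ _)

variable [DCoh.HasRpush f] [DCoh.HasRpush g] [DCoh.HasRpush f'] [DCoh.HasRpush g']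

/-- The identification of the composite derived direct images. -/
noncomputable def sqRight : DCoh.Rpush g' ⋙ DCoh.Rpush f ≅ DCoh.Rpush f' ⋙ DCoh.Rpush g :=
  BCMate.rightIso (PullPushAdj.derivedAdjunction f) (PullPushAdj.derivedAdjunction g)
    (PullPushAdj.derivedAdjunction f') (PullPushAdj.derivedAdjunction g') (sqLeft f g f' g' w)

/-- The base change morphism. -/
noncomputable def bcD : DCoh.Rpush f ⋙ DCoh.Lpull g ⟶ DCoh.Lpull g' ⋙ DCoh.Rpush f' :=
  BCMate.bcNat (PullPushAdj.derivedAdjunction f) (PullPushAdj.derivedAdjunction f')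
    (sqLeft f g f' g' w)

theorem isIso_baseChangeApp_iff (adjg : DCoh.Lpull g ⊣ DCoh.Rpush g)
    (adjg' : DCoh.Lpull g' ⊣ DCoh.Rpush g') (E : DCoh.D X) :
    IsIso (DCoh.baseChangeApp adjg adjg' (sqRight f g f' g' w) E) ↔
      IsIso ((bcD f g f' g' w).app E) :=
  BCMate.isIso_transpose_iff _ _ _ _ (BCMate.compat_rightIso (PullPushAdj.derivedAdjunction f)
    (PullPushAdj.derivedAdjunction g) (PullPushAdj.derivedAdjunction f')
    (PullPushAdj.derivedAdjunction g') (sqLeft f g f' g' w)) adjg adjg' E

/-- The classical base change morphism on complexes. -/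
noncomputable def bcCx (K : CochainComplex X.Modules ℤ) :
    (pullC g).obj ((GammaAcyclic.pushC f).obj K) ⟶ (GammaAcyclic.pushC f').obj ((pullC g').obj K) :=
  (adjCx f').homEquiv _ _
    ((γC f g f' g' w).hom.app ((GammaAcyclic.pushC f).obj K) ≫
      (pullC g').map ((adjCx f).counit.app K))

omit [DCoh.HasRpush g] [DCoh.HasRpush g'] in
theorem bcD_fac (K : CochainComplex X.Modules ℤ) :
    (DCoh.Lpull g).map ((UnitCx.unitCx f).app K) ≫ (bcD f g f' g' w).app (DerivedCategory.Q.obj K) ≫
        (DCoh.Rpush f').map ((counitCx g').app K) =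
      (counitCx g).app ((GammaAcyclic.pushC f).obj K) ≫
        DerivedCategory.Q.map (bcCx f g f' g' w K) ≫ (UnitCx.unitCx f').app ((pullC g').obj K) := by
  let D' := PullPushAdj.derivedAdjunction f'
  let L := (pullC g').obj K
  let A := (GammaAcyclic.pushC f).obj K
  have h1 := UnitCx.counit_fac f K
  have h2 := (sqLeft f g f' g' w).hom.naturality ((UnitCx.unitCx f).app K)
  have h3 := (counitCx g').naturality ((adjCx f).counit.app K)
  have h4 := sqLeft_fac f g f' g' w A
  have h5 := UnitCx.counit_fac f' L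
  have h6 := (counitCx f').naturality (bcCx f g f' g' w K)
  apply (D'.homEquiv _ _).symm.injective
  change (D'.homEquiv _ _).symm ((DCoh.Lpull g).map _ ≫ (D'.homEquiv _ _
    ((sqLeft f g f' g' w).hom.app _ ≫ (DCoh.Lpull g').map _)) ≫ _) = _
  rw [← D'.homEquiv_naturality_right, ← D'.homEquiv_naturality_left, Equiv.symm_apply_apply,
    D'.homEquiv_naturality_left_symm, D'.homEquiv_counit]
  dsimp at h2 h3 h6 ⊢
  rw [Category.assoc, reassoc_of% h2]
  rw [← Functor.map_comp_assoc, h1, Functor.map_comp, Category.assoc, h3, reassoc_of% h4]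
  refine congrArg (fun t => (DCoh.Lpull f').map _ ≫ t) ?_
  rw [Functor.map_comp, Category.assoc, h5, reassoc_of% h6, ← Functor.map_comp, ← Functor.map_comp]
  refine congrArg (fun t => (counitCx f').app _ ≫ DerivedCategory.Q.map t) ?_
  refine Eq.trans ?_ ((adjCx f').homEquiv_counit _ _ _)
  exact (Equiv.symm_apply_apply _ _).symm

end Derived

/-- Termwise, `bcCx` is `bc0`. -/
theorem bcCx_f (K : CochainComplex X.Modules ℤ) (i : ℤ) :
    (bcCx f g f' g' w K).f i = CohBC.bc0 f g f' g' w (K.X i) := by
  have h := BCMate.transpose_eq_bc _ _ _ _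
    (BCMate.compat_leftIso (Scheme.Modules.pullbackPushforwardAdjunction f)
      (Scheme.Modules.pullbackPushforwardAdjunction g)
      (Scheme.Modules.pullbackPushforwardAdjunction f')
      (Scheme.Modules.pullbackPushforwardAdjunction g') (CohDelta.BC.Lift.sq f g f' g' w)) (K.X i)
  have e1 : (bcCx f g f' g' w K).f i = BCMate.bc (Scheme.Modules.pullbackPushforwardAdjunction f)
      (Scheme.Modules.pullbackPushforwardAdjunction f')
      (BCMate.leftIso (Scheme.Modules.pullbackPushforwardAdjunction f)
        (Scheme.Modules.pullbackPushforwardAdjunction g) (Scheme.Modules.pullbackPushforwardAdjunction f')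
        (Scheme.Modules.pullbackPushforwardAdjunction g') (CohDelta.BC.Lift.sq f g f' g' w)) (K.X i) := by
    simp only [bcCx, BCMate.bc, Adjunction.homEquiv_unit]
    rfl
  refine e1.trans ((Equiv.eq_symm_apply _).2 (h.symm.trans ?_))
  simp [CohBC.bc0Adj, CohDelta.BC.Lift.sq]

/-- The transpose of `bcCx` in degree `i`. -/
theorem homEquiv_bcCx_f (K : CochainComplex X.Modules ℤ) (i : ℤ) :
    (Scheme.Modules.pullbackPushforwardAdjunction g).homEquiv _ _ ((bcCx f g f' g' w K).f i) =
      CohBC.bc0Adj f g f' g' w (K.X i) := by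
  rw [bcCx_f]
  exact Equiv.apply_symm_apply _ _

end Groth.Agent.Lib.DerivedOX.BCSquare
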