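import Groth.Agent.Lib.BettiExact.TorRelBC
import Groth.Agent.Lib.Cyc.SheafLen
import Groth.Agent.Lib.PushClosed.Unit
import Groth.Agent.Lib.ZarCoh.AffineBC
import Groth.Agent.Lib.DerivedOX.FMTools
import Groth.Prelude.Def_DualFM

/-!
# The diagonal kernel commutes with base change
-/

set_option autoImplicit false
set_option linter.style.haveILetI false
set_option maxHeartbeats 800000

universe u

open CategoryTheory Limits AlgebraicGeometry HomologicalComplex

attribute [local instance] HasDerivedCategory.standard

namespace Groth.Agent.Lib.DerivedOX.DiagBC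

open PullTranspose

/-- Flatness over the base does not see a closed immersion. -/
theorem isFlatOver_push_iff {X P S : Scheme.{u}} (k : X ⟶ P) [IsClosedImmersion k] (p : P ⟶ S)
    (N : X.Modules) :
    FlatMod.IsFlatOver p ((Coh.push k).obj N) ↔ FlatMod.IsFlatOver (k ≫ p) N := by
  have key : ∀ x : X, FlatMod.IsFlatOverAt p ((Coh.push k).obj N) (k x) ↔
      FlatMod.IsFlatOverAt (k ≫ p) N x := by
    intro x
    letI := FlatMod.moduleStalkOver p ((Coh.push k).obj N) (k x)
    letI : Module (S.presheaf.stalk (p (k x))) (N.presheaf.stalk x) := FlatMod.moduleStalkOver (k ≫ p) N x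
    let e : ((Coh.push k).obj N).presheaf.stalk (k x) ≃ₗ[S.presheaf.stalk (p (k x))] N.presheaf.stalk x :=
      { AddEquiv.ofBijective _ (Cyc.SheafLen.pushStalk_bijective k N x) with
        map_smul' := fun r v => by
          show Cyc.SheafLen.pushStalk k N x (p.stalkMap (k x) r • v) = (k ≫ p).stalkMap x r • _
          rw [Cyc.SheafLen.pushStalk_smul, Scheme.Hom.stalkMap_comp]
          rfl }
    show Module.Flat (S.presheaf.stalk (p (k x))) (((Coh.push k).obj N).presheaf.stalk (k x)) ↔
      Module.Flat (S.presheaf.stalk (p (k x))) (N.presheaf.stalk x)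
    exact ⟨fun h => Module.Flat.of_linearEquiv e.symm, fun h => Module.Flat.of_linearEquiv e⟩
  refine ⟨fun h x => (key x).1 (h _), fun h y => ?_⟩
  by_cases hy : y ∈ Set.range k
  · obtain ⟨x, rfl⟩ := hy
    exact (key x).2 (h x)
  · haveI := PushClosed.Unit.subsingleton_stalk_push k N hy
    letI := FlatMod.moduleStalkOver p ((Coh.push k).obj N) y
    exact Module.Flat.of_free

/-- `Lρ^*Δ_*O = Δ'_*O` for a flat separated family and an arbitrary base change. -/
theorem nonempty_iso {S S₁ X : Scheme.{u}} (a : X ⟶ S) [Flat a] [IsSeparated a] (g : S₁ ⟶ S)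
    [DCoh.HasLpull (pullback.map (pullback.snd a g) (pullback.snd a g) a a (pullback.fst a g)
      (pullback.fst a g) g pullback.condition.symm pullback.condition.symm)] :
    Nonempty ((DCoh.Lpull (pullback.map (pullback.snd a g) (pullback.snd a g) a a (pullback.fst a g)
      (pullback.fst a g) g pullback.condition.symm pullback.condition.symm)).obj (FMK.diagO a) ≅
        FMK.diagO (pullback.snd a g)) := by
  let a' := pullback.snd a g
  let g' := pullback.fst a g
  let ρ : pullback a' a' ⟶ pullback a a := pullback.map a' a' a a g' g' g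
    pullback.condition.symm pullback.condition.symm
  let Δ := pullback.diagonal a
  let Δ' := pullback.diagonal a'
  have h2 : ρ ≫ pullback.snd a a = pullback.snd a' a' ≫ g' := pullback.lift_snd _ _ _
  have h1 : ρ ≫ pullback.fst a a = pullback.fst a' a' ≫ g' := pullback.lift_fst _ _ _
  -- the square over the first projection
  have hT1 : IsPullback ρ (pullback.fst a' a') (pullback.fst a a) g' := by
    refine IsPullback.of_right (h₁₂ := pullback.snd a a) (h₂₂ := a) (v₁₃ := a) ?_ h1
      (IsPullback.of_hasPullback a a).flip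
    have h := (IsPullback.of_hasPullback a' a').flip.paste_horiz (IsPullback.of_hasPullback a g)
    rw [h2, pullback.condition]
    exact h
  have hT : IsPullback ρ (pullback.fst a' a' ≫ a') (pullback.fst a a ≫ a) g :=
    hT1.paste_vert (IsPullback.of_hasPullback a g)
  have hΔ : IsPullback g' Δ' Δ ρ := by
    have w : g' ≫ Δ = Δ' ≫ ρ := by
      apply pullback.hom_ext
      · simp [Δ, Δ', h1, reassoc_of% (pullback.diagonal_fst a')]
      · simp [Δ, Δ', h2, reassoc_of% (pullback.diagonal_snd a')]
    refine IsPullback.of_bot ?_ w hT1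
    rw [pullback.diagonal_fst, pullback.diagonal_fst]
    exact IsPullback.of_vert_isIso ⟨by simp⟩
  let O := Coh.structureModule X
  let M := (Coh.push Δ).obj O
  haveI : O.IsQuasicoherent := TensorMod.QCohInv.isQCoh_structureModule X
  haveI := ZarCoh.AffineBC.isIso_bc hΔ O
  let eM : (Scheme.Modules.pullback ρ).obj M ≅ (Coh.push Δ').obj (Coh.structureModule (pullback a g)) :=
    asIso (ZarCoh.AffineBC.bc hΔ O) ≪≫ (Coh.push Δ').mapIso (_root_.PicLoc.pullbackStructureIso g')
  have hM : FlatMod.IsFlatOver (pullback.fst a a ≫ a) M := by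
    refine (isFlatOver_push_iff Δ _ O).2 ?_
    rw [← Category.assoc, pullback.diagonal_fst, Category.id_comp]
    exact SchColim29.ProperFlatPerfect.isFlatOver_of_isFlat a SchColim29.TensorVanish.isFlat_structureModule
  let E : CochainComplex (pullback a a).Modules ℤ := (single _ (ComplexShape.up ℤ) 0).obj M
  have hfl : ∀ i, FlatMod.IsFlatOver (pullback.fst a a ≫ a) (E.X i) := fun i => by
    by_cases hi : i = 0
    · subst hi
      exact fun x => Flat55.FlatOverAt.of_iso _ (singleObjXSelf (ComplexShape.up ℤ) 0 M).symm x (hM x)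
    · intro x
      have hz := isZero_single_obj_X (ComplexShape.up ℤ) 0 M i hi
      letI := FlatMod.moduleStalkOver (pullback.fst a a ≫ a) (E.X i) x
      haveI : Subsingleton ((E.X i).presheaf.stalk x) :=
        ModuleCat.subsingleton_of_isZero ((Modules.StalkModule.stalkModFunctor (pullback a a) x).map_isZero hz)
      exact Module.Flat.of_free
  haveI : Flat (pullback.fst a a) := MorphismProperty.pullback_fst _ _ ‹Flat a›
  let P := (KFlat.res _).obj E
  let v : P ⟶ E := (KFlat.aug _).app E
  haveI : QuasiIso v := KFlat.quasiIso_aug E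
  haveI hq : QuasiIso ((pullC ρ).map v) := BettiExact.TorRelBC.quasiIso_pb hT v (KFlat.isKFlat_res E) 0
    (fun i hi => isZero_single_obj_X (ComplexShape.up ℤ) 0 M i (by omega)) hfl
  haveI := PullTranspose.isIso_counitCx ρ (KFlat.isKFlat_res E)
  exact ⟨(DCoh.Lpull ρ).mapIso
      (((DerivedCategory.singleFunctorIsoCompQ (pullback a a).Modules 0).app M) ≪≫
        (asIso (DerivedCategory.Q.map v)).symm) ≪≫
    asIso ((counitCx ρ).app P) ≪≫ asIso (DerivedCategory.Q.map ((pullC ρ).map v)) ≪≫
    DerivedCategory.Q.mapIso ((singleMapHomologicalComplex (Scheme.Modules.pullback ρ)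
      (ComplexShape.up ℤ) 0).app M ≪≫ (single _ (ComplexShape.up ℤ) 0).mapIso eM) ≪≫
    ((DerivedCategory.singleFunctorIsoCompQ (pullback a' a').Modules 0).app _).symm⟩

end Groth.Agent.Lib.DerivedOX.DiagBC
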