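import Groth.Agent.Lib.DerivedOX.TensorAssoc

/-!
# Naturality of the associator of total tensor products
-/

universe u

open CategoryTheory Limits AlgebraicGeometry HomologicalComplex

namespace Groth.Agent.Lib.DerivedOX.DualAssoc

open TensorAssoc Groth.Agent.Lib.TensorMod.Basic

variable {X : Scheme.{u}}

lemma tmap_eq {M M' N N' : X.Modules} (a : M ⟶ M') (b : N ⟶ N') :
    (DCoh.tensorBi.map a).app N ≫ (DCoh.tensorBi.obj M').map b = tmap a b := by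
  refine (congrArg₂ (fun s t => s ≫ t) (PullTensor.tensorBi_map_app a N)
    (PullTensor.tensorBi_obj_map M' b)).trans ((tmap_comp a (𝟙 M') (𝟙 N) b).symm.trans ?_)
  rw [Category.comp_id, Category.id_comp]

/-- The associator is natural in all three variables. -/
theorem assocCx_natural {E E' K K' L L' : CochainComplex X.Modules ℤ} (φ : E ⟶ E') (ψ : K ⟶ K')
    (χ : L ⟶ L') :
    mapBifunctorMap (mapBifunctorMap φ ψ (DCoh.tensorBi (X := X)) (.up ℤ)) χ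
        (DCoh.tensorBi (X := X)) (.up ℤ) ≫ (assocCx E' K' L').hom =
      (assocCx E K L).hom ≫ mapBifunctorMap φ (mapBifunctorMap ψ χ (DCoh.tensorBi (X := X)) (.up ℤ))
        (DCoh.tensorBi (X := X)) (.up ℤ) := by
  refine HomologicalComplex.hom_ext _ _ fun j => mapBifunctor₁₂.hom_ext fun i₁ i₂ i₃ h => ?_
  let B := DCoh.tensorBi (X := X)
  have hl : mapBifunctor₁₂.ι B B E K L (.up ℤ) (.up ℤ) i₁ i₂ i₃ j h ≫
      (mapBifunctorMap (mapBifunctorMap φ ψ B (.up ℤ)) χ B (.up ℤ)).f j =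
      tmap (tmap (φ.f i₁) (ψ.f i₂)) (χ.f i₃) ≫
        mapBifunctor₁₂.ι B B E' K' L' (.up ℤ) (.up ℤ) i₁ i₂ i₃ j h := by
    have e : ιMapBifunctor E K B (.up ℤ) i₁ i₂ (i₁ + i₂) rfl ≫
        (mapBifunctorMap φ ψ B (.up ℤ)).f (i₁ + i₂) =
        tmap (φ.f i₁) (ψ.f i₂) ≫ ιMapBifunctor E' K' B (.up ℤ) i₁ i₂ (i₁ + i₂) rfl := by
      rw [ι_mapBifunctorMap]
      exact (Category.assoc _ _ _).symm.trans (congrArg (· ≫ _) (tmap_eq _ _))
    rw [mapBifunctor₁₂.ι_eq B B E K L (.up ℤ) (.up ℤ) i₁ i₂ i₃ (i₁ + i₂) j rfl h,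
      mapBifunctor₁₂.ι_eq B B E' K' L' (.up ℤ) (.up ℤ) i₁ i₂ i₃ (i₁ + i₂) j rfl h]
    refine (Category.assoc _ _ _).trans ?_
    erw [ι_mapBifunctorMap]
    erw [PullTensor.tensorBi_map_app, PullTensor.tensorBi_map_app]
    erw [PullTensor.tensorBi_obj_map]
    erw [← tmap_comp_assoc, ← tmap_comp_assoc]
    simp only [Category.id_comp, Category.comp_id]
    refine Eq.trans ?_ (congrArg (tmap (tmap (φ.f i₁) (ψ.f i₂)) (χ.f i₃) ≫ ·)
      (congrArg (· ≫ _) (PullTensor.tensorBi_map_app _ _).symm))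
    erw [← tmap_comp_assoc]
    simp only [Category.comp_id]
    exact congrArg (fun t => tmap t _ ≫ _) e
  have hr : mapBifunctor₂₃.ι B B E K L (.up ℤ) (.up ℤ) (.up ℤ) i₁ i₂ i₃ j h ≫
      (mapBifunctorMap φ (mapBifunctorMap ψ χ B (.up ℤ)) B (.up ℤ)).f j =
      tmap (φ.f i₁) (tmap (ψ.f i₂) (χ.f i₃)) ≫
        mapBifunctor₂₃.ι B B E' K' L' (.up ℤ) (.up ℤ) (.up ℤ) i₁ i₂ i₃ j h := by
    have h' : i₁ + (i₂ + i₃) = j := by
      rw [← add_assoc]; exact h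
    have e : ιMapBifunctor K L B (.up ℤ) i₂ i₃ (i₂ + i₃) rfl ≫
        (mapBifunctorMap ψ χ B (.up ℤ)).f (i₂ + i₃) =
        tmap (ψ.f i₂) (χ.f i₃) ≫ ιMapBifunctor K' L' B (.up ℤ) i₂ i₃ (i₂ + i₃) rfl := by
      rw [ι_mapBifunctorMap]
      exact (Category.assoc _ _ _).symm.trans (congrArg (· ≫ _) (tmap_eq _ _))
    rw [mapBifunctor₂₃.ι_eq B B E K L (.up ℤ) (.up ℤ) (.up ℤ) i₁ i₂ i₃ (i₂ + i₃) j rfl h',
      mapBifunctor₂₃.ι_eq B B E' K' L' (.up ℤ) (.up ℤ) (.up ℤ) i₁ i₂ i₃ (i₂ + i₃) j rfl h']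
    refine (Category.assoc _ _ _).trans ?_
    erw [ι_mapBifunctorMap]
    erw [PullTensor.tensorBi_obj_map, PullTensor.tensorBi_map_app]
    erw [PullTensor.tensorBi_obj_map]
    erw [← tmap_comp_assoc, ← tmap_comp_assoc]
    simp only [Category.id_comp, Category.comp_id]
    refine Eq.trans ?_ (congrArg (tmap (φ.f i₁) (tmap (ψ.f i₂) (χ.f i₃)) ≫ ·)
      (congrArg (· ≫ _) (PullTensor.tensorBi_obj_map _ _).symm))
    erw [← tmap_comp_assoc]
    simp only [Category.comp_id]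
    exact congrArg (fun t => tmap _ t ≫ _) e
  have hn : tmap (tmap (φ.f i₁) (ψ.f i₂)) (χ.f i₃) ≫
      (((assocNatIso (X := X)).hom.app (E'.X i₁)).app (K'.X i₂)).app (L'.X i₃) =
      (((assocNatIso (X := X)).hom.app (E.X i₁)).app (K.X i₂)).app (L.X i₃) ≫
        tmap (φ.f i₁) (tmap (ψ.f i₂) (χ.f i₃)) :=
    assoc_natural (φ.f i₁) (ψ.f i₂) (χ.f i₃)
  have hE := ι_mapBifunctorAssociatorX_hom assocNatIso E K L (.up ℤ) (.up ℤ) (.up ℤ) i₁ i₂ i₃ j h
  have hE' := ι_mapBifunctorAssociatorX_hom assocNatIso E' K' L' (.up ℤ) (.up ℤ) (.up ℤ) i₁ i₂ i₃ j h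
  exact (Category.assoc _ _ _).symm.trans ((congrArg (· ≫ _) hl).trans ((Category.assoc _ _ _).trans
    ((congrArg (_ ≫ ·) hE').trans (((Category.assoc _ _ _).symm.trans (congrArg (· ≫ _) hn)).trans
      ((Category.assoc _ _ _).trans ((congrArg (_ ≫ ·) hr.symm).trans
        ((Category.assoc _ _ _).symm.trans ((congrArg (· ≫ _) hE.symm).trans
          (Category.assoc _ _ _)))))))))

end Groth.Agent.Lib.DerivedOX.DualAssoc
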