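import Groth.Agent.Lib.DerivedOX.DualQis
import Mathlib.Algebra.Homology.DerivedCategory.ShortExact

/-!
# Internal Homs and tensor products of short exact sequences of complexes
-/

universe u v w

open CategoryTheory Limits AlgebraicGeometry HomologicalComplex Opposite

attribute [local instance] HasDerivedCategory.standard

set_option linter.style.haveILetI false

namespace Groth.Agent.Lib.DerivedOX.DualExact

open Groth.Agent.Lib.Modules StalkModule DualHom DualQis

variable {X : Scheme.{u}}

variable {S : ShortComplex (CochainComplex X.Modules ℤ)}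

/-- The image of a short complex under the internal Hom in the first variable. -/
noncomputable def hcSC (S : ShortComplex (CochainComplex X.Modules ℤ))
    (J : CochainComplex X.Modules ℤ) : ShortComplex (CochainComplex X.Modules ℤ) :=
  ShortComplex.mk ((pre S.g).app J) ((pre S.f).app J) (by
    rw [← NatTrans.comp_app, ← pre_comp, S.zero, pre_zero])

/-- Tensoring a short exact sequence on the left is right exact. -/
noncomputable def tensorCokernel (hS : S.ShortExact) (T : CochainComplex X.Modules ℤ) :
    IsColimit (CokernelCofork.ofπ ((DCoh.tensorCx.obj T).map S.g) (by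
      rw [← Functor.map_comp, S.zero]; exact Bifunctor.obj_map_zero _ _ _ _) :
        CokernelCofork ((DCoh.tensorCx.obj T).map S.f)) :=
  haveI := PreservesColimitsOfSize.preservesFiniteColimits ((DCoh.tensorCx (X := X)).obj T)
  haveI := hS.epi_g
  haveI : PreservesBinaryBiproducts ((DCoh.tensorCx (X := X)).obj T) :=
    preservesBinaryBiproducts_of_preservesBinaryCoproducts _
  haveI : ((DCoh.tensorCx (X := X)).obj T).Additive := Functor.additive_of_preservesBinaryBiproducts _
  (CokernelCofork.ofπ S.g S.zero).mapIsColimit hS.exact.gIsCokernel _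

/-- Tensoring a short exact sequence preserves the epimorphism. -/
theorem epi_tensor_g (hS : S.ShortExact) (T : CochainComplex X.Modules ℤ) :
    Epi ((DCoh.tensorCx.obj T).map S.g) :=
  haveI := PreservesColimitsOfSize.preservesFiniteColimits ((DCoh.tensorCx (X := X)).obj T)
  haveI := hS.epi_g
  inferInstance

theorem mono_pre (hS : S.ShortExact) (J : CochainComplex X.Modules ℤ) :
    Mono ((pre S.g).app J) := ⟨fun {T} a b e => by
  haveI := epi_tensor_g hS T
  apply ((adj S.X₃).homEquiv T J).symm.injective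
  rw [← cancel_epi ((DCoh.tensorCx.obj T).map S.g), ← homEquiv_symm_comp_pre,
    ← homEquiv_symm_comp_pre, e]⟩

theorem exact_hcSC (hS : S.ShortExact) (J : CochainComplex X.Modules ℤ) : (hcSC S J).Exact := by
  haveI : Mono (hcSC S J).f := mono_pre hS J
  have hfac : ∀ {T : CochainComplex X.Modules ℤ} (g : T ⟶ (Hc S.X₂).obj J),
      g ≫ (pre S.f).app J = 0 → ∃ l, l ≫ (pre S.g).app J = g := fun {T} g hg => by
    have h0 : (DCoh.tensorCx.obj T).map S.f ≫ ((adj S.X₂).homEquiv T J).symm g = 0 := by
      rw [← homEquiv_symm_comp_pre, hg, Adjunction.homEquiv_counit]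
      exact (congrArg (· ≫ _) (Bifunctor.map_zero_app (DCoh.tensorBi (X := X)) _ _ S.X₁)).trans
        zero_comp
    obtain ⟨d, hd⟩ := CokernelCofork.IsColimit.desc' (tensorCokernel hS T) _ h0
    refine ⟨(adj S.X₃).homEquiv T J d, ((adj S.X₂).homEquiv T J).symm.injective ?_⟩
    rw [homEquiv_symm_comp_pre, Equiv.symm_apply_apply]
    exact hd
  refine ShortComplex.exact_of_f_is_kernel _ (KernelFork.IsLimit.ofι _ _
    (fun g hg => (hfac g hg).choose) (fun g hg => (hfac g hg).choose_spec) fun g hg m hm => ?_)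
  haveI := mono_pre hS J
  exact (cancel_mono ((pre S.g).app J)).1 (hm.trans (hfac g hg).choose_spec.symm)

theorem epi_pre (hsplit : ∀ n, IsSplitMono (S.f.f n)) {J : CochainComplex X.Modules ℤ}
    (hJ : InjTerms J) : Epi ((pre S.f).app J) := by
  refine HomologicalComplex.epi_of_epi_f _ fun n =>
    LeftRes.epi_of_forall_lift (FlatGen.isSeparating_gen (X := X)) _ fun W g => ?_
  let D := TrivCof.disk (FlatGen.gen W) n
  let φ : D ⟶ (Hc S.X₁).obj J := (TrivCof.fromDiskEquiv (FlatGen.gen W) n _).symm g
  haveI := mono_tensor_map S.f hsplit D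
  let hh : Homotopy (((adj S.X₁).homEquiv D J).symm φ) 0 :=
    ((Homotopy.ofEq (Category.id_comp _).symm).trans
      ((((Homotopy.ofEq (((DCoh.tensorCx (X := X)).flip.obj S.X₁).map_id D).symm).trans
        (Bifunctor.homotopy₁ (DCoh.tensorBi (X := X)) (KFlat.diskHomotopy (FlatGen.gen W) n) S.X₁)).trans
          (Homotopy.ofEq (Bifunctor.map_zero_app (DCoh.tensorBi (X := X)) D D S.X₁))).compRight _)).trans
      (Homotopy.ofEq zero_comp)
  obtain ⟨χ, hχ, -⟩ := exists_extension ((DCoh.tensorCx.obj D).map S.f) hJ hh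
  let l : D ⟶ (Hc S.X₂).obj J := (adj S.X₂).homEquiv D J χ
  have hl : l ≫ (pre S.f).app J = φ := by
    apply ((adj S.X₁).homEquiv D J).symm.injective
    rw [homEquiv_symm_comp_pre, Equiv.symm_apply_apply]
    exact hχ
  refine ⟨TrivCof.fromDiskEquiv _ n _ l, ?_⟩
  rw [← TrivCof.fromDiskEquiv_naturality, hl, Equiv.apply_symm_apply]

/-- Internal Hom into a complex with injective terms turns degreewise split short exact sequences into
short exact sequences. -/
theorem shortExact_hcSC (hS : S.ShortExact) (hsplit : ∀ n, IsSplitMono (S.f.f n))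
    {J : CochainComplex X.Modules ℤ} (hJ : InjTerms J) : (hcSC S J).ShortExact where
  exact := exact_hcSC hS J
  mono_f := mono_pre hS J
  epi_g := epi_pre hsplit hJ

/-- A complex has flat terms. -/
def FlatTerms (A : CochainComplex X.Modules ℤ) : Prop := ∀ n, FlatMod.IsFlat (A.X n)

/-- A right exact functor maps a short exact sequence with monic image to a short exact sequence. -/
theorem shortExact_map_mk {C D : Type*} [Category C] [Category D] [Abelian C] [Abelian D] (F : C ⥤ D)
    [F.Additive] [PreservesFiniteColimits F] {a b c : C} (f : a ⟶ b) (g : b ⟶ c) (w : f ≫ g = 0)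
    (h : (ShortComplex.mk f g w).ShortExact) (hm : Mono (F.map f))
    (w' : F.map f ≫ F.map g = 0) : (ShortComplex.mk (F.map f) (F.map g) w').ShortExact := by
  haveI := hm
  haveI : Epi g := h.epi_g
  exact {
    exact := ShortComplex.exact_of_g_is_cokernel (ShortComplex.mk (F.map f) (F.map g) w')
      ((CokernelCofork.ofπ g w).mapIsColimit h.exact.gIsCokernel F)
    epi_g := inferInstanceAs (Epi (F.map g))
    mono_f := hm }

/-- Tensoring with flat terms preserves short exact sequences. -/
theorem shortExact_tensor_mk {A : CochainComplex X.Modules ℤ} (hA : FlatTerms A)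
    {a b c : CochainComplex X.Modules ℤ} (f : a ⟶ b) (g : b ⟶ c) (w : f ≫ g = 0)
    (h : (ShortComplex.mk f g w).ShortExact)
    (w' : (DCoh.tensorCx.obj A).map f ≫ (DCoh.tensorCx.obj A).map g = 0) :
    (ShortComplex.mk ((DCoh.tensorCx.obj A).map f) ((DCoh.tensorCx.obj A).map g) w').ShortExact := by
  haveI := PreservesColimitsOfSize.preservesFiniteColimits ((DCoh.tensorCx (X := X)).obj A)
  haveI : PreservesBinaryBiproducts ((DCoh.tensorCx (X := X)).obj A) :=
    preservesBinaryBiproducts_of_preservesBinaryCoproducts _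
  haveI : ((DCoh.tensorCx (X := X)).obj A).Additive := Functor.additive_of_preservesBinaryBiproducts _
  haveI : Mono f := h.mono_f
  exact shortExact_map_mk _ f g w h
    (Bifunctor.mono_obj_map (DCoh.tensorBi (X := X)) A f fun p q =>
      FlatTensor.mono_tensor_map_of_isFlat (hA p) (f.f q)) w'

/-- Stalks of short exact sequences of complexes. -/
theorem shortExact_stalk (hS : S.ShortExact) (x : X) :
    ((St x).mapShortComplex.obj S).ShortExact := by
  haveI : PreservesFiniteColimits (stalkModFunctor X x) :=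
    PreservesColimitsOfSize.preservesFiniteColimits _
  refine HomologicalComplex.shortExact_of_degreewise_shortExact _ fun i => ?_
  exact (hS.map_of_exact (HomologicalComplex.eval _ _ i)).map_of_exact (stalkModFunctor X x)

/-- Two out of three for quasi-isomorphisms of short exact sequences. -/
theorem quasiIso_two_of_three {C : Type u} [Category.{v} C] [Abelian C] [HasDerivedCategory.{w} C]
    {S₁ S₂ : ShortComplex (CochainComplex C ℤ)} (φ : S₁ ⟶ S₂) (h₁ : S₁.ShortExact)
    (h₂ : S₂.ShortExact) :
    (QuasiIso φ.τ₁ → QuasiIso φ.τ₂ → QuasiIso φ.τ₃) ∧ (QuasiIso φ.τ₁ → QuasiIso φ.τ₃ → QuasiIso φ.τ₂) ∧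
      (QuasiIso φ.τ₂ → QuasiIso φ.τ₃ → QuasiIso φ.τ₁) := by
  let ψ := DerivedCategory.triangleOfSES.map h₁ h₂ φ
  have d₁ := DerivedCategory.triangleOfSES_distinguished h₁
  have d₂ := DerivedCategory.triangleOfSES_distinguished h₂
  simp only [← DerivedCategory.isIso_Q_map_iff_quasiIso]
  exact ⟨fun a b => Pretriangulated.isIso₃_of_isIso₁₂ ψ d₁ d₂ a b,
    fun a b => Pretriangulated.isIso₂_of_isIso₁₃ ψ d₁ d₂ a b,
    fun a b => Pretriangulated.isIso₁_of_isIso₂₃ ψ d₁ d₂ a b⟩

/-- Two out of three for quasi-isomorphisms at `V` of short exact sequences. -/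
theorem qisAt_two_of_three {V : X.Opens} {S₁ S₂ : ShortComplex (CochainComplex X.Modules ℤ)}
    (φ : S₁ ⟶ S₂) (h₁ : S₁.ShortExact) (h₂ : S₂.ShortExact) :
    (QisAt V φ.τ₁ → QisAt V φ.τ₂ → QisAt V φ.τ₃) ∧ (QisAt V φ.τ₁ → QisAt V φ.τ₃ → QisAt V φ.τ₂) ∧
      (QisAt V φ.τ₂ → QisAt V φ.τ₃ → QisAt V φ.τ₁) := by
  letI : ∀ x : X, HasDerivedCategory.{u + 1} (ModuleCat.{u} (X.presheaf.stalk x)) := fun x =>
    HasDerivedCategory.standard _
  refine ⟨fun a b x hx => ?_, fun a b x hx => ?_, fun a b x hx => ?_⟩
  · exact (quasiIso_two_of_three ((St x).mapShortComplex.map φ) (shortExact_stalk h₁ x)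
      (shortExact_stalk h₂ x)).1 (a x hx) (b x hx)
  · exact (quasiIso_two_of_three ((St x).mapShortComplex.map φ) (shortExact_stalk h₁ x)
      (shortExact_stalk h₂ x)).2.1 (a x hx) (b x hx)
  · exact (quasiIso_two_of_three ((St x).mapShortComplex.map φ) (shortExact_stalk h₁ x)
      (shortExact_stalk h₂ x)).2.2 (a x hx) (b x hx)

end Groth.Agent.Lib.DerivedOX.DualExact
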