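import Groth.Agent.Lib.DerivedOX.DualExact
import Groth.Agent.Lib.DerivedOX.DualAssoc
import Groth.Agent.Lib.Perfect.Triangle
import Groth.Agent.Lib.Perfect.Stupid
import Groth.Agent.Lib.Perfect.Amplitude
import Groth.Agent.Lib.DerivedOX.OpenSupport
import Groth.Agent.Lib.TensorMod.LocFree

/-!
# The comparison `A ⊗ Hom(P, O) ⟶ Hom(P, A)` and the complexes for which it is bijective over an open
-/

universe u

open CategoryTheory Limits AlgebraicGeometry HomologicalComplex
open ZeroObject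

attribute [local instance] HasDerivedCategory.standard

set_option linter.style.haveILetI false

namespace Groth.Agent.Lib.DerivedOX.DualGood

open Groth.Agent.Lib.Modules StalkModule DualHom DualQis DualExact
open Groth.Agent.Lib.Perfect

namespace Abstract

variable {C : Type*} [Category C] (T : C ⥤ C ⥤ C) (H : C → C ⥤ C)
  (ad : ∀ P, T.flip.obj P ⊣ H P)
  (α : ∀ A B P : C, (T.flip.obj P).obj ((T.obj A).obj B) ⟶ (T.obj A).obj ((T.flip.obj P).obj B))
  {A J₀ J : C} (c : (T.obj A).obj J₀ ⟶ J)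

/-- Rewriting the type of an associator. -/
def ofFlip {T : C ⥤ C ⥤ C} {A B P : C}
    (e : (T.obj ((T.obj A).obj B)).obj P ⟶ (T.obj A).obj ((T.obj B).obj P)) :
    (T.flip.obj P).obj ((T.obj A).obj B) ⟶ (T.obj A).obj ((T.flip.obj P).obj B) := e

lemma ofFlip_mid {T : C ⥤ C ⥤ C} {A B B' P : C} (f : B ⟶ B')
    {e : (T.obj ((T.obj A).obj B)).obj P ⟶ (T.obj A).obj ((T.obj B).obj P)}
    {e' : (T.obj ((T.obj A).obj B')).obj P ⟶ (T.obj A).obj ((T.obj B').obj P)}
    (h : (T.map ((T.obj A).map f)).app P ≫ e' = e ≫ (T.obj A).map ((T.map f).app P)) :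
    (T.flip.obj P).map ((T.obj A).map f) ≫ ofFlip e' =
      ofFlip e ≫ (T.obj A).map ((T.flip.obj P).map f) := h

lemma ofFlip_right {T : C ⥤ C ⥤ C} {A B P' P : C} (a : P' ⟶ P)
    {e : (T.obj ((T.obj A).obj B)).obj P ⟶ (T.obj A).obj ((T.obj B).obj P)}
    {e' : (T.obj ((T.obj A).obj B)).obj P' ⟶ (T.obj A).obj ((T.obj B).obj P')}
    (h : (T.obj ((T.obj A).obj B)).map a ≫ e = e' ≫ (T.obj A).map ((T.obj B).map a)) :
    (T.flip.map a).app ((T.obj A).obj B) ≫ ofFlip e =
      ofFlip e' ≫ (T.obj A).map ((T.flip.map a).app B) := h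

/-- The adjoint of associativity and evaluation. -/
def psi (P : C) : (T.obj A).obj ((H P).obj J₀) ⟶ (H P).obj J :=
  (ad P).homEquiv _ _ (α A ((H P).obj J₀) P ≫ (T.obj A).map ((ad P).counit.app J₀) ≫ c)

lemma homEquiv_symm_psi (P : C) :
    ((ad P).homEquiv _ _).symm (psi T H ad α c P) =
      α A ((H P).obj J₀) P ≫ (T.obj A).map ((ad P).counit.app J₀) ≫ c :=
  Equiv.symm_apply_apply _ _

lemma psi_natural
    (hm : ∀ {B B' : C} (f : B ⟶ B') (P : C), (T.flip.obj P).map ((T.obj A).map f) ≫ α A B' P =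
      α A B P ≫ (T.obj A).map ((T.flip.obj P).map f))
    (hr : ∀ (B : C) {P' P : C} (a : P' ⟶ P), (T.flip.map a).app ((T.obj A).obj B) ≫ α A B P =
      α A B P' ≫ (T.obj A).map ((T.flip.map a).app B))
    {P' P : C} (a : P' ⟶ P) :
    (T.obj A).map ((conjugateEquiv (ad P) (ad P') (T.flip.map a)).app J₀) ≫ psi T H ad α c P' =
      psi T H ad α c P ≫ (conjugateEquiv (ad P) (ad P') (T.flip.map a)).app J := by
  let π := conjugateEquiv (ad P) (ad P') (T.flip.map a)
  apply ((ad P').homEquiv _ _).symm.injective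
  have h : ∀ (S : C) (K : C) (φ : S ⟶ (H P).obj K), ((ad P').homEquiv S K).symm (φ ≫ π.app K) =
      (T.flip.map a).app S ≫ ((ad P).homEquiv S K).symm φ := fun S K φ => by
    simp only [Adjunction.homEquiv_counit, Functor.map_comp, Category.assoc, π,
      conjugateEquiv_counit]
    exact (T.flip.map a).naturality_assoc φ _
  rw [Adjunction.homEquiv_naturality_left_symm, h, homEquiv_symm_psi, homEquiv_symm_psi,
    reassoc_of% (hm (π.app J₀) P'), ← Functor.map_comp_assoc, conjugateEquiv_counit,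
    Functor.map_comp_assoc, reassoc_of% (hr ((H P).obj J₀) a)]

/-- A map of short complexes out of the image of a short complex. -/
def scHom {D : Type*} [Category D] [HasZeroMorphisms D] {F : C ⥤ D} {a b c : C} (f : a ⟶ b)
    (g : b ⟶ c) (w : F.map f ≫ F.map g = 0) {a' b' c' : D} (f' : a' ⟶ b') (g' : b' ⟶ c')
    (w' : f' ≫ g' = 0) (τ₁ : F.obj a ⟶ a') (τ₂ : F.obj b ⟶ b') (τ₃ : F.obj c ⟶ c')
    (h₁₂ : F.map f ≫ τ₂ = τ₁ ≫ f') (h₂₃ : F.map g ≫ τ₃ = τ₂ ≫ g') :
    ShortComplex.mk (F.map f) (F.map g) w ⟶ ShortComplex.mk f' g' w' :=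
  ShortComplex.homMk τ₁ τ₂ τ₃ h₁₂.symm h₂₃.symm

lemma map_zero_of_comp {C D : Type*} [Category C] [Category D] [Preadditive C] [Preadditive D]
    (F : C ⥤ D) [F.Additive] {a b c : C} {f : a ⟶ b} {g : b ⟶ c} (h : f ≫ g = 0) :
    F.map f ≫ F.map g = 0 := by rw [← F.map_comp, h, F.map_zero]

end Abstract

variable (X : Scheme.{u})

/-- K-injective resolutions of `O` and of a K-flat complex with flat terms. -/
structure Data where
  A : CochainComplex X.Modules ℤ
  J₀ : CochainComplex X.Modules ℤ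
  J : CochainComplex X.Modules ℤ
  kflat : DCoh.IsKFlat A
  flat : FlatTerms A
  kinj₀ : J₀.IsKInjective
  kinj : J.IsKInjective
  inj₀ : InjTerms J₀
  inj : InjTerms J
  e₀ : DerivedCategory.Q.obj J₀ ≅ DCoh.inD X (Coh.structureModule X)
  c : (DCoh.tensorCx.obj A).obj J₀ ⟶ J
  qis : QuasiIso c

variable {X} (d : Data X)

/-- The associator, as a map. -/
noncomputable def asc (A B P : CochainComplex X.Modules ℤ) :
    ((DCoh.tensorCx (X := X)).flip.obj P).obj ((DCoh.tensorCx.obj A).obj B) ⟶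
      (DCoh.tensorCx.obj A).obj (((DCoh.tensorCx (X := X)).flip.obj P).obj B) :=
  Abstract.ofFlip (T := DCoh.tensorCx (X := X)) (TensorAssoc.assocCx A B P).hom

lemma assoc_mid (A : CochainComplex X.Modules ℤ) {B B' : CochainComplex X.Modules ℤ} (f : B ⟶ B')
    (P : CochainComplex X.Modules ℤ) :
    (DCoh.tensorCx.map ((DCoh.tensorCx.obj A).map f)).app P ≫ (TensorAssoc.assocCx A B' P).hom =
      (TensorAssoc.assocCx A B P).hom ≫ (DCoh.tensorCx.obj A).map ((DCoh.tensorCx.map f).app P) :=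
  DualAssoc.assocCx_natural (𝟙 A) f (𝟙 P)

lemma assoc_right (A B : CochainComplex X.Modules ℤ) {P' P : CochainComplex X.Modules ℤ}
    (a : P' ⟶ P) :
    (DCoh.tensorCx.obj ((DCoh.tensorCx.obj A).obj B)).map a ≫ (TensorAssoc.assocCx A B P).hom =
      (TensorAssoc.assocCx A B P').hom ≫ (DCoh.tensorCx.obj A).map ((DCoh.tensorCx.obj B).map a) := by
  have h := DualAssoc.assocCx_natural (𝟙 A) (𝟙 B) a
  have h₂ : mapBifunctorMap (𝟙 A) (𝟙 B) (DCoh.tensorBi (X := X)) (.up ℤ) = 𝟙 _ :=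
    (DCoh.tensorCx.obj A).map_id B
  rw [h₂] at h
  exact h

lemma asc_natural_mid (A : CochainComplex X.Modules ℤ) {B B' : CochainComplex X.Modules ℤ}
    (f : B ⟶ B') (P : CochainComplex X.Modules ℤ) :
    ((DCoh.tensorCx (X := X)).flip.obj P).map ((DCoh.tensorCx.obj A).map f) ≫ asc A B' P =
      asc A B P ≫ (DCoh.tensorCx.obj A).map (((DCoh.tensorCx (X := X)).flip.obj P).map f) :=
  Abstract.ofFlip_mid (T := DCoh.tensorCx (X := X)) f (assoc_mid A f P)

lemma asc_natural_right (A B : CochainComplex X.Modules ℤ) {P' P : CochainComplex X.Modules ℤ}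
    (a : P' ⟶ P) :
    ((DCoh.tensorCx (X := X)).flip.map a).app ((DCoh.tensorCx.obj A).obj B) ≫ asc A B P =
      asc A B P' ≫ (DCoh.tensorCx.obj A).map (((DCoh.tensorCx (X := X)).flip.map a).app B) :=
  Abstract.ofFlip_right (T := DCoh.tensorCx (X := X)) a (assoc_right A B a)

/-- `ψ_P : A ⊗ Hom(P, J₀) ⟶ Hom(P, J)`. -/
noncomputable def ψ (P : CochainComplex X.Modules ℤ) :
    (DCoh.tensorCx.obj d.A).obj ((Hc P).obj d.J₀) ⟶ (Hc P).obj d.J :=
  Abstract.psi (DCoh.tensorCx (X := X)) Hc adj asc d.c P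

lemma homEquiv_symm_ψ (P : CochainComplex X.Modules ℤ) :
    ((adj P).homEquiv _ _).symm (ψ d P) = asc d.A ((Hc P).obj d.J₀) P ≫
      (DCoh.tensorCx.obj d.A).map ((adj P).counit.app d.J₀) ≫ d.c :=
  Abstract.homEquiv_symm_psi (DCoh.tensorCx (X := X)) Hc adj asc d.c P

/-- `ψ` is natural in the contravariant variable. -/
theorem ψ_natural {P' P : CochainComplex X.Modules ℤ} (a : P' ⟶ P) :
    (DCoh.tensorCx.obj d.A).map ((pre a).app d.J₀) ≫ ψ d P' = ψ d P ≫ (pre a).app d.J :=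
  Abstract.psi_natural (DCoh.tensorCx (X := X)) Hc adj asc d.c (fun f P => asc_natural_mid d.A f P)
    (fun B _ _ a => asc_natural_right d.A B a) a

/-- The class of complexes `P` for which `ψ_P` is bijective over `V` and `Hom(P, O)` is perfect there. -/
def Good (V : X.Opens) (P : CochainComplex X.Modules ℤ) : Prop :=
  QisAt V (ψ d P) ∧ ∀ x ∈ V, Triangle.PerfAt (DerivedCategory.Q.obj ((Hc P).obj d.J₀)) x

variable {d}

lemma perfAt_congr {V : X.Opens} {K L : CochainComplex X.Modules ℤ} {f : K ⟶ L} (hf : QisAt V f)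
    {x : X} (hx : x ∈ V) :
    Triangle.PerfAt (DerivedCategory.Q.obj K) x ↔ Triangle.PerfAt (DerivedCategory.Q.obj L) x := by
  haveI := hf.isIso_restrictD
  let e : (Basic.RD V.ι).obj (DerivedCategory.Q.obj K) ≅ (Basic.RD V.ι).obj (DerivedCategory.Q.obj L) :=
    @asIso _ _ _ _ ((Basic.RD V.ι).map (DerivedCategory.Q.map f)) hf.isIso_restrictD
  exact ⟨fun h => Triangle.PerfAt.of_restrict (j := V.ι) (y := ⟨x, hx⟩) rfl
      ((Triangle.PerfAt.restrict V.ι ⟨x, hx⟩ h).of_iso e),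
    fun h => Triangle.PerfAt.of_restrict (j := V.ι) (y := ⟨x, hx⟩) rfl
      ((Triangle.PerfAt.restrict V.ι ⟨x, hx⟩ h).of_iso e.symm)⟩

/-- `Good` is invariant under quasi-isomorphisms over `V`. -/
theorem good_iff_of_qisAt {V : X.Opens} {P' P : CochainComplex X.Modules ℤ} (a : P' ⟶ P)
    (ha : QisAt V a) : Good d V P ↔ Good d V P' := by
  haveI := d.kinj₀
  haveI := d.kinj
  have h₀ := qisAt_pre d.inj₀ a ha
  have h₁ := qisAt_pre d.inj a ha
  have hA := h₀.tensor d.kflat
  constructor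
  · rintro ⟨h, hp⟩
    refine ⟨hA.of_comp_left ?_, fun x hx => (perfAt_congr h₀ hx).1 (hp x hx)⟩
    rw [ψ_natural]
    exact h.comp h₁
  · rintro ⟨h, hp⟩
    refine ⟨h₁.of_comp_right ?_, fun x hx => (perfAt_congr h₀ hx).2 (hp x hx)⟩
    rw [← ψ_natural]
    exact hA.comp h

section SES

variable {S : ShortComplex (CochainComplex X.Modules ℤ)}

/-- Two out of three for `Good`, for degreewise split short exact sequences. -/
theorem good_two_of_three {V : X.Opens} (hS : S.ShortExact) (hsplit : ∀ n, IsSplitMono (S.f.f n)) :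
    (Good d V S.X₁ → Good d V S.X₂ → Good d V S.X₃) ∧ (Good d V S.X₁ → Good d V S.X₃ → Good d V S.X₂) ∧
      (Good d V S.X₂ → Good d V S.X₃ → Good d V S.X₁) := by
  have s₀ := shortExact_hcSC hS hsplit d.inj₀
  haveI : PreservesBinaryBiproducts ((DCoh.tensorCx (X := X)).obj d.A) :=
    preservesBinaryBiproducts_of_preservesBinaryCoproducts _
  haveI : ((DCoh.tensorCx (X := X)).obj d.A).Additive := Functor.additive_of_preservesBinaryBiproducts _
  obtain ⟨t₃, t₂, t₁⟩ := qisAt_two_of_three (V := V)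
    (Abstract.scHom (F := (DCoh.tensorCx (X := X)).obj d.A) ((pre S.g).app d.J₀) ((pre S.f).app d.J₀)
      (Abstract.map_zero_of_comp _ (a := (Hc S.X₃).obj d.J₀) (b := (Hc S.X₂).obj d.J₀)
        (c := (Hc S.X₁).obj d.J₀) (f := (pre S.g).app d.J₀) (g := (pre S.f).app d.J₀)
        (hcSC S d.J₀).zero) ((pre S.g).app d.J) ((pre S.f).app d.J) (hcSC S d.J).zero
      (ψ d S.X₃) (ψ d S.X₂) (ψ d S.X₁) (ψ_natural d S.g) (ψ_natural d S.f))
    (shortExact_tensor_mk d.flat ((pre S.g).app d.J₀) ((pre S.f).app d.J₀) (hcSC S d.J₀).zero s₀ _) (shortExact_hcSC hS hsplit d.inj)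
  have hT := DerivedCategory.triangleOfSES_distinguished s₀
  exact ⟨fun a b => ⟨t₁ b.1 a.1, fun x hx => ((Triangle.perfAt₃
      (Pretriangulated.rot_of_distTriang _ hT) (b.2 x hx) (a.2 x hx)).shift (-1)).of_iso
        ((shiftEquiv (DCoh.D X) (1 : ℤ)).unitIso.app _).symm⟩,
    fun a b => ⟨t₂ b.1 a.1, fun x hx => (Triangle.perfAt₃
      (Pretriangulated.inv_rot_of_distTriang _ hT) ((a.2 x hx).shift (-1)) (b.2 x hx))⟩,
    fun a b => ⟨t₃ b.1 a.1, fun x hx => Triangle.perfAt₃ hT (b.2 x hx) (a.2 x hx)⟩⟩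

end SES

/-- A zero complex is good. -/
theorem good_of_isZero (V : X.Opens) {P : CochainComplex X.Modules ℤ} (hP : IsZero P) : Good d V P := by
  have hz : ∀ J, IsZero ((Hc P).obj J) := fun J => by
    haveI : PreservesBinaryBiproducts ((DCoh.tensorCx (X := X)).obj ((Hc P).obj J)) :=
      preservesBinaryBiproducts_of_preservesBinaryCoproducts _
    haveI : ((DCoh.tensorCx (X := X)).obj ((Hc P).obj J)).Additive :=
      Functor.additive_of_preservesBinaryBiproducts _
    rw [IsZero.iff_id_eq_zero]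
    exact ((adj P).homEquiv _ J).symm.injective
      ((((DCoh.tensorCx (X := X)).obj ((Hc P).obj J)).map_isZero hP).eq_of_src _ _)
  haveI : PreservesBinaryBiproducts ((DCoh.tensorCx (X := X)).obj d.A) :=
    preservesBinaryBiproducts_of_preservesBinaryCoproducts _
  haveI : ((DCoh.tensorCx (X := X)).obj d.A).Additive := Functor.additive_of_preservesBinaryBiproducts _
  haveI := OpenSupport.isIso_of_zero (ψ d P) (((DCoh.tensorCx (X := X)).obj d.A).map_isZero (hz _)) (hz _)
  refine ⟨QisAt.of_quasiIso _, fun x _ => ?_⟩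
  refine ⟨X, 𝟙 X, inferInstance, x, (0 : CochainComplex X.Modules ℤ), rfl,
    ⟨⟨0, 0, fun i _ => Functor.map_isZero (HomologicalComplex.eval _ _ i) (isZero_zero _)⟩,
      fun i => Stupid.isFinLocFree_isZero (Functor.map_isZero (HomologicalComplex.eval _ _ i) (isZero_zero _))⟩,
    ⟨((Basic.RD (𝟙 X)).map_isZero (Functor.map_isZero DerivedCategory.Q (hz _))).iso
      (Functor.map_isZero DerivedCategory.Q (isZero_zero _))⟩⟩

/-- An acyclic complex is good. -/
theorem good_of_acyclic (V : X.Opens) {P : CochainComplex X.Modules ℤ} (hP : P.Acyclic) :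
    Good d V P := by
  haveI : QuasiIso (0 : (0 : CochainComplex X.Modules ℤ) ⟶ P) := KFlat.quasiIso_of_acyclic _
    (fun n => ShortComplex.exact_of_isZero_X₂ _
      (Functor.map_isZero (HomologicalComplex.eval _ _ _) (isZero_zero _))) hP
  exact (good_iff_of_qisAt _ (QisAt.of_quasiIso (0 : (0 : CochainComplex X.Modules ℤ) ⟶ P))).2
    (good_of_isZero V (isZero_zero _))

end Groth.Agent.Lib.DerivedOX.DualGood
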