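import Mathlib.Algebra.Homology.HomotopyCategory.KInjective
import Mathlib.Algebra.Homology.HomotopyCategory.Pretriangulated
import Mathlib.CategoryTheory.Preadditive.Injective.Basic
import Mathlib.CategoryTheory.Adjunction.Mates
import Groth.Agent.Lib.DerivedOX.TensorQis
import Groth.Agent.Lib.DerivedOX.TensorAssoc

/-!
# The internal Hom complex as a right adjoint, and its homotopy invariance

`Hc P` is a right adjoint of `- ⊗ P` on complexes of O_X-modules.  For a complex `J` with injective
terms, maps into `Hc P J` and maps out of `- ⊗ P` correspond up to homotopy.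
-/

universe u

open CategoryTheory Limits AlgebraicGeometry HomologicalComplex

set_option linter.style.haveILetI false

namespace Groth.Agent.Lib.DerivedOX.DualHom

variable {X : Scheme.{u}}

/-- `- ⊗ P` on complexes. -/
noncomputable abbrev Tc (P : CochainComplex X.Modules ℤ) :
    CochainComplex X.Modules ℤ ⥤ CochainComplex X.Modules ℤ :=
  (DCoh.tensorCx (X := X)).flip.obj P

theorem isLeftAdjoint_Tc (P : CochainComplex X.Modules ℤ) : (Tc P).IsLeftAdjoint :=
  LeftRes.isLeftAdjoint_of_preservesColimits _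

/-- `J ↦ Hom^•(P, J)`. -/
noncomputable def Hc (P : CochainComplex X.Modules ℤ) :
    CochainComplex X.Modules ℤ ⥤ CochainComplex X.Modules ℤ :=
  haveI := isLeftAdjoint_Tc P
  (Tc P).rightAdjoint

/-- The adjunction `- ⊗ P ⊣ Hom^•(P, -)`. -/
noncomputable def adj (P : CochainComplex X.Modules ℤ) : Tc P ⊣ Hc P :=
  haveI := isLeftAdjoint_Tc P
  Adjunction.ofIsLeftAdjoint _

/-- Evaluation. -/
noncomputable abbrev ev (P J : CochainComplex X.Modules ℤ) : (Tc P).obj ((Hc P).obj J) ⟶ J :=
  (adj P).counit.app J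

instance additive_Hc (P : CochainComplex X.Modules ℤ) : (Hc P).Additive :=
  haveI : PreservesBinaryBiproducts (Tc P) := preservesBinaryBiproducts_of_preservesBinaryCoproducts _
  haveI : (Tc P).Additive := Functor.additive_of_preservesBinaryBiproducts _
  (adj P).right_adjoint_additive

/-- A complex has injective terms. -/
def InjTerms (J : CochainComplex X.Modules ℤ) : Prop := ∀ n, Injective (J.X n)

/-- Contravariance of the internal Hom. -/
noncomputable def pre {P' P : CochainComplex X.Modules ℤ} (a : P' ⟶ P) : Hc P ⟶ Hc P' :=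
  conjugateEquiv (adj P) (adj P') ((DCoh.tensorCx (X := X)).flip.map a)

lemma pre_ev {P' P : CochainComplex X.Modules ℤ} (a : P' ⟶ P) (J : CochainComplex X.Modules ℤ) :
    (Tc P').map ((pre a).app J) ≫ ev P' J =
      (DCoh.tensorCx.obj ((Hc P).obj J)).map a ≫ ev P J :=
  conjugateEquiv_counit _ _ _ _

lemma homEquiv_symm_comp_pre {P' P T : CochainComplex X.Modules ℤ} (a : P' ⟶ P)
    (J : CochainComplex X.Modules ℤ) (φ : T ⟶ (Hc P).obj J) :
    ((adj P').homEquiv T J).symm (φ ≫ (pre a).app J) =
      (DCoh.tensorCx.obj T).map a ≫ ((adj P).homEquiv T J).symm φ := by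
  rw [Adjunction.homEquiv_counit, Adjunction.homEquiv_counit, Functor.map_comp, Category.assoc]
  refine (congrArg ((Tc P').map φ ≫ ·) (pre_ev a J)).trans ?_
  refine ((Category.assoc _ _ _).symm.trans (congrArg (· ≫ ev P J) ?_)).trans (Category.assoc _ _ _)
  exact ((DCoh.tensorCx.map φ).naturality a).symm

lemma pre_id (P : CochainComplex X.Modules ℤ) : pre (𝟙 P) = 𝟙 (Hc P) := by
  simp [pre]

lemma pre_comp {P'' P' P : CochainComplex X.Modules ℤ} (b : P'' ⟶ P') (a : P' ⟶ P) :
    pre (b ≫ a) = pre a ≫ pre b := by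
  simp [pre]

lemma pre_zero (P' P J : CochainComplex X.Modules ℤ) : (pre (0 : P' ⟶ P)).app J = 0 := by
  apply ((adj P').homEquiv _ _).symm.injective
  have h := homEquiv_symm_comp_pre (0 : P' ⟶ P) J (𝟙 ((Hc P).obj J))
  rw [Category.id_comp] at h
  rw [h, Adjunction.homEquiv_counit]
  erw [Bifunctor.obj_map_zero, zero_comp]
  rw [Adjunction.homEquiv_counit]
  exact ((congrArg (· ≫ _) (Bifunctor.map_zero_app (DCoh.tensorBi (X := X)) _ _ P')).trans zero_comp).symm

/-- A null-homotopic map out of a complex into one with injective terms extends along monomorphisms. -/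
theorem exists_extension {A B J : CochainComplex X.Modules ℤ} (m : A ⟶ B) [Mono m] (hJ : InjTerms J)
    {f : A ⟶ J} (h : Homotopy f 0) : ∃ g : B ⟶ J, m ≫ g = f ∧ Nonempty (Homotopy g 0) := by
  let hB : ∀ i j, B.X i ⟶ J.X j := fun i j =>
    haveI := hJ j
    Injective.factorThru (h.hom i j) (m.f i)
  have hm : ∀ i j, m.f i ≫ hB i j = h.hom i j := fun i j =>
    haveI := hJ j
    Injective.comp_factorThru _ _
  refine ⟨Homotopy.nullHomotopicMap' (fun i j _ => hB i j), ?_,
    ⟨Homotopy.nullHomotopy' (fun i j _ => hB i j)⟩⟩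
  rw [Homotopy.comp_nullHomotopicMap']
  ext i
  rw [Homotopy.nullHomotopicMap'_f (show (ComplexShape.up ℤ).Rel (i - 1) i from sub_add_cancel i 1)
    (show (ComplexShape.up ℤ).Rel i (i + 1) from rfl), hm, hm, h.comm i]
  rw [dNext_eq _ (show (ComplexShape.up ℤ).Rel i (i + 1) from rfl),
    prevD_eq _ (show (ComplexShape.up ℤ).Rel (i - 1) i from sub_add_cancel i 1),
    HomologicalComplex.zero_f, add_zero]

/-- Tensoring preserves degreewise split monomorphisms. -/
theorem mono_Tc_map {S T : CochainComplex X.Modules ℤ} (i : S ⟶ T) (hi : ∀ n, IsSplitMono (i.f n))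
    (P : CochainComplex X.Modules ℤ) : Mono ((Tc P).map i) :=
  Bifunctor.mono_map_app (DCoh.tensorBi (X := X)) i P fun p q => by
    haveI := hi p
    haveI : IsSplitMono ((DCoh.tensorBi (X := X)).map (i.f p)) := inferInstance
    exact inferInstanceAs (Mono ((((evaluation _ _).obj (P.X q))).map
      ((DCoh.tensorBi (X := X)).map (i.f p))))

/-- Tensoring preserves degreewise split monomorphisms. -/
theorem mono_tensor_map {S T : CochainComplex X.Modules ℤ} (i : S ⟶ T) (hi : ∀ n, IsSplitMono (i.f n))
    (P : CochainComplex X.Modules ℤ) : Mono ((DCoh.tensorCx.obj P).map i) :=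
  Bifunctor.mono_obj_map (DCoh.tensorBi (X := X)) P i fun p q => by
    haveI := hi q
    infer_instance

lemma isSplitMono_inr_f {T T' : CochainComplex X.Modules ℤ} (φ : T ⟶ T') (n : ℤ) :
    IsSplitMono ((CochainComplex.mappingCone.inr φ).f n) :=
  ⟨⟨⟨(CochainComplex.mappingCone.snd φ).v n n (add_zero n), by simp⟩⟩⟩

/-- **Homotopy adjunction**: for `J` with injective terms, a map into `Hom^•(P, J)` is null-homotopic
iff its adjoint is. -/
theorem homotopic_zero_iff (P : CochainComplex X.Modules ℤ) {T J : CochainComplex X.Modules ℤ}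
    (hJ : InjTerms J) (φ : T ⟶ (Hc P).obj J) :
    Nonempty (Homotopy φ 0) ↔ Nonempty (Homotopy (((adj P).homEquiv T J).symm φ) 0) := by
  constructor
  · rintro ⟨h⟩
    refine ⟨(Homotopy.ofEq (Adjunction.homEquiv_counit _ _ _ _)).trans
      (((Bifunctor.homotopy₁ (DCoh.tensorBi (X := X)) h P).compRight (ev P J)).trans
        (Homotopy.ofEq ?_))⟩
    rw [Bifunctor.map_zero_app, zero_comp]
  · rintro ⟨h⟩
    let i := CochainComplex.mappingCone.inr (𝟙 T)
    haveI := mono_Tc_map i (isSplitMono_inr_f _) P
    obtain ⟨g, hg, -⟩ := exists_extension ((Tc P).map i) hJ h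
    have e : φ = i ≫ (adj P).homEquiv _ J g := by
      rw [← Adjunction.homEquiv_naturality_left, hg, Equiv.apply_symm_apply]
    refine ⟨(Homotopy.ofEq (e.trans (congrArg (· ≫ _) (Category.comp_id i).symm))).trans
      (((CochainComplex.mappingCone.homotopyToZeroOfId T).compLeft i |>.compRight _).trans
        (Homotopy.ofEq (by simp)))⟩

/-- The homotopy category quotient. -/
noncomputable abbrev qK (X : Scheme.{u}) :=
  HomotopyCategory.quotient X.Modules (ComplexShape.up ℤ)

theorem quotient_map_eq_iff (P : CochainComplex X.Modules ℤ) {T J : CochainComplex X.Modules ℤ}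
    (hJ : InjTerms J) (φ ψ : T ⟶ (Hc P).obj J) :
    (qK X).map φ = (qK X).map ψ ↔
      (qK X).map (((adj P).homEquiv T J).symm φ) = (qK X).map (((adj P).homEquiv T J).symm ψ) := by
  rw [← sub_eq_zero, ← sub_eq_zero (a := (qK X).map (((adj P).homEquiv T J).symm φ)), ← Functor.map_sub,
    ← Functor.map_sub, HomotopyCategory.quotient_map_eq_zero_iff,
    HomotopyCategory.quotient_map_eq_zero_iff, homotopic_zero_iff P hJ]
  refine Iff.of_eq (congrArg (fun f => Nonempty (Homotopy f 0)) ?_)
  haveI : PreservesBinaryBiproducts (Tc P) := preservesBinaryBiproducts_of_preservesBinaryCoproducts _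
  haveI : (Tc P).Additive := Functor.additive_of_preservesBinaryBiproducts _
  simp only [Adjunction.homEquiv_counit]
  rw [← Preadditive.sub_comp, ← (Tc P).map_sub]

/-- `Hom^•(P, J)` is K-injective for K-flat `P` and K-injective `J` with injective terms. -/
theorem isKInjective_Hc {P J : CochainComplex X.Modules ℤ} (hP : DCoh.IsKFlat P) [J.IsKInjective]
    (hJ : InjTerms J) : ((Hc P).obj J).IsKInjective where
  nonempty_homotopy_zero {T} φ hT := by
    refine (homotopic_zero_iff P hJ φ).2 ⟨CochainComplex.IsKInjective.homotopyZero _ ?_⟩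
    exact (StalkCx.acyclic_iff_forall_isZero _).2 (hP T ((StalkCx.acyclic_iff_forall_isZero T).1 hT))

/-- Composition with a quasi-isomorphism of sources is bijective on homotopy classes of maps into a
K-injective complex. -/
theorem precomp_bijective {A B J : CochainComplex X.Modules ℤ} (s : A ⟶ B) [QuasiIso s]
    [J.IsKInjective] :
    Function.Bijective fun φ : (qK X).obj B ⟶ (qK X).obj J => (qK X).map s ≫ φ := by
  letI := HasDerivedCategory.standard X.Modules
  haveI : IsIso (DerivedCategory.Qh.map ((qK X).map s)) :=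
    Localization.inverts DerivedCategory.Qh (HomotopyCategory.quasiIso X.Modules (.up ℤ)) _
      ((HomotopyCategory.quotient_map_mem_quasiIso_iff _).2 ‹_›)
  constructor
  · intro φ φ' e
    apply (CochainComplex.IsKInjective.Qh_map_bijective _ J).1
    rw [← cancel_epi (DerivedCategory.Qh.map ((qK X).map s)), ← Functor.map_comp, ← Functor.map_comp]
    exact congrArg _ e
  · intro ψ
    obtain ⟨φ, hφ⟩ := (CochainComplex.IsKInjective.Qh_map_bijective _ J).2
      (inv (DerivedCategory.Qh.map ((qK X).map s)) ≫ DerivedCategory.Qh.map ψ)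
    refine ⟨φ, (CochainComplex.IsKInjective.Qh_map_bijective _ J).1 ?_⟩
    rw [Functor.map_comp, hφ, IsIso.hom_inv_id_assoc]

/-- If `T ⊗ a` is a quasi-isomorphism then composition with `pre a` is bijective on homotopy classes
of maps out of `T`. -/
theorem pre_comp_bijective {P' P : CochainComplex X.Modules ℤ} (a : P' ⟶ P)
    {T J : CochainComplex X.Modules ℤ} [J.IsKInjective] (hJ : InjTerms J)
    [QuasiIso ((DCoh.tensorCx.obj T).map a)] :
    Function.Bijective fun φ : (qK X).obj T ⟶ (qK X).obj ((Hc P).obj J) => φ ≫ (qK X).map ((pre a).app J) := by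
  have hb := precomp_bijective (J := J) ((DCoh.tensorCx.obj T).map a)
  constructor
  · intro φ φ' e
    obtain ⟨φ, rfl⟩ := (qK X).map_surjective φ
    obtain ⟨φ', rfl⟩ := (qK X).map_surjective φ'
    refine (quotient_map_eq_iff P hJ _ _).2 (hb.1 ?_)
    change (qK X).map φ ≫ (qK X).map _ = (qK X).map φ' ≫ (qK X).map _ at e
    rw [← Functor.map_comp, ← Functor.map_comp, quotient_map_eq_iff P' hJ,
      homEquiv_symm_comp_pre, homEquiv_symm_comp_pre, Functor.map_comp, Functor.map_comp] at e
    exact e
  · intro ψ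
    obtain ⟨ψ, rfl⟩ := (qK X).map_surjective ψ
    obtain ⟨χ, hχ⟩ := hb.2 ((qK X).map (((adj P').homEquiv T J).symm ψ))
    obtain ⟨χ, rfl⟩ := (qK X).map_surjective χ
    refine ⟨(qK X).map ((adj P).homEquiv T J χ), ?_⟩
    change (qK X).map _ ≫ (qK X).map _ = (qK X).map ψ
    rw [← Functor.map_comp, quotient_map_eq_iff P' hJ, homEquiv_symm_comp_pre,
      Equiv.symm_apply_apply, Functor.map_comp]
    exact hχ

end Groth.Agent.Lib.DerivedOX.DualHom
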