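import Groth.Agent.Lib.DerivedOX.DualMain
import Groth.Agent.Lib.DerivedOX.DualHomExists
import Groth.Agent.Lib.DerivedOX.TensorAssoc
import Groth.Agent.Lib.DerivedOX.FMTools
import Groth.Agent.Lib.RightAdjTensor.Finite

/-!
# `RHom(K, -) ≅ - ⊗^L RHom(K, O)` for perfect `K`, naturally
-/

set_option autoImplicit false
set_option linter.style.haveILetI false
set_option linter.unusedSectionVars false
set_option maxHeartbeats 800000

universe u

open CategoryTheory Limits AlgebraicGeometry HomologicalComplex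

attribute [local instance] HasDerivedCategory.standard

namespace Groth.Agent.Lib.DerivedOX.DualNat

open DualHom DualGood DualExact DualFree DualPerfect DualCompare

variable {X : Scheme.{u}} (P J₀ : CochainComplex X.Modules ℤ)
  [DCoh.HasLTensorCx P] [DCoh.HasLTensorCx ((Hc P).obj J₀)] [DCoh.HasLTensorCx J₀]

/-- `(- ⊗^L Hom(P, J₀)) ⊗^L P → - ⊗^L J₀`: associativity and evaluation. -/
noncomputable def theta : DCoh.LTensorCx ((Hc P).obj J₀) ⋙ DCoh.LTensorCx P ⟶ DCoh.LTensorCx J₀ :=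
  (DCoh.LTensorCx J₀).leftDerivedLift
    ((DCoh.tensorCxQ J₀).totalLeftDerivedCounit DerivedCategory.Q
      (HomologicalComplex.quasiIso X.Modules (.up ℤ)))
    (HomologicalComplex.quasiIso X.Modules (.up ℤ)) _
    (TensorAssoc.compCounit ((Hc P).obj J₀) P ≫
      Functor.whiskerRight ((DCoh.tensorCx (X := X)).flip.map ((adj P).counit.app J₀))
        DerivedCategory.Q)

/-- At a resolution datum the map `theta` is adjoint to `ψ`. -/
theorem theta_app (A : CochainComplex X.Modules ℤ) {J : CochainComplex X.Modules ℤ}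
    (c : (DCoh.tensorCx.obj A).obj J₀ ⟶ J) :
    (theta P J₀).app (DerivedCategory.Q.obj A) ≫
      ((DCoh.tensorCxQ J₀).totalLeftDerivedCounit DerivedCategory.Q
        (HomologicalComplex.quasiIso X.Modules (.up ℤ))).app A ≫ DerivedCategory.Q.map c =
    (DCoh.LTensorCx P).map (((DCoh.tensorCxQ ((Hc P).obj J₀)).totalLeftDerivedCounit DerivedCategory.Q
        (HomologicalComplex.quasiIso X.Modules (.up ℤ))).app A) ≫
      ((DCoh.tensorCxQ P).totalLeftDerivedCounit DerivedCategory.Q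
        (HomologicalComplex.quasiIso X.Modules (.up ℤ))).app ((DCoh.tensorCx.obj A).obj ((Hc P).obj J₀)) ≫
      DerivedCategory.Q.map (DualGood.asc A ((Hc P).obj J₀) P ≫
        (DCoh.tensorCx.obj A).map ((adj P).counit.app J₀) ≫ c) := by
  rw [theta, ← Category.assoc, Functor.leftDerived_fac_app]
  simp only [TensorAssoc.compCounit, NatTrans.comp_app, Functor.whiskerRight_app,
    Functor.whiskerLeft_app, Functor.associator_hom_app, Functor.associator_inv_app]
  erw [Category.id_comp, Category.id_comp, Category.id_comp]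
  simp only [Functor.map_comp, Category.assoc]
  rfl

/-- The transpose of `theta`. -/
noncomputable def tau {R : DCoh.D X ⥤ DCoh.D X} (Adj : DCoh.LTensorCx P ⊣ R) :
    DCoh.LTensorCx ((Hc P).obj J₀) ⟶ DCoh.LTensorCx J₀ ⋙ R where
  app M := Adj.homEquiv _ _ ((theta P J₀).app M)
  naturality M N f := by
    refine (Adj.homEquiv_naturality_left _ _).symm.trans
      ((congrArg (Adj.homEquiv _ _) ((theta P J₀).naturality f)).trans ?_)
    exact Adj.homEquiv_naturality_right _ _

theorem isIso_tau {R : DCoh.D X ⥤ DCoh.D X} (Adj : DCoh.LTensorCx P ⊣ R)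
    (hP : DCoh.IsKFlat P) (hPp : DCoh.IsPerfect (DerivedCategory.Q.obj P))
    [J₀.IsKInjective] (hJ₀ : InjTerms J₀)
    (e₀ : DerivedCategory.Q.obj J₀ ≅ DCoh.inD X (Coh.structureModule X)) :
    IsIso (tau P J₀ Adj) := by
  haveI : ∀ M, IsIso ((tau P J₀ Adj).app M) := fun M => by
    let A := (KFlat.res X).obj (DerivedCategory.Q.objPreimage M)
    haveI : QuasiIso ((KFlat.aug X).app (DerivedCategory.Q.objPreimage M)) := KFlat.quasiIso_aug _
    let eA : DerivedCategory.Q.obj A ≅ M :=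
      asIso (DerivedCategory.Q.map ((KFlat.aug X).app _)) ≪≫ DerivedCategory.Q.objObjPreimageIso M
    refine (NatTrans.isIso_app_iff_of_iso (tau P J₀ Adj) eA).1 ?_
    obtain ⟨J, c, hJ, qc, -, nJ⟩ :=
      DerCat.KInjExists.exists_kInjective_resolution ((DCoh.tensorCx.obj A).obj J₀)
    haveI := hJ
    haveI := qc
    let d : Data X := ⟨A, J₀, J, KFlat.isKFlat_res _, KFlat.isFlat_res_X _, inferInstance, hJ,
      hJ₀, nJ, e₀, c, qc⟩
    haveI := quasiIso_ψ d hPp
    let cJ := ((DCoh.tensorCxQ J₀).totalLeftDerivedCounit DerivedCategory.Q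
      (HomologicalComplex.quasiIso X.Modules (.up ℤ))).app A
    haveI : IsIso cJ := TensorCoprod.isIso_counit_app_of_isKFlat J₀ _ _ (KFlat.isKFlat_res _)
    let cH := ((DCoh.tensorCxQ ((Hc P).obj J₀)).totalLeftDerivedCounit DerivedCategory.Q
      (HomologicalComplex.quasiIso X.Modules (.up ℤ))).app A
    haveI : IsIso cH := TensorCoprod.isIso_counit_app_of_isKFlat _ _ _ (KFlat.isKFlat_res _)
    let p : (DCoh.LTensorCx ((Hc P).obj J₀)).obj (DerivedCategory.Q.obj A) ≅
        DerivedCategory.Q.obj ((Hc P).obj J) := asIso cH ≪≫ asIso (DerivedCategory.Q.map (ψ d P))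
    let q : (DCoh.LTensorCx J₀).obj (DerivedCategory.Q.obj A) ≅ DerivedCategory.Q.obj J :=
      asIso cJ ≪≫ asIso (DerivedCategory.Q.map c)
    let u := ((DCoh.tensorCxQ P).totalLeftDerivedCounit DerivedCategory.Q
        (HomologicalComplex.quasiIso X.Modules (.up ℤ))).app ((Hc P).obj J) ≫
          DerivedCategory.Q.map (ev P J)
    have hq : (DCoh.LTensorCx P).map p.hom ≫ u = (theta P J₀).app (DerivedCategory.Q.obj A) ≫ q.hom := by
      refine Eq.trans ?_ (theta_app P J₀ A c).symm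
      rw [← homEquiv_symm_ψ d P, Adjunction.homEquiv_counit]
      simp only [p, u, Iso.trans_hom, asIso_hom, Functor.map_comp, Category.assoc]
      refine congrArg (_ ≫ ·) ?_
      exact ((DCoh.tensorCxQ P).totalLeftDerivedCounit DerivedCategory.Q
        (HomologicalComplex.quasiIso X.Modules (.up ℤ))).naturality_assoc (ψ d P) _
    refine isIso_of_yoneda_map_bijective _ fun S => ?_
    let e := DerivedCategory.Q.objObjPreimageIso S
    obtain ⟨hi, hs⟩ := DualHomExists.bijective_map hP nJ (DerivedCategory.Q.objPreimage S)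
    have key : ∀ φ : S ⟶ (DCoh.LTensorCx ((Hc P).obj J₀)).obj (DerivedCategory.Q.obj A),
        (DCoh.LTensorCx P).map (e.hom ≫ φ ≫ p.hom) ≫ u = (DCoh.LTensorCx P).map e.hom ≫
          ((DCoh.LTensorCx P).map φ ≫ (theta P J₀).app _) ≫ q.hom := fun φ => by
      rw [Functor.map_comp, Functor.map_comp, Category.assoc, Category.assoc, Category.assoc, hq]
    have htr : ∀ φ : S ⟶ (DCoh.LTensorCx ((Hc P).obj J₀)).obj (DerivedCategory.Q.obj A),
        φ ≫ (tau P J₀ Adj).app _ = Adj.homEquiv _ _ ((DCoh.LTensorCx P).map φ ≫ (theta P J₀).app _) :=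
      fun φ => (Adj.homEquiv_naturality_left _ _).symm
    constructor
    · intro φ φ' h
      have h' := (Adj.homEquiv _ _).injective ((htr φ).symm.trans (h.trans (htr φ')))
      have h2 := hi ((key φ).trans ((congrArg (fun t => (DCoh.LTensorCx P).map e.hom ≫ t ≫ q.hom) h').trans
        (key φ').symm))
      exact (cancel_mono p.hom).1 ((cancel_epi e.hom).1 h2)
    · intro g
      obtain ⟨χ, hχ⟩ := hs ((DCoh.LTensorCx P).map e.hom ≫ (Adj.homEquiv _ _).symm g ≫ q.hom)
      refine ⟨e.inv ≫ χ ≫ p.inv, (htr _).trans ((Equiv.apply_eq_iff_eq_symm_apply _).2 ?_)⟩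
      refine (cancel_mono q.hom).1 ((cancel_epi ((DCoh.LTensorCx P).map e.hom)).1 ?_)
      refine (key _).symm.trans (Eq.trans ?_ hχ)
      simp only [Category.assoc, Iso.hom_inv_id_assoc, Iso.inv_hom_id, Category.comp_id]
      rfl
  exact NatIso.isIso_of_isIso_app _

/-- `RHom(K, -) ≅ - ⊗^L H` naturally, with `H` perfect and K-flat. -/
theorem nonempty_natIso (K : CochainComplex X.Modules ℤ) [DCoh.HasLTensorCx K] [DCoh.HasRSheafHom K]
    (hK : DCoh.IsPerfect (DerivedCategory.Q.obj K)) :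
    ∃ (H : CochainComplex X.Modules ℤ) (_ : DCoh.HasLTensorCx H),
      DCoh.IsKFlat H ∧ DCoh.IsPerfect (DerivedCategory.Q.obj H) ∧
        Nonempty (DCoh.LTensorCx H ≅ DCoh.RSheafHom K) := by
  let P := (KFlat.res X).obj K
  let r : P ⟶ K := (KFlat.aug X).app K
  haveI : QuasiIso r := KFlat.quasiIso_aug K
  have hP : DCoh.IsKFlat P := KFlat.isKFlat_res K
  have hPp := Perfect.Triangle.isPerfect_of_iso (asIso (DerivedCategory.Q.map r)).symm hK
  haveI := LeftExists.hasLTensorCx P
  obtain ⟨J₀, i₀, h₀, q₀, -, n₀⟩ := DerCat.KInjExists.exists_kInjective_resolution (one X)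
  haveI := h₀
  haveI := q₀
  let e₀ : DerivedCategory.Q.obj J₀ ≅ DCoh.inD X (Coh.structureModule X) :=
    (asIso (DerivedCategory.Q.map i₀)).symm ≪≫
      ((DerivedCategory.singleFunctorIsoCompQ X.Modules 0).app _).symm
  let H₀ := (Hc P).obj J₀
  haveI := LeftExists.hasLTensorCx H₀
  haveI := LeftExists.hasLTensorCx J₀
  obtain ⟨e⟩ := nonempty_ltensor_iso hP r
  let Adj := (DCoh.RSheafHomAdj K).ofNatIsoLeft e.symm
  haveI := isIso_tau P J₀ Adj hP hPp n₀ e₀
  obtain ⟨u⟩ := RightAdjTensor.Finite.nonempty_tensorUnit J₀ i₀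
  let H := (KFlat.res X).obj H₀
  haveI : QuasiIso ((KFlat.aug X).app H₀) := KFlat.quasiIso_aug H₀
  haveI := LeftExists.hasLTensorCx H
  let eH : DerivedCategory.Q.obj H ≅ DerivedCategory.Q.obj H₀ :=
    asIso (DerivedCategory.Q.map ((KFlat.aug X).app H₀))
  obtain ⟨cH⟩ := FMTools.nonempty_congrTensor eH
  obtain ⟨J, c, hJ, qc, -, nJ⟩ := DerCat.KInjExists.exists_kInjective_resolution
    ((DCoh.tensorCx.obj ((KFlat.res X).obj (one X))).obj J₀)
  let d : Data X := ⟨(KFlat.res X).obj (one X), J₀, J, KFlat.isKFlat_res _, KFlat.isFlat_res_X _, h₀, hJ,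
      n₀, nJ, e₀, c, qc⟩
  exact ⟨H, inferInstance, KFlat.isKFlat_res H₀,
    Perfect.Triangle.isPerfect_of_iso eH.symm (isPerfect_Hc d hPp),
    ⟨cH ≪≫ asIso (tau P J₀ Adj) ≪≫ Functor.isoWhiskerRight u _ ≪≫ Functor.leftUnitor _⟩⟩

end Groth.Agent.Lib.DerivedOX.DualNat
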