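import Groth.Agent.Lib.DerivedOX.DualHom
import Groth.Agent.Lib.DerivedOX.GammaAcyclic
import Groth.Agent.Lib.DerivedOX.GenStalk
import Groth.Agent.Lib.DerCat.RFAcyclic
import Groth.Agent.Lib.DR.LTensorCx
import Groth.Agent.Lib.Perfect.Spread
import Mathlib.Algebra.Homology.ShortComplex.ConcreteCategory

/-!
# Quasi-isomorphisms over an open, and their effect on internal Homs
-/

universe u

open CategoryTheory Limits AlgebraicGeometry HomologicalComplex Opposite

attribute [local instance] HasDerivedCategory.standard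

set_option linter.style.haveILetI false

namespace Groth.Agent.Lib.DerivedOX.DualQis

open Groth.Agent.Lib.Modules StalkModule DualHom

variable {X : Scheme.{u}}

/-- The stalk of a complex. -/
noncomputable abbrev St (x : X) :
    CochainComplex X.Modules ℤ ⥤ CochainComplex (ModuleCat.{u} (X.presheaf.stalk x)) ℤ :=
  (stalkModFunctor X x).mapHomologicalComplex (ComplexShape.up ℤ)

/-- `f` is a quasi-isomorphism at the points of `V`. -/
def QisAt (V : X.Opens) {K L : CochainComplex X.Modules ℤ} (f : K ⟶ L) : Prop :=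
  ∀ x ∈ V, QuasiIso ((St x).map f)

variable {V : X.Opens} {K L M : CochainComplex X.Modules ℤ}

lemma QisAt.of_quasiIso (f : K ⟶ L) [QuasiIso f] : QisAt V f := fun x _ =>
  (Qis.quasiIso_iff_forall_stalk f).1 ‹_› x

lemma QisAt.mono {f : K ⟶ L} (h : QisAt V f) {W : X.Opens} (hW : W ≤ V) : QisAt W f :=
  fun x hx => h x (hW hx)

lemma QisAt.comp {f : K ⟶ L} {g : L ⟶ M} (hf : QisAt V f) (hg : QisAt V g) : QisAt V (f ≫ g) :=
  fun x hx => by
    haveI := hf x hx
    haveI := hg x hx
    rw [Functor.map_comp]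
    infer_instance

lemma QisAt.of_comp_left {f : K ⟶ L} {g : L ⟶ M} (hf : QisAt V f) (hfg : QisAt V (f ≫ g)) :
    QisAt V g := fun x hx => by
  haveI := hf x hx
  haveI : QuasiIso ((St x).map f ≫ (St x).map g) := by rw [← Functor.map_comp]; exact hfg x hx
  exact quasiIso_of_comp_left ((St x).map f) _

lemma QisAt.of_comp_right {f : K ⟶ L} {g : L ⟶ M} (hg : QisAt V g) (hfg : QisAt V (f ≫ g)) :
    QisAt V f := fun x hx => by
  haveI := hg x hx
  haveI : QuasiIso ((St x).map f ≫ (St x).map g) := by rw [← Functor.map_comp]; exact hfg x hx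
  exact quasiIso_of_comp_right _ ((St x).map g)

/-- K-flatness passes to stalks. -/
lemma isKFlat_stalk {A : CochainComplex X.Modules ℤ} (hA : DCoh.IsKFlat A) (x : X) :
    DRing.IsKFlat (X.presheaf.stalk x) ((St x).obj A) :=
  (KFlatStalk.isKFlat_iff_stalk A).1 hA x

/-- Tensoring with a K-flat complex preserves quasi-isomorphisms at a point. -/
lemma quasiIso_stalk_tensor {A : CochainComplex X.Modules ℤ} (x : X)
    (hA : DRing.IsKFlat (X.presheaf.stalk x) ((St x).obj A)) (f : K ⟶ L)
    [QuasiIso ((St x).map f)] : QuasiIso ((St x).map ((DCoh.tensorCx.obj A).map f)) := by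
  haveI := DR.LTensorCx.quasiIso_tensor_left hA ((St x).map f)
  have h := BifunctorMap.totalIso_natural (StalkCx.stalkComparison x) (𝟙 A) f
  rw [(St x).map_id] at h
  refine ((MorphismProperty.arrow_mk_iso_iff (HomologicalComplex.quasiIso _ _)
    (Arrow.isoMk (BifunctorMap.totalIso (StalkCx.stalkComparison x) A K)
      (BifunctorMap.totalIso (StalkCx.stalkComparison x) A L) h.symm))).1 ?_
  exact ‹QuasiIso (((DR.KFlat.tcx (X.presheaf.stalk x)).obj ((St x).obj A)).map ((St x).map f))›

lemma QisAt.tensor {A : CochainComplex X.Modules ℤ} (hA : DCoh.IsKFlat A) {f : K ⟶ L}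
    (h : QisAt V f) : QisAt V ((DCoh.tensorCx.obj A).map f) := fun x hx => by
  haveI := h x hx
  exact quasiIso_stalk_tensor x (isKFlat_stalk hA x) f

/-- Tensoring a quasi-isomorphism at `V` with a shift of a generator inside `V` gives a
quasi-isomorphism. -/
theorem quasiIso_gen_tensor {f : K ⟶ L} (h : QisAt V f) {W : X.Opens} (hW : W ≤ V) (n : ℤ) :
    QuasiIso ((DCoh.tensorCx.obj ((single X.Modules (ComplexShape.up ℤ) n).obj (FlatGen.gen W))).map f) := by
  refine (Qis.quasiIso_iff_forall_stalk _).2 fun x => ?_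
  let G := (single X.Modules (ComplexShape.up ℤ) n).obj (FlatGen.gen W)
  by_cases hx : x ∈ W
  · haveI := h x (hW hx)
    exact quasiIso_stalk_tensor x
      (isKFlat_stalk (GammaAcyclic.isKFlat_single (FlatGen.isFlat_gen W) n) x) f
  · have hG : ∀ i, IsZero (((St x).obj G).X i) := fun i => by
      by_cases hi : i = n
      · subst hi
        haveI := GenStalk.subsingleton_stalk_gen (U := W) hx
        exact IsZero.of_iso (@ModuleCat.isZero_of_subsingleton _ _ _
          (inferInstanceAs (Subsingleton ((FlatGen.gen W).presheaf.stalk x))))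
          ((stalkModFunctor X x).mapIso (singleObjXSelf (ComplexShape.up ℤ) i (FlatGen.gen W)))
      · exact (stalkModFunctor X x).map_isZero (isZero_single_obj_X (ComplexShape.up ℤ) n _ i hi)
    let hh : Homotopy (𝟙 ((St x).obj G)) 0 :=
      Homotopy.ofEq (HomologicalComplex.hom_ext _ _ fun i => (hG i).eq_of_src _ _)
    have hz : ∀ Z, ((St x).obj ((DCoh.tensorCx.obj G).obj Z)).Acyclic := fun Z =>
      StalkCx.acyclic_of_iso (StalkCx.tensorIso x G Z)
        (Bifunctor.acyclic_flip_obj_of_homotopy_zero _ hh _)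
    exact KFlat.quasiIso_of_acyclic _ (hz K) (hz L)

/-- The homotopy category quotient of O_X-modules. -/
noncomputable abbrev sect (W : X.Opens) := GammaAcyclic.sect (Y := X) W

/-- A short complex which is exact on sections over the opens inside `V` has exact stalks in `V`. -/
theorem stalk_exact_of_sect (S : ShortComplex X.Modules)
    (h : ∀ W : X.Opens, W ≤ V → (S.map (sect W)).Exact) {x : X} (hx : x ∈ V) :
    (S.map (stalkModFunctor X x)).Exact := by
  rw [ShortComplex.moduleCat_exact_iff]
  intro s hs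
  obtain ⟨W₀, hxW₀, z, rfl⟩ := S.X₂.presheaf.exists_germ_eq s
  have hs' : (S.X₃.presheaf.germ W₀ x hxW₀) (S.g.app W₀ z) =
      (S.X₃.presheaf.germ W₀ x hxW₀) 0 :=
    (((stalkMapₗ_germ S.g hxW₀ z).symm.trans hs).trans
      (map_zero (S.X₃.presheaf.germ W₀ x hxW₀).hom).symm)
  obtain ⟨W₁, hxW₁, i₁, i₂, hW₁⟩ := S.X₃.presheaf.germ_eq x hxW₀ hxW₀ _ _ hs'
  let W := W₁ ⊓ V
  have hW : x ∈ W := ⟨hxW₁, hx⟩
  have hWW₀ : W ≤ W₀ := inf_le_left.trans i₁.le
  have h1 := (ShortComplex.ab_exact_iff _).1 (h W inf_le_right)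
  obtain ⟨w, hw⟩ := h1 (S.X₂.presheaf.map (homOfLE hWW₀).op z) (by
    change S.g.app W (S.X₂.presheaf.map (homOfLE hWW₀).op z) = 0
    have n1 : S.g.app W (S.X₂.presheaf.map (homOfLE hWW₀).op z) =
        S.X₃.presheaf.map (homOfLE hWW₀).op (S.g.app W₀ z) :=
      ConcreteCategory.congr_hom (S.g.mapPresheaf.naturality (homOfLE hWW₀).op) z
    rw [n1]
    have e : S.X₃.presheaf.map (homOfLE hWW₀).op =
        S.X₃.presheaf.map i₁.op ≫ S.X₃.presheaf.map (homOfLE (inf_le_left : W ≤ W₁)).op := by
      rw [← Functor.map_comp]; exact congrArg S.X₃.presheaf.map (Subsingleton.elim _ _)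
    rw [e, ConcreteCategory.comp_apply]
    erw [hW₁, map_zero, map_zero])
  refine ⟨S.X₁.presheaf.germ W x hW w, (stalkMapₗ_germ S.f hW w).trans ?_⟩
  exact (congrArg (S.X₂.presheaf.germ W x hW) hw).trans
    (TopCat.Presheaf.germ_res_apply S.X₂.presheaf (homOfLE hWW₀) x hW z)

/-- A map which is a quasi-isomorphism on sections over the opens inside `V` is one at `V`. -/
theorem qisAt_of_sect (f : K ⟶ L)
    (h : ∀ W : X.Opens, W ≤ V →
      QuasiIso (((sect W).mapHomologicalComplex (ComplexShape.up ℤ)).map f)) : QisAt V f := by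
  intro x hx
  rw [DerCat.RFAcyclic.quasiIso_iff_acyclic_mappingCone]
  refine StalkCx.acyclic_of_iso
    (CochainComplex.mappingCone.mapHomologicalComplexIso f (stalkModFunctor X x)) fun n => ?_
  rw [exactAt_iff]
  refine stalk_exact_of_sect (V := V) ((CochainComplex.mappingCone f).sc n) (fun W hW => ?_) hx
  have hq := (DerCat.RFAcyclic.quasiIso_iff_acyclic_mappingCone _).1 (h W hW)
  exact (exactAt_iff _ n).1 (StalkCx.acyclic_of_iso
    (CochainComplex.mappingCone.mapHomologicalComplexIso f (sect W)).symm hq n)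

/-- A quasi-isomorphism at `V` of the first variable gives one on internal Homs into K-injective
complexes with injective terms. -/
theorem qisAt_pre {P' P J : CochainComplex X.Modules ℤ} [J.IsKInjective] (hJ : InjTerms J)
    (a : P' ⟶ P) (ha : QisAt V a) : QisAt V ((pre a).app J) := by
  refine qisAt_of_sect _ fun W hW => ?_
  refine GammaAcyclic.quasiIso_map_of_bijective (sect W) (FlatGen.gen W)
    (fun M => FlatGen.genHomEquiv W M) (fun M => (FlatGen.genHomEquiv W M).bijective)
    (fun b g => GammaAcyclic.genHomEquiv_comp W b g) (GammaAcyclic.genHomEquiv_zero W)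
    (GammaAcyclic.genHomEquiv_add W) _ fun n => ?_
  haveI := quasiIso_gen_tensor ha hW n
  exact pre_comp_bijective a hJ

/-- Quasi-isomorphisms at `V` restrict to quasi-isomorphisms on `V`. -/
theorem QisAt.quasiIso_restrict {f : K ⟶ L} (h : QisAt V f) :
    QuasiIso ((Perfect.Basic.rC V.ι).map f) := by
  refine (Qis.quasiIso_iff_forall_stalk _).2 fun y => ?_
  haveI := h (V.ι y) y.2
  let σ := (asIso (V.ι.stalkMap y)).commRingCatIsoToRingEquiv
  let S' := ModuleCat.restrictScalars.{u} σ.symm.toRingHom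
  haveI : QuasiIso ((S'.mapHomologicalComplex (ComplexShape.up ℤ)).map ((St (V.ι y)).map f)) :=
    inferInstance
  let θ := NatIso.mapHomologicalComplex (Perfect.Spread.stalkRestrictIso V.ι y) (ComplexShape.up ℤ)
  exact ((MorphismProperty.arrow_mk_iso_iff (HomologicalComplex.quasiIso _ _)
    (Arrow.isoMk (θ.app K) (θ.app L) (θ.hom.naturality f).symm))).1 this

/-- A quasi-isomorphism at `V` is an isomorphism in `D(O_V)`. -/
theorem QisAt.isIso_restrictD {f : K ⟶ L} (h : QisAt V f) :
    IsIso ((DCoh.restrictD V.ι).map (DerivedCategory.Q.map f)) := by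
  haveI := h.quasiIso_restrict
  haveI : IsIso (DerivedCategory.Q.map ((Perfect.Basic.rC V.ι).map f)) := inferInstance
  exact ((MorphismProperty.isomorphisms _).arrow_mk_iso_iff
    (Arrow.isoMk ((Scheme.Modules.restrictFunctor V.ι).mapDerivedCategoryFactors.app K)
      ((Scheme.Modules.restrictFunctor V.ι).mapDerivedCategoryFactors.app L)
      ((Scheme.Modules.restrictFunctor V.ι).mapDerivedCategoryFactors.hom.naturality f).symm)).2 this

end Groth.Agent.Lib.DerivedOX.DualQis
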