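import Groth.Agent.Lib.DerivedOX.GammaZTriangle
import Groth.Agent.Lib.DerivedOX.AffinePushTilde
import Groth.Agent.Lib.DerivedOX.OpenSupport
import Groth.Agent.Lib.DerivedOX.Exists
import Groth.Agent.Lib.QCoh.Tilde
import Groth.Agent.S9265
import Groth.Prelude.Def_DerCA
import Groth.Prelude.Def_HTor
import Groth.Prelude.Def_Wider
import Groth.Prelude.Def_DRing2
import Groth.Prelude.Def_DCoh2

/-!
# The extended Čech complex computes local cohomology on affine schemes
-/

set_option autoImplicit false
set_option linter.style.haveILetI false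
set_option linter.unusedSectionVars false
set_option linter.unusedVariables false
set_option maxHeartbeats 1000000

universe u

open CategoryTheory Limits AlgebraicGeometry Opposite Pretriangulated

attribute [local instance] HasDerivedCategory.standard
attribute [local instance] Groth.Agent.Lib.DerivedOX.Exists.hasRpush

namespace Groth.Agent.Lib.DerivedOX.ExtCechGammaZ

variable {A : Type u} [CommRing A]

local instance (B : Type u) [CommRing B] : PreservesFiniteLimits (tilde.functor (CommRingCat.of B)) :=
  QCoh.Tilde.tildeFunctor_preservesFiniteLimits ..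

local instance (B : Type u) [CommRing B] : (tilde.functor (CommRingCat.of B)).PreservesHomology :=
  QCoh.Tilde.tildeFunctor_preservesHomology ..

local instance (B : Type u) [CommRing B] : PreservesFiniteColimits (tilde.functor (CommRingCat.of B)) :=
  haveI : PreservesColimitsOfSize.{u, u} (tilde.functor (CommRingCat.of B)) :=
    (tilde.adjunction (R := CommRingCat.of B)).leftAdjoint_preservesColimits
  PreservesColimitsOfSize.preservesFiniteColimits _

/-- `A ⟶ A_g`. -/
noncomputable abbrev φA (g : A) : CommRingCat.of A ⟶ CommRingCat.of (Localization.Away g) :=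
  CommRingCat.ofHom (algebraMap A (Localization.Away g))

/-- `D(g) ⟶ Spec A`. -/
noncomputable abbrev iota (g : A) : Spec (CommRingCat.of (Localization.Away g)) ⟶ Spec (CommRingCat.of A) :=
  Spec.map (φA g)

/-- Localisation as a functor to modules over the localised ring. -/
noncomputable def locB (g : A) : ModuleCat.{u} A ⥤ ModuleCat.{u} (CommRingCat.of (Localization.Away g)) where
  obj M := ModuleCat.of (Localization.Away g) (LocalizedModule (Submonoid.powers g) M)
  map {M N} h := ModuleCat.ofHom (R := Localization.Away g) ((IsLocalizedModule.map (Submonoid.powers g)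
      (LocalizedModule.mkLinearMap (Submonoid.powers g) M)
      (LocalizedModule.mkLinearMap (Submonoid.powers g) N) h.hom).extendScalarsOfIsLocalization
        (Submonoid.powers g) (Localization.Away g))
  map_id M := ModuleCat.hom_ext (LinearMap.ext fun x =>
    congrArg (fun t => t.hom x) ((DerCA.locFunctor (Submonoid.powers g)).map_id M))
  map_comp {M N P} h h' := ModuleCat.hom_ext (LinearMap.ext fun x =>
    congrArg (fun t => t.hom x) ((DerCA.locFunctor (Submonoid.powers g)).map_comp h h'))

instance (g : A) : (locB g).Additive where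
  map_add {M N h h'} := ModuleCat.hom_ext (LinearMap.ext fun x =>
    congrArg (fun t => t.hom x) ((DerCA.locFunctor (Submonoid.powers g)).map_add (f := h) (g := h')))

/-- Forgetting the localised ring gives back `locFunctor`. -/
noncomputable def locBIso (g : A) :
    locB g ⋙ ModuleCat.restrictScalars (φA g).hom ≅ DerCA.locFunctor (Submonoid.powers g) :=
  NatIso.ofComponents (fun M => LinearEquiv.toModuleIso
    (X₁ := ((ModuleCat.restrictScalars (φA g).hom).obj ((locB g).obj M) : Type u))
    (X₂ := LocalizedModule (Submonoid.powers g) M)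
    (m₁ := ((ModuleCat.restrictScalars (φA g).hom).obj ((locB g).obj M)).isModule)
    { AddEquiv.refl (LocalizedModule (Submonoid.powers g) M) with
      map_smul' := fun (r : A) (x : LocalizedModule (Submonoid.powers g) M) =>
        algebraMap_smul (Localization.Away g) r x })
    (fun h => rfl)

/-- `K` vanishes on every `D(g)`, `g ∈ fs`. -/
def VanOn (fs : List A) (K : DCoh.D (Spec (CommRingCat.of A))) : Prop :=
  ∀ g ∈ fs, IsZero ((DCoh.restrictD (iota g)).obj K)

/-- The sheafified complex. -/
noncomputable abbrev E (M : ModuleCat.{u} A) (fs : List A) : DCoh.D (Spec (CommRingCat.of A)) :=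
  (DCoh.tildeD (CommRingCat.of A)).obj (DRing.toD (DerCA.extCech M fs))

/-- Nothing maps from a complex vanishing on `D(g)` to a complex of `A_g`-modules. -/
theorem eq_zero_of_locCx (g : A) (C : DRing.Cx A) (n : ℤ) {K : DCoh.D (Spec (CommRingCat.of A))}
    (hK : IsZero ((DCoh.restrictD (iota g)).obj K))
    (v : K ⟶ ((DCoh.tildeD (CommRingCat.of A)).obj
      (DRing.toD ((DerCA.locCx (Submonoid.powers g)).obj C)))⟦n⟧) : v = 0 := by
  let C' := ((locB g).mapHomologicalComplex (ComplexShape.up ℤ)).obj C
  let T := (DCoh.tildeD (CommRingCat.of (Localization.Away g))).obj (DerivedCategory.Q.obj C')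
  let e : (DCoh.tildeD (CommRingCat.of A)).obj (DRing.toD ((DerCA.locCx (Submonoid.powers g)).obj C)) ≅
      (DCoh.Rpush (iota g)).obj T :=
    (DCoh.tildeD (CommRingCat.of A)).mapIso
      (DerivedCategory.Q.mapIso ((NatIso.mapHomologicalComplex (locBIso g) (ComplexShape.up ℤ)).app C).symm ≪≫
        ((ModuleCat.restrictScalars (φA g).hom).mapDerivedCategoryFactors.app C').symm) ≪≫
      ((AffinePush.tildeD_Rpush_iso (φA g)).app (DerivedCategory.Q.obj C')).symm
  exact OpenImm.eq_zero_of_isZero_restrict (iota g) hK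
    ((shiftFunctor _ n).mapIso e ≪≫ (((DCoh.Rpush (iota g)).commShiftIso n).app T).symm) v

/-- Complexes vanishing on all `D(g)` see the Čech complex as the module. -/
theorem exists_hom_bijective (M : ModuleCat.{u} A) : ∀ fs : List A,
    ∃ a : E M fs ⟶ E M [], ∀ K : DCoh.D (Spec (CommRingCat.of A)), VanOn fs K →
      Function.Bijective (fun v : K ⟶ E M fs => v ≫ a)
  | [] => ⟨𝟙 _, fun K _ => ⟨fun v w e => by simpa using e, fun w => ⟨w, Category.comp_id w⟩⟩⟩
  | f :: fs => by
    obtain ⟨a, ha⟩ := exists_hom_bijective M fs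
    let u := DerCA.locCxUnit (Submonoid.powers f) (DerCA.extCech M fs)
    let T := (DCoh.tildeD (CommRingCat.of A)).mapTriangle.obj
      (DerivedCategory.Q.mapTriangle.obj (CochainComplex.mappingCocone.triangle u))
    have hT : T ∈ distTriang _ := (DCoh.tildeD (CommRingCat.of A)).map_distinguished _
      (DerivedCategory.mappingCocone_triangle_distinguished u)
    refine ⟨(show E M (f :: fs) ⟶ E M fs from T.mor₁) ≫ a, fun K hK => ?_⟩
    have hKf := hK f List.mem_cons_self
    have h := ha K fun g hg => hK g (List.mem_cons_of_mem f hg)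
    have h₁ : Function.Bijective (fun v : K ⟶ T.obj₁ => v ≫ T.mor₁) := by
      refine ⟨fun v w e => sub_eq_zero.1 ?_, fun w => ?_⟩
      · have h0 : (v - w) ≫ T.mor₁ = 0 := by
          rw [Preadditive.sub_comp]; exact sub_eq_zero.2 e
        obtain ⟨s, hs⟩ := Triangle.coyoneda_exact₂ _ (inv_rot_of_distTriang _ hT) (v - w) h0
        have : s = 0 := eq_zero_of_locCx f (DerCA.extCech M fs) (-1) hKf s
        rw [hs, this, zero_comp]
        rfl
      · obtain ⟨s, hs⟩ := Triangle.coyoneda_exact₂ _ hT w (by
          let η := (shiftFunctorZero (DCoh.D (Spec (CommRingCat.of A))) ℤ).app T.obj₃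
          have := eq_zero_of_locCx f (DerCA.extCech M fs) 0 hKf ((w ≫ T.mor₂) ≫ η.inv)
          simpa using this =≫ η.hom)
        exact ⟨s, hs.symm⟩
    have e : (fun v : K ⟶ E M (f :: fs) => v ≫ ((show E M (f :: fs) ⟶ E M fs from T.mor₁) ≫ a)) =
        (fun v : K ⟶ E M fs => v ≫ a) ∘ (fun v : K ⟶ T.obj₁ => v ≫ T.mor₁) :=
      funext fun v => (Category.assoc _ _ _).symm
    rw [e]
    exact h.comp h₁

/-- The cohomology of the sheafified Čech complex. -/
noncomputable def hdIso (M : ModuleCat.{u} A) (fs : List A) (i : ℤ) :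
    DCoh.HD (E M fs) i ≅ (tilde.functor (CommRingCat.of A)).obj (DerCA.extCechH fs M i) :=
  (DerivedCategory.homologyFunctor _ i).mapIso
      ((tilde.functor (CommRingCat.of A)).mapDerivedCategoryFactors.app (DerCA.extCech M fs)) ≪≫
    (DerivedCategory.homologyFunctorFactors _ i).app
      (((tilde.functor (CommRingCat.of A)).mapHomologicalComplex (ComplexShape.up ℤ)).obj
        (DerCA.extCech M fs)) ≪≫
    (show (((tilde.functor (CommRingCat.of A)).mapHomologicalComplex (ComplexShape.up ℤ)).obj
        (DerCA.extCech M fs)).homology i ≅ _ from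
      ((DerCA.extCech M fs).sc i).mapHomologyIso (tilde.functor (CommRingCat.of A)))

/-- Stalks of `N~` vanish where `N` is torsion. -/
theorem subsingleton_stalk {R : CommRingCat.{u}} (N : ModuleCat.{u} R) (x : Spec R) (g : R)
    (hx : g ∉ x.asIdeal) (h : ∀ m : N, ∃ n : ℕ, g ^ n • m = 0) :
    Subsingleton ((tilde N).presheaf.stalk x) := by
  refine subsingleton_of_forall_eq 0 fun y => ?_
  obtain ⟨⟨m, s⟩, hms⟩ := IsLocalizedModule.surj x.asIdeal.primeCompl (tilde.toStalk N x).hom y
  obtain ⟨n, hn⟩ := h m
  have h0 : (tilde.toStalk N x).hom m = 0 := by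
    have h1 := (tilde.toStalk N x).hom.map_smul (g ^ n) m
    rw [hn, map_zero] at h1
    exact ((Module.End.isUnit_iff _).1 (IsLocalizedModule.map_units (tilde.toStalk N x).hom
      (⟨g ^ n, fun hm => hx (x.2.mem_of_pow_mem n hm)⟩ : x.asIdeal.primeCompl))).1
        (h1.symm.trans (map_zero _).symm)
  rw [h0] at hms
  exact ((Module.End.isUnit_iff _).1 (IsLocalizedModule.map_units (tilde.toStalk N x).hom s)).1
    (hms.trans (map_zero _).symm)

/-- The Čech complex vanishes off `V(fs)`. -/
theorem not_mem_support (M : ModuleCat.{u} A) (fs : List A) (i : ℤ) (x : Spec (CommRingCat.of A))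
    (g : A) (hg : g ∈ fs) (hx : g ∉ x.asIdeal) : x ∉ CohB1.support (DCoh.HD (E M fs) i) := by
  rw [Modules.Support.support_congr (hdIso M fs i)]
  exact fun h => h (subsingleton_stalk (R := CommRingCat.of A) (DerCA.extCechH fs M i) x g hx fun m => by
    obtain ⟨n, -, hn⟩ := Groth.Agent.S9265.result A fs M i m
    exact ⟨n, hn g hg⟩)

/-- `K` vanishing on the punctured spectrum vanishes on each `D(g)`. -/
theorem vanOn_of_isZero (fs : List A) {K : DCoh.D (Spec (CommRingCat.of A))}
    (hK : IsZero ((DCoh.restrictD (LocCoh.puncturedOpen A (Ideal.span {a | a ∈ fs})).ι).obj K)) :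
    VanOn fs K := fun g hg => by
  refine OpenSupport.isZero_restrictD_of_support (iota g) K fun i w => ?_
  have hw : (iota g) w ∈ LocCoh.puncturedOpen A (Ideal.span {a | a ∈ fs}) := by
    intro h
    have h1 : g ∈ ((iota g) w).asIdeal := h (Ideal.subset_span hg)
    exact w.2.ne_top (Ideal.eq_top_of_isUnit_mem _ h1
      (IsLocalization.map_units (Localization.Away g) (⟨g, Submonoid.mem_powers g⟩ : Submonoid.powers g)))
  exact OpenImm.not_mem_support_of_isZero_restrict _ hK i ⟨_, hw⟩

/-- The Čech complex vanishes on the punctured spectrum. -/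
theorem isZero_restrict_E (M : ModuleCat.{u} A) (fs : List A) :
    IsZero ((DCoh.restrictD (LocCoh.puncturedOpen A (Ideal.span {a | a ∈ fs})).ι).obj (E M fs)) := by
  refine OpenSupport.isZero_restrictD_of_support _ _ fun i w => ?_
  have hw : (w.1 : Spec (CommRingCat.of A)) ∈ LocCoh.puncturedOpen A (Ideal.span {a | a ∈ fs}) := w.2
  obtain ⟨g, hg, hgx⟩ : ∃ g ∈ fs, g ∉ w.1.asIdeal := by
    by_contra! h
    exact hw (Ideal.span_le.2 fun a ha => h a ha)
  exact not_mem_support M fs i w.1 g hg hgx

/-- The Čech complex is `RΓ_Z`. -/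
theorem nonempty_iso (M : ModuleCat.{u} A) (fs : List A)
    [CxOX.HasRgammaZ (LocCoh.puncturedOpen A (Ideal.span {a | a ∈ fs})).ι] :
    Nonempty (E M fs ≅
      (CxOX.RgammaZ (LocCoh.puncturedOpen A (Ideal.span {a | a ∈ fs})).ι).obj (E M [])) := by
  let j := (LocCoh.puncturedOpen A (Ideal.span {a | a ∈ fs})).ι
  obtain ⟨a, ha⟩ := exists_hom_bijective M fs
  have hE := isZero_restrict_E M fs
  have hR := GammaZTriangle.isZero_restrict_RgammaZ j (E M [])
  obtain ⟨γ, hγ, -⟩ := GammaZTriangle.existsUnique_lift j hE a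
  obtain ⟨δ, hδ⟩ := (ha _ (vanOn_of_isZero fs hR)).2 ((CxOX.RgammaZToId j).app (E M []))
  dsimp only at hδ
  refine ⟨⟨γ, δ, (ha _ (vanOn_of_isZero fs hE)).1 ?_, ?_⟩⟩
  · show (γ ≫ δ) ≫ a = 𝟙 _ ≫ a
    rw [Category.assoc, hδ, hγ, Category.id_comp]
  · refine (GammaZTriangle.existsUnique_lift j hR ((CxOX.RgammaZToId j).app (E M []))).unique ?_
      (Category.id_comp _)
    exact (Category.assoc _ _ _).trans ((congrArg (δ ≫ ·) hγ).trans hδ)

end Groth.Agent.Lib.DerivedOX.ExtCechGammaZ
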