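import Groth.Agent.Lib.DerivedOX.OpenImm
import Groth.Agent.Lib.DerivedOX.Exists
import Groth.Agent.Lib.CohDelta.Flasque

/-!
# The triangle `RΓ_Z K ⟶ K ⟶ Rj_*(K|_U)` and the universal property of `RΓ_Z`

* `exists_triangle`: the triangle, whose first map is `CxOX.RgammaZToId`.
* `existsUnique_lift`: maps from objects vanishing on `U` lift uniquely to `RΓ_Z`.
* `isIso_lift`: recognition of `RΓ_Z`.
-/

set_option autoImplicit false

universe u

open CategoryTheory Limits AlgebraicGeometry Opposite Pretriangulated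

attribute [local instance] HasDerivedCategory.standard

set_option linter.style.haveILetI false

namespace Groth.Agent.Lib.DerivedOX.GammaZTriangle

open RightDerived

variable {U X : Scheme.{u}} (j : U ⟶ X) [IsOpenImmersion j]

/-- `Γ_Z` termwise. -/
noncomputable abbrev ΓC : CochainComplex X.Modules ℤ ⥤ CochainComplex X.Modules ℤ :=
  (DCoh.gammaZ j).mapHomologicalComplex (ComplexShape.up ℤ)

/-- `j_* j^*` termwise. -/
noncomputable abbrev PC : CochainComplex X.Modules ℤ ⥤ CochainComplex X.Modules ℤ :=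
  (Scheme.Modules.restrictFunctor j ⋙ Scheme.Modules.pushforward j).mapHomologicalComplex
    (ComplexShape.up ℤ)

theorem epi_unit_of_injective (M : X.Modules) [Injective M] :
    Epi ((Scheme.Modules.restrictAdjunction j).unit.app M) := by
  haveI : Epi ((Scheme.Modules.toPresheaf X).map ((Scheme.Modules.restrictAdjunction j).unit.app M)) := by
    haveI : ∀ O, Epi (((Scheme.Modules.toPresheaf X).map
        ((Scheme.Modules.restrictAdjunction j).unit.app M)).app O) := fun O =>
      (AddCommGrpCat.epi_iff_surjective _).2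
        (CohDelta.Flasque.surjective_res M (j.image_preimage_le O.unop))
    exact NatTrans.epi_of_epi_app _
  exact (Scheme.Modules.toPresheaf X).epi_of_epi_map ‹_›

/-- `Γ_Z I ⟶ I ⟶ j_* j^* I`. -/
noncomputable abbrev seq (I : CochainComplex X.Modules ℤ) :
    ShortComplex (CochainComplex X.Modules ℤ) :=
  ShortComplex.mk ((NatTrans.mapHomologicalComplex (CxOX.gammaZι j) (ComplexShape.up ℤ)).app I ≫
      (Functor.mapHomologicalComplexIdIso X.Modules (ComplexShape.up ℤ)).hom.app I)
    ((Functor.mapHomologicalComplexIdIso X.Modules (ComplexShape.up ℤ)).inv.app I ≫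
      (NatTrans.mapHomologicalComplex (Scheme.Modules.restrictAdjunction j).unit (ComplexShape.up ℤ)).app I)
    (HomologicalComplex.hom_ext _ _ fun n => by
      simp [CxOX.gammaZι]
      exact kernel.condition _)

theorem shortExact_seq (I : CochainComplex X.Modules ℤ) (hI : ∀ n, Injective (I.X n)) :
    (seq j I).ShortExact := by
  refine HomologicalComplex.shortExact_of_degreewise_shortExact _ fun n => ?_
  haveI := hI n
  haveI := epi_unit_of_injective j (I.X n)
  let u := (Scheme.Modules.restrictAdjunction j).unit.app (I.X n)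
  let S := ShortComplex.mk (kernel.ι u) u (kernel.condition u)
  have hS : S.ShortExact :=
    { exact := ShortComplex.exact_of_f_is_kernel _ (kernelIsKernel u)
      mono_f := inferInstanceAs (Mono (kernel.ι u))
      epi_g := ‹_› }
  refine ShortComplex.shortExact_of_iso (ShortComplex.isoMk (Iso.refl _) (Iso.refl _) (Iso.refl _) ?_ ?_) hS
  · simp [S, u, CxOX.gammaZι]
  · simp [S, u]

variable [CxOX.HasRgammaZ j]

/-- The comparison `Γ_Z I ≅ RΓ_Z I`. -/
noncomputable def compIso (I : CochainComplex X.Modules ℤ) [I.IsKInjective] :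
    DerivedCategory.Q.obj ((ΓC j).obj I) ≅ (CxOX.RgammaZ j).obj (DerivedCategory.Q.obj I) :=
  ((DerivedCategory.quotientCompQhIso X.Modules).app ((ΓC j).obj I)).symm ≪≫
    @asIso _ _ _ _ (((CxOX.gammaZKh j).totalRightDerivedUnit DerivedCategory.Qh
      (HomotopyCategory.quasiIso X.Modules (ComplexShape.up ℤ))).app
        ((HomotopyCategory.quotient X.Modules (ComplexShape.up ℤ)).obj I))
      (isIso_totalRightDerivedUnit_app_of_isKInjective (CxOX.gammaZKh j) I) ≪≫
    (CxOX.RgammaZ j).mapIso ((DerivedCategory.quotientCompQhIso X.Modules).app I)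

theorem compIso_hom_toId (I : CochainComplex X.Modules ℤ) [I.IsKInjective] :
    (compIso j I).hom ≫ (CxOX.RgammaZToId j).app (DerivedCategory.Q.obj I) =
      DerivedCategory.Q.map (seq j I).f := by
  let q := HomotopyCategory.quotient X.Modules (ComplexShape.up ℤ)
  let e := DerivedCategory.quotientCompQhIso X.Modules
  have hfac := congrArg (fun t => NatTrans.app t (q.obj I))
    ((CxOX.RgammaZ j).rightDerived_fac
      ((CxOX.gammaZKh j).totalRightDerivedUnit DerivedCategory.Qh
        (HomotopyCategory.quasiIso X.Modules (ComplexShape.up ℤ)))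
      (HomotopyCategory.quasiIso X.Modules (ComplexShape.up ℤ)) (𝟭 (DCoh.D X))
      (CxOX.gammaZKhι j ≫ (Functor.rightUnitor _).inv))
  simp only [NatTrans.comp_app, Functor.whiskerLeft_app, Functor.rightUnitor_inv_app] at hfac
  have hk : (CxOX.gammaZKhι j).app (q.obj I) = DerivedCategory.Qh.map (q.map (seq j I).f) := by
    simp [CxOX.gammaZKhι, q, seq, Quotient.natTransLift]
    erw [Category.comp_id]
    exact (congrArg (· ≫ _) (CategoryTheory.Functor.map_id _ _)).trans (Category.id_comp _)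
  have hn := (CxOX.RgammaZToId j).naturality (e.hom.app I)
  have hq := e.hom.naturality (seq j I).f
  simp only [compIso, Iso.trans_hom, asIso_hom, Functor.mapIso_hom, Iso.symm_hom, Iso.app_inv,
    Iso.app_hom, Category.assoc]
  erw [hn]
  erw [reassoc_of% hfac]
  erw [hk]
  erw [Category.comp_id]
  exact (e.inv.naturality (seq j I).f).symm.trans (Category.comp_id _)

/-- The triangle `RΓ_Z E ⟶ E ⟶ Rj_*(E|_U)`. -/
theorem exists_triangle [DCoh.HasRpush j] (E : DCoh.D X) :
    ∃ (R : DCoh.D X) (_ : R ≅ (DCoh.Rpush j).obj ((DCoh.restrictD j).obj E)) (φ : E ⟶ R)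
      (δ : R ⟶ ((CxOX.RgammaZ j).obj E)⟦(1 : ℤ)⟧),
      Triangle.mk ((CxOX.RgammaZToId j).app E) φ δ ∈ distTriang (DCoh.D X) := by
  let K := DerivedCategory.Q.objPreimage E
  obtain ⟨I, i, hI, hi, -, hinj⟩ := DerCat.KInjExists.exists_kInjective_resolution K
  haveI := hI
  haveI := hi
  let eE : E ≅ DerivedCategory.Q.obj I :=
    (DerivedCategory.Q.objObjPreimageIso E).symm ≪≫ asIso (DerivedCategory.Q.map i)
  let I' := ((Scheme.Modules.restrictFunctor j).mapHomologicalComplex (ComplexShape.up ℤ)).obj I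
  haveI : CochainComplex.IsKInjective I' := OpenImm.isKInjective_restrict j hI
  let eR : DerivedCategory.Q.obj ((PC j).obj I) ≅
      (DCoh.Rpush j).obj ((DCoh.restrictD j).obj E) :=
    ((DerivedCategory.quotientCompQhIso X.Modules).app ((PC j).obj I)).symm ≪≫
    @asIso _ _ _ _ (((DCoh.pushKh j).totalRightDerivedUnit DerivedCategory.Qh
      (HomotopyCategory.quasiIso U.Modules (ComplexShape.up ℤ))).app
        ((HomotopyCategory.quotient U.Modules (ComplexShape.up ℤ)).obj I'))
      (isIso_totalRightDerivedUnit_app_of_isKInjective (DCoh.pushKh j) I') ≪≫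
    (DCoh.Rpush j).mapIso ((DerivedCategory.quotientCompQhIso _).app I' ≪≫
      ((Scheme.Modules.restrictFunctor j).mapDerivedCategoryFactors.app I).symm ≪≫
      ((DCoh.restrictD j).mapIso eE).symm)
  let T := DerivedCategory.triangleOfSES (shortExact_seq j I hinj)
  have hT : T ∈ distTriang _ := DerivedCategory.triangleOfSES_distinguished (shortExact_seq j I hinj)
  let e₁ : (CxOX.RgammaZ j).obj E ≅ T.obj₁ := (CxOX.RgammaZ j).mapIso eE ≪≫ (compIso j I).symm
  refine ⟨T.obj₃, eR, eE.hom ≫ T.mor₂, T.mor₃ ≫ e₁.inv⟦(1 : ℤ)⟧',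
    isomorphic_distinguished _ hT _ (Triangle.isoMk _ _ e₁ eE (Iso.refl _) ?_ ?_ ?_)⟩
  · change (CxOX.RgammaZToId j).app E ≫ eE.hom = e₁.hom ≫ DerivedCategory.Q.map (seq j I).f
    rw [← compIso_hom_toId j I]
    simp only [e₁, Iso.trans_hom, Functor.mapIso_hom, Iso.symm_hom, Category.assoc]
    exact ((CxOX.RgammaZToId j).naturality eE.hom).symm.trans
      (congrArg ((CxOX.RgammaZ j).map eE.hom ≫ ·) (Iso.inv_hom_id_assoc (compIso j I) _).symm)
  · change (eE.hom ≫ T.mor₂) ≫ 𝟙 _ = eE.hom ≫ T.mor₂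
    simp
  · change (T.mor₃ ≫ e₁.inv⟦(1 : ℤ)⟧') ≫ e₁.hom⟦(1 : ℤ)⟧' = 𝟙 _ ≫ T.mor₃
    simp [← Functor.map_comp]

/-- `RΓ_Z E` vanishes on `U`. -/
theorem isZero_restrict_RgammaZ (E : DCoh.D X) :
    IsZero ((DCoh.restrictD j).obj ((CxOX.RgammaZ j).obj E)) := by
  let K := DerivedCategory.Q.objPreimage E
  obtain ⟨I, i, hI, hi⟩ := DerCat.KInjExists.hasKInjRes K
  haveI := hI
  haveI := hi
  let eE : E ≅ DerivedCategory.Q.obj I :=
    (DerivedCategory.Q.objObjPreimageIso E).symm ≪≫ asIso (DerivedCategory.Q.map i)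
  let R := Scheme.Modules.restrictFunctor j
  let Z := (R.mapHomologicalComplex (ComplexShape.up ℤ)).obj ((ΓC j).obj I)
  have hZ : ∀ n, IsZero (Z.X n) := fun n => by
    haveI := OpenImm.isIso_restrict_unit j (I.X n)
    let u := (Scheme.Modules.restrictAdjunction j).unit.app (I.X n)
    have h0 : R.map (kernel.ι u) ≫ R.map u = 0 := by
      rw [← Functor.map_comp, kernel.condition, Functor.map_zero]
    haveI : PreservesFiniteLimits R := CxOX.preservesFiniteLimits_restrictFunctor j
    exact @IsZero.of_mono_eq_zero _ _ _ _ _ (R.map (kernel.ι u))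
      (@Functor.map_mono _ _ _ _ R inferInstance _ _ _ equalizer.ι_mono)
      ((cancel_mono (R.map u)).1 (h0.trans zero_comp.symm))
  have hZ' : IsZero Z := (IsZero.iff_id_eq_zero _).2
    (HomologicalComplex.hom_ext _ _ fun n => (hZ n).eq_of_src _ _)
  exact (DerivedCategory.Q.map_isZero hZ').of_iso
    ((DCoh.restrictD j).mapIso ((CxOX.RgammaZ j).mapIso eE ≪≫ (compIso j I).symm) ≪≫
      R.mapDerivedCategoryFactors.app _)

variable [DCoh.HasRpush j]

/-- Maps from objects vanishing on `U` lift uniquely to `RΓ_Z`. -/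
theorem existsUnique_lift {K E : DCoh.D X} (hK : IsZero ((DCoh.restrictD j).obj K)) (f : K ⟶ E) :
    ∃! g : K ⟶ (CxOX.RgammaZ j).obj E, g ≫ (CxOX.RgammaZToId j).app E = f := by
  obtain ⟨R, e, φ, δ, hT⟩ := exists_triangle j E
  obtain ⟨(g : K ⟶ (CxOX.RgammaZ j).obj E), (hg : f = g ≫ (CxOX.RgammaZToId j).app E)⟩ :=
    Triangle.coyoneda_exact₂ _ hT f (OpenImm.eq_zero_of_isZero_restrict j hK e _)
  refine ⟨g, hg.symm, fun g' hg' => sub_eq_zero.1 ?_⟩
  have h0 : (g' - g) ≫ (CxOX.RgammaZToId j).app E = 0 := by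
    rw [Preadditive.sub_comp, sub_eq_zero]
    exact hg'.trans hg
  have hinv := inv_rot_of_distTriang _ hT
  obtain ⟨s, hs⟩ := Triangle.coyoneda_exact₂ _ hinv (g' - g) h0
  rw [hs]
  have : s = 0 := OpenImm.eq_zero_of_isZero_restrict j hK
    ((shiftFunctor (DCoh.D X) (-1 : ℤ)).mapIso e ≪≫
      ((DCoh.Rpush j).commShiftIso (-1 : ℤ)).symm.app _) s
  rw [this, zero_comp]
  rfl

/-- Recognition: if `A ⟶ E` has `A` vanishing on `U` and a cone receiving no map from such objects,
the induced map to `RΓ_Z E` is an isomorphism. -/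
theorem isIso_lift {A E : DCoh.D X} (hA : IsZero ((DCoh.restrictD j).obj A))
    {C : DCoh.D X} {a : A ⟶ E} {b : E ⟶ C} {c : C ⟶ A⟦(1 : ℤ)⟧}
    (hT : Triangle.mk a b c ∈ distTriang (DCoh.D X)) {F : DCoh.D U} (eC : C ≅ (DCoh.Rpush j).obj F)
    (α : A ⟶ (CxOX.RgammaZ j).obj E) (hα : α ≫ (CxOX.RgammaZToId j).app E = a) : IsIso α := by
  have hΓ := isZero_restrict_RgammaZ j E
  obtain ⟨(β : (CxOX.RgammaZ j).obj E ⟶ A), (hβ : (CxOX.RgammaZToId j).app E = β ≫ a)⟩ :=
    Triangle.coyoneda_exact₂ _ hT ((CxOX.RgammaZToId j).app E)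
    (OpenImm.eq_zero_of_isZero_restrict j hΓ eC _)
  refine ⟨β, ?_, ?_⟩
  · have h0 : (α ≫ β - 𝟙 A) ≫ a = 0 := by
      rw [Preadditive.sub_comp, Category.assoc, Category.id_comp]
      exact sub_eq_zero.2 ((congrArg (α ≫ ·) hβ.symm).trans hα)
    obtain ⟨s, hs⟩ := Triangle.coyoneda_exact₂ _ (inv_rot_of_distTriang _ hT) (α ≫ β - 𝟙 A) h0
    have : s = 0 := OpenImm.eq_zero_of_isZero_restrict j hA
      ((shiftFunctor (DCoh.D X) (-1 : ℤ)).mapIso eC ≪≫
        ((DCoh.Rpush j).commShiftIso (-1 : ℤ)).symm.app _) s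
    rw [this, zero_comp] at hs
    exact sub_eq_zero.1 hs
  · refine (existsUnique_lift j hΓ ((CxOX.RgammaZToId j).app E)).unique ?_ (Category.id_comp _)
    exact (Category.assoc _ _ _).trans ((congrArg (β ≫ ·) hα).trans hβ.symm)

end Groth.Agent.Lib.DerivedOX.GammaZTriangle
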