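import Groth.Agent.Lib.DerivedOX.UnitTensor
import Groth.Agent.Lib.DerivedOX.TensorCoprod

/-!
# The projection map

For a K-injective `I` on `X` and a quasi-isomorphism `g : B ⟶ f_*I`, a natural transformation
`projMap : - ⊗^L B ⟶ Rf_*(Lf^*- ⊗^L I)`, invertible at every `𝒪[-n]`.
-/

set_option autoImplicit false
set_option linter.unusedSectionVars false
set_option linter.style.haveILetI false

universe u

open CategoryTheory Limits AlgebraicGeometry HomologicalComplex

attribute [local instance] HasDerivedCategory.standard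

namespace Groth.Agent.Lib.DerivedOX.ProjectionMap

open UnitTensor PullTranspose

variable {X Y : Scheme.{u}} (f : X ⟶ Y) [DCoh.HasLpull f] [DCoh.HasRpush f]
  {B : CochainComplex Y.Modules ℤ} {I : CochainComplex X.Modules ℤ}
  (g : B ⟶ (GammaAcyclic.pushC f).obj I)
  [DCoh.HasLTensorCx B] [DCoh.HasLTensorCx I]

/-- The chain map `f^*B ⟶ I`, corrected by the comparison of unit isomorphisms. -/
noncomputable def twisted : (pullC f).obj B ⟶ I :=
  (corrC f B).inv ≫ ((adjCx f).homEquiv B I).symm g

/-- The counit `K ⊗^L F ⟶ K ⊗ F`. -/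
noncomputable abbrev tensorCounit {Z : Scheme.{u}} (F : CochainComplex Z.Modules ℤ)
    [DCoh.HasLTensorCx F] : DerivedCategory.Q ⋙ DCoh.LTensorCx F ⟶ DCoh.tensorCxQ F :=
  (DCoh.tensorCxQ F).totalLeftDerivedCounit DerivedCategory.Q
    (HomologicalComplex.quasiIso Z.Modules (.up ℤ))

theorem isIso_tensorCounit {Z : Scheme.{u}} (F : CochainComplex Z.Modules ℤ)
    [DCoh.HasLTensorCx F] {P : CochainComplex Z.Modules ℤ} (hP : DCoh.IsKFlat P) :
    IsIso ((tensorCounit F).app P) :=
  TensorCoprod.isIso_counit_app_of_isKFlat F (DCoh.LTensorCx F) (tensorCounit F) hP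

/-- `K ⊗ B` pulled back, mapped to `f^*K ⊗ I`. -/
noncomputable def compare (K : CochainComplex Y.Modules ℤ) :
    (pullC f).obj (tC K B) ⟶ tC ((pullC f).obj K) I :=
  (pullIso f K B).hom ≫ (DCoh.tensorCx.obj ((pullC f).obj K)).map (twisted f g)

lemma compare_natural {K K' : CochainComplex Y.Modules ℤ} (φ : K ⟶ K') :
    (pullC f).map ((DCoh.tensorCx.map φ).app B) ≫ compare f g K' =
      compare f g K ≫ (DCoh.tensorCx.map ((pullC f).map φ)).app I := by
  have h := BifunctorMap.totalIso_natural (PullTensor.pullComparison f) φ (𝟙 B)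
  have h' : (pullC f).map ((DCoh.tensorCx.map φ).app B) ≫ (pullIso f K' B).hom =
      (pullIso f K B).hom ≫ (DCoh.tensorCx.map ((pullC f).map φ)).app ((pullC f).obj B) := by
    rw [← cancel_epi (PullTensor.pullTensorIso f K B).hom,
      ← cancel_mono (PullTensor.pullTensorIso f K' B).hom]
    simp only [Category.assoc, Iso.symm_hom, Iso.inv_hom_id, Category.comp_id,
      Iso.hom_inv_id_assoc]
    refine Eq.trans h.symm ?_
    simp only [CategoryTheory.Functor.map_id]
    rfl
  rw [compare, compare, reassoc_of% h', Category.assoc]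
  exact congrArg _ ((DCoh.tensorCx.map ((pullC f).map φ)).naturality (twisted f g)).symm

/-- The first half of the comparison, before inverting. -/
noncomputable def left : DerivedCategory.Q ⋙ DCoh.LTensorCx B ⋙ DCoh.Lpull f ⟶
    pullC f ⋙ DCoh.tensorCxQ I where
  app K := (DCoh.Lpull f).map ((tensorCounit B).app K) ≫ (counitCx f).app (tC K B) ≫
    DerivedCategory.Q.map (compare f g K)
  naturality {K K'} φ := by
    have h1 := (tensorCounit B).naturality φ
    have h2 := (counitCx f).naturality ((DCoh.tensorCx.map φ).app B)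
    dsimp [DCoh.tensorCxQ] at h1 h2 ⊢
    rw [← (DCoh.Lpull f).map_comp_assoc, h1, Functor.map_comp, Category.assoc]
    erw [reassoc_of% h2]
    simp only [Category.assoc, ← Functor.map_comp]
    congr 3
    exact compare_natural f g φ

/-- The second half of the comparison, invertible at K-flat complexes. -/
noncomputable def right : DerivedCategory.Q ⋙ DCoh.Lpull f ⋙ DCoh.LTensorCx I ⟶
    pullC f ⋙ DCoh.tensorCxQ I :=
  (Functor.associator _ _ _).inv ≫ Functor.whiskerRight (counitCx f) (DCoh.LTensorCx I) ≫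
    (Functor.associator _ _ _).hom ≫ Functor.whiskerLeft (pullC f) (tensorCounit I)

theorem isIso_right {K : CochainComplex Y.Modules ℤ} (hK : DCoh.IsKFlat K) :
    IsIso ((right f (I := I)).app K) := by
  haveI := isIso_counitCx f hK
  haveI := isIso_tensorCounit I (KFlatPullback.isKFlat_pullback f hK)
  simp only [right, NatTrans.comp_app, Functor.whiskerRight_app, Functor.whiskerLeft_app,
    Functor.associator_inv_app, Functor.associator_hom_app, Category.id_comp]
  infer_instance

/-- The adjoint of the projection map, on complexes. -/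
noncomputable def preMap : DerivedCategory.Q ⋙ DCoh.LTensorCx B ⋙ DCoh.Lpull f ⟶
    DerivedCategory.Q ⋙ DCoh.Lpull f ⋙ DCoh.LTensorCx I :=
  haveI : IsIso (Functor.whiskerRight (KFlat.aug Y)
      (DerivedCategory.Q ⋙ DCoh.LTensorCx B ⋙ DCoh.Lpull f)) := by
    haveI : ∀ K, IsIso ((Functor.whiskerRight (KFlat.aug Y)
        (DerivedCategory.Q ⋙ DCoh.LTensorCx B ⋙ DCoh.Lpull f)).app K) := fun K => by
      haveI : QuasiIso ((KFlat.aug Y).app K) := KFlat.quasiIso_aug K
      haveI : IsIso (DerivedCategory.Q.map ((KFlat.aug Y).app K)) := inferInstance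
      exact inferInstanceAs (IsIso ((DCoh.LTensorCx B ⋙ DCoh.Lpull f).map
        (DerivedCategory.Q.map ((KFlat.aug Y).app K))))
    exact NatIso.isIso_of_isIso_app _
  haveI : IsIso (Functor.whiskerLeft (KFlat.res Y) (right f (I := I))) := by
    haveI : ∀ K, IsIso ((Functor.whiskerLeft (KFlat.res Y) (right f (I := I))).app K) := fun K =>
      isIso_right f (KFlat.isKFlat_res K)
    exact NatIso.isIso_of_isIso_app _
  (Functor.leftUnitor _).inv ≫
    inv (Functor.whiskerRight (KFlat.aug Y) (DerivedCategory.Q ⋙ DCoh.LTensorCx B ⋙ DCoh.Lpull f)) ≫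
    Functor.whiskerLeft (KFlat.res Y) (left f g) ≫
    inv (Functor.whiskerLeft (KFlat.res Y) (right f (I := I))) ≫
    Functor.whiskerRight (KFlat.aug Y) (DerivedCategory.Q ⋙ DCoh.Lpull f ⋙ DCoh.LTensorCx I) ≫
    (Functor.leftUnitor _).hom

theorem preMap_comp_right (K : CochainComplex Y.Modules ℤ) :
    (preMap f g).app K ≫ (right f).app K = (left f g).app K := by
  have hl := (left f g).naturality ((KFlat.aug Y).app K)
  have hr := (right f (I := I)).naturality ((KFlat.aug Y).app K)
  haveI := isIso_right f (I := I) (KFlat.isKFlat_res (X := Y) K)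
  haveI : QuasiIso ((KFlat.aug Y).app K) := KFlat.quasiIso_aug K
  simp only [preMap, NatTrans.comp_app, NatIso.isIso_inv_app, Functor.whiskerLeft_app,
    Functor.whiskerRight_app, Functor.leftUnitor_inv_app, Functor.leftUnitor_hom_app,
    Category.id_comp, Category.comp_id, Category.assoc]
  erw [Category.id_comp, hr]
  rw [IsIso.inv_hom_id_assoc]
  erw [← hl]
  simp

/-- The adjoint of the projection map. -/
noncomputable def adjMap : DCoh.LTensorCx B ⋙ DCoh.Lpull f ⟶ DCoh.Lpull f ⋙ DCoh.LTensorCx I :=
  letI : Localization.Lifting DerivedCategory.Q (quasiIso Y.Modules (.up ℤ))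
      (DerivedCategory.Q ⋙ DCoh.LTensorCx B ⋙ DCoh.Lpull f) (DCoh.LTensorCx B ⋙ DCoh.Lpull f) :=
    ⟨Iso.refl _⟩
  letI : Localization.Lifting DerivedCategory.Q (quasiIso Y.Modules (.up ℤ))
      (DerivedCategory.Q ⋙ DCoh.Lpull f ⋙ DCoh.LTensorCx I) (DCoh.Lpull f ⋙ DCoh.LTensorCx I) :=
    ⟨Iso.refl _⟩
  Localization.liftNatTrans DerivedCategory.Q (quasiIso Y.Modules (.up ℤ)) _ _ _ _ (preMap f g)

lemma adjMap_app (K : CochainComplex Y.Modules ℤ) :
    (adjMap f g).app (DerivedCategory.Q.obj K) = (preMap f g).app K := by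
  simp [adjMap, Localization.liftNatTrans_app, Localization.Lifting.iso]

/-- The projection map. -/
noncomputable def projMap : DCoh.LTensorCx B ⟶ DCoh.Lpull f ⋙ DCoh.LTensorCx I ⋙ DCoh.Rpush f where
  app K := (PullPushAdj.derivedAdjunction f).homEquiv _ _ ((adjMap f g).app K)
  naturality {K K'} φ := by
    refine ((PullPushAdj.derivedAdjunction f).homEquiv_naturality_left _ _).symm.trans (Eq.trans ?_
      ((PullPushAdj.derivedAdjunction f).homEquiv_naturality_right _ _))
    exact congrArg _ ((adjMap f g).naturality φ)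

variable [I.IsKInjective] [QuasiIso g]

/-- The projection map is invertible at the shifts of `𝒪`. -/
theorem isIso_projMap_one (n : ℤ) :
    IsIso ((projMap f g).app (DerivedCategory.Q.obj (one Y n))) := by
  have hflat : DCoh.IsKFlat (one Y n) := GammaAcyclic.isKFlat_single (fun x => by
    exact Module.Flat.of_linearEquiv (BettiExact.TorComp.stalkUnitEquiv Y x)) n
  let ψ : tC ((pullC f).obj (one Y n)) I ≅ I⟦-n⟧ :=
    (DCoh.tensorCx.mapIso (pullOneIso f n)).app I ≪≫ unitShiftIso n I
  haveI : (I⟦-n⟧).IsKInjective := inferInstance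
  let γ : (pullC f).obj (tC (one Y n) B) ⟶ I⟦-n⟧ := compare f g (one Y n) ≫ ψ.hom
  -- `γ` is adjoint to a quasi-isomorphism
  have hγ : ∀ m, ((adjCx f).homEquiv _ _ γ).f m = (unitShiftIso n B).hom.f m ≫ g.f (m + -n) := by
    intro m
    let padj := Scheme.Modules.pullbackPushforwardAdjunction f
    refine (padj.homEquiv _ _).symm.injective ?_
    have e1 : (padj.homEquiv _ _).symm (((adjCx f).homEquiv _ _ γ).f m) = γ.f m := by
      rw [Equiv.symm_apply_eq]
      simp [Adjunction.homEquiv_unit, padj]
      rfl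
    rw [e1]
    refine Eq.trans ?_ (padj.homEquiv_naturality_left_symm _ _).symm
    have e2 : (padj.homEquiv _ _).symm (g.f (m + -n)) =
        (((adjCx f).homEquiv B I).symm g).f (m + -n) := by
      simp [Adjunction.homEquiv_counit, padj]
      rfl
    refine Eq.trans ?_ (congrArg (_ ≫ ·) e2.symm)
    have hn := congrArg (fun t => t.f m) (unitShiftIso_natural n (twisted f g))
    have hp := pull_unitShiftIso f n B m
    have htw : (corr f (B.X (m + -n))).hom ≫ (twisted f g).f (m + -n) =
        (((adjCx f).homEquiv B I).symm g).f (m + -n) := by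
      rw [twisted, HomologicalComplex.comp_f]
      exact Iso.hom_inv_id_assoc (corr f (B.X (m + -n))) _
    dsimp at hn
    rw [← htw]
    refine Eq.trans ?_ (Category.assoc _ _ _)
    rw [hp]
    simp only [γ, ψ, compare, Iso.trans_hom, Iso.app_hom, Functor.mapIso_hom,
      HomologicalComplex.comp_f, Category.assoc]
    refine Eq.trans (congrArg (fun t => (pullIso f (one Y n) B).hom.f m ≫ t) ?_)
      ((congrArg ((pullIso f (one Y n) B).hom.f m ≫ ·) (Category.assoc _ _ _).symm).trans
        (Category.assoc _ _ _).symm)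
    have hnat := congrArg (fun t => t.f m)
      ((DCoh.tensorCx.map (pullOneIso f n).hom).naturality (twisted f g))
    dsimp at hnat
    rw [reassoc_of% hnat]
    exact congrArg (_ ≫ ·) hn
  haveI : QuasiIso ((adjCx f).homEquiv _ _ γ) := by
    have hz : (adjCx f).homEquiv _ _ γ = (unitShiftIso n B).hom ≫
        (shiftFunctor (CochainComplex Y.Modules ℤ) (-n)).map g ≫
          (((Scheme.Modules.pushforward f).mapCochainComplexShiftIso (-n)).app I).inv :=
      HomologicalComplex.hom_ext _ _ fun m => by
        rw [hγ m]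
        simp [Functor.mapCochainComplexShiftIso]
        rfl
    haveI : QuasiIso ((shiftFunctor (CochainComplex Y.Modules ℤ) (-n)).map g) := inferInstance
    rw [hz]
    infer_instance
  haveI := isIso_transpose f γ
  haveI := isIso_tensorCounit B hflat
  haveI := isIso_right f (I := I) hflat
  haveI : IsIso ((PullPushAdj.derivedAdjunction f).homEquiv _ _
      ((left f g).app (one Y n) ≫ DerivedCategory.Q.map ψ.hom)) := by
    have : (left f g).app (one Y n) ≫ DerivedCategory.Q.map ψ.hom =
        (DCoh.Lpull f).map ((tensorCounit B).app (one Y n)) ≫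
          ((counitCx f).app (tC (one Y n) B) ≫ DerivedCategory.Q.map γ) := by
      simp [left, γ]
    rw [this, Adjunction.homEquiv_naturality_left]
    exact @IsIso.comp_isIso _ _ _ _ _ _ _ inferInstance (by assumption)
  have he : (PullPushAdj.derivedAdjunction f).homEquiv _ _
      ((left f g).app (one Y n) ≫ DerivedCategory.Q.map ψ.hom) =
      (projMap f g).app (DerivedCategory.Q.obj (one Y n)) ≫
        (DCoh.Rpush f).map ((right f).app (one Y n) ≫ DerivedCategory.Q.map ψ.hom) := by
    rw [← preMap_comp_right f g, Category.assoc, Adjunction.homEquiv_naturality_right,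
      ← adjMap_app]
    rfl
  haveI : IsIso ((projMap f g).app (DerivedCategory.Q.obj (one Y n)) ≫
      (DCoh.Rpush f).map ((right f).app (one Y n) ≫ DerivedCategory.Q.map ψ.hom)) := by
    rw [← he]; infer_instance
  exact IsIso.of_isIso_comp_right _
    ((DCoh.Rpush f).map ((right f).app (one Y n) ≫ DerivedCategory.Q.map ψ.hom))

end Groth.Agent.Lib.DerivedOX.ProjectionMap
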