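import Groth.Agent.Lib.DerivedOX.SplitFibre
import Groth.Agent.Lib.DerivedOX.AmplitudeStalk
import Groth.Agent.Lib.SchColim29.RpushPerfect
import Groth.Agent.Lib.PerfVanish.Affine
import Groth.Agent.Lib.Perfect.QCohD
import Groth.Agent.Lib.DR.FibreApp
import Groth.Agent.Lib.DR.ProjAmp
import Groth.Agent.Lib.DR.BaseChangeU
import Groth.Agent.S1055
import Groth.Agent.S1105
import Groth.Agent.S7243

/-!
# `Rf_* O = O ⊕ P` over an affine base

For `f` proper flat of finite presentation over an affine scheme with `H⁰` of each fibre equal to the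
residue field, the cone of `O ⟶ Rf_*O` has projective amplitude in `[1, b]`, so it splits off.
-/

set_option autoImplicit false
set_option linter.style.haveILetI false
set_option linter.unusedSectionVars false
set_option maxHeartbeats 1000000

universe u

open CategoryTheory Limits AlgebraicGeometry Pretriangulated

attribute [local instance] HasDerivedCategory.standard
attribute [local instance] Groth.Agent.Lib.DerivedOX.LeftExists.hasLpull
  Groth.Agent.Lib.DerivedOX.Exists.hasRpush

namespace Groth.Agent.Lib.DerivedOX.SplitAffine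

open Groth.Agent.Lib SplitFibre
open Groth.Agent.Lib.DR.Basic Groth.Agent.Lib.DR.FiniteComplex Groth.Agent.Lib.DR.PseudoCoherent

variable {X S : Scheme.{u}}

theorem additive_tilde (R : CommRingCat.{u}) : (tilde.functor R).Additive := inferInstance

local instance {A : Type u} [CommRing A] : (tilde.functor (CommRingCat.of A)).Additive :=
  additive_tilde _

theorem preservesFiniteColimits_tilde (R : CommRingCat.{u}) :
    PreservesFiniteColimits (tilde.functor R) := inferInstance

local instance {A : Type u} [CommRing A] : PreservesFiniteColimits (tilde.functor (CommRingCat.of A)) :=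
  preservesFiniteColimits_tilde _

/-- The functions on the fibre over a field-valued point which is a preimmersion. -/
theorem isIso_appTop_of_preimmersion {k : Type u} [Field k] (σ : Spec (CommRingCat.of k) ⟶ S)
    [IsPreimmersion σ] {X' : Scheme.{u}} {f : X ⟶ S} {f' : X' ⟶ Spec (CommRingCat.of k)}
    {g' : X' ⟶ X} (hsq : IsPullback g' f' f σ)
    (h : ∀ s : S, IsIso (f.fiberToSpecResidueField s).appTop) : IsIso f'.appTop := by
  obtain ⟨s, ψ, hσ⟩ : ∃ (s : S) (ψ : S.residueField s ⟶ CommRingCat.of k),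
      σ = Spec.map ψ ≫ S.fromSpecResidueField s :=
    ⟨_, _, (Scheme.descResidueField_stalkClosedPointTo_fromSpecResidueField k S σ).symm⟩
  haveI : IsPreimmersion (Spec.map ψ) :=
    haveI : IsPreimmersion (Spec.map ψ ≫ S.fromSpecResidueField s) := hσ ▸ ‹_›
    IsPreimmersion.of_comp _ (S.fromSpecResidueField s)
  haveI : IsClosedImmersion (Spec.map ψ) := IsClosedImmersion.of_isPreimmersion _ (isClosed_discrete _)
  haveI : IsIso ψ := by
    refine (ConcreteCategory.isIso_iff_bijective ψ).2 ⟨ψ.hom.injective, ?_⟩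
    have h2 := (IsClosedImmersion.isAffine_surjective_of_isAffine (Spec.map ψ)).2
    have hn := Scheme.ΓSpecIso_naturality ψ
    intro y
    obtain ⟨a, ha⟩ := h2 ((Scheme.ΓSpecIso (CommRingCat.of k)).inv y)
    refine ⟨(Scheme.ΓSpecIso (S.residueField s)).hom a, ?_⟩
    have h3 := ConcreteCategory.congr_hom hn a
    simp only [CommRingCat.hom_comp, RingHom.comp_apply] at h3
    rw [← h3]
    erw [ha]
    simp
  let P : IsPullback (f.fiberι s) (f.fiberToSpecResidueField s) f (S.fromSpecResidueField s) :=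
    IsPullback.of_hasPullback f (S.fromSpecResidueField s)
  have Q : IsPullback g' (f' ≫ Spec.map ψ) f (S.fromSpecResidueField s) :=
    hsq.of_iso (Iso.refl _) (Iso.refl _) (asIso (Spec.map ψ)) (Iso.refl _) (by simp) (by simp)
      (by simp) (by simp [hσ])
  let e := Q.isoIsPullback _ _ P
  have he : e.hom ≫ f.fiberToSpecResidueField s = f' ≫ Spec.map ψ := by
    rw [IsPullback.isoIsPullback_hom_snd]
  have hf' : f' = e.hom ≫ f.fiberToSpecResidueField s ≫ inv (Spec.map ψ) := by
    rw [← Category.assoc, he, Category.assoc, IsIso.hom_inv_id, Category.comp_id]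
  haveI := h s
  haveI : IsIso (inv (Spec.map ψ)).appTop := inferInstanceAs (IsIso (Scheme.Γ.map (inv (Spec.map ψ)).op))
  haveI : IsIso e.hom.appTop := inferInstanceAs (IsIso (Scheme.Γ.map e.hom.op))
  rw [hf', Scheme.Hom.comp_appTop, Scheme.Hom.comp_appTop]
  infer_instance

/-- `O` in degree zero is perfect. -/
theorem isPerfect_one (X : Scheme.{u}) : DCoh.IsPerfect (DerivedCategory.Q.obj (one X)) := by
  have hlf : FlatMod.IsFinLocFree (Coh.structureModule X) :=
    TensorMod.LocFree.of_iso (TensorMod.LocFree.freeModOneIso X)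
      (TensorMod.LocFree.of_rank (TensorMod.LocFree.isFinLocFree_freeMod X 1))
  have hE : DCoh.IsStrictlyPerfect (one X) := by
    refine ⟨⟨0, 0, fun i hi => HomologicalComplex.isZero_single_obj_X _ 0 _ i (by omega)⟩, fun i => ?_⟩
    by_cases hi : i = 0
    · subst hi
      exact TensorMod.LocFree.of_iso (HomologicalComplex.singleObjXSelf _ 0 _).symm hlf
    · exact Perfect.Stupid.isFinLocFree_isZero (HomologicalComplex.isZero_single_obj_X _ 0 _ i hi)
  exact (Perfect.Triangle.isPerfect_iff _).2 fun x => ⟨X, 𝟙 X, inferInstance, x, _, rfl, hE,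
    ⟨Perfect.Basic.RDQ (𝟙 X) (one X) ≪≫ DerivedCategory.Q.mapIso ((Perfect.Basic.rCId X).app _)⟩⟩

/-- `tilde A[0] = O[0]`. -/
noncomputable def tildeOneIso (A : Type u) [CommRing A]
    [PreservesFiniteLimits (tilde.functor (CommRingCat.of A))] :
    (DCoh.tildeD (CommRingCat.of A)).obj
        ((DerivedCategory.singleFunctor (ModuleCat.{u} A) 0).obj (ModuleCat.of A A)) ≅
      DerivedCategory.Q.obj (one (Spec (CommRingCat.of A))) :=
  (DCoh.tildeD (CommRingCat.of A)).mapIso ((DerivedCategory.singleFunctorIsoCompQ _ 0).app _) ≪≫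
    (TildeEquiv.F (CommRingCat.of A)).mapDerivedCategoryFactors.app _ ≪≫
    DerivedCategory.Q.mapIso
      ((HomologicalComplex.singleMapHomologicalComplex (TildeEquiv.F (CommRingCat.of A)) _ 0).app _ ≪≫
        (HomologicalComplex.single _ (ComplexShape.up ℤ) 0).mapIso tildeSelf)

variable {A : Type u} [CommRing A]

/-- A map from projective amplitude `[1, b]` to `A[1]` is zero. -/
theorem eq_zero_to_one {E : Dual.D A} {b : ℤ} (hE : Bdd (fproj A) 1 b E)
    (ψ : E ⟶ ((DerivedCategory.singleFunctor (ModuleCat.{u} A) 0).obj (ModuleCat.of A A))⟦(1 : ℤ)⟧) :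
    ψ = 0 := by
  obtain ⟨P, hP, hp, ⟨e⟩⟩ := hE
  haveI := isKProjective_of_bounds (P := proj A) projective_of_proj (fun i hi => hP i (Or.inr hi))
    fun i => proj_of_fproj _ (hp i)
  rw [← cancel_epi e.hom, comp_zero]
  refine hom_eq_zero_of_isKProjective (fun i hi => hP i (Or.inl hi)) ?_ _
  haveI : DerivedCategory.IsLE
      ((DerivedCategory.singleFunctor (ModuleCat.{u} A) 0).obj (ModuleCat.of A A)) 0 := inferInstance
  haveI h1 : DerivedCategory.IsLE
      (((DerivedCategory.singleFunctor (ModuleCat.{u} A) 0).obj (ModuleCat.of A A))⟦(1 : ℤ)⟧) (-1) :=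
    DerivedCategory.TStructure.t.isLE_shift _ 0 1 (-1) (by lia)
  exact DerivedCategory.TStructure.t.isLE_of_le _ (-1) (1 - 1) (by lia)

variable [PreservesFiniteLimits (tilde.functor (CommRingCat.of A))]

/-- The splitting over an affine base. -/
theorem exists_split (f : X ⟶ Spec (CommRingCat.of A)) [IsProper f] [Flat f]
    [LocallyOfFinitePresentation f]
    (h : ∀ s : Spec (CommRingCat.of A), IsIso (f.fiberToSpecResidueField s).appTop) :
    ∃ (P : DCoh.D (Spec (CommRingCat.of A))) (b : ℤ), 1 ≤ b ∧ DCoh.IsPerfect P ∧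
      DCoh.HasFlatAmplitudeIn 1 b P ∧
      Nonempty ((DCoh.Rpush f).obj (DCoh.inD X (Coh.structureModule X)) ≅
        DCoh.inD (Spec (CommRingCat.of A)) (Coh.structureModule (Spec (CommRingCat.of A))) ⊞ P) := by
  let R := CommRingCat.of A
  let O := DerivedCategory.Q.obj (one (Spec R))
  let K := (DCoh.Rpush f).obj ((DCoh.Lpull f).obj O)
  have hK : DCoh.IsPerfect K := SchColim29.RpushPerfect.isPerfect_Rpush_affine f
    (Perfect.Triangle.isPerfect_of_iso (lpullOne f).symm (isPerfect_one X))
  obtain ⟨C, c, δ, hT⟩ := distinguished_cocone_triangle (unitOne f)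
  have hC : DCoh.IsPerfect C := Perfect.Triangle.isPerfect₃ hT (isPerfect_one _) hK
  obtain ⟨E, ⟨e⟩⟩ := TildeEquiv.exists_preimage R C (Perfect.QCohD.isQCohD_of_isPerfect hC)
  have hEp : DRing.IsPerfect A E :=
    (S1105.result A E).1 (Perfect.Triangle.isPerfect_of_iso e.symm hC)
  obtain ⟨a₀, b₀, hB₀⟩ := (DR.Perfect.pf_iff E).1 hEp
  let b := max 1 b₀
  haveI : ∀ m : Ideal A, DRing.HasLBaseChange (Ideal.Quotient.mk m) := fun m =>
    DR.BaseChangeU.hasLBaseChange _
  have hv : ∀ (m : Ideal A), m.IsMaximal → ∀ i : ℤ, (i < 1 ∨ b < i) →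
      Subsingleton (Dual.HD (A ⧸ m) ((DRing.LBaseChange (Ideal.Quotient.mk m)).obj E) i) := by
    intro m hm i hi
    haveI := hm
    refine ModuleCat.subsingleton_of_isZero ?_
    rcases hi with hi | hi
    · letI := Ideal.Quotient.field m
      haveI : PreservesFiniteLimits (tilde.functor (CommRingCat.of (A ⧸ m))) := inferInstance
      let σ : Spec (CommRingCat.of (A ⧸ m)) ⟶ Spec R :=
        Spec.map (CommRingCat.ofHom (Ideal.Quotient.mk m))
      haveI : IsClosedImmersion σ := IsClosedImmersion.spec_of_surjective _ Ideal.Quotient.mk_surjective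
      have hsq := IsPullback.of_hasPullback f σ
      have h0 := isZero_HD_cone f σ _ _ hsq (isIso_appTop_of_preimmersion σ hsq h) c δ hT i (by omega)
      obtain ⟨φ⟩ := S1055.result (Ideal.Quotient.mk m)
      have h1 := IsZero.of_iso h0 ((PerfVanish.Affine.homologyTildeIso (CommRingCat.of (A ⧸ m))
        ((DRing.LBaseChange (Ideal.Quotient.mk m)).obj E) i).symm ≪≫
        (DerivedCategory.homologyFunctor _ i).mapIso (φ.app E ≪≫ (DCoh.Lpull σ).mapIso e))
      rw [IsZero.iff_id_eq_zero] at h1 ⊢
      haveI : (tilde.functor (CommRingCat.of (A ⧸ m))).Faithful :=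
        (tilde.fullyFaithfulFunctor (R := CommRingCat.of (A ⧸ m))).faithful
      exact (tilde.functor (CommRingCat.of (A ⧸ m))).map_injective (by
        rw [CategoryTheory.Functor.map_id, Functor.map_zero]; exact h1)
    · obtain ⟨G, hG, -, ⟨g⟩⟩ := DR.BaseChange.bdd_LBaseChange (Ideal.Quotient.mk m)
        (P := fproj A) (P' := ⊤) (fun M hM => by
          have := hM.2
          exact (inferInstance : Module.Flat A M)) (fun _ _ => trivial) hB₀
      exact ((HomologicalComplex.ExactAt.isZero_homology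
        (HomologicalComplex.ExactAt.of_isZero (hG i (Or.inr (lt_of_le_of_lt (le_max_right _ _) hi))))).of_iso
          ((DerivedCategory.homologyFunctorFactors _ i).app G)).of_iso
          ((DerivedCategory.homologyFunctor _ i).mapIso g.symm)
  have hB : Bdd (fproj A) 1 b E := DR.FibreApp.bdd_fproj_of_mem_sup
    (fun m => DR.Perfect.Pf.pcn ((DR.Perfect.pf_iff E).1 hEp) m) 1 b
    fun G _ hG hp g m hm i j k hij hjk hj =>
      DR.FibreApp.mem_sup_of_subsingleton m G hG
        (fun i => DR.BaseChange.flat_of_fproj _ (fproj_of_ff _ (hp i))) g i j k hij hjk (hv m hm j hj)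
  have hflat : DCoh.HasFlatAmplitudeIn 1 b C := by
    obtain ⟨G, h1, h2, ⟨g⟩⟩ := (S7243.result A E 1 b).2
      ((hasTorAmplitudeIn_iff 1 b E).2 (hB.of_le DR.BaseChange.flat_of_fproj))
    exact ⟨G, h1, h2, ⟨g ≪≫ e⟩⟩
  have hδ : δ = 0 := by
    haveI := TildeEquiv.full R
    let o := ((DCoh.tildeD R).commShiftIso (1 : ℤ)).app _ ≪≫ (shiftFunctor _ (1 : ℤ)).mapIso (tildeOneIso A)
    obtain ⟨ψ, hψ⟩ := (DCoh.tildeD R).map_surjective (e.hom ≫ δ ≫ o.inv)
    rw [eq_zero_to_one hB ψ, Functor.map_zero] at hψ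
    rw [← cancel_epi e.hom, ← cancel_mono o.inv, Category.assoc, ← hψ]
    exact ((congrArg (· ≫ o.inv) comp_zero).trans zero_comp).symm
  obtain ⟨i, -, -⟩ := exists_iso_binaryBiproduct_of_distTriang _ hT hδ
  exact ⟨C, b, le_max_left _ _, hC, hflat,
    ⟨(DCoh.Rpush f).mapIso ((oneIso X).symm ≪≫ (lpullOne f).symm) ≪≫ i ≪≫
      biprod.mapIso (oneIso _) (Iso.refl C)⟩⟩

end Groth.Agent.Lib.DerivedOX.SplitAffine
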