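import Groth.Agent.Lib.DerivedOX.SplitAffine
import Groth.Agent.Lib.DerivedOX.AffinePushTilde
import Groth.Agent.Lib.DerivedOX.RpushTriangulated
import Groth.Agent.H34.Stein.FiniteEtale

/-!
# `Rf_* O = f_* O ⊕ P` for geometrically reduced fibres over an affine base
-/

set_option autoImplicit false
set_option linter.style.haveILetI false
set_option linter.unusedSectionVars false
set_option maxHeartbeats 1000000

universe u

open CategoryTheory Limits AlgebraicGeometry Pretriangulated

attribute [local instance] HasDerivedCategory.standard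
attribute [local instance] Groth.Agent.Lib.DerivedOX.LeftExists.hasLpull
  Groth.Agent.Lib.DerivedOX.Exists.hasRpush

namespace Groth.Agent.Lib.DerivedOX.SplitEtale

open Groth.Agent.Lib Groth.Agent.H34.Stein Groth.Agent.H2.Rigid
open Groth.Agent.Lib.DR.Basic Groth.Agent.Lib.DR.FiniteComplex Groth.Agent.Lib.DR.PseudoCoherent

variable {X S : Scheme.{u}}

theorem additive_tilde (R : CommRingCat.{u}) : (tilde.functor R).Additive := inferInstance

local instance {A : Type u} [CommRing A] : (tilde.functor (CommRingCat.of A)).Additive :=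
  additive_tilde _

theorem preservesFiniteColimits_tilde (R : CommRingCat.{u}) :
    PreservesFiniteColimits (tilde.functor R) := inferInstance

local instance {A : Type u} [CommRing A] : PreservesFiniteColimits (tilde.functor (CommRingCat.of A)) :=
  preservesFiniteColimits_tilde _

/-- Global functions of the Stein factor are those of the source. -/
theorem isIso_appTop_toNormalization (g : X ⟶ S) [IsProper g] :
    IsIso g.toNormalization.appTop :=
  (ConcreteCategory.isIso_iff_bijective _).2 (push_toNormalization g ⊤)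

/-- `f_*` of flat amplitude along a flat map of rings. -/
theorem flatAmp_Rpush {A : Type u} [CommRing A] {B : Type u} [CommRing B] (φ : A →+* B)
    (hφ : φ.Flat) {a b : ℤ} {P : DCoh.D (Spec (CommRingCat.of B))} (hP : DCoh.IsPerfect P)
    (h : DCoh.HasFlatAmplitudeIn a b P) :
    DCoh.HasFlatAmplitudeIn a b ((DCoh.Rpush (Spec.map (CommRingCat.ofHom φ))).obj P) := by
  obtain ⟨E, ⟨e⟩⟩ := TildeEquiv.exists_preimage (CommRingCat.of B) P
    (Perfect.QCohD.isQCohD_of_isPerfect hP)
  obtain ⟨F, h1, h2, ⟨i⟩⟩ := h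
  obtain ⟨G, hG1, hG2, ⟨j⟩⟩ := (S7243.result B E a b).1 ⟨F, h1, h2, ⟨i ≪≫ e.symm⟩⟩
  have hA : DRing.HasTorAmplitudeIn A a b ((DRing.restrictD φ).obj E) := by
    refine ⟨((ModuleCat.restrictScalars.{u} φ).mapHomologicalComplex _).obj G,
      fun n hn => (ModuleCat.restrictScalars.{u} φ).map_isZero (hG1 n hn), fun n => ?_,
      ⟨((ModuleCat.restrictScalars.{u} φ).mapDerivedCategoryFactors.app G).symm ≪≫
        (DRing.restrictD φ).mapIso j⟩⟩
    letI := φ.toAlgebra
    haveI : Module.Flat A B := hφ
    haveI : Module.Flat B (G.X n) := hG2 n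
    letI : Module A (G.X n) := Module.compHom _ φ
    haveI : IsScalarTower A B (G.X n) := IsScalarTower.of_algebraMap_smul fun _ _ => rfl
    exact Module.Flat.trans A B (G.X n)
  obtain ⟨K, hK1, hK2, ⟨k⟩⟩ := (S7243.result A _ a b).2 hA
  exact ⟨K, hK1, hK2, ⟨k ≪≫ ((AffinePush.tildeD_Rpush_iso (CommRingCat.ofHom φ)).app E).symm ≪≫
    (DCoh.Rpush (Spec.map (CommRingCat.ofHom φ))).mapIso e⟩⟩

/-- An affine direct image of the structure sheaf sits in degree zero. -/
theorem exists_Rpush_one {A : Type u} [CommRing A] {B : Type u} [CommRing B] (φ : A →+* B) :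
    ∃ M : (Spec (CommRingCat.of A)).Modules,
      Nonempty ((DCoh.Rpush (Spec.map (CommRingCat.ofHom φ))).obj
        (DCoh.inD _ (Coh.structureModule (Spec (CommRingCat.of B)))) ≅ DCoh.inD _ M) :=
  ⟨(tilde.functor (CommRingCat.of A)).obj ((ModuleCat.restrictScalars.{u} φ).obj (ModuleCat.of B B)),
    ⟨(DCoh.Rpush _).mapIso ((SplitFibre.oneIso _).symm ≪≫ (SplitAffine.tildeOneIso B).symm) ≪≫
      (AffinePush.tildeD_Rpush_iso (CommRingCat.ofHom φ)).app _ ≪≫
      (DCoh.tildeD (CommRingCat.of A)).mapIso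
        (((ModuleCat.restrictScalars.{u} φ).mapDerivedCategorySingleFunctor 0).app _) ≪≫
      ((tilde.functor (CommRingCat.of A)).mapDerivedCategorySingleFunctor 0).app _⟩⟩

/-- The splitting over an affine base. -/
theorem exists_split {A : Type u} [CommRing A] (g : X ⟶ Spec (CommRingCat.of A)) [IsProper g] [Flat g]
    [LocallyOfFinitePresentation g] [GeometricallyReduced g] :
    ∃ (P : DCoh.D (Spec (CommRingCat.of A))) (b : ℤ), 1 ≤ b ∧ DCoh.IsPerfect P ∧
      DCoh.HasFlatAmplitudeIn 1 b P ∧
      Nonempty ((DCoh.Rpush g).obj (DCoh.inD X (Coh.structureModule X)) ≅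
        DCoh.inD (Spec (CommRingCat.of A)) ((Coh.push g).obj (Coh.structureModule X)) ⊞ P) := by
  obtain ⟨hfin, het⟩ := finite_etale_fromNormalization g
  haveI := hfin
  haveI := het
  haveI : IsAffine g.normalization := isAffine_of_isAffineHom g.fromNormalization
  let B := Γ(g.normalization, ⊤)
  let φ : CommRingCat.of A ⟶ B := (Scheme.ΓSpecIso _).inv ≫ g.fromNormalization.appTop
  let m := Spec.map φ
  let t := g.toNormalization ≫ g.normalization.isoSpec.hom
  have hm : g.normalization.isoSpec.hom ≫ m = g.fromNormalization := by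
    dsimp only [m, φ]
    rw [Spec.map_comp, ← Category.assoc, Scheme.isoSpec_hom_naturality, Category.assoc]
    simp
  have hm' : m = g.normalization.isoSpec.inv ≫ g.fromNormalization := by rw [← hm, Iso.inv_hom_id_assoc]
  haveI : IsFinite m := hm' ▸ inferInstance
  haveI : Etale m := hm' ▸ inferInstance
  haveI : IsProper m := inferInstance
  haveI : Flat m := inferInstance
  haveI : LocallyOfFinitePresentation m := inferInstance
  have ht : t ≫ m = g := by
    dsimp only [t]
    rw [Category.assoc, hm, g.toNormalization_fromNormalization]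
  obtain ⟨hflat, hlfp, hgred⟩ := toNormalization_props g
  haveI := hflat
  haveI := hlfp
  haveI := isProper_toNormalization g
  haveI : IsProper t := inferInstanceAs (IsProper (g.toNormalization ≫ g.normalization.isoSpec.hom))
  haveI : Flat t := inferInstanceAs (Flat (g.toNormalization ≫ g.normalization.isoSpec.hom))
  haveI : LocallyOfFinitePresentation t :=
    inferInstanceAs (LocallyOfFinitePresentation (g.toNormalization ≫ g.normalization.isoSpec.hom))
  have hh : ∀ s, IsIso (t.fiberToSpecResidueField s).appTop := fun s => by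
    let σ := (Spec B).fromSpecResidueField s
    have H : IsPullback (t.fiberι s) (t.fiberToSpecResidueField s) g.toNormalization
        (σ ≫ g.normalization.isoSpec.inv) :=
      (IsPullback.of_hasPullback t σ).of_iso (Iso.refl _) (Iso.refl _) (Iso.refl _)
        g.normalization.isoSpec.symm (by simp [Scheme.Hom.fiberι]; rfl) (by simp; rfl) (by simp [t])
        (by simp)
    have he := H.isoPullback_hom_snd
    have hp := push_baseChange_toNormalization g (σ ≫ g.normalization.isoSpec.inv) ⊤
    haveI : IsIso (pullback.snd g.toNormalization (σ ≫ g.normalization.isoSpec.inv)).appTop :=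
      (ConcreteCategory.isIso_iff_bijective _).2 hp
    haveI : IsIso H.isoPullback.hom.appTop := inferInstanceAs (IsIso (Scheme.Γ.map H.isoPullback.hom.op))
    rw [← he, Scheme.Hom.comp_appTop]
    infer_instance
  obtain ⟨P, b, hb, hP, hamp, ⟨e⟩⟩ := SplitAffine.exists_split (A := B) t hh
  haveI := Exists.hasRpush (t ≫ m)
  have hflatφ : φ.hom.Flat := (HasRingHomProperty.Spec_iff (P := @Flat) (φ := φ)).1 ‹Flat m›
  have hQ : DCoh.IsPerfect ((DCoh.Rpush m).obj P) :=
    SchColim29.RpushPerfect.isPerfect_Rpush_affine m hP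
  have hQamp : DCoh.HasFlatAmplitudeIn 1 b ((DCoh.Rpush m).obj P) :=
    flatAmp_Rpush φ.hom hflatφ hP hamp
  obtain ⟨M, ⟨eM⟩⟩ := exists_Rpush_one φ.hom
  haveI := preservesBinaryBiproducts_of_preservesBiproducts (DCoh.Rpush m)
  obtain ⟨ec⟩ : Nonempty (DCoh.Rpush (t ≫ m) ≅ DCoh.Rpush g) := by
    have : ∀ (g' : X ⟶ Spec (CommRingCat.of A)) [DCoh.HasRpush g'], g' = g →
        Nonempty (DCoh.Rpush g' ≅ DCoh.Rpush g) := fun g' _ h => by subst h; exact ⟨Iso.refl _⟩
    exact this _ ht
  let eK : (DCoh.Rpush g).obj (DCoh.inD X (Coh.structureModule X)) ≅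
      DCoh.inD _ M ⊞ (DCoh.Rpush m).obj P :=
    (ec.app _).symm ≪≫ ((PullComp.rpushCompIso t m).app _).symm ≪≫ (DCoh.Rpush m).mapIso e ≪≫
      (DCoh.Rpush m).mapBiprod _ _ ≪≫ biprod.mapIso eM (Iso.refl _)
  obtain ⟨N, hN1, hN2, ⟨eN⟩⟩ := hQamp
  have hz : IsZero (DCoh.HD ((DCoh.Rpush m).obj P) 0) :=
    ((HomologicalComplex.ExactAt.isZero_homology
      (HomologicalComplex.ExactAt.of_isZero (hN1 0 (Or.inl (by omega))))).of_iso
        ((DerivedCategory.homologyFunctorFactors _ 0).app N)).of_iso
        ((DerivedCategory.homologyFunctor _ 0).mapIso eN.symm)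
  let H := DerivedCategory.homologyFunctor (Spec (CommRingCat.of A)).Modules 0
  haveI : HasInjectiveResolutions X.Modules := inferInstance
  obtain ⟨a⟩ := ExchangeFP29.LocusD.nonempty_HD_iso g (Coh.structureModule X) 0
  obtain ⟨z⟩ := ExchangeFP29.Main.nonempty_zeroIso g (Coh.structureModule X)
  haveI := preservesBinaryBiproducts_of_preservesBiproducts H
  let eM' : M ≅ (Coh.push g).obj (Coh.structureModule X) :=
    ((DerivedCategory.singleFunctorCompHomologyFunctorIso _ 0).app M).symm ≪≫
      isoBiprodZero hz ≪≫ (H.mapBiprod _ _).symm ≪≫ (H.mapIso eK).symm ≪≫ a ≪≫ z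
  exact ⟨(DCoh.Rpush m).obj P, b, hb, hQ, ⟨N, hN1, hN2, ⟨eN⟩⟩,
    ⟨eK ≪≫ biprod.mapIso ((DerivedCategory.singleFunctor _ 0).mapIso eM') (Iso.refl _)⟩⟩

end Groth.Agent.Lib.DerivedOX.SplitEtale
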